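import Groth.Prelude.Def_SGA3
import Mathlib.RingTheory.HopfAlgebra.Basic
import Mathlib.RingTheory.HopfAlgebra.TensorProduct
import Mathlib.RingTheory.Bialgebra.Hom
import Mathlib.RingTheory.Flat.Basic
import Mathlib.LinearAlgebra.Basis.VectorSpace

/-!
Hopf subalgebras as Hopf algebras, over a field.
-/

universe u v

open TensorProduct

noncomputable section

namespace Groth.Agent.Comod33.SubHopf

variable {k : Type u} [Field k] {A : Type v} [CommRing A] [HopfAlgebra k A]

/-- a subalgebra stable under comultiplication and antipode, in any universe -/
def IsSubHopf (B : Subalgebra k A) : Prop :=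
  (∀ b ∈ B, CoalgebraStruct.comul (R := k) (A := A) b ∈
      LinearMap.range (TensorProduct.map B.val.toLinearMap B.val.toLinearMap)) ∧
    ∀ b ∈ B, HopfAlgebraStruct.antipode (R := k) (A := A) b ∈ B

theorem isSubHopf_iff {k A : Type u} [Field k] [CommRing A] [HopfAlgebra k A] (B : Subalgebra k A) :
    IsSubHopf B ↔ SGA3.IsHopfSubalgebra k A B := Iff.rfl

variable (B : Subalgebra k A)

/-- the inclusion of `B ⊗ B` -/
abbrev val₂ : B ⊗[k] B →ₐ[k] A ⊗[k] A := Algebra.TensorProduct.map B.val B.val

omit [HopfAlgebra k A] in
theorem map_injective {M N M' N' : Type*} [AddCommGroup M] [Module k M] [AddCommGroup N] [Module k N]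
    [AddCommGroup M'] [Module k M'] [AddCommGroup N'] [Module k N'] {f : M →ₗ[k] M'} {g : N →ₗ[k] N'}
    (hf : Function.Injective f) (hg : Function.Injective g) :
    Function.Injective (TensorProduct.map f g) := by
  rw [show TensorProduct.map f g = g.lTensor M' ∘ₗ f.rTensor N from
    (LinearMap.lTensor_comp_rTensor _ f g).symm, LinearMap.coe_comp]
  exact (Module.Flat.lTensor_preserves_injective_linearMap g hg).comp
    (Module.Flat.rTensor_preserves_injective_linearMap f hf)

theorem val₂_injective {k : Type u} [Field k] {A : Type v} [CommRing A] [Algebra k A]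
    (B : Subalgebra k A) : Function.Injective (Algebra.TensorProduct.map B.val B.val) := by
  rw [show ⇑(Algebra.TensorProduct.map B.val B.val) =
    ⇑(TensorProduct.map B.val.toLinearMap B.val.toLinearMap) from rfl]
  exact map_injective Subtype.val_injective Subtype.val_injective

variable {B} (hB : IsSubHopf B)

include hB in
theorem comul_mem (b : B) :
    Bialgebra.comulAlgHom k A (b : A) ∈ (val₂ B).range := by
  obtain ⟨z, hz⟩ := hB.1 b b.2
  exact ⟨z, hz⟩

/-- restricted comultiplication -/
def comul : B →ₐ[k] B ⊗[k] B :=
  (AlgEquiv.ofInjective (val₂ B) (val₂_injective B)).symm.toAlgHom.comp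
    (((Bialgebra.comulAlgHom k A).comp B.val).codRestrict (val₂ B).range fun b => comul_mem hB b)

theorem val₂_comul (b : B) : val₂ B (comul hB b) = CoalgebraStruct.comul (R := k) (b : A) := by
  have h := AlgEquiv.apply_symm_apply (AlgEquiv.ofInjective (val₂ B) (val₂_injective B))
    (((Bialgebra.comulAlgHom k A).comp B.val).codRestrict (val₂ B).range (fun b => comul_mem hB b) b)
  exact congrArg Subtype.val h

theorem coassoc :
    (Algebra.TensorProduct.assoc k k k B B B).toAlgHom.comp
        ((Algebra.TensorProduct.map (comul hB) (.id k B)).comp (comul hB)) =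
      (Algebra.TensorProduct.map (.id k B) (comul hB)).comp (comul hB) := by
  refine AlgHom.ext fun b => ?_
  apply map_injective (f := B.val.toLinearMap) (g := TensorProduct.map B.val.toLinearMap B.val.toLinearMap)
    Subtype.val_injective (map_injective Subtype.val_injective Subtype.val_injective)
  have key : ∀ z : B ⊗[k] B,
      TensorProduct.map B.val.toLinearMap (TensorProduct.map B.val.toLinearMap B.val.toLinearMap)
        (Algebra.TensorProduct.assoc k k k B B B
          (Algebra.TensorProduct.map (comul hB) (.id k B) z)) =
        TensorProduct.assoc k A A A ((CoalgebraStruct.comul (R := k) (A := A)).rTensor A (val₂ B z)) ∧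
      TensorProduct.map B.val.toLinearMap (TensorProduct.map B.val.toLinearMap B.val.toLinearMap)
        (Algebra.TensorProduct.map (.id k B) (comul hB) z) =
        (CoalgebraStruct.comul (R := k) (A := A)).lTensor A (val₂ B z) := by
    intro z
    induction z with
    | zero => simp
    | add p q hp hq => exact ⟨by simp only [map_add, hp.1, hq.1], by simp only [map_add, hp.2, hq.2]⟩
    | tmul p q =>
      constructor
      · simp only [Algebra.TensorProduct.map_tmul, AlgHom.id_apply, LinearMap.rTensor_tmul,
          Subalgebra.coe_val, ← val₂_comul hB]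
        generalize comul hB p = w
        induction w with
        | zero => simp
        | add p q hp hq => simp only [map_add, add_tmul, hp, hq]
        | tmul p' q' => simp
      · simp only [Algebra.TensorProduct.map_tmul, AlgHom.id_apply, LinearMap.lTensor_tmul,
          Subalgebra.coe_val, ← val₂_comul hB]
        rfl
  obtain ⟨h1, h2⟩ := key (comul hB b)
  simp only [AlgHom.comp_apply, AlgEquiv.coe_toAlgHom]
  rw [h1, h2, val₂_comul, Coalgebra.coassoc_apply]

/-- the bialgebra structure -/
@[reducible] def bialgebra : Bialgebra k B :=
  Bialgebra.ofAlgHom (comul hB) ((Bialgebra.counitAlgHom k A).comp B.val) (coassoc hB)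
    (by
      refine AlgHom.ext fun b => (TensorProduct.lid k B).injective (Subtype.ext ?_)
      have h : ∀ z : B ⊗[k] B, ((TensorProduct.lid k B (Algebra.TensorProduct.map
          ((Bialgebra.counitAlgHom k A).comp B.val) (.id k B) z) : B) : A) =
          TensorProduct.lid k A ((CoalgebraStruct.counit (R := k) (A := A)).rTensor A (val₂ B z)) := by
        intro z
        induction z with
        | zero => simp
        | add p q hp hq => simp only [map_add, Subalgebra.coe_add, hp, hq]
        | tmul p q => simp
      refine (h (comul hB b)).trans ?_
      rw [val₂_comul, Coalgebra.rTensor_counit_comul]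
      simp)
    (by
      refine AlgHom.ext fun b => (TensorProduct.rid k B).injective (Subtype.ext ?_)
      have h : ∀ z : B ⊗[k] B, ((TensorProduct.rid k B (Algebra.TensorProduct.map (.id k B)
          ((Bialgebra.counitAlgHom k A).comp B.val) z) : B) : A) =
          TensorProduct.rid k A ((CoalgebraStruct.counit (R := k) (A := A)).lTensor A (val₂ B z)) := by
        intro z
        induction z with
        | zero => simp
        | add p q hp hq => simp only [map_add, Subalgebra.coe_add, hp, hq]
        | tmul p q => simp
      refine (h (comul hB b)).trans ?_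
      rw [val₂_comul, Coalgebra.lTensor_counit_comul]
      simp)

/-- restricted antipode -/
def antipode : B →ₐ[k] B :=
  ((HopfAlgebra.antipodeAlgHom k A).comp B.val).codRestrict B fun b => hB.2 b b.2

/-- the Hopf algebra structure -/
@[reducible] def hopfAlgebra : HopfAlgebra k B :=
  letI := bialgebra hB
  HopfAlgebra.ofAlgHom (antipode hB)
    (by
      refine AlgHom.ext fun b => Subtype.ext ?_
      have h : ∀ z : B ⊗[k] B, ((Algebra.TensorProduct.lift (antipode hB) (.id k B)
          (fun _ _ => Commute.all _ _) z : B) : A) =
          LinearMap.mul' k A ((HopfAlgebraStruct.antipode (R := k) (A := A)).rTensor A (val₂ B z)) := by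
        intro z
        induction z with
        | zero => simp
        | add p q hp hq => simp only [map_add, Subalgebra.coe_add, hp, hq]
        | tmul p q =>
          simp only [Algebra.TensorProduct.lift_tmul, Subalgebra.coe_mul, AlgHom.id_apply]
          rfl
      refine (h (comul hB b)).trans ?_
      rw [val₂_comul, HopfAlgebra.mul_antipode_rTensor_comul_apply]
      rfl)
    (by
      refine AlgHom.ext fun b => Subtype.ext ?_
      have h : ∀ z : B ⊗[k] B, ((Algebra.TensorProduct.lift (.id k B) (antipode hB)
          (fun _ _ => Commute.all _ _) z : B) : A) =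
          LinearMap.mul' k A ((HopfAlgebraStruct.antipode (R := k) (A := A)).lTensor A (val₂ B z)) := by
        intro z
        induction z with
        | zero => simp
        | add p q hp hq => simp only [map_add, Subalgebra.coe_add, hp, hq]
        | tmul p q =>
          simp only [Algebra.TensorProduct.lift_tmul, Subalgebra.coe_mul, AlgHom.id_apply]
          rfl
      refine (h (comul hB b)).trans ?_
      rw [val₂_comul, HopfAlgebra.mul_antipode_lTensor_comul_apply]
      rfl)

theorem counit_eq (b : B) :
    @CoalgebraStruct.counit k B _ _ _ (hopfAlgebra hB).toBialgebra.toCoalgebra.toCoalgebraStruct b =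
      CoalgebraStruct.counit (R := k) (b : A) := rfl

theorem antipode_eq (b : B) :
    ((@HopfAlgebraStruct.antipode k B _ _ (hopfAlgebra hB).toHopfAlgebraStruct b : B) : A) =
      HopfAlgebraStruct.antipode (R := k) (b : A) := rfl

/-- the inclusion as a bialgebra map -/
def incl : @BialgHom k B A _ _ _ _ _ (bialgebra hB).toCoalgebraStruct _ :=
  letI := bialgebra hB
  BialgHom.ofAlgHom B.val (AlgHom.ext fun _ => rfl) (AlgHom.ext fun b => val₂_comul hB b)

end Groth.Agent.Comod33.SubHopf
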