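import Groth.Agent.Comod33.HopfSurjFG
import Groth.Agent.Comod33.SubHopf
import Groth.Agent.SGA3a.HopfFG
import Mathlib.RingTheory.Bialgebra.TensorProduct
import Mathlib.RingTheory.HopfAlgebra.TensorProduct
import Mathlib.RingTheory.FiniteType
import Mathlib.FieldTheory.IsAlgClosed.AlgebraicClosure
import Mathlib.RingTheory.LocalRing.ResidueField.Ideal

/-!
The spectrum map of an injective map of commutative Hopf algebras over a field is surjective.
-/

universe u v w x

open TensorProduct

noncomputable section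

namespace Groth.Agent.Comod33.HopfFlat

variable {k : Type u} [Field k] {A : Type v} [CommRing A] [HopfAlgebra k A]
variable {B : Type w} [CommRing B] [HopfAlgebra k B]

theorem exists_point_lift_of_fg [Algebra.FiniteType k A] [Algebra.FiniteType k B]
    (φ : A →ₐc[k] B) (hφ : Function.Injective φ) (K : Type x) [Field K] [IsAlgClosed K] [Algebra k K]
    (g : A →ₐ[k] K) : ∃ h : B →ₐ[k] K, h.comp (φ : A →ₐ[k] B) = g := by
  let φK : K ⊗[k] A →ₐc[K] K ⊗[k] B := Bialgebra.TensorProduct.map (BialgHom.id K K) φ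
  have hφK : Function.Injective φK := by
    have e : ∀ z, φK z = (φ : A →ₐ[k] B).toLinearMap.lTensor K z := by
      intro z
      induction z with
      | zero => simp
      | add p q hp hq => simp only [map_add, hp, hq]
      | tmul c a => rfl
    intro z z' hz
    rw [e, e] at hz
    exact Module.Flat.lTensor_preserves_injective_linearMap _ hφ hz
  let gK : K ⊗[k] A →ₐ[K] K :=
    Algebra.TensorProduct.lift (Algebra.ofId K K) g (fun _ _ => Commute.all _ _)
  obtain ⟨h, hh⟩ := exists_point_lift_fg φK hφK gK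
  refine ⟨(h.restrictScalars k).comp Algebra.TensorProduct.includeRight, AlgHom.ext fun a => ?_⟩
  have := DFunLike.congr_fun hh ((1 : K) ⊗ₜ[k] a)
  simpa [gK, φK] using this

omit [HopfAlgebra k A] in
theorem map_mem_range {S : Subalgebra k B} [Bialgebra k A] (φ : A →ₐc[k] B) (B' : Subalgebra k A)
    (h : B'.map (φ : A →ₐ[k] B) ≤ S) (b : B') : φ (b : A) ∈ S := h ⟨b, b.2, rfl⟩

theorem comap_map_eq (φ : A →ₐc[k] B) (hφ : Function.Injective φ) (p : Ideal A) [hp : p.IsPrime] :
    (p.map (φ : A →ₐ[k] B).toRingHom).comap (φ : A →ₐ[k] B).toRingHom = p := by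
  classical
  refine le_antisymm (fun s hs => ?_) Ideal.le_comap_map
  by_contra hsp
  rw [Ideal.mem_comap, Ideal.map] at hs
  obtain ⟨n, c, v, hv⟩ := Submodule.mem_span_set'.1 hs
  have hv' : ∀ i, ∃ x : A, x ∈ p ∧ φ x = (v i : B) := fun i => (v i).2
  choose x hxp hx using hv'
  obtain ⟨A', hA's, hA'fg, hA'1, hA'2⟩ :=
    SGA3a.exists_fg_hopfSubalgebra (k := k) (insert s (Finset.univ.image x))
  obtain ⟨tA, htA⟩ := hA'fg
  obtain ⟨B', hB's, hB'fg, hB'1, hB'2⟩ :=
    SGA3a.exists_fg_hopfSubalgebra (k := k) (tA.image φ ∪ Finset.univ.image c)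
  have hA' : SubHopf.IsSubHopf A' := ⟨hA'1, hA'2⟩
  have hB' : SubHopf.IsSubHopf B' := ⟨hB'1, hB'2⟩
  letI := SubHopf.hopfAlgebra hA'
  letI := SubHopf.hopfAlgebra hB'
  have hle : A'.map (φ : A →ₐ[k] B) ≤ B' := by
    rw [← htA, AlgHom.map_adjoin, Algebra.adjoin_le_iff]
    rintro _ ⟨a, ha, rfl⟩
    exact hB's (Finset.mem_union_left _ (Finset.mem_image_of_mem _ ha))
  let ψ : A' →ₐ[k] B' := ((φ : A →ₐ[k] B).comp A'.val).codRestrict B' fun a => map_mem_range φ A' hle a
  let φ' : A' →ₐc[k] B' := BialgHom.ofAlgHom ψ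
    (AlgHom.ext fun a => CoalgHomClass.counit_comp_apply φ (a : A))
    (AlgHom.ext fun a => SubHopf.val₂_injective B' (by
      have key : ∀ z : A' ⊗[k] A', SubHopf.val₂ B' (Algebra.TensorProduct.map ψ ψ z) =
          TensorProduct.map (φ : A →ₐ[k] B).toLinearMap (φ : A →ₐ[k] B).toLinearMap (SubHopf.val₂ A' z) := by
        intro z
        induction z with
        | zero => simp
        | add p q hp hq => simp only [map_add, hp, hq]
        | tmul p q => simp [ψ]
      refine (key _).trans ?_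
      refine Eq.trans ?_ (SubHopf.val₂_comul hB' (ψ a)).symm
      refine Eq.trans (congrArg _ (SubHopf.val₂_comul hA' a)) ?_
      exact CoalgHomClass.map_comp_comul_apply φ (a : A)))
  have hφ' : Function.Injective φ' := fun a b hab => Subtype.ext (hφ (congrArg Subtype.val hab))
  haveI : Algebra.FiniteType k A' := ⟨(Subalgebra.fg_top A').2 ⟨tA, htA⟩⟩
  haveI : Algebra.FiniteType k B' := ⟨(Subalgebra.fg_top B').2 hB'fg⟩
  let K := AlgebraicClosure p.ResidueField
  let g : A' →ₐ[k] K := (IsScalarTower.toAlgHom k A K).comp A'.val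
  obtain ⟨h, hh⟩ := exists_point_lift_of_fg φ' hφ' K g
  have hs' : s ∈ A' := hA's (by simp)
  have hx' : ∀ i, x i ∈ A' := fun i => hA's (by simp)
  have hc' : ∀ i, c i ∈ B' := fun i => hB's (by simp)
  have e : ψ ⟨s, hs'⟩ = ∑ i, (⟨c i, hc' i⟩ : B') * ψ ⟨x i, hx' i⟩ := Subtype.ext (by
    rw [AddSubmonoidClass.coe_finsetSum]
    exact hv.symm.trans (Finset.sum_congr rfl fun i _ => by
      show c i • (v i : B) = c i * φ (x i)
      rw [hx, smul_eq_mul]))
  have hg : ∀ (a : A) (ha : a ∈ A'), h (ψ ⟨a, ha⟩) = algebraMap A K a := fun a ha =>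
    DFunLike.congr_fun hh ⟨a, ha⟩
  have := congrArg h e
  rw [hg, map_sum, Finset.sum_eq_zero fun i _ => by
    rw [map_mul, hg, IsScalarTower.algebraMap_apply A p.ResidueField K,
      Ideal.algebraMap_residueField_eq_zero.2 (hxp i), map_zero, mul_zero]] at this
  rw [IsScalarTower.algebraMap_apply A p.ResidueField K,
    map_eq_zero_iff _ (algebraMap p.ResidueField K).injective] at this
  exact hsp (Ideal.algebraMap_residueField_eq_zero.1 this)

theorem exists_prime_over (φ : A →ₐc[k] B) (hφ : Function.Injective φ) (p : Ideal A) [p.IsPrime] :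
    ∃ q : Ideal B, q.IsPrime ∧ q.comap (φ : A →ₐ[k] B).toRingHom = p :=
  (Ideal.comap_map_eq_self_iff_of_isPrime p).1 (comap_map_eq φ hφ p)

end Groth.Agent.Comod33.HopfFlat
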