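import Groth.Agent.Comod33.HopfFlatCore
import Groth.Agent.Comod33.HopfSurj
import Mathlib.RingTheory.RingHom.FaithfullyFlat
import Mathlib.RingTheory.Flat.FaithfullyFlat.Algebra

/-!
A commutative Hopf algebra over a field is faithfully flat over every Hopf subalgebra.
-/

universe u v w

open TensorProduct

noncomputable section

namespace Groth.Agent.Comod33.HopfFlat

variable {k : Type u} [Field k] {A : Type v} [CommRing A] [HopfAlgebra k A]
variable {B : Type w} [CommRing B] [HopfAlgebra k B]

theorem faithfullyFlat_of_injective (φ : A →ₐc[k] B) (hφ : Function.Injective φ) :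
    (φ : A →+* B).FaithfullyFlat := by
  letI : Algebra A B := (φ : A →+* B).toAlgebra
  haveI : IsScalarTower k A B := IsScalarTower.of_algebraMap_eq fun r => ((φ : A →ₐ[k] B).commutes r).symm
  show Module.FaithfullyFlat A B
  haveI : Module.Flat A B := flat_of_surj
    (fun a => (CoalgHomClass.map_comp_comul_apply φ a).symm)
    (fun a => CoalgHomClass.counit_comp_apply φ a) hφ
    (fun p hp => haveI := hp.isPrime; exists_prime_over φ hφ p)
  refine Module.FaithfullyFlat.of_comap_surjective fun p => ?_
  obtain ⟨q, hq, hqp⟩ := exists_prime_over φ hφ p.asIdeal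
  exact ⟨⟨q, hq⟩, PrimeSpectrum.ext hqp⟩

theorem faithfullyFlat_of_isSubHopf {S : Subalgebra k B} (hS : SubHopf.IsSubHopf S) :
    Module.FaithfullyFlat S B := by
  letI := SubHopf.hopfAlgebra hS
  exact RingHom.faithfullyFlat_algebraMap_iff.1
    (faithfullyFlat_of_injective (SubHopf.incl hS) Subtype.val_injective)

theorem isSubHopf_range (φ : A →ₐc[k] B) : SubHopf.IsSubHopf (φ : A →ₐ[k] B).range := by
  refine ⟨?_, ?_⟩
  · rintro _ ⟨a, rfl⟩
    refine ⟨TensorProduct.map (φ : A →ₐ[k] B).rangeRestrict.toLinearMap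
      (φ : A →ₐ[k] B).rangeRestrict.toLinearMap (CoalgebraStruct.comul (R := k) a), ?_⟩
    rw [← LinearMap.comp_apply, ← TensorProduct.map_comp]
    exact CoalgHomClass.map_comp_comul_apply φ a
  · rintro _ ⟨a, rfl⟩
    refine ⟨HopfAlgebraStruct.antipode (R := k) a, ?_⟩
    -- antipodes commute with bialgebra maps
    let u : WithConv (A →ₐ[k] A) := WithConv.toConv (AlgHom.id k A)
    have h1 : WithConv.toConv ((φ : A →ₐ[k] B).comp (HopfAlgebra.antipodeAlgHom k A)) *
        WithConv.toConv (φ : A →ₐ[k] B) = 1 := by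
      apply WithConv.ofConv_injective
      have := AlgHom.comp_convMul_distrib (φ : A →ₐ[k] B)
        (WithConv.toConv (HopfAlgebra.antipodeAlgHom k A)) u
      rw [show WithConv.toConv (HopfAlgebra.antipodeAlgHom k A) * u = 1 from
        AlgHom.antipode_id_cancel] at this
      refine this.symm.trans (AlgHom.ext fun x => ?_)
      simp only [AlgHom.convOne_def, AlgHom.comp_apply]
      exact (φ : A →ₐ[k] B).commutes _
    have h2 : WithConv.toConv (φ : A →ₐ[k] B) *
        WithConv.toConv ((HopfAlgebra.antipodeAlgHom k B).comp (φ : A →ₐ[k] B)) = 1 := by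
      apply WithConv.ofConv_injective
      have := AlgHom.convMul_comp_bialgHom_distrib (WithConv.toConv (AlgHom.id k B))
        (WithConv.toConv (HopfAlgebra.antipodeAlgHom k B)) φ
      rw [show WithConv.toConv (AlgHom.id k B) * WithConv.toConv (HopfAlgebra.antipodeAlgHom k B) = 1 from
        mul_eq_one_comm.1 AlgHom.antipode_id_cancel] at this
      refine this.symm.trans (AlgHom.ext fun x => ?_)
      simp [AlgHom.convOne_def]
    exact DFunLike.congr_fun (congrArg WithConv.ofConv (left_inv_eq_right_inv h1 h2)) a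

theorem faithfullyFlat_range (φ : A →ₐc[k] B) :
    Module.FaithfullyFlat (φ : A →ₐ[k] B).range B :=
  faithfullyFlat_of_isSubHopf (isSubHopf_range φ)

end Groth.Agent.Comod33.HopfFlat
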