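import Groth.Agent.Comod33.Coeff
import Groth.Prelude.Def_SGA3
import Mathlib.RingTheory.Bialgebra.TensorProduct
import Mathlib.RingTheory.HopfAlgebra.Convolution
import Mathlib.LinearAlgebra.TensorProduct.Pi
import Mathlib.LinearAlgebra.Matrix.NonsingularInverse
import Mathlib.LinearAlgebra.Projection

/-!
Matrix representations of a coordinate bialgebra.
-/

universe u v w w' x

open TensorProduct Matrix

noncomputable section

namespace Groth.Agent.Comod33.Mat

variable {k : Type u} [Field k] {A : Type v} [CommRing A] [Bialgebra k A]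

/-- a matrix of functions multiplicative in the sense of the comultiplication -/
structure IsRep {ι : Type w} [Fintype ι] [DecidableEq ι] (c : ι → ι → A) : Prop where
  comul : ∀ i j, CoalgebraStruct.comul (R := k) (c i j) = ∑ l, c i l ⊗ₜ[k] c l j
  counit : ∀ i j, CoalgebraStruct.counit (R := k) (c i j) = if i = j then 1 else 0

section Basis

variable {V : Type w'} [AddCommGroup V] [Module k V] [HopfRep.Comod k A V]
variable {ι : Type w} [Fintype ι] [DecidableEq ι] (b : Module.Basis ι k V)

/-- matrix coefficients in a basis -/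
def mc (i j : ι) : A := cf (A := A) (b.coord i) (b j)

theorem coact_basis (j : ι) :
    HopfRep.Comod.coact (k := k) (A := A) (b j) = ∑ i, b i ⊗ₜ[k] mc (A := A) b i j := by
  unfold mc
  simp only [cf_apply]
  generalize HopfRep.Comod.coact (k := k) (A := A) (b j) = t
  induction t with
  | zero => simp
  | add x y hx hy =>
    simp only [map_add, tmul_add, Finset.sum_add_distrib, ← hx, ← hy]
  | tmul n a =>
    conv_lhs => rw [← b.sum_repr n, sum_tmul]
    exact Finset.sum_congr rfl fun i _ => by rw [lc_tmul, Module.Basis.coord_apply, smul_tmul]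

theorem isRep_mc : IsRep (k := k) (mc (A := A) b) where
  comul i j := by
    rw [mc, comul_cf, coact_basis b j, map_sum]
    rfl
  counit i j := by
    rw [mc, counit_cf, Module.Basis.coord_apply, b.repr_self, Finsupp.single_apply]
    simp [eq_comm]

end Basis

variable {ι : Type w} [Fintype ι] [DecidableEq ι] {c : ι → ι → A}

/-- evaluation at a point -/
def ev {R : Type x} [CommRing R] [Algebra k R] (g : A →ₐ[k] R) (c : ι → ι → A) : Matrix ι ι R :=
  Matrix.of fun i j => g (c i j)

theorem ev_apply {R : Type x} [CommRing R] [Algebra k R] (g : A →ₐ[k] R) (i j : ι) :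
    ev g c i j = g (c i j) := rfl

theorem ev_mul (hc : IsRep (k := k) c) {R : Type x} [CommRing R] [Algebra k R] (g h : A →ₐ[k] R) :
    ev (WithConv.toConv g * WithConv.toConv h).ofConv c = ev g c * ev h c := by
  ext i j
  rw [ev_apply, Matrix.mul_apply, AlgHom.convMul_apply]
  rw [hc.comul, map_sum]
  refine Finset.sum_congr rfl fun l _ => ?_
  simp [ev_apply]

theorem ev_one (hc : IsRep (k := k) c) {R : Type x} [CommRing R] [Algebra k R] :
    ev ((1 : WithConv (A →ₐ[k] R)).ofConv) c = 1 := by
  ext i j
  rw [ev_apply, Matrix.one_apply]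
  show algebraMap k R (CoalgebraStruct.counit (R := k) (c i j)) = _
  rw [hc.counit]
  split_ifs <;> simp

/-- the coaction of a matrix representation -/
def repCoact (c : ι → ι → A) : (ι → k) →ₗ[k] (ι → k) ⊗[k] A :=
  (Pi.basisFun k ι).constr k fun j => ∑ i, Pi.single i (1 : k) ⊗ₜ[k] c i j

theorem repCoact_single (j : ι) :
    repCoact (k := k) c (Pi.single j 1) = ∑ i, Pi.single i (1 : k) ⊗ₜ[k] c i j := by
  rw [← Pi.basisFun_apply, repCoact, Module.Basis.constr_basis]

/-- the comodule of a matrix representation -/
@[reducible] def comod (hc : IsRep (k := k) c) : HopfRep.Comod k A (ι → k) where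
  coact := repCoact (k := k) c
  coassoc := by
    refine (Pi.basisFun k ι).ext fun j => ?_
    simp only [Pi.basisFun_apply, LinearMap.comp_apply, LinearEquiv.coe_coe, repCoact_single, map_sum,
      LinearMap.rTensor_tmul, sum_tmul, TensorProduct.assoc_tmul, LinearMap.lTensor_tmul, hc.comul,
      tmul_sum]
    exact Finset.sum_comm
  counit_comp := by
    refine (Pi.basisFun k ι).ext fun j => ?_
    simp only [Pi.basisFun_apply, LinearMap.comp_apply, repCoact_single, map_sum,
      LinearMap.lTensor_tmul, hc.counit, LinearMap.flip_apply, TensorProduct.mk_apply]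
    simp [tmul_ite]

theorem piScalarRight_lTensor {R : Type x} [CommRing R] [Algebra k R] (g : A →ₐ[k] R) (v : ι → k)
    (i : ι) :
    TensorProduct.piScalarRight k k R ι
        (TensorProduct.comm k (ι → k) R (g.toLinearMap.lTensor (ι → k) (repCoact (k := k) c v))) i =
      (ev g c *ᵥ fun j => algebraMap k R (v j)) i := by
  have hv : v = ∑ j, v j • Pi.single j (1 : k) := by
    simpa using ((Pi.basisFun k ι).sum_repr v).symm
  conv_lhs => rw [hv]
  simp only [map_sum, map_smul, repCoact_single, LinearMap.lTensor_tmul, Finset.sum_apply,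
    Pi.smul_apply, TensorProduct.comm_tmul, AlgHom.toLinearMap_apply,
    TensorProduct.piScalarRight_apply, TensorProduct.piScalarRightHom_tmul]
  simp only [Matrix.mulVec, dotProduct, ev_apply, Pi.single_apply, ite_smul, one_smul, zero_smul]
  refine Finset.sum_congr rfl fun j _ => ?_
  rw [Finset.sum_ite_eq Finset.univ i, if_pos (Finset.mem_univ i), Algebra.smul_def, mul_comm]

theorem lTensor_repCoact_eq_iff {R : Type x} [CommRing R] [Algebra k R] (g : A →ₐ[k] R) (v : ι → k)
    (a : R) :
    g.toLinearMap.lTensor (ι → k) (repCoact (k := k) c v) = v ⊗ₜ[k] a ↔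
      ∀ i, (ev g c *ᵥ fun j => algebraMap k R (v j)) i = a * algebraMap k R (v i) := by
  rw [← (TensorProduct.comm k (ι → k) R).injective.eq_iff,
    ← (TensorProduct.piScalarRight k k R ι).injective.eq_iff, funext_iff]
  refine forall_congr' fun i => ?_
  rw [piScalarRight_lTensor]
  simp [Algebra.smul_def, mul_comm]

theorem lTensor_mc_mem_iff {V : Type w'} [AddCommGroup V] [Module k V] [HopfRep.Comod k A V]
    {ι₁ ι₂ : Type w} [Fintype ι₁] [DecidableEq ι₁] [Fintype ι₂] [DecidableEq ι₂]
    (b : Module.Basis (ι₁ ⊕ ι₂) k V) {W : Submodule k V}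
    (hW : W = Submodule.span k (Set.range fun j => b (Sum.inl j)))
    {R : Type x} [CommRing R] [Algebra k R] (g : A →ₐ[k] R) :
    (∀ w ∈ W, LinearMap.lTensor V g.toLinearMap (HopfRep.Comod.coact (k := k) (A := A) w) ∈
        LinearMap.range (W.subtype.rTensor R)) ↔
      ∀ (i : ι₂) (j : ι₁), g (mc (A := A) b (Sum.inr i) (Sum.inl j)) = 0 := by
  classical
  have hbW : ∀ j, b (Sum.inl j) ∈ W := fun j => hW ▸ Submodule.subset_span ⟨j, rfl⟩
  constructor
  · intro h i j
    obtain ⟨y, hy⟩ := h _ (hbW j)
    have hz : ∀ z : W ⊗[k] R, TensorProduct.lid k R ((b.coord (Sum.inr i)).rTensor R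
        (W.subtype.rTensor R z)) = 0 := by
      intro z
      induction z with
      | zero => simp
      | add p q hp hq => simp only [map_add, hp, hq, add_zero]
      | tmul w r =>
        have : b.coord (Sum.inr i) (w : V) = 0 := by
          have hle : W ≤ LinearMap.ker (b.coord (Sum.inr i)) := by
            rw [hW, Submodule.span_le]
            rintro _ ⟨l, rfl⟩
            simp
          exact hle w.2
        simp [this]
    have := hz y
    rw [hy, coact_basis, map_sum, map_sum, map_sum] at this
    simpa [Finsupp.single_apply] using this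
  · intro h w hw
    have hle : W ≤ (LinearMap.range (W.subtype.rTensor R)).comap
        (g.toLinearMap.lTensor V ∘ₗ HopfRep.Comod.coact (k := k) (A := A)) := by
      conv_lhs => rw [hW]
      rw [Submodule.span_le]
      rintro _ ⟨j, rfl⟩
      show g.toLinearMap.lTensor V (HopfRep.Comod.coact (k := k) (A := A) (b (Sum.inl j))) ∈
        LinearMap.range (W.subtype.rTensor R)
      rw [coact_basis, map_sum]
      refine Submodule.sum_mem _ fun i _ => ?_
      rcases i with i | i
      · exact ⟨⟨_, hbW i⟩ ⊗ₜ g (mc (A := A) b (Sum.inl i) (Sum.inl j)), rfl⟩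
      · simp [h i j]
    exact hle hw

section Constructions

theorem isRep_pow (hc : IsRep (k := k) c) (d : ℕ) :
    IsRep (k := k) fun I J : Fin d → ι => ∏ l, c (I l) (J l) where
  comul I J := by
    rw [← Bialgebra.comulAlgHom_apply, map_prod]
    simp only [Bialgebra.comulAlgHom_apply, hc.comul]
    rw [Fintype.prod_sum]
    refine Finset.sum_congr rfl fun L _ => ?_
    induction (Finset.univ : Finset (Fin d)) using Finset.induction_on with
    | empty => simp [Algebra.TensorProduct.one_def]
    | insert a s ha ih => simp [Finset.prod_insert ha, ih, Algebra.TensorProduct.tmul_mul_tmul]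
  counit I J := by
    rw [← Bialgebra.counitAlgHom_apply, map_prod]
    simp only [Bialgebra.counitAlgHom_apply, hc.counit]
    by_cases h : I = J
    · simp [h]
    · obtain ⟨l, hl⟩ := Function.ne_iff.1 h
      rw [if_neg h]
      exact Finset.prod_eq_zero (Finset.mem_univ l) (by simp [hl])

theorem isRep_mul (hc : IsRep (k := k) c) {κ : Type w'} [Fintype κ] [DecidableEq κ]
    {e : κ → κ → A} (he : IsRep (k := k) e) :
    IsRep (k := k) fun p q : ι × κ => c p.1 q.1 * e p.2 q.2 where
  comul p q := by
    rw [Bialgebra.comul_mul, hc.comul, he.comul, Fintype.sum_prod_type, Finset.sum_mul_sum]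
    simp [Algebra.TensorProduct.tmul_mul_tmul]
  counit p q := by
    rw [Bialgebra.counit_mul, hc.counit, he.counit]
    by_cases h1 : p.1 = q.1 <;> by_cases h2 : p.2 = q.2 <;> simp [h1, h2, Prod.ext_iff]

end Constructions

end Groth.Agent.Comod33.Mat
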