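import Groth.Agent.Comod33.Coeff
import Mathlib.RingTheory.HopfAlgebra.Convolution

/-!
Rational points acting on comodules.
-/

universe u v w

open TensorProduct

noncomputable section

namespace Groth.Agent.Comod33

section Field

variable {k : Type u} [Field k] {A : Type v} [AddCommGroup A] [Module k A]
variable {V : Type w} [AddCommGroup V] [Module k V]

theorem apply_lc (f : A →ₗ[k] k) (φ : V →ₗ[k] k) (x : V ⊗[k] A) : f (lc φ x) = φ (rc f x) := by
  induction x with
  | zero => simp
  | tmul v a => simp [mul_comm]
  | add x y hx hy => simp [map_add, hx, hy]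

theorem eq_of_lc {x y : V ⊗[k] A} (h : ∀ φ : V →ₗ[k] k, lc φ x = lc φ y) : x = y := by
  obtain ⟨z, hz⟩ := (mem_range_lTensor_iff (⊥ : Submodule k A) (x - y)).2 fun φ => by
    rw [map_sub, h, sub_self]; exact zero_mem _
  rw [show z = 0 from Subsingleton.elim _ _, map_zero] at hz
  exact sub_eq_zero.1 hz.symm

end Field

section Bialg

variable {k : Type u} [CommRing k] {A : Type v} [CommRing A] [Bialgebra k A]
variable {V : Type w} [AddCommGroup V] [Module k V] [HopfRep.Comod k A V]

theorem act_eq_dact (g : A →ₐ[k] k) : HopfRep.Comod.act k A V g = dact g.toLinearMap := rfl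

theorem act_mul (g h : WithConv (A →ₐ[k] k)) :
    HopfRep.Comod.act k A V (g * h).ofConv =
      HopfRep.Comod.act k A V g.ofConv * HopfRep.Comod.act k A V h.ofConv := by
  ext v
  simp only [act_eq_dact, Module.End.mul_apply, dact_dact]
  congr 2

theorem act_one : HopfRep.Comod.act k A V (1 : WithConv (A →ₐ[k] k)).ofConv = 1 := by
  ext v
  simp only [act_eq_dact, Module.End.one_apply]
  conv_rhs => rw [← dact_counit (k := k) (A := A) v]
  congr 2

variable (k A V) in
/-- the representation of the monoid of points on a comodule -/
def actHom : WithConv (A →ₐ[k] k) →* Module.End k V where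
  toFun g := HopfRep.Comod.act k A V g.ofConv
  map_one' := act_one
  map_mul' := act_mul

theorem actHom_apply (g : WithConv (A →ₐ[k] k)) :
    actHom k A V g = HopfRep.Comod.act k A V g.ofConv := rfl

theorem counit_act (g : A →ₐ[k] k) (a : A) :
    CoalgebraStruct.counit (R := k) (HopfRep.Comod.act k A A g a) = g a := by
  show CoalgebraStruct.counit (R := k) (rc g.toLinearMap (CoalgebraStruct.comul (R := k) a)) = g a
  conv_rhs => rw [← one_smul k a, ← TensorProduct.lid_tmul a (1 : k),
    ← Coalgebra.rTensor_counit_comul (R := k) a]
  generalize CoalgebraStruct.comul (R := k) a = z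
  induction z with
  | zero => simp
  | tmul p q => simp [mul_comm]
  | add p q hp hq => simp only [map_add, hp, hq]

end Bialg

end Groth.Agent.Comod33
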