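import Groth.Agent.Comod33.Chevalley
import Groth.Prelude.Def_Dyn
import Groth.Prelude.Def_HopfRep
import Mathlib.RingTheory.HopfAlgebra.Convolution
import Mathlib.RingTheory.Nakayama
import Mathlib.Tactic.Group
import Groth.Agent.Comod33.Points
import Groth.Agent.Hopf35.Basic

/-!
Characters of a normal subgroup occurring in representations occur with their inverses.
-/

universe u v w

open TensorProduct

noncomputable section

namespace Groth.Agent.Comod33.NormalKer

theorem conj_aux {G : Type*} [Group G] (a b : G) : a * (a⁻¹ * b * (a⁻¹)⁻¹) = b * a := by group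

variable {k : Type u} [Field k] {A : Type u} [CommRing A] [HopfAlgebra k A]
variable (I : Ideal A) [I.IsHopfIdeal k]
variable {V : Type w} [AddCommGroup V] [Module k V] [HopfRep.Comod k A V]

/-- the operator of a functional on the subgroup -/
def op (f : A ⧸ I →ₗ[k] k) : V →ₗ[k] V := dact (f ∘ₗ (Ideal.Quotient.mkₐ k I).toLinearMap)

variable {I}

/-- on the translate of an eigenvector the subgroup acts by scalars -/
theorem exists_scalar (hI : SGA3.IsNormalHopfIdeal k A I) {v : V} {χ : A ⧸ I}
    (hv : LinearMap.lTensor V (Ideal.Quotient.mkₐ k I).toLinearMap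
      (HopfRep.Comod.coact (k := k) (A := A) v) = v ⊗ₜ[k] χ) (f : A ⧸ I →ₗ[k] k) :
    ∃ a : A, (op I f).rTensor A (HopfRep.Comod.coact (k := k) (A := A) v) =
      (LinearMap.mulRight k a).lTensor V (HopfRep.Comod.coact (k := k) (A := A) v) := by
  classical
  let Q := A ⧸ I
  let g : A →ₐ[k] A ⊗[k] Q := Algebra.TensorProduct.includeLeft
  let h : A →ₐ[k] A ⊗[k] Q :=
    (Algebra.TensorProduct.includeRight : Q →ₐ[k] A ⊗[k] Q).comp (Ideal.Quotient.mkₐ k I)
  let g' : A →ₐ[k] A ⊗[k] Q := g.comp (HopfAlgebra.antipodeAlgHom k A)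
  let c := Dyn.conv3 k A g' h (g'.comp (HopfAlgebra.antipodeAlgHom k A))
  have hc0 : ∀ a ∈ I, c a = 0 := hI (A ⊗[k] Q) g' h fun a ha => by
    show (1 : A) ⊗ₜ[k] (Ideal.Quotient.mk I a) = 0
    rw [Ideal.Quotient.eq_zero_iff_mem.2 ha, TensorProduct.tmul_zero]
  let ψ : Q →ₐ[k] A ⊗[k] Q := Ideal.Quotient.liftₐ I c hc0
  have hψ : ψ.comp (Ideal.Quotient.mkₐ k I) = c := AlgHom.ext fun a => rfl
  have hc : WithConv.toConv c = WithConv.toConv g' * WithConv.toConv h * (WithConv.toConv g')⁻¹ := by
    refine WithConv.ofConv_injective (AlgHom.ext fun a => ?_)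
    simp only [AlgHom.convMul_apply, WithConv.ofConv_toConv, c, Dyn.conv3, AlgHom.comp_apply]
    simp only [Bialgebra.comulAlgHom_apply]
    generalize CoalgebraStruct.comul (R := k) a = z
    induction z with
    | zero => simp
    | add x y hx hy => simp only [map_add] at hx hy ⊢; simp only [hx, hy]
    | tmul p q =>
      simp [AlgHom.convMul_apply]
      congr 1
      generalize CoalgebraStruct.comul (R := k) p = z
      induction z with
      | zero => simp
      | add x y hx hy => simp only [map_add, hx, hy]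
      | tmul r s => simp
  have hgc : WithConv.toConv g * WithConv.toConv c = WithConv.toConv h * WithConv.toConv g := by
    have e : WithConv.toConv g' = (WithConv.toConv g)⁻¹ := rfl
    rw [hc, e]
    exact conj_aux (G := WithConv (A →ₐ[k] A ⊗[k] Q)) _ _
  have key : ∀ (p q : A →ₐ[k] A ⊗[k] Q) (v : V),
      LinearMap.lTensor V (WithConv.toConv p * WithConv.toConv q).ofConv.toLinearMap
        (HopfRep.Comod.coact (k := k) (A := A) v) =
      (LinearMap.mul' k (A ⊗[k] Q)).lTensor V (TensorProduct.assoc k V _ _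
        (((p.toLinearMap.lTensor V).comp (HopfRep.Comod.coact (k := k) (A := A))).rTensor _
          (q.toLinearMap.lTensor V (HopfRep.Comod.coact (k := k) (A := A) v)))) := by
    intro p q v
    have e : (WithConv.toConv p * WithConv.toConv q).ofConv.toLinearMap =
        LinearMap.mul' k (A ⊗[k] Q) ∘ₗ TensorProduct.map p.toLinearMap q.toLinearMap ∘ₗ
          CoalgebraStruct.comul := by
      ext a
      simp only [AlgHom.toLinearMap_apply, AlgHom.convMul_apply, LinearMap.comp_apply,
        WithConv.ofConv_toConv]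
      generalize CoalgebraStruct.comul (R := k) a = z
      induction z with
      | zero => simp
      | add x y hx hy => simp only [map_add, hx, hy]
      | tmul p q => simp
    rw [e, LinearMap.lTensor_comp, LinearMap.lTensor_comp, LinearMap.comp_apply, LinearMap.comp_apply,
      ← coassoc_apply]
    generalize HopfRep.Comod.coact (k := k) (A := A) v = t
    induction t with
    | zero => simp
    | add x y hx hy => simp only [map_add, hx, hy]
    | tmul n b =>
      simp only [LinearMap.rTensor_tmul, LinearMap.lTensor_tmul, LinearMap.comp_apply]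
      generalize HopfRep.Comod.coact (k := k) (A := A) n = s
      induction s with
      | zero => simp
      | add x y hx hy => simp only [map_add, TensorProduct.add_tmul, hx, hy]
      | tmul m a => simp
  have h1 := key h g v
  rw [← hgc, key g c v, ← hψ] at h1
  have hv' : (ψ.comp (Ideal.Quotient.mkₐ k I)).toLinearMap.lTensor V
      (HopfRep.Comod.coact (k := k) (A := A) v) = v ⊗ₜ[k] ψ χ := by
    rw [AlgHom.comp_toLinearMap, LinearMap.lTensor_comp, LinearMap.comp_apply, hv]
    simp
  rw [hv'] at h1
  let E : V ⊗[k] (A ⊗[k] Q) →ₗ[k] V ⊗[k] A :=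
    ((TensorProduct.rid k A).toLinearMap ∘ₗ f.lTensor A).lTensor V
  have hL : ∀ t : V ⊗[k] A,
      E ((LinearMap.mul' k (A ⊗[k] Q)).lTensor V (TensorProduct.assoc k V _ _
        (((h.toLinearMap.lTensor V).comp (HopfRep.Comod.coact (k := k) (A := A))).rTensor _
          (g.toLinearMap.lTensor V t)))) = (op I f).rTensor A t := by
    intro t
    induction t with
    | zero => simp
    | add x y hx hy => simp only [map_add, hx, hy]
    | tmul n b =>
      simp only [LinearMap.rTensor_tmul, LinearMap.lTensor_tmul, LinearMap.comp_apply, op, dact_apply]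
      generalize HopfRep.Comod.coact (k := k) (A := A) n = s
      induction s with
      | zero => simp
      | add x y hx hy => simp only [map_add, TensorProduct.add_tmul, hx, hy]
      | tmul m a =>
        simp [E, g, h, Algebra.TensorProduct.tmul_mul_tmul, TensorProduct.smul_tmul']
        exact (congrArg (· ⊗ₜ[k] b) rfl)
  have hR : ∀ (z : A ⊗[k] Q) (t : V ⊗[k] A),
      E ((LinearMap.mul' k (A ⊗[k] Q)).lTensor V (TensorProduct.assoc k V _ _
        ((g.toLinearMap.lTensor V t) ⊗ₜ[k] z))) =
      (LinearMap.mulRight k (TensorProduct.rid k A (f.lTensor A z))).lTensor V t := by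
    intro z t
    induction t with
    | zero => simp
    | add x y hx hy => simp only [map_add, TensorProduct.add_tmul, hx, hy]
    | tmul n b =>
      simp only [LinearMap.lTensor_tmul, TensorProduct.assoc_tmul, LinearMap.mul'_apply, E, g,
        AlgHom.toLinearMap_apply, Algebra.TensorProduct.includeLeft_apply, LinearMap.mulRight_apply,
        LinearMap.comp_apply, LinearEquiv.coe_coe]
      congr 1
      induction z with
      | zero => simp
      | add x y hx hy => simp only [map_add, mul_add, hx, hy]
      | tmul p q => simp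
  refine ⟨TensorProduct.rid k A (f.lTensor A (ψ χ)), ?_⟩
  rw [← hL, ← h1, LinearMap.rTensor_tmul, LinearMap.comp_apply, hR]

/-- the operators of the subgroup commute on the subcomodule generated by an eigenvector -/
theorem comm_op (hI : SGA3.IsNormalHopfIdeal k A I) {v : V} {χ : A ⧸ I}
    (hv : LinearMap.lTensor V (Ideal.Quotient.mkₐ k I).toLinearMap
      (HopfRep.Comod.coact (k := k) (A := A) v) = v ⊗ₜ[k] χ) (f f' : A ⧸ I →ₗ[k] k) (φ : A →ₗ[k] k) :
    op I f (op I f' (dact φ v)) = op I f' (op I f (dact φ v)) := by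
  obtain ⟨a, ha⟩ := exists_scalar hI hv f
  obtain ⟨a', ha'⟩ := exists_scalar hI hv f'
  have hswap : ∀ (T : V →ₗ[k] V) (b : A) (t : V ⊗[k] A),
      T.rTensor A ((LinearMap.mulRight k b).lTensor V t) =
        (LinearMap.mulRight k b).lTensor V (T.rTensor A t) := by
    intro T b t
    induction t with
    | zero => simp
    | add x y hx hy => simp only [map_add, hx, hy]
    | tmul n c => simp
  have e : (op I f).rTensor A ((op I f').rTensor A (HopfRep.Comod.coact (k := k) (A := A) v)) =
      (op I f').rTensor A ((op I f).rTensor A (HopfRep.Comod.coact (k := k) (A := A) v)) := by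
    rw [ha', hswap, ha, hswap, ha']
    generalize HopfRep.Comod.coact (k := k) (A := A) v = t
    induction t with
    | zero => simp
    | add x y hx hy => simp only [map_add, hx, hy]
    | tmul n c => simp [mul_assoc, mul_comm a]
  have := congrArg (rc φ) e
  rwa [rc_rTensor, rc_rTensor, rc_rTensor, rc_rTensor] at this

/-- commuting nilpotent-free criterion: a common kernel vector gives a common cokernel -/
theorem exists_dual {W : Type w} [AddCommGroup W] [Module k W] [Module.Finite k W] {ι : Type*}
    (S : ι → Module.End k W) (hcomm : ∀ i j, S i * S j = S j * S i) {v : W} (hv0 : v ≠ 0)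
    (hv : ∀ i, S i v = 0) : ∃ φ : W →ₗ[k] k, φ ≠ 0 ∧ ∀ i x, φ (S i x) = 0 := by
  let D := Algebra.adjoin k (Set.range S)
  letI : CommRing D :=
    Algebra.adjoinCommRingOfComm k (by rintro _ ⟨i, rfl⟩ _ ⟨j, rfl⟩; exact hcomm i j)
  haveI : Module.Finite D W := Module.Finite.of_restrictScalars_finite k D W
  let m : Ideal D := Ideal.span (Set.range fun i => (⟨S i, Algebra.subset_adjoin ⟨i, rfl⟩⟩ : D))
  let M : Submodule k W := ⨆ i, LinearMap.range (S i)
  by_cases hM : M = ⊤
  · exfalso
    have hle : (⊤ : Submodule D W) ≤ m • ⊤ := by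
      intro x _
      have hx : x ∈ M := hM ▸ Submodule.mem_top
      refine Submodule.iSup_induction _ (motive := fun x => x ∈ m • (⊤ : Submodule D W)) hx ?_
        (zero_mem _) (fun a b ha hb => add_mem ha hb)
      rintro i _ ⟨y, rfl⟩
      exact Submodule.smul_mem_smul (r := (⟨S i, Algebra.subset_adjoin ⟨i, rfl⟩⟩ : D))
        (Ideal.subset_span ⟨i, rfl⟩) (Submodule.mem_top (x := y))
    obtain ⟨r, hr, hr0⟩ := Submodule.exists_sub_one_mem_and_smul_eq_zero_of_fg_of_le_smul m ⊤
      Module.Finite.fg_top hle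
    have hkill : ∀ d ∈ m, d • v = 0 := by
      intro d hd
      induction hd using Submodule.span_induction with
      | mem d hd => obtain ⟨i, rfl⟩ := hd; exact hv i
      | zero => exact zero_smul D v
      | add a b _ _ ha hb => rw [add_smul, ha, hb, add_zero]
      | smul c d _ hd => rw [smul_eq_mul, mul_smul, hd, smul_zero]
    have h := hkill _ hr
    rw [sub_smul, hr0 v Submodule.mem_top, one_smul, zero_sub, neg_eq_zero] at h
    exact hv0 h
  · obtain ⟨φ, hφ, hle⟩ := Submodule.exists_le_ker_of_lt_top M (lt_top_iff_ne_top.2 hM)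
    exact ⟨φ, hφ, fun i x => hle (Submodule.mem_iSup_of_mem i ⟨x, rfl⟩)⟩

/-- the inverse of an occurring character of a normal subgroup occurs -/
theorem exists_inverse (hI : SGA3.IsNormalHopfIdeal k A I) [Module.Finite k V] {v : V} {χ : A ⧸ I}
    (hv0 : v ≠ 0)
    (hv : LinearMap.lTensor V (Ideal.Quotient.mkₐ k I).toLinearMap
      (HopfRep.Comod.coact (k := k) (A := A) v) = v ⊗ₜ[k] χ) :
    ∃ a : A, a ≠ 0 ∧ (Ideal.Quotient.mkₐ k I).toLinearMap.lTensor A (CoalgebraStruct.comul (R := k) a) =
      a ⊗ₜ[k] HopfAlgebraStruct.antipode (R := k) χ := by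
  classical
  let π := (Ideal.Quotient.mkₐ k I).toLinearMap
  let U : Submodule k V := (Submodule.span (WithConv (A →ₗ[k] k)) {v}).restrictScalars k
  have hU : HopfRep.IsSubcomod (k := k) (A := A) U := isSubcomod_restrictScalars _
  have hUs : ∀ φ : A →ₗ[k] k, ∀ x ∈ U, dact φ x ∈ U := (isSubcomod_iff U).1 hU
  have hmem : ∀ x ∈ U, ∃ φ : A →ₗ[k] k, dact φ v = x := by
    intro x hx
    obtain ⟨φ, hφ⟩ := Submodule.mem_span_singleton.1 hx
    exact ⟨φ.ofConv, hφ⟩
  let S : (A ⧸ I →ₗ[k] k) → Module.End k U := fun f =>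
    (op I f - f χ • LinearMap.id).restrict (p := U) (q := U)
      fun x hx => U.sub_mem (hUs _ x hx) (U.smul_mem _ hx)
  have hcomm : ∀ f f', S f * S f' = S f' * S f := by
    intro f f'
    refine LinearMap.ext fun ⟨x, hx⟩ => Subtype.ext ?_
    obtain ⟨φ, rfl⟩ := hmem x hx
    show (op I f - f χ • LinearMap.id : V →ₗ[k] V) ((op I f' - f' χ • LinearMap.id : V →ₗ[k] V) _) =
      (op I f' - f' χ • LinearMap.id : V →ₗ[k] V) ((op I f - f χ • LinearMap.id : V →ₗ[k] V) _)
    simp only [LinearMap.sub_apply, LinearMap.smul_apply, LinearMap.id_apply, map_sub, map_smul,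
      Submodule.subtype_apply]
    rw [comm_op hI hv f f' φ]
    module
  have hvU : v ∈ U := Submodule.mem_span_singleton_self v
  have hker : ∀ f, S f ⟨v, hvU⟩ = 0 := by
    intro f
    refine Subtype.ext ?_
    show dact (f ∘ₗ π) v - f χ • v = 0
    rw [dact_apply, ← rc_lTensor, hv, rc_tmul, sub_self]
  obtain ⟨φ₀, hφ₀, hφS⟩ := exists_dual S hcomm (fun h => hv0 (congrArg Subtype.val h)) hker
  obtain ⟨φ, hφ⟩ := LinearMap.exists_extend φ₀
  obtain ⟨⟨u, hu⟩, hu0⟩ : ∃ u, φ₀ u ≠ 0 := by
    by_contra h
    push_neg at h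
    exact hφ₀ (LinearMap.ext h)
  have hφu : φ u ≠ 0 := by
    rwa [show φ u = φ₀ ⟨u, hu⟩ from LinearMap.congr_fun hφ ⟨u, hu⟩]
  have hcf : ∀ x ∈ U, π (cf (A := A) φ x) = φ x • χ := by
    intro x hx
    refine sub_eq_zero.1 ((Module.forall_dual_apply_eq_zero_iff k _).1 fun f => ?_)
    rw [map_sub, map_smul, smul_eq_mul, sub_eq_zero]
    have e1 : φ (op I f x - f χ • x) = 0 :=
      (LinearMap.congr_fun hφ (S f ⟨x, hx⟩)).trans (hφS f _)
    rw [map_sub, map_smul, smul_eq_mul, sub_eq_zero] at e1
    rw [← LinearMap.comp_apply f π, cf_apply, apply_lc, mul_comm]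
    exact e1
  let b := cf (A := A) φ u
  have hb : π.rTensor A (CoalgebraStruct.comul (R := k) b) = χ ⊗ₜ[k] b := by
    obtain ⟨y, hy⟩ := hU u hu
    rw [comul_cf, show b = lc φ (HopfRep.Comod.coact (k := k) (A := A) u) from cf_apply φ u, ← hy]
    clear hy
    induction y with
    | zero => simp
    | add p q hp hq => simp only [map_add, TensorProduct.tmul_add, hp, hq]
    | tmul n c =>
      simp only [LinearMap.rTensor_tmul, Submodule.subtype_apply, lc_tmul, hcf _ n.2]
      rw [TensorProduct.smul_tmul]
  have hεb : CoalgebraStruct.counit (R := k) b = φ u := counit_cf φ u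
  refine ⟨HopfAlgebraStruct.antipode (R := k) b, ?_, ?_⟩
  · intro h
    have := congrArg (CoalgebraStruct.counit (R := k)) h
    rw [HopfAlgebra.counit_antipode, hεb, map_zero] at this
    exact hφu this
  · rw [Hopf35.comul_antipode]
    have : ∀ z : A ⊗[k] A, π.lTensor A (TensorProduct.comm k A A
        (TensorProduct.map (HopfAlgebraStruct.antipode (R := k)) (HopfAlgebraStruct.antipode (R := k)) z)) =
        TensorProduct.comm k (A ⧸ I) A (TensorProduct.map (HopfAlgebraStruct.antipode (R := k))
          (HopfAlgebraStruct.antipode (R := k)) (π.rTensor A z)) := by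
      intro z
      induction z with
      | zero => simp
      | add p q hp hq => simp only [map_add, hp, hq]
      | tmul p q => simp [π]
    rw [this, hb]
    simp

end Groth.Agent.Comod33.NormalKer
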