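import Groth.Agent.Comod33.Act
import Mathlib.LinearAlgebra.FiniteDimensional.Basic
import Mathlib.LinearAlgebra.Dual.Basis
import Mathlib.RingTheory.Finiteness.Lattice
import Mathlib.Order.OrderIsoNat

/-!
Local finiteness of comodules over a field.
-/

universe u v w

open TensorProduct

noncomputable section

namespace Groth.Agent.Comod33

variable {k : Type u} [Field k] {A : Type v} [AddCommGroup A] [Module k A] [Coalgebra k A]
variable {V : Type w} [AddCommGroup V] [Module k V] [HopfRep.Comod k A V]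

/-- the orbit map of a vector under the dual of the coalgebra -/
def orbitMap (v : V) : (A →ₗ[k] k) →ₗ[k] V where
  toFun f := dact f v
  map_add' f g := by rw [dact_add]; rfl
  map_smul' c f := by rw [dact_smul]; rfl

/-- the smallest subcomodule containing a vector -/
def gen (v : V) : Submodule k V := LinearMap.range (orbitMap (k := k) (A := A) v)

theorem dact_mem_gen (f : A →ₗ[k] k) (v : V) : dact f v ∈ gen (k := k) (A := A) v := ⟨f, rfl⟩

theorem mem_gen (v : V) : v ∈ gen (k := k) (A := A) v :=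
  ⟨CoalgebraStruct.counit, dact_counit v⟩

theorem isSubcomod_gen (v : V) : HopfRep.IsSubcomod (k := k) (A := A) (gen (k := k) (A := A) v) := by
  rw [isSubcomod_iff]
  rintro f _ ⟨g, rfl⟩
  exact ⟨_, (dact_dact f g v).symm⟩

theorem gen_le {v : V} {U : Submodule k V} (hU : HopfRep.IsSubcomod (k := k) (A := A) U)
    (hv : v ∈ U) : gen (k := k) (A := A) v ≤ U := by
  rintro _ ⟨f, rfl⟩
  exact (isSubcomod_iff U).1 hU f v hv

instance finite_gen (v : V) : Module.Finite k (gen (k := k) (A := A) v) := by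
  obtain ⟨s, hs⟩ := TensorProduct.exists_finset (HopfRep.Comod.coact (k := k) (A := A) v)
  classical
  refine Submodule.finiteDimensional_of_le (S₂ := Submodule.span k ↑(s.image Prod.fst)) ?_
  rintro _ ⟨f, rfl⟩
  show dact f v ∈ _
  rw [dact_apply, hs, map_sum]
  refine Submodule.sum_mem _ fun i hi => ?_
  rw [rc_tmul]
  exact Submodule.smul_mem _ _ (Submodule.subset_span (Finset.mem_coe.2 (Finset.mem_image_of_mem _ hi)))

theorem exists_finite_subcomod_mem (v : V) :
    ∃ U : Submodule k V, Module.Finite k U ∧ v ∈ U ∧ HopfRep.IsSubcomod (k := k) (A := A) U :=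
  ⟨gen (k := k) (A := A) v, finite_gen v, mem_gen v, isSubcomod_gen v⟩

theorem exists_finite_subcomod_le (U : Submodule k V) [Module.Finite k U] :
    ∃ U' : Submodule k V, Module.Finite k U' ∧ U ≤ U' ∧ HopfRep.IsSubcomod (k := k) (A := A) U' := by
  classical
  obtain ⟨s, hs⟩ := (Module.Finite.iff_fg.1 ‹Module.Finite k U›)
  refine ⟨⨆ v : (s : Set V), gen (k := k) (A := A) (v : V), inferInstance, ?_,
    isSubcomod_iSup _ fun v => isSubcomod_gen _⟩
  rw [← hs, Submodule.span_le]
  intro v hv
  exact Submodule.mem_iSup_of_mem (⟨v, hv⟩ : (s : Set V)) (mem_gen v)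

theorem finite_of_isSimpleComod (hV : HopfRep.IsSimpleComod k A V) : Module.Finite k V := by
  obtain ⟨hnt, hs⟩ := hV
  obtain ⟨v, hv⟩ := exists_ne (0 : V)
  obtain ⟨U, hU, hvU, hsub⟩ := exists_finite_subcomod_mem (k := k) (A := A) v
  rcases hs U hsub with rfl | rfl
  · exact absurd ((Submodule.mem_bot k).1 hvU) hv
  · exact Module.Finite.equiv (LinearEquiv.ofTop ⊤ rfl)

/-- a nonzero finite dimensional subcomodule contains a minimal one -/
theorem exists_minimal_subcomod_le (U : Submodule k V) [Module.Finite k U] (hU0 : U ≠ ⊥)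
    (hU : HopfRep.IsSubcomod (k := k) (A := A) U) :
    ∃ E : Submodule k V, E ≤ U ∧ E ≠ ⊥ ∧ HopfRep.IsSubcomod (k := k) (A := A) E ∧ Module.Finite k E ∧
      ∀ E' : Submodule k V, E' ≤ E → HopfRep.IsSubcomod (k := k) (A := A) E' → E' = ⊥ ∨ E' = E := by
  induction h : Module.finrank k U using Nat.strong_induction_on generalizing U with
  | _ n ih =>
    by_cases hmin : ∀ E' : Submodule k V, E' ≤ U → HopfRep.IsSubcomod (k := k) (A := A) E' → E' = ⊥ ∨ E' = U
    · exact ⟨U, le_rfl, hU0, hU, inferInstance, hmin⟩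
    · push_neg at hmin
      obtain ⟨E', hle, hsub, h0, hne⟩ := hmin
      have : Module.Finite k E' := Submodule.finiteDimensional_of_le hle
      have hlt : Module.finrank k E' < n := h ▸ Submodule.finrank_lt_finrank_of_lt (lt_of_le_of_ne hle hne)
      obtain ⟨E, h1, h2⟩ := ih _ hlt E' h0 hsub rfl
      exact ⟨E, h1.trans hle, h2⟩

/-- every nonzero subcomodule contains a minimal nonzero finite dimensional one -/
theorem exists_minimal_subcomod (U : Submodule k V) (hU0 : U ≠ ⊥)
    (hU : HopfRep.IsSubcomod (k := k) (A := A) U) :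
    ∃ E : Submodule k V, E ≤ U ∧ E ≠ ⊥ ∧ HopfRep.IsSubcomod (k := k) (A := A) E ∧ Module.Finite k E ∧
      ∀ E' : Submodule k V, E' ≤ E → HopfRep.IsSubcomod (k := k) (A := A) E' → E' = ⊥ ∨ E' = E := by
  obtain ⟨v, hvU, hv⟩ := (Submodule.ne_bot_iff U).1 hU0
  have h0 : gen (k := k) (A := A) v ≠ ⊥ := fun h => hv (by
    have := mem_gen (k := k) (A := A) v
    rwa [h, Submodule.mem_bot] at this)
  obtain ⟨E, h1, h2⟩ := exists_minimal_subcomod_le _ h0 (isSubcomod_gen v)
  exact ⟨E, h1.trans (gen_le hU hvU), h2⟩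

end Groth.Agent.Comod33
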