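import Groth.Agent.Comod33.Stabilizer
import Groth.Agent.Comod33.Finite
import Mathlib.LinearAlgebra.Matrix.Adjugate

/-!
Subgroups as stabilizers of lines.
-/

universe u v w w'

open TensorProduct Matrix

noncomputable section

namespace Groth.Agent.Comod33.Mat

variable {k : Type u} [Field k] {A : Type v} [CommRing A]

section line

variable [Bialgebra k A] {d : ℕ} {ι₂ : Type} [Fintype ι₂] [DecidableEq ι₂]

variable (k d ι₂) in
/-- the coordinates of the wedge of the first block -/
def wedgeVec (I : Fin d → Fin d ⊕ ι₂) : k :=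
  (Matrix.of fun l m : Fin d => if I l = Sum.inl m then (1 : k) else 0).det

/-- the product family -/
def powFam (c : Fin d ⊕ ι₂ → Fin d ⊕ ι₂ → A) (I J : Fin d → Fin d ⊕ ι₂) : A :=
  ∏ l, c (I l) (J l)

theorem wedgeVec_inl : wedgeVec k d ι₂ Sum.inl = 1 := by
  have : (Matrix.of fun l m : Fin d => if (Sum.inl l : Fin d ⊕ ι₂) = Sum.inl m then (1 : k) else 0) = 1 := by
    ext l m
    simp [Matrix.one_apply]
  rw [wedgeVec, this, Matrix.det_one]

theorem mulVec_wedgeVec (c : Fin d ⊕ ι₂ → Fin d ⊕ ι₂ → A) {R : Type w'} [CommRing R] [Algebra k R]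
    (g : A →ₐ[k] R) (I : Fin d → Fin d ⊕ ι₂) :
    (ev g (powFam c) *ᵥ fun J => algebraMap k R (wedgeVec k d ι₂ J)) I =
      (Matrix.of fun l m : Fin d => g (c (I l) (Sum.inl m))).det := by
  classical
  simp only [Matrix.mulVec, dotProduct, wedgeVec, Matrix.det_apply', map_sum, map_mul, map_intCast,
    map_prod, Finset.mul_sum, ev_apply, powFam, Matrix.of_apply]
  rw [Finset.sum_comm]
  refine Finset.sum_congr rfl fun σ _ => ?_
  have h : ∀ J : Fin d → Fin d ⊕ ι₂,
      (∏ i, algebraMap k R (if J (σ i) = Sum.inl i then 1 else 0)) =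
        ∏ l, algebraMap k R (if J l = Sum.inl (σ.symm l) then 1 else 0) := fun J =>
    Fintype.prod_equiv σ _ _ fun i => by simp
  simp only [h, mul_left_comm _ ((Equiv.Perm.sign σ : ℤ) : R), ← Finset.prod_mul_distrib,
    ← Finset.mul_sum]
  congr 1
  rw [← Fintype.prod_sum (fun l x => g (c (I l) x) *
    algebraMap k R (if x = Sum.inl (σ.symm l) then 1 else 0))]
  rw [Fintype.prod_equiv σ (fun i => g (c (I (σ i)) (Sum.inl i)))
    (fun l => g (c (I l) (Sum.inl (σ.symm l)))) fun i => by simp]
  refine Finset.prod_congr rfl fun l _ => ?_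
  simp only [apply_ite (algebraMap k R), map_one, map_zero, mul_ite, mul_one, mul_zero]
  rw [Finset.sum_ite_eq' Finset.univ, if_pos (Finset.mem_univ _)]

theorem forall_mulVec_wedgeVec_of_block {c : Fin d ⊕ ι₂ → Fin d ⊕ ι₂ → A} {R : Type w'} [CommRing R]
    [Algebra k R] (g : A →ₐ[k] R) (h : ∀ (i : ι₂) (j : Fin d), g (c (Sum.inr i) (Sum.inl j)) = 0)
    (I : Fin d → Fin d ⊕ ι₂) :
    (ev g (powFam c) *ᵥ fun J => algebraMap k R (wedgeVec k d ι₂ J)) I =
      (ev g c).toBlocks₁₁.det * algebraMap k R (wedgeVec k d ι₂ I) := by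
  rw [mulVec_wedgeVec, mul_comm, wedgeVec, RingHom.map_det, ← Matrix.det_mul]
  congr 1
  ext l m
  simp only [Matrix.of_apply, Matrix.mul_apply, RingHom.mapMatrix_apply, Matrix.map_apply,
    Matrix.toBlocks₁₁, ev_apply, apply_ite (algebraMap k R), map_one, map_zero, ite_mul, one_mul,
    zero_mul]
  rcases hI : I l with i | i
  · simp only [Sum.inl.injEq]
    rw [Finset.sum_ite_eq Finset.univ i, if_pos (Finset.mem_univ i)]
  · simp [h i m]

theorem block_of_forall_mulVec_wedgeVec {c : Fin d ⊕ ι₂ → Fin d ⊕ ι₂ → A} {R : Type w'} [CommRing R]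
    [Algebra k R] (g : A →ₐ[k] R) {a : R} (ha : IsUnit a)
    (h : ∀ I, (ev g (powFam c) *ᵥ fun J => algebraMap k R (wedgeVec k d ι₂ J)) I =
      a * algebraMap k R (wedgeVec k d ι₂ I)) (i : ι₂) (j : Fin d) :
    g (c (Sum.inr i) (Sum.inl j)) = 0 := by
  classical
  let P : Matrix (Fin d) (Fin d) R := Matrix.of fun l m => g (c (Sum.inl l) (Sum.inl m))
  let r : Fin d → R := fun m => g (c (Sum.inr i) (Sum.inl m))
  have hP : P.det = a := by
    have := h Sum.inl
    rw [mulVec_wedgeVec, wedgeVec_inl, map_one, mul_one] at this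
    exact this
  have h0 : ∀ l₀, (P.updateRow l₀ r).det = 0 := by
    intro l₀
    have e := h (Function.update Sum.inl l₀ (Sum.inr i))
    rw [mulVec_wedgeVec] at e
    have hw : wedgeVec k d ι₂ (Function.update Sum.inl l₀ (Sum.inr i)) = 0 :=
      Matrix.det_eq_zero_of_row_eq_zero l₀ fun m => by simp
    rw [hw, map_zero, mul_zero] at e
    rw [← e]
    congr 1
    ext l m
    by_cases hl : l = l₀
    · subst hl; simp [r]
    · simp [P, hl]
  have hc : Matrix.cramer Pᵀ r = 0 := by
    funext l₀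
    rw [Matrix.cramer_apply, Matrix.updateCol_transpose, Matrix.det_transpose, h0, Pi.zero_apply]
  have := Matrix.mulVec_cramer Pᵀ r
  rw [hc, Matrix.mulVec_zero, Matrix.det_transpose, hP] at this
  have := congrFun this j
  simp only [Pi.zero_apply, Pi.smul_apply, smul_eq_mul] at this
  exact (ha.mul_right_eq_zero.1 this.symm)

end line

section point

variable [HopfAlgebra k A] {ι : Type w} [Fintype ι] [DecidableEq ι] {c : ι → ι → A}

theorem antipode_conv_mul {R : Type w'} [CommRing R] [Algebra k R] (g : A →ₐ[k] R) :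
    WithConv.toConv (g.comp (HopfAlgebra.antipodeAlgHom k A)) * WithConv.toConv g = 1 := by
  have h := AlgHom.comp_convMul_distrib g (WithConv.toConv (HopfAlgebra.antipodeAlgHom k A))
    (WithConv.toConv (AlgHom.id k A))
  rw [AlgHom.antipode_id_cancel] at h
  simp only [WithConv.ofConv_toConv, AlgHom.comp_id] at h
  refine WithConv.ofConv_injective (h.symm.trans ?_)
  exact AlgHom.ext fun a => g.commutes _

theorem isUnit_of_eigen (hc : IsRep (k := k) c) {R : Type w'} [CommRing R] [Algebra k R]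
    (g : A →ₐ[k] R) {v : ι → k} {a : R} (hv : v ≠ 0)
    (h : ∀ i, (ev g c *ᵥ fun j => algebraMap k R (v j)) i = a * algebraMap k R (v i)) : IsUnit a := by
  obtain ⟨i, hi⟩ := Function.ne_iff.1 hv
  let g' := g.comp (HopfAlgebra.antipodeAlgHom k A)
  have e : ev g' c * ev g c = 1 := by
    rw [← ev_mul hc, antipode_conv_mul, ev_one hc]
  have h1 : (fun j => algebraMap k R (v j)) =
      a • (ev g' c *ᵥ fun j => algebraMap k R (v j)) := by
    conv_lhs => rw [← Matrix.one_mulVec (fun j => algebraMap k R (v j)), ← e, ← Matrix.mulVec_mulVec]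
    rw [show (ev g c *ᵥ fun j => algebraMap k R (v j)) = a • fun j => algebraMap k R (v j) from
      funext h, Matrix.mulVec_smul]
  have h2 := congrFun h1 i
  rw [Pi.smul_apply, smul_eq_mul] at h2
  exact isUnit_of_mul_isUnit_left (h2 ▸ (IsUnit.mk0 (v i) hi).map (algebraMap k R))

end point

variable [Bialgebra k A]

theorem isGroupLike_of_eigen {B : Type w'} [CommRing B] [Bialgebra k B] (π : A →ₐc[k] B)
    {V : Type w} [AddCommGroup V] [Module k V] [HopfRep.Comod k A V] {v : V} (hv : v ≠ 0) {χ : B}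
    (h : LinearMap.lTensor V π.toLinearMap (HopfRep.Comod.coact (k := k) (A := A) v) = v ⊗ₜ[k] χ) :
    IsGroupLikeElem k χ := by
  obtain ⟨φ, hφ⟩ := Module.Projective.exists_dual_eq_one k hv
  have hχ : π (cf (A := A) φ v) = χ := by
    have := congrArg (lc φ) h
    rw [lc_tmul, hφ, one_smul, lc_lTensor] at this
    exact this
  rw [← hχ]
  refine ⟨?_, ?_⟩
  · rw [CoalgHomClass.counit_comp_apply, counit_cf, hφ]
  · rw [← CoalgHomClass.map_comp_comul_apply, comul_cf]
    have : ∀ t : V ⊗[k] A, TensorProduct.map (π : A →ₗ[k] B) (π : A →ₗ[k] B)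
        ((cf (A := A) φ).rTensor A t) =
        ((π : A →ₗ[k] B) ∘ₗ cf (A := A) φ).rTensor B (π.toLinearMap.lTensor V t) := by
      intro t
      induction t with
      | zero => simp
      | add x y hx hy => simp only [map_add, hx, hy]
      | tmul n a => rfl
    rw [this, h, LinearMap.rTensor_tmul, hχ]
    exact congrArg (fun z => z ⊗ₜ[k] χ) hχ

section basisEigen

variable {V : Type w} [AddCommGroup V] [Module k V] [HopfRep.Comod k A V]
variable {ι : Type} [Fintype ι] [DecidableEq ι] (b : Module.Basis ι k V)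

theorem mulVec_repr_of_eigen {R : Type w'} [CommRing R] [Algebra k R] (g : A →ₐ[k] R) {v : V} {a : R}
    (h : LinearMap.lTensor V g.toLinearMap (HopfRep.Comod.coact (k := k) (A := A) v) = v ⊗ₜ[k] a)
    (i : ι) :
    (ev g (mc (A := A) b) *ᵥ fun j => algebraMap k R (b.repr v j)) i = a * algebraMap k R (b.repr v i) := by
  have := congrArg (fun t => TensorProduct.lid k R ((b.coord i).rTensor R t)) h
  conv at this => enter [1]; rw [← b.sum_repr v]
  simp only [map_sum, map_smul, coact_basis, LinearMap.lTensor_tmul, LinearMap.rTensor_tmul,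
    lid_tmul, Module.Basis.coord_apply, Module.Basis.repr_self, AlgHom.toLinearMap_apply] at this
  simp only [Matrix.mulVec, dotProduct, ev_apply, mul_comm (g _), ← Algebra.smul_def, mul_comm a]
  rw [← this]
  refine Finset.sum_congr rfl fun j _ => ?_
  simp [Finsupp.single_apply]

end basisEigen

end Groth.Agent.Comod33.Mat
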