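import Groth.Prelude.Def_HopfRep
import Groth.Prelude.Def_Hoch
import Groth.Prelude.Def_ComodSub
import Mathlib.RingTheory.Coalgebra.Convolution
import Mathlib.LinearAlgebra.TensorProduct.RightExactness
import Mathlib.RingTheory.Flat.Basic
import Mathlib.LinearAlgebra.Basis.VectorSpace

/-!
Comodules seen as modules over the convolution algebra of the coalgebra.
-/

universe u v w w' w''

open TensorProduct

noncomputable section

namespace Groth.Agent.Comod33

variable {k : Type u} [CommRing k] {A : Type v} [AddCommGroup A] [Module k A]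
variable {V : Type w} [AddCommGroup V] [Module k V] {W : Type w'} [AddCommGroup W] [Module k W]

/-- contraction of the right factor by a linear form -/
def rc (f : A →ₗ[k] k) : V ⊗[k] A →ₗ[k] V :=
  (TensorProduct.rid k V).toLinearMap ∘ₗ f.lTensor V

@[simp] theorem rc_tmul (f : A →ₗ[k] k) (v : V) (a : A) : rc f (v ⊗ₜ[k] a) = f a • v := by
  simp [rc]

theorem rc_rTensor (f : A →ₗ[k] k) (g : V →ₗ[k] W) (x : V ⊗[k] A) :
    rc f (g.rTensor A x) = g (rc f x) := by
  induction x with
  | zero => simp
  | tmul v a => simp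
  | add x y hx hy => simp [map_add, hx, hy]

theorem rc_lTensor {B : Type w''} [AddCommGroup B] [Module k B] (f : B →ₗ[k] k) (g : A →ₗ[k] B)
    (x : V ⊗[k] A) : rc f (g.lTensor V x) = rc (f ∘ₗ g) x := by
  induction x with
  | zero => simp
  | tmul v a => simp
  | add x y hx hy => simp [map_add, hx, hy]

theorem rc_mem_of_mem_range (f : A →ₗ[k] k) {U : Submodule k V} {x : V ⊗[k] A}
    (hx : x ∈ LinearMap.range (U.subtype.rTensor A)) : rc f x ∈ U := by
  obtain ⟨y, rfl⟩ := hx
  rw [rc_rTensor]
  exact (rc f y).2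

/-- expansion in a basis of the right factor -/
theorem sum_rc_coord {ι : Type*} (b : Module.Basis ι k A) (x : V ⊗[k] A) :
    ∃ s : Finset ι, x = ∑ i ∈ s, rc (b.coord i) x ⊗ₜ[k] b i := by
  classical
  refine ⟨(TensorProduct.equivFinsuppOfBasisRight b x).support, ?_⟩
  have hc : ∀ i, rc (b.coord i) x = TensorProduct.equivFinsuppOfBasisRight b x i := by
    intro i
    induction x with
    | zero => simp
    | tmul v a =>
      rw [rc_tmul, TensorProduct.equivFinsuppOfBasisRight_apply_tmul_apply]; simp
    | add x y hx hy => simp [hx, hy]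
  simp only [hc]
  conv_lhs => rw [← (TensorProduct.equivFinsuppOfBasisRight b).symm_apply_apply x]
  rw [TensorProduct.equivFinsuppOfBasisRight_symm_apply]
  rfl

theorem mem_range_rTensor_iff [Module.Free k A] (U : Submodule k V) (x : V ⊗[k] A) :
    x ∈ LinearMap.range (U.subtype.rTensor A) ↔ ∀ f : A →ₗ[k] k, rc f x ∈ U := by
  refine ⟨fun hx f => rc_mem_of_mem_range f hx, fun h => ?_⟩
  obtain ⟨s, hs⟩ := sum_rc_coord (Module.Free.chooseBasis k A) x
  rw [hs]
  refine Submodule.sum_mem _ fun i _ => ⟨(⟨_, h ((Module.Free.chooseBasis k A).coord i)⟩ : U) ⊗ₜ[k]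
    (Module.Free.chooseBasis k A i), ?_⟩
  simp

theorem eq_of_rc [Module.Free k A] {x y : V ⊗[k] A} (h : ∀ f : A →ₗ[k] k, rc f x = rc f y) :
    x = y := by
  have := (mem_range_rTensor_iff (⊥ : Submodule k V) (x - y)).2 fun f => by simp [map_sub, h f]
  obtain ⟨z, hz⟩ := this
  have hz0 : z = 0 := Subsingleton.elim _ _
  rw [hz0, map_zero] at hz
  exact sub_eq_zero.1 hz.symm

variable [Coalgebra k A]

/-- the endomorphism attached to a linear form on the coalgebra -/
def dact [HopfRep.Comod k A V] (f : A →ₗ[k] k) : V →ₗ[k] V :=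
  rc f ∘ₗ HopfRep.Comod.coact (k := k) (A := A)

theorem dact_apply [HopfRep.Comod k A V] (f : A →ₗ[k] k) (v : V) :
    dact f v = rc f (HopfRep.Comod.coact (k := k) (A := A) v) := rfl

section laws

variable [HopfRep.Comod k A V]

open HopfRep in
theorem coassoc_apply (v : V) :
    TensorProduct.assoc k V A A ((Comod.coact (k := k) (A := A)).rTensor A (Comod.coact (k := k) (A := A) v)) =
      (CoalgebraStruct.comul (R := k) (A := A)).lTensor V (Comod.coact (k := k) (A := A) v) :=
  LinearMap.congr_fun (Comod.coassoc (k := k) (A := A) (V := V)) v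

open HopfRep in
theorem counit_apply (v : V) :
    (CoalgebraStruct.counit (R := k) (A := A)).lTensor V (Comod.coact (k := k) (A := A) v) =
      v ⊗ₜ[k] (1 : k) :=
  LinearMap.congr_fun (Comod.counit_comp (k := k) (A := A) (V := V)) v

@[simp] theorem dact_counit (v : V) : dact (CoalgebraStruct.counit (R := k) (A := A)) v = v := by
  simp [dact_apply, rc, counit_apply]

theorem dact_add (f g : A →ₗ[k] k) : (dact (f + g) : V →ₗ[k] V) = dact f + dact g := by
  ext v; simp [dact_apply, rc]

theorem dact_smul (c : k) (f : A →ₗ[k] k) : (dact (c • f) : V →ₗ[k] V) = c • dact f := by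
  ext v; simp [dact_apply, rc]

@[simp] theorem dact_zero : (dact (0 : A →ₗ[k] k) : V →ₗ[k] V) = 0 := by
  ext v; simp [dact_apply, rc]

/-- the coaction intertwines `dact f` with `(id ⊗ f) ∘ comul` on the right factor -/
theorem coact_dact (f : A →ₗ[k] k) (v : V) :
    HopfRep.Comod.coact (k := k) (A := A) (dact f v) =
      (rc f ∘ₗ (CoalgebraStruct.comul (R := k) (A := A))).lTensor V
        (HopfRep.Comod.coact (k := k) (A := A) v) := by
  rw [LinearMap.lTensor_comp, LinearMap.comp_apply, ← coassoc_apply, dact_apply,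
    ← rc_rTensor]
  generalize (HopfRep.Comod.coact (k := k) (A := A)).rTensor A
    (HopfRep.Comod.coact (k := k) (A := A) v) = y
  induction y with
  | zero => simp
  | tmul x a =>
    induction x with
    | zero => simp
    | tmul p q => simp [TensorProduct.tmul_smul]
    | add p q hp hq => rw [add_tmul, map_add, map_add, map_add, hp, hq]
  | add p q hp hq => simp [map_add, hp, hq]

theorem dact_dact (f g : A →ₗ[k] k) (v : V) :
    dact f (dact g v) = dact ((WithConv.toConv f * WithConv.toConv g).ofConv) v := by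
  rw [dact_apply f, coact_dact, rc_lTensor, ← dact_apply]
  congr 2
  rw [LinearMap.convMul_def]
  ext a
  simp only [LinearMap.comp_apply]
  generalize CoalgebraStruct.comul (R := k) a = y
  induction y with
  | zero => simp
  | tmul p q => simp [mul_comm]
  | add p q hp hq => simp [map_add, hp, hq]

theorem dact_one (v : V) : dact ((1 : WithConv (A →ₗ[k] k)).ofConv) v = v := by
  have : (1 : WithConv (A →ₗ[k] k)).ofConv = CoalgebraStruct.counit (R := k) (A := A) := by
    ext a; simp [LinearMap.convOne_def]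
  rw [this, dact_counit]

end laws

/-- A comodule is a module over the convolution algebra. -/
@[reducible] def dualModule (V : Type w) [AddCommGroup V] [Module k V] [HopfRep.Comod k A V] :
    Module (WithConv (A →ₗ[k] k)) V where
  smul f v := dact f.ofConv v
  mul_smul f g v := (dact_dact f.ofConv g.ofConv v).symm
  one_smul := dact_one
  smul_zero f := map_zero (dact f.ofConv)
  smul_add f v w := map_add (dact f.ofConv) v w
  add_smul f g v := LinearMap.congr_fun (dact_add (V := V) f.ofConv g.ofConv) v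
  zero_smul v := LinearMap.congr_fun (dact_zero (A := A) (V := V)) v

attribute [scoped instance] dualModule

theorem smul_def [HopfRep.Comod k A V] (f : WithConv (A →ₗ[k] k)) (v : V) :
    f • v = dact f.ofConv v := rfl

scoped instance [HopfRep.Comod k A V] : IsScalarTower k (WithConv (A →ₗ[k] k)) V where
  smul_assoc c f v := by
    rw [smul_def, smul_def, WithConv.ofConv_smul, dact_smul]; rfl

scoped instance [HopfRep.Comod k A V] : SMulCommClass k (WithConv (A →ₗ[k] k)) V where
  smul_comm c f v := by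
    rw [smul_def, smul_def, map_smul]

theorem isSubcomod_iff [Module.Free k A] [HopfRep.Comod k A V] (U : Submodule k V) :
    HopfRep.IsSubcomod (k := k) (A := A) U ↔ ∀ (f : A →ₗ[k] k), ∀ u ∈ U, dact f u ∈ U := by
  simp only [HopfRep.IsSubcomod, mem_range_rTensor_iff, dact_apply]
  exact ⟨fun h f u hu => h u hu f, fun h u hu f => h f u hu⟩

theorem isComodHom_iff [Module.Free k A] [HopfRep.Comod k A V] [HopfRep.Comod k A W]
    (φ : V →ₗ[k] W) :
    Hoch.IsComodHom A φ ↔ ∀ (f : A →ₗ[k] k) (v : V), φ (dact f v) = dact f (φ v) := by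
  constructor
  · intro h f v
    have := congrArg (rc f) (LinearMap.congr_fun h v)
    simp only [LinearMap.comp_apply, rc_rTensor] at this
    exact this.symm
  · intro h
    ext v
    refine eq_of_rc fun f => ?_
    simp only [LinearMap.comp_apply, rc_rTensor]
    exact (h f v).symm

theorem _root_.Groth.Agent.Comod33.IsComodHom.dact [HopfRep.Comod k A V] [HopfRep.Comod k A W]
    {φ : V →ₗ[k] W} (h : Hoch.IsComodHom A φ) (f : A →ₗ[k] k) (v : V) :
    φ (Comod33.dact f v) = Comod33.dact f (φ v) := by
  have := congrArg (rc f) (LinearMap.congr_fun h v)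
  simp only [LinearMap.comp_apply, rc_rTensor] at this
  exact this.symm

/-- a morphism of comodules as a linear map over the convolution algebra -/
def toDualLinear [HopfRep.Comod k A V] [HopfRep.Comod k A W] (φ : V →ₗ[k] W)
    (h : Hoch.IsComodHom A φ) : V →ₗ[WithConv (A →ₗ[k] k)] W where
  toFun := φ
  map_add' := map_add φ
  map_smul' f v := IsComodHom.dact h f.ofConv v

@[simp] theorem toDualLinear_apply [HopfRep.Comod k A V] [HopfRep.Comod k A W] (φ : V →ₗ[k] W)
    (h : Hoch.IsComodHom A φ) (v : V) : toDualLinear φ h v = φ v := rfl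

theorem isComodHom_restrictScalars [Module.Free k A] [HopfRep.Comod k A V] [HopfRep.Comod k A W]
    (φ : V →ₗ[WithConv (A →ₗ[k] k)] W) : Hoch.IsComodHom A (φ.restrictScalars k) :=
  (isComodHom_iff _).2 fun f v => φ.map_smul (WithConv.toConv f) v

theorem isSubcomod_restrictScalars [Module.Free k A] [HopfRep.Comod k A V]
    (U : Submodule (WithConv (A →ₗ[k] k)) V) :
    HopfRep.IsSubcomod (k := k) (A := A) (U.restrictScalars k) :=
  (isSubcomod_iff _).2 fun f _ hu => U.smul_mem (WithConv.toConv f) hu

/-- a subcomodule as a submodule over the convolution algebra -/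
def toSub [HopfRep.Comod k A V] (U : Submodule k V) (hU : HopfRep.IsSubcomod (k := k) (A := A) U) :
    Submodule (WithConv (A →ₗ[k] k)) V where
  carrier := U
  add_mem' := U.add_mem
  zero_mem' := U.zero_mem
  smul_mem' _ _ hu := rc_mem_of_mem_range _ (hU _ hu)

@[simp] theorem mem_toSub [HopfRep.Comod k A V] (U : Submodule k V)
    (hU : HopfRep.IsSubcomod (k := k) (A := A) U) (v : V) : v ∈ toSub U hU ↔ v ∈ U := Iff.rfl

@[simp] theorem restrictScalars_toSub [HopfRep.Comod k A V] (U : Submodule k V)
    (hU : HopfRep.IsSubcomod (k := k) (A := A) U) : (toSub U hU).restrictScalars k = U := rfl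

/-- subcomodules are the submodules over the convolution algebra -/
def subEquiv [Module.Free k A] [HopfRep.Comod k A V] :
    {U : Submodule k V // HopfRep.IsSubcomod (k := k) (A := A) U} ≃o
      Submodule (WithConv (A →ₗ[k] k)) V where
  toFun U := toSub U.1 U.2
  invFun U := ⟨U.restrictScalars k, isSubcomod_restrictScalars U⟩
  left_inv U := rfl
  right_inv U := rfl
  map_rel_iff' := Iff.rfl

theorem isSubcomod_bot [HopfRep.Comod k A V] : HopfRep.IsSubcomod (k := k) (A := A) (⊥ : Submodule k V) := by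
  intro w hw; rw [Submodule.mem_bot] at hw; simp [hw]

theorem isSubcomod_top [HopfRep.Comod k A V] : HopfRep.IsSubcomod (k := k) (A := A) (⊤ : Submodule k V) := by
  intro w _
  refine LinearMap.rTensor_surjective A ?_ _
  exact fun v => ⟨⟨v, trivial⟩, rfl⟩

omit [Coalgebra k A] in
theorem range_rTensor_mono {U U' : Submodule k V} (h : U ≤ U') :
    LinearMap.range (U.subtype.rTensor A) ≤ LinearMap.range (U'.subtype.rTensor A) := by
  rintro _ ⟨x, rfl⟩
  refine ⟨(Submodule.inclusion h).rTensor A x, ?_⟩
  rw [← LinearMap.comp_apply, ← LinearMap.rTensor_comp, Submodule.subtype_comp_inclusion]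

theorem isSubcomod_sup [HopfRep.Comod k A V] {U U' : Submodule k V}
    (h : HopfRep.IsSubcomod (k := k) (A := A) U) (h' : HopfRep.IsSubcomod (k := k) (A := A) U') :
    HopfRep.IsSubcomod (k := k) (A := A) (U ⊔ U') := by
  intro w hw
  obtain ⟨a, ha, b, hb, rfl⟩ := Submodule.mem_sup.1 hw
  rw [map_add]
  exact Submodule.add_mem _ (range_rTensor_mono le_sup_left (h a ha))
    (range_rTensor_mono le_sup_right (h' b hb))

theorem isSubcomod_iSup [HopfRep.Comod k A V] {ι : Sort*} (U : ι → Submodule k V)
    (h : ∀ i, HopfRep.IsSubcomod (k := k) (A := A) (U i)) :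
    HopfRep.IsSubcomod (k := k) (A := A) (⨆ i, U i) := by
  intro w hw
  induction hw using Submodule.iSup_induction' with
  | mem i x hx => exact range_rTensor_mono (le_iSup U i) (h i x hx)
  | zero => simp
  | add x y _ _ hx hy => rw [map_add]; exact Submodule.add_mem _ hx hy

theorem isSubcomod_inf [Module.Free k A] [HopfRep.Comod k A V] {U U' : Submodule k V}
    (h : HopfRep.IsSubcomod (k := k) (A := A) U) (h' : HopfRep.IsSubcomod (k := k) (A := A) U') :
    HopfRep.IsSubcomod (k := k) (A := A) (U ⊓ U') := by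
  rw [isSubcomod_iff] at h h' ⊢
  exact fun f u hu => ⟨h f u hu.1, h' f u hu.2⟩

theorem isSubcomod_map [HopfRep.Comod k A V] [HopfRep.Comod k A W] {U : Submodule k V}
    (hU : HopfRep.IsSubcomod (k := k) (A := A) U) {φ : V →ₗ[k] W} (hφ : Hoch.IsComodHom A φ) :
    HopfRep.IsSubcomod (k := k) (A := A) (U.map φ) := by
  rintro _ ⟨u, hu, rfl⟩
  obtain ⟨x, hx⟩ := hU u hu
  have h1 := LinearMap.congr_fun hφ u
  simp only [LinearMap.comp_apply] at h1
  refine ⟨(φ.restrict (p := U) (q := U.map φ) fun a ha => Submodule.mem_map_of_mem ha).rTensor A x, ?_⟩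
  rw [h1, ← hx, ← LinearMap.comp_apply, ← LinearMap.rTensor_comp,
    ← LinearMap.comp_apply (φ.rTensor A), ← LinearMap.rTensor_comp]
  rfl

theorem isSubcomod_range [HopfRep.Comod k A V] [HopfRep.Comod k A W] {φ : V →ₗ[k] W}
    (hφ : Hoch.IsComodHom A φ) : HopfRep.IsSubcomod (k := k) (A := A) (LinearMap.range φ) := by
  rw [← Submodule.map_top]
  exact isSubcomod_map isSubcomod_top hφ

theorem isSubcomod_comap [Module.Free k A] [HopfRep.Comod k A V] [HopfRep.Comod k A W]
    {U : Submodule k W} (hU : HopfRep.IsSubcomod (k := k) (A := A) U) {φ : V →ₗ[k] W}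
    (hφ : Hoch.IsComodHom A φ) : HopfRep.IsSubcomod (k := k) (A := A) (U.comap φ) := by
  rw [isSubcomod_iff] at hU ⊢
  intro f u hu
  simp only [Submodule.mem_comap] at hu ⊢
  rw [IsComodHom.dact hφ]
  exact hU f _ hu

theorem isSubcomod_ker [Module.Free k A] [HopfRep.Comod k A V] [HopfRep.Comod k A W]
    {φ : V →ₗ[k] W} (hφ : Hoch.IsComodHom A φ) :
    HopfRep.IsSubcomod (k := k) (A := A) (LinearMap.ker φ) :=
  isSubcomod_comap isSubcomod_bot hφ

theorem isComodHom_id [HopfRep.Comod k A V] : Hoch.IsComodHom A (LinearMap.id : V →ₗ[k] V) := by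
  simp [Hoch.IsComodHom]

theorem isComodHom_zero [HopfRep.Comod k A V] [HopfRep.Comod k A W] :
    Hoch.IsComodHom A (0 : V →ₗ[k] W) := by
  simp [Hoch.IsComodHom]

theorem isComodHom_comp [HopfRep.Comod k A V] [HopfRep.Comod k A W] {X : Type w''} [AddCommGroup X]
    [Module k X] [HopfRep.Comod k A X] {φ : V →ₗ[k] W} {ψ : W →ₗ[k] X}
    (hφ : Hoch.IsComodHom A φ) (hψ : Hoch.IsComodHom A ψ) : Hoch.IsComodHom A (ψ ∘ₗ φ) := by
  unfold Hoch.IsComodHom at *
  rw [← LinearMap.comp_assoc, hψ, LinearMap.comp_assoc, hφ, ← LinearMap.comp_assoc,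
    LinearMap.rTensor_comp]

theorem isComodHom_symm [HopfRep.Comod k A V] [HopfRep.Comod k A W] (e : V ≃ₗ[k] W)
    (he : Hoch.IsComodHom A (e : V →ₗ[k] W)) : Hoch.IsComodHom A (e.symm : W →ₗ[k] V) := by
  unfold Hoch.IsComodHom at *
  ext w
  have h1 := LinearMap.congr_fun he (e.symm w)
  simp only [LinearMap.comp_apply, LinearEquiv.coe_coe, LinearEquiv.apply_symm_apply] at h1
  simp only [LinearMap.comp_apply, LinearEquiv.coe_coe, h1]
  rw [← LinearMap.comp_apply, ← LinearMap.rTensor_comp, LinearEquiv.symm_comp,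
    LinearMap.rTensor_id, LinearMap.id_apply]

end Groth.Agent.Comod33
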