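import Groth.Agent.Comod33.ClassFun

/-!
Commutative groups of semisimple points are diagonalizable.
-/

universe u v w

open TensorProduct WithConv

noncomputable section

namespace Groth.Agent.Comod33.CommSS

open Conn

/-- commuting semisimple operators are simultaneously diagonalizable -/
theorem le_span_eigen {k : Type u} [Field k] [IsAlgClosed k] {V : Type w} [AddCommGroup V]
    [Module k V] [FiniteDimensional k V] (S : Set (Module.End k V))
    (hS : ∀ a ∈ S, ∀ b ∈ S, Commute a b) (hss : ∀ a ∈ S, a.IsSemisimple) :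
    ∀ U : Submodule k V, (∀ a ∈ S, ∀ u ∈ U, a u ∈ U) →
      U ≤ Submodule.span k {v | ∀ a ∈ S, ∃ c : k, a v = c • v} := by
  intro U
  induction h : Module.finrank k U using Nat.strong_induction_on generalizing U with
  | _ n ih =>
  intro hst
  by_cases hall : ∀ a ∈ S, ∃ c : k, ∀ u ∈ U, a u = c • u
  · exact fun v hv => Submodule.subset_span fun a ha =>
      ⟨(hall a ha).choose, (hall a ha).choose_spec v hv⟩
  push Not at hall
  obtain ⟨a, ha, hne⟩ := hall
  have hinv : U ∈ a.invtSubmodule := (Module.End.mem_invtSubmodule a).2 fun u hu => hst a ha u hu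
  have htop := ((hss a ha).restrict hinv).iSup_eigenspace_eq_top
  have hle : U ≤ ⨆ c : k, U ⊓ Module.End.eigenspace a c := by
    intro u hu
    have h1 : (⟨u, hu⟩ : U) ∈ (⊤ : Submodule k U) := trivial
    rw [← htop] at h1
    have h2 := Submodule.mem_map_of_mem (f := U.subtype) h1
    rw [Submodule.map_iSup] at h2
    refine (show (⨆ c : k, Submodule.map U.subtype (Module.End.eigenspace (LinearMap.restrict a ((Module.End.mem_invtSubmodule a).1 hinv)) c)) ≤ _ from iSup_mono fun c => ?_) h2
    rintro _ ⟨⟨w, hw⟩, hwe, rfl⟩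
    exact ⟨hw, Module.End.mem_eigenspace_iff.2
      (congrArg Subtype.val (Module.End.mem_eigenspace_iff.1 hwe))⟩
  refine hle.trans (iSup_le fun c => ?_)
  have hlt : U ⊓ Module.End.eigenspace a c < U := by
    refine lt_of_le_of_ne inf_le_left fun e => ?_
    obtain ⟨u, hu, hue⟩ := hne c
    rw [← e] at hu
    exact hue (Module.End.mem_eigenspace_iff.1 hu.2)
  refine ih _ (h ▸ Submodule.finrank_lt_finrank_of_lt hlt) _ rfl fun b hb u hu => ?_
  refine ⟨hst b hb u hu.1, Module.End.mem_eigenspace_iff.2 ?_⟩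
  rw [← Module.End.mul_apply, (hS a ha b hb).eq, Module.End.mul_apply,
    Module.End.mem_eigenspace_iff.1 hu.2, map_smul]

variable {k : Type u} [Field k] [IsAlgClosed k] {A : Type v} [CommRing A] [HopfAlgebra k A]
  [Algebra.FiniteType k A] [IsReduced A]

/-- a commutative reduced group with semisimple points is diagonalizable -/
theorem isDiagonalizable (hcomm : ∀ x y : Pt k A, x * y = y * x)
    (hss : ∀ (g : A →ₐ[k] k) (V : Type v) [AddCommGroup V] [Module k V] [HopfRep.Comod k A V],
      Module.Finite k V → Module.End.IsSemisimple (HopfRep.Comod.act k A V g)) :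
    HopfRep.IsDiagonalizable k A := by
  rw [HopfRep.IsDiagonalizable, eq_top_iff]
  intro a _
  obtain ⟨W, hfin, ha, hW⟩ := exists_finite_subcomod_mem (k := k) (A := A) a
  letI := ComodSub.Comod.restr (HopfRep.Comod.regular k A) W hW
  have hmem := le_span_eigen (Set.range (actHom k A W))
    (by rintro _ ⟨x, rfl⟩ _ ⟨y, rfl⟩; show _ * _ = _ * _; rw [← map_mul, ← map_mul, hcomm])
    (by rintro _ ⟨x, rfl⟩; exact hss x.ofConv W hfin) ⊤ (fun _ _ _ _ => trivial)
    (Submodule.mem_top (x := (⟨a, ha⟩ : W)))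
  have h2 := Submodule.mem_map_of_mem (f := W.subtype) hmem
  rw [Submodule.map_span] at h2
  refine Submodule.span_le.2 ?_ h2
  rintro _ ⟨⟨v, hv⟩, hve, rfl⟩
  show v ∈ Submodule.span k _
  have hact : ∀ g : Pt k A, ∃ c : k, HopfRep.Comod.act k A A g.ofConv v = c • v := by
    intro g
    obtain ⟨c, hc⟩ := hve _ ⟨g, rfl⟩
    refine ⟨c, ?_⟩
    have h3 := IsComodHom.dact (ComodSub.isComodHom_subtype (HopfRep.Comod.regular k A) W hW)
      g.ofConv.toLinearMap ⟨v, hv⟩
    rw [← act_eq_dact, ← act_eq_dact, ← actHom_apply, hc, map_smul] at h3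
    exact h3.symm
  by_cases hε : CoalgebraStruct.counit (R := k) v = 0
  · have : v = 0 := eq_zero_of_forall_point (k := k) fun g => by
      obtain ⟨c, hc⟩ := hact g
      rw [← counit_act, hc, map_smul, hε, smul_zero]
    rw [this]
    exact zero_mem _
  · obtain ⟨u, hu⟩ : ∃ u, u = (CoalgebraStruct.counit (R := k) v)⁻¹ • v := ⟨_, rfl⟩
    have hεu : CoalgebraStruct.counit (R := k) u = 1 := by
      rw [hu, map_smul, smul_eq_mul, inv_mul_cancel₀ hε]
    have hgu : ∀ g : Pt k A, HopfRep.Comod.act k A A g.ofConv u = g.ofConv u • u := by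
      intro g
      obtain ⟨c, hc⟩ := hact g
      have e : HopfRep.Comod.act k A A g.ofConv u = c • u := by rw [hu, map_smul, hc, smul_comm]
      have e2 := counit_act g.ofConv u
      rw [e, map_smul, hεu, smul_eq_mul, mul_one] at e2
      rw [e, e2]
    have hgl : IsGroupLikeElem k u := by
      refine ⟨hεu, eq_of_lc fun φ => ?_⟩
      rw [lc_tmul]
      refine sub_eq_zero.1 (eq_zero_of_forall_point (k := k) fun g => ?_)
      rw [map_sub, map_smul]
      show g.ofConv.toLinearMap (lc φ (CoalgebraStruct.comul (R := k) u)) - φ u • g.ofConv u = 0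
      rw [apply_lc, show rc g.ofConv.toLinearMap (CoalgebraStruct.comul (R := k) u) =
        HopfRep.Comod.act k A A g.ofConv u from rfl, hgu, map_smul, smul_eq_mul, smul_eq_mul, mul_comm,
        sub_self]
    have hv2 : v = CoalgebraStruct.counit (R := k) v • u := by
      rw [hu, smul_inv_smul₀ hε]
    rw [hv2]
    exact Submodule.smul_mem _ _ (Submodule.subset_span hgl)

end Groth.Agent.Comod33.CommSS
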