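import Groth.Agent.Comod33.LocalJordan
import Groth.Agent.Comod33.Points
import Groth.Agent.Comod33.Finite

/-!
Jordan decomposition of rational points.
-/

universe u v w

open TensorProduct

noncomputable section

namespace Groth.Agent.Comod33

variable {k : Type u} [Field k] {A : Type v} [CommRing A]

section Bialg

variable [Bialgebra k A]

/-- right translation by a point as an algebra map -/
def transAlgHom (g : A →ₐ[k] k) : A →ₐ[k] A :=
  ((Algebra.TensorProduct.rid k k A).toAlgHom.comp
    (Algebra.TensorProduct.map (AlgHom.id k A) g)).comp (Bialgebra.comulAlgHom k A)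

theorem transAlgHom_eq (g : A →ₐ[k] k) (a : A) :
    transAlgHom g a = HopfRep.Comod.act k A A g a := by
  show (Algebra.TensorProduct.rid k k A) (Algebra.TensorProduct.map (AlgHom.id k A) g
    (CoalgebraStruct.comul (R := k) a)) = rc g.toLinearMap (CoalgebraStruct.comul (R := k) a)
  generalize CoalgebraStruct.comul (R := k) a = z
  induction z with
  | zero => simp
  | tmul p q => simp
  | add p q hp hq => simp only [map_add, hp, hq]

theorem act_regular_mul (g : A →ₐ[k] k) (a b : A) :
    HopfRep.Comod.act k A A g (a * b) =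
      HopfRep.Comod.act k A A g a * HopfRep.Comod.act k A A g b := by
  simp only [← transAlgHom_eq, map_mul]

theorem act_regular_one (g : A →ₐ[k] k) : HopfRep.Comod.act k A A g 1 = 1 := by
  simp only [← transAlgHom_eq, map_one]

theorem lc_coact_regular (f : A →ₗ[k] k) (g : A →ₐ[k] k) (a : A) :
    g (cf (A := A) f a) = f (HopfRep.Comod.act k A A g a) := by
  exact apply_lc g.toLinearMap f (CoalgebraStruct.comul (R := k) a)

end Bialg

variable [HopfAlgebra k A]

theorem isUnit_act {V : Type w} [AddCommGroup V] [Module k V] [HopfRep.Comod k A V]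
    (g : A →ₐ[k] k) : IsUnit (HopfRep.Comod.act k A V g) :=
  (Group.isUnit (WithConv.toConv g)).map (actHom k A V)

theorem isMulSS_one {V : Type w} [AddCommGroup V] [Module k V] [FiniteDimensional k V] :
    IsMulSS (1 : Module.End k V) 1 := by
  refine ⟨Module.End.isSemisimple_id, 1, ?_, Commute.one_left _, one_mul _⟩
  simp

/-- the semisimple part of a point -/
theorem exists_point_semisimplePart [PerfectField k] (g : A →ₐ[k] k) :
    ∃ gs : A →ₐ[k] k, WithConv.toConv g * WithConv.toConv gs =
        WithConv.toConv gs * WithConv.toConv g ∧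
      ∀ (V : Type v) [AddCommGroup V] [Module k V] [HopfRep.Comod k A V], Module.Finite k V →
        IsMulSS (HopfRep.Comod.act k A V g) (HopfRep.Comod.act k A V gs) := by
  set R := HopfRep.Comod.act k A A g with hRdef
  have hR : Function.Injective R := ((Module.End.isUnit_iff R).1 (isUnit_act g)).1
  have hinv : ∀ (a : A), ∀ x ∈ gen (k := k) (A := A) a, R x ∈ gen (k := k) (A := A) a :=
    fun a x hx => (isSubcomod_iff _).1 (isSubcomod_gen a) g.toLinearMap x hx
  obtain ⟨σ, -, hσ⟩ := exists_semisimplePart R hR fun a =>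
    ⟨gen (k := k) (A := A) a, inferInstance, hinv a, mem_gen a⟩
  -- σ commutes with everything commuting with R
  have hcomm : ∀ φ : A →ₗ[k] A, (∀ x, φ (R x) = R (φ x)) → ∀ a, φ (σ a) = σ (φ a) := by
    intro φ hφ a
    have hW : ∀ x ∈ (gen (k := k) (A := A) a).map φ, R x ∈ (gen (k := k) (A := A) a).map φ := by
      rintro _ ⟨x, hx, rfl⟩
      exact ⟨R x, hinv a x hx, hφ x⟩
    obtain ⟨s, -, hs⟩ := exists_isMulSS (isUnit_restrict R hR (hinv a))
    obtain ⟨t, -, ht⟩ := exists_isMulSS (isUnit_restrict R hR hW)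
    let ψ : gen (k := k) (A := A) a →ₗ[k] (gen (k := k) (A := A) a).map φ :=
      φ.restrict fun x hx => Submodule.mem_map_of_mem hx
    have e := hs.intertwine ht (φ := ψ) (fun x => Subtype.ext (hφ x.1)) ⟨a, mem_gen a⟩
    rw [hσ _ (hinv a) s hs ⟨a, mem_gen a⟩, hσ _ hW t ht ⟨φ a, Submodule.mem_map_of_mem (mem_gen a)⟩]
    exact congrArg Subtype.val e
  -- σ is multiplicative
  have hσ1 : σ 1 = 1 := by
    have hW : ∀ x ∈ Submodule.span k {(1 : A)}, R x ∈ Submodule.span k {(1 : A)} := by
      intro x hx
      obtain ⟨c, rfl⟩ := Submodule.mem_span_singleton.1 hx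
      rw [map_smul, hRdef, act_regular_one]
      exact hx
    have e : R.restrict hW = 1 := by
      refine LinearMap.ext fun x => Subtype.ext ?_
      obtain ⟨c, hc⟩ := Submodule.mem_span_singleton.1 x.2
      show R x.1 = x.1
      rw [← hc, map_smul, hRdef, act_regular_one]
    have hone : IsMulSS (R.restrict hW) 1 := by
      rw [e]
      exact isMulSS_one
    exact hσ _ hW 1 hone ⟨1, Submodule.mem_span_singleton_self _⟩
  have hσm : ∀ a b, σ (a * b) = σ a * σ b := by
    intro a b
    let U := gen (k := k) (A := A) a ⊔ gen (k := k) (A := A) b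
    have hU : ∀ x ∈ U, R x ∈ U := by
      intro x hx
      obtain ⟨p, hp, q, hq, rfl⟩ := Submodule.mem_sup.1 hx
      rw [map_add]
      exact Submodule.add_mem_sup (hinv a p hp) (hinv b q hq)
    let μ : U ⊗[k] U →ₗ[k] A := LinearMap.mul' k A ∘ₗ TensorProduct.map U.subtype U.subtype
    have hμ : ∀ z, μ (TensorProduct.map (R.restrict hU) (R.restrict hU) z) = R (μ z) := by
      intro z
      induction z with
      | zero => simp
      | tmul p q =>
        show R p.1 * R q.1 = R (p.1 * q.1)
        rw [hRdef, act_regular_mul]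
      | add p q hp hq => simp only [map_add, hp, hq]
    have hW : ∀ x ∈ LinearMap.range μ, R x ∈ LinearMap.range μ := by
      rintro _ ⟨z, rfl⟩
      exact ⟨_, hμ z⟩
    obtain ⟨s, -, hs⟩ := exists_isMulSS (isUnit_restrict R hR hU)
    obtain ⟨t, -, ht⟩ := exists_isMulSS (isUnit_restrict R hR hW)
    have ha : a ∈ U := Submodule.mem_sup_left (mem_gen a)
    have hb : b ∈ U := Submodule.mem_sup_right (mem_gen b)
    have e := (hs.tensor hs).intertwine ht (φ := μ.rangeRestrict)
      (fun z => Subtype.ext (hμ z)) (⟨a, ha⟩ ⊗ₜ[k] ⟨b, hb⟩)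
    have e1 := hσ _ hW t ht (μ.rangeRestrict (⟨a, ha⟩ ⊗ₜ[k] ⟨b, hb⟩))
    have e2 := hσ _ hU s hs ⟨a, ha⟩
    have e3 := hσ _ hU s hs ⟨b, hb⟩
    simp only at e2 e3
    rw [e2, e3]
    exact e1.trans (congrArg Subtype.val e).symm
  let σa : A →ₐ[k] A := AlgHom.ofLinearMap σ hσ1 hσm
  let gs : A →ₐ[k] k := (Bialgebra.counitAlgHom k A).comp σa
  have hgs : ∀ a, HopfRep.Comod.act k A A gs a = σ a := by
    intro a
    refine (Module.forall_dual_apply_eq_zero_iff k _).1 (fun f => ?_) |> sub_eq_zero.1
    have h1 := hcomm (cf (A := A) f) (fun x => IsComodHom.dact (isComodHom_cf f) g.toLinearMap x) a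
    have h2 : f (σ a) = gs (cf (A := A) f a) := by
      rw [← counit_cf (A := A) f (σ a), h1]
      rfl
    rw [map_sub, h2, lc_coact_regular, sub_self]
  refine ⟨gs, ?_, ?_⟩
  · refine WithConv.ofConv_injective (AlgHom.ext fun a => ?_)
    rw [← counit_act (WithConv.toConv g * WithConv.toConv gs).ofConv,
      ← counit_act (WithConv.toConv gs * WithConv.toConv g).ofConv, act_mul, act_mul]
    show CoalgebraStruct.counit (R := k) (R (HopfRep.Comod.act k A A gs a)) =
      CoalgebraStruct.counit (R := k) (HopfRep.Comod.act k A A gs (R a))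
    rw [hgs, hgs, hcomm R (fun _ => rfl) a]
  · intro V _ _ _ hV
    obtain ⟨s, -, hs⟩ := exists_isMulSS (isUnit_act (V := V) g)
    suffices s = HopfRep.Comod.act k A V gs by rwa [← this]
    refine LinearMap.ext fun v => ?_
    refine (Module.forall_dual_apply_eq_zero_iff k _).1 (fun f => ?_) |> sub_eq_zero.1
    let c := cf (k := k) (A := A) (V := V) f
    have hc : ∀ (h : A →ₐ[k] k) (x : V),
        c (HopfRep.Comod.act k A V h x) = HopfRep.Comod.act k A A h (c x) :=
      fun h x => IsComodHom.dact (isComodHom_cf f) h.toLinearMap x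
    have hW : ∀ x ∈ LinearMap.range c, R x ∈ LinearMap.range c := by
      rintro _ ⟨z, rfl⟩
      exact ⟨_, hc g z⟩
    obtain ⟨t, -, ht⟩ := exists_isMulSS (isUnit_restrict R hR hW)
    have e := congrArg Subtype.val
      (hs.intertwine ht (φ := c.rangeRestrict) (fun z => Subtype.ext (hc g z)) v)
    have e' : c (s v) = c (HopfRep.Comod.act k A V gs v) := by
      rw [hc, hgs]
      exact e.trans (hσ _ hW t ht (c.rangeRestrict v)).symm
    rw [map_sub, ← counit_cf (A := A) f (s v), ← counit_cf (A := A) f (HopfRep.Comod.act k A V gs v)]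
    exact sub_eq_zero.2 (congrArg _ e')

end Groth.Agent.Comod33
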