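import Groth.Agent.Comod33.Units
import Groth.Agent.Comod33.PointJordan
import Mathlib.RingTheory.HopfAlgebra.Convolution
import Mathlib.GroupTheory.Solvable

/-!
Connected sets of points of a reduced connected affine group, and regular words in points.
-/

universe u v w

open TensorProduct WithConv
open scoped commutatorElement

noncomputable section

namespace Groth.Agent.Comod33.Conn

variable {k : Type u} [Field k] {A : Type v} [CommRing A] [HopfAlgebra k A]

variable (k A) in
/-- points with values in the coordinate ring -/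
abbrev GA := WithConv (A →ₐ[k] A)

variable (k A) in
/-- rational points -/
abbrev Pt := WithConv (A →ₐ[k] k)

/-- specialisation of a point over the coordinate ring -/
def push (x : Pt k A) : GA k A →* Pt k A where
  toFun w := toConv (x.ofConv.comp w.ofConv)
  map_one' := by
    apply WithConv.ofConv_injective
    refine AlgHom.ext fun a => ?_
    show x.ofConv (algebraMap k A (CoalgebraStruct.counit (R := k) a)) = _
    rw [AlgHom.commutes]
    rfl
  map_mul' a b := by
    apply WithConv.ofConv_injective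
    refine AlgHom.ext fun f => ?_
    show x.ofConv ((Algebra.TensorProduct.lmul' k).comp
      (Algebra.TensorProduct.map a.ofConv b.ofConv) (CoalgebraStruct.comul (R := k) f)) =
      (Algebra.TensorProduct.lmul' k).comp (Algebra.TensorProduct.map (x.ofConv.comp a.ofConv)
        (x.ofConv.comp b.ofConv)) (CoalgebraStruct.comul (R := k) f)
    generalize CoalgebraStruct.comul (R := k) f = z
    induction z with
    | zero => simp
    | tmul p q => simp
    | add p q hp hq => simp only [map_add, hp, hq]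

theorem push_apply (x : Pt k A) (w : GA k A) (f : A) :
    (push x w).ofConv f = x.ofConv (w.ofConv f) := rfl

variable (k A) in
/-- the generic point -/
def gen : GA k A := toConv (AlgHom.id k A)

theorem push_gen (x : Pt k A) : push x (gen k A) = x := rfl

/-- a constant point -/
def const (y : Pt k A) : GA k A := toConv ((Algebra.ofId k A).comp y.ofConv)

theorem push_const (x y : Pt k A) : push x (const y) = y := by
  apply WithConv.ofConv_injective
  refine AlgHom.ext fun f => ?_
  show x.ofConv (algebraMap k A (y.ofConv f)) = _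
  rw [AlgHom.commutes]
  rfl

/-- a connected set of points: regular functions with finitely many values on it are constant -/
def IsConn (S : Set (Pt k A)) : Prop :=
  (1 : Pt k A) ∈ S ∧ ∀ f : A, ((fun g : Pt k A => g.ofConv f) '' S).Finite →
    ∀ g ∈ S, g.ofConv f = CoalgebraStruct.counit (R := k) f

/-- a regular word with finitely many values at `f` takes the value of the identity -/
theorem IsConn.word {S : Set (Pt k A)} (hS : IsConn S) (w : GA k A) (f : A)
    (hfin : ((fun g : Pt k A => (push g w).ofConv f) '' S).Finite) {x : Pt k A} (hx : x ∈ S) :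
    (push x w).ofConv f = (push 1 w).ofConv f := by
  have h := hS.2 (w.ofConv f) hfin x hx
  rw [push_apply, h, push_apply]
  rfl

theorem IsConn.mul {S T : Set (Pt k A)} (hS : IsConn S) (hT : IsConn T) :
    IsConn {g : Pt k A | ∃ x ∈ S, ∃ y ∈ T, x * y = g} := by
  refine ⟨⟨1, hS.1, 1, hT.1, one_mul 1⟩, ?_⟩
  rintro f hfin _ ⟨x, hx, y, hy, rfl⟩
  have h1 := hS.word (gen k A * const y) f (hfin.subset (by
    rintro _ ⟨g, hg, rfl⟩
    exact ⟨g * y, ⟨g, hg, y, hy, rfl⟩, by simp [map_mul, push_gen, push_const]⟩)) hx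
  simp only [map_mul, push_gen, push_const, one_mul] at h1
  rw [h1]
  exact hT.2 f (hfin.subset (by
    rintro _ ⟨g, hg, rfl⟩
    exact ⟨g, ⟨1, hS.1, g, hg, one_mul g⟩, rfl⟩)) y hy

theorem IsConn.inv {S : Set (Pt k A)} (hS : IsConn S) :
    IsConn {g : Pt k A | ∃ x ∈ S, x⁻¹ = g} := by
  refine ⟨⟨1, hS.1, inv_one⟩, ?_⟩
  rintro f hfin _ ⟨x, hx, rfl⟩
  have h1 := hS.word (gen k A)⁻¹ f (hfin.subset (by
    rintro _ ⟨g, hg, rfl⟩
    exact ⟨g⁻¹, ⟨g, hg, rfl⟩, by simp [map_inv, push_gen]⟩)) hx
  simp only [map_inv, push_gen, inv_one] at h1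
  rw [h1]
  rfl

theorem IsConn.commutators {S T : Set (Pt k A)} (hS : IsConn S) (hT : IsConn T) :
    IsConn {g : Pt k A | ∃ x ∈ S, ∃ y ∈ T, ⁅x, y⁆ = g} := by
  refine ⟨⟨1, hS.1, 1, hT.1, commutatorElement_one_left 1⟩, ?_⟩
  rintro f hfin _ ⟨x, hx, y, hy, rfl⟩
  have h1 := hS.word ⁅gen k A, const y⁆ f (hfin.subset (by
    rintro _ ⟨g, hg, rfl⟩
    exact ⟨⁅g, y⁆, ⟨g, hg, y, hy, rfl⟩, by simp [map_commutatorElement, push_gen, push_const]⟩)) hx
  simp only [map_commutatorElement, push_gen, push_const, commutatorElement_one_left] at h1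
  rw [h1]
  rfl

theorem IsConn.closure {S : Set (Pt k A)} (hS : IsConn S) :
    IsConn (Subgroup.closure S : Set (Pt k A)) := by
  have key : ∀ g ∈ Subgroup.closure S, ∃ T, IsConn T ∧ g ∈ T ∧ T ⊆ (Subgroup.closure S : Set (Pt k A)) := by
    intro g hg
    induction hg using Subgroup.closure_induction with
    | mem x hx => exact ⟨S, hS, hx, Subgroup.subset_closure⟩
    | one => exact ⟨S, hS, hS.1, Subgroup.subset_closure⟩
    | mul a b _ _ ha hb =>
      obtain ⟨T, hT, ha, hTs⟩ := ha
      obtain ⟨T', hT', hb, hTs'⟩ := hb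
      exact ⟨_, hT.mul hT', ⟨a, ha, b, hb, rfl⟩, by
        rintro _ ⟨x, hx, y, hy, rfl⟩; exact mul_mem (hTs hx) (hTs' hy)⟩
    | inv a _ ha =>
      obtain ⟨T, hT, ha, hTs⟩ := ha
      exact ⟨_, hT.inv, ⟨a, ha, rfl⟩, by rintro _ ⟨x, hx, rfl⟩; exact inv_mem (hTs hx)⟩
  refine ⟨one_mem _, fun f hfin g hg => ?_⟩
  obtain ⟨T, hT, hgT, hTs⟩ := key g hg
  exact hT.2 f (hfin.subset (Set.image_mono hTs)) g hgT

theorem IsConn.commutator {H K : Subgroup (Pt k A)} (hH : IsConn (H : Set (Pt k A)))
    (hK : IsConn (K : Set (Pt k A))) : IsConn ((⁅H, K⁆ : Subgroup (Pt k A)) : Set (Pt k A)) := by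
  rw [Subgroup.commutator_def]
  exact (hH.commutators hK).closure

section Alg

variable [IsAlgClosed k] [Algebra.FiniteType k A] [IsReduced A]

/-- a regular function vanishing at every rational point is zero -/
theorem eq_zero_of_forall_point {a : A} (h : ∀ g : Pt k A, g.ofConv a = 0) : a = 0 := by
  haveI : IsJacobsonRing A := isJacobsonRing_of_finiteType (A := k)
  have h1 : a ∈ Ideal.jacobson (⊥ : Ideal A) := by
    rw [Ideal.jacobson, Ideal.mem_sInf]
    rintro J ⟨-, hJ⟩
    obtain ⟨γ, hγ⟩ := Aug.exists_point_ker (k := k) J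
    rw [hγ, RingHom.mem_ker]
    exact h (toConv γ)
  rwa [IsJacobsonRing.out' (⊥ : Ideal A) (Ideal.isRadical_bot_iff.2 inferInstance), Ideal.mem_bot] at h1

/-- all points of a connected reduced group form a connected set -/
theorem isConn_univ (hconn : ∀ e : A, IsIdempotentElem e → e = 0 ∨ e = 1) :
    IsConn (Set.univ : Set (Pt k A)) := by
  haveI : IsDomain A := Units.isDomain k hconn
  refine ⟨trivial, fun f hfin g _ => ?_⟩
  have h0 : ∏ c ∈ hfin.toFinset, (f - algebraMap k A c) = 0 :=
    eq_zero_of_forall_point (k := k) fun x => by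
      refine (map_prod x.ofConv _ _).trans ?_
      exact Finset.prod_eq_zero (i := x.ofConv f) (hfin.mem_toFinset.2 ⟨x, trivial, rfl⟩) (by simp)
  obtain ⟨c, -, hc⟩ := Finset.prod_eq_zero_iff.1 h0
  rw [sub_eq_zero.1 hc, AlgHom.commutes, Bialgebra.counit_algebraMap]
  rfl

theorem isConn_derivedSeries (hconn : ∀ e : A, IsIdempotentElem e → e = 0 ∨ e = 1) :
    ∀ i, IsConn ((derivedSeries (Pt k A) i : Subgroup (Pt k A)) : Set (Pt k A))
  | 0 => by rw [derivedSeries_zero, Subgroup.coe_top]; exact isConn_univ hconn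
  | i + 1 => by
    rw [derivedSeries_succ]
    exact (isConn_derivedSeries hconn i).commutator (isConn_derivedSeries hconn i)

end Alg

section Rep

variable {V : Type w} [AddCommGroup V] [Module k V] [HopfRep.Comod k A V]

theorem apply_cf (g : Pt k A) (φ : V →ₗ[k] k) (v : V) :
    g.ofConv (cf (A := A) φ v) = φ (actHom k A V g v) :=
  apply_lc g.ofConv.toLinearMap φ (HopfRep.Comod.coact (k := k) (A := A) v)

/-- a regular word with finitely many operator values is constant -/
theorem IsConn.act_word {S : Set (Pt k A)} (hS : IsConn S) (w : GA k A)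
    (hfin : ((fun g : Pt k A => actHom k A V (push g w)) '' S).Finite) {x : Pt k A} (hx : x ∈ S) :
    actHom k A V (push x w) = actHom k A V (push 1 w) := by
  refine LinearMap.ext fun v => ?_
  refine sub_eq_zero.1 ((Module.forall_dual_apply_eq_zero_iff k _).1 fun φ => ?_)
  rw [map_sub, sub_eq_zero, ← apply_cf, ← apply_cf]
  refine hS.word w (cf φ v) ((hfin.image fun T => φ (T v)).subset ?_) hx
  rintro _ ⟨g, hg, rfl⟩
  exact ⟨_, ⟨g, hg, rfl⟩, (apply_cf _ φ v).symm⟩

theorem IsConn.act_eq_one {S : Set (Pt k A)} (hS : IsConn S)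
    (hfin : (actHom k A V '' S).Finite) {x : Pt k A} (hx : x ∈ S) : actHom k A V x = 1 := by
  have := hS.act_word (V := V) (gen k A) (by simpa only [push_gen] using hfin) hx
  rwa [push_gen, push_gen, map_one] at this

theorem isSubcomod_of_forall_point [IsAlgClosed k] [Algebra.FiniteType k A] [IsReduced A]
    (U : Submodule k V) (h : ∀ g : Pt k A, ∀ u ∈ U, actHom k A V g u ∈ U) :
    HopfRep.IsSubcomod (k := k) (A := A) U := by
  rw [isSubcomod_iff]
  intro f u hu
  by_contra hne
  obtain ⟨φ, hφ, hle⟩ := Submodule.exists_le_ker_of_notMem hne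
  refine hφ ?_
  have h0 : cf (A := A) φ u = 0 := eq_zero_of_forall_point (k := k) fun g => by
    rw [apply_cf]; exact hle (h g u hu)
  rw [dact_apply, ← apply_lc, ← cf_apply, h0, map_zero]

end Rep

end Groth.Agent.Comod33.Conn
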