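import Groth.Agent.Comod33.Diag
import Mathlib.RingTheory.Bialgebra.TensorProduct
import Mathlib.RingTheory.HopfAlgebra.TensorProduct
import Mathlib.RingTheory.Flat.Basic

/-!
Primitive elements, cocommutativity and field extensions.
-/

universe u v w

open TensorProduct

noncomputable section

namespace Groth.Agent.Comod33.Diag

variable {k : Type u} [Field k] {K : Type w} [Field K] [Algebra k K]
variable {A : Type v} [CommRing A] [Bialgebra k A]

/-- the collapse `(K ⊗ M) ⊗[K] (K ⊗ M) ≃ K ⊗ (M ⊗ M)` -/
abbrev collapse : (K ⊗[k] A) ⊗[K] (K ⊗[k] A) ≃ₗ[K] K ⊗[k] (A ⊗[k] A) :=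
  (AlgebraTensorModule.distribBaseChange k K A A).symm

theorem collapse_comul (z : K ⊗[k] A) :
    collapse (CoalgebraStruct.comul (R := K) z) = (CoalgebraStruct.comul (R := k) (A := A)).lTensor K z := by
  induction z with
  | zero => simp
  | add x y hx hy => simp only [map_add, hx, hy]
  | tmul c a =>
    rw [LinearMap.lTensor_tmul]
    generalize hs : CoalgebraStruct.comul (R := k) a = s
    rw [show CoalgebraStruct.comul (R := K) (c ⊗ₜ[k] a) =
      AlgebraTensorModule.tensorTensorTensorComm k K k K K K A A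
        (((1 : K) ⊗ₜ[K] c) ⊗ₜ[k] s) from by rw [← hs]; rfl]
    clear hs
    induction s with
    | zero => simp
    | add x y hx hy => simp only [tmul_add, map_add, hx, hy]
    | tmul p q => simp

theorem collapse_tmul_one (z : K ⊗[k] A) :
    collapse (z ⊗ₜ[K] (1 : K ⊗[k] A)) = ((TensorProduct.mk k A A).flip 1).lTensor K z := by
  induction z with
  | zero => simp
  | add x y hx hy => simp only [add_tmul, map_add, hx, hy]
  | tmul c a => simp [Algebra.TensorProduct.one_def]

theorem collapse_one_tmul (z : K ⊗[k] A) :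
    collapse ((1 : K ⊗[k] A) ⊗ₜ[K] z) = (TensorProduct.mk k A A 1).lTensor K z := by
  induction z with
  | zero => simp
  | add x y hx hy => simp only [tmul_add, map_add, hx, hy]
  | tmul c a => simp [Algebra.TensorProduct.one_def]

variable (k A) in
/-- `a ↦ Δ a - a ⊗ 1 - 1 ⊗ a` -/
def primDefect : A →ₗ[k] A ⊗[k] A :=
  CoalgebraStruct.comul - (TensorProduct.mk k A A).flip 1 - TensorProduct.mk k A A 1

theorem isPrim_iff {f : A} : IsPrim (k := k) f ↔ primDefect k A f = 0 := by
  simp [IsPrim, primDefect, sub_sub, sub_eq_zero]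

theorem isPrim_bc_iff {z : K ⊗[k] A} :
    IsPrim (k := K) z ↔ (primDefect k A).lTensor K z = 0 := by
  rw [IsPrim, ← collapse.injective.eq_iff, map_add, collapse_comul, collapse_tmul_one,
    collapse_one_tmul, primDefect, LinearMap.lTensor_sub, LinearMap.lTensor_sub, LinearMap.sub_apply,
    LinearMap.sub_apply, sub_sub, sub_eq_zero]

theorem tmul_one_injective : Function.Injective fun a : A => (1 : K) ⊗ₜ[k] a :=
  Algebra.TensorProduct.includeRight_injective (algebraMap k K).injective

theorem isPrim_one_tmul {f : A} (hf : IsPrim (k := k) f) : IsPrim (k := K) ((1 : K) ⊗ₜ[k] f) := by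
  rw [isPrim_bc_iff, LinearMap.lTensor_tmul, isPrim_iff.1 hf, tmul_zero]

theorem no_prim_baseChange (h : ∀ f : A, IsPrim (k := k) f → f = 0) (z : K ⊗[k] A)
    (hz : IsPrim (k := K) z) : z = 0 := by
  have hinj : Function.Injective (primDefect k A) := (injective_iff_map_eq_zero _).2 fun f hf =>
    h f (isPrim_iff.2 hf)
  exact Module.Flat.lTensor_preserves_injective_linearMap (M := K) _ hinj
    ((isPrim_bc_iff.1 hz).trans (map_zero _).symm)

theorem no_prim_descend (h : ∀ z : K ⊗[k] A, IsPrim (k := K) z → z = 0) {f : A}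
    (hf : IsPrim (k := k) f) : f = 0 :=
  tmul_one_injective (K := K) (k := k) <| by
    show (1 : K) ⊗ₜ[k] f = (1 : K) ⊗ₜ[k] (0 : A)
    rw [tmul_zero]
    exact h _ (isPrim_one_tmul hf)

theorem isCocomm_descend [Coalgebra.IsCocomm K (K ⊗[k] A)] : Coalgebra.IsCocomm k A := by
  have hc : ∀ t : (K ⊗[k] A) ⊗[K] (K ⊗[k] A),
      collapse (TensorProduct.comm K _ _ t) =
        (TensorProduct.comm k A A).toLinearMap.lTensor K (collapse t) := by
    intro t
    induction t with
    | zero => simp
    | add x y hx hy => simp only [map_add, hx, hy]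
    | tmul p q =>
      induction p with
      | zero => simp
      | add x y hx hy => simp only [add_tmul, tmul_add, map_add, hx, hy]
      | tmul c a =>
        induction q with
        | zero => simp
        | add x y hx hy => simp only [add_tmul, tmul_add, map_add, hx, hy]
        | tmul d b => simp [mul_comm]
  refine ⟨LinearMap.ext fun a => ?_⟩
  have h := congrArg collapse (Coalgebra.comm_comul K ((1 : K) ⊗ₜ[k] a))
  rw [hc, collapse_comul, LinearMap.lTensor_tmul, LinearMap.lTensor_tmul] at h
  haveI : Nontrivial K := inferInstance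
  obtain ⟨l, hl⟩ : ∃ l : K →ₗ[k] k, l 1 = 1 := Module.Projective.exists_dual_eq_one k one_ne_zero
  have h2 := congrArg (fun z => TensorProduct.lid k (A ⊗[k] A) (l.rTensor (A ⊗[k] A) z)) h
  simpa [hl] using h2

end Groth.Agent.Comod33.Diag
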