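import Groth.Agent.Comod33.Lattice
import Mathlib.LinearAlgebra.Dual.Basis
import Mathlib.LinearAlgebra.FiniteDimensional.Basic

/-!
Semisimplicity of all comodules from semisimplicity of the regular one.
-/

universe u v w

open TensorProduct

noncomputable section

namespace Groth.Agent.Comod33

variable {k : Type u} [Field k] {A : Type v} [AddCommGroup A] [Module k A] [Coalgebra k A]

local notation "Λ" => WithConv (A →ₗ[k] k)

theorem isSemisimple_of_regular [IsSemisimpleModule Λ A] (V : Type w) [AddCommGroup V] [Module k V]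
    [HopfRep.Comod k A V] : IsSemisimpleModule Λ V := by
  refine isSemisimpleModule_of_forall_gen fun v => ?_
  let S := toSub (gen (k := k) (A := A) v) (isSubcomod_gen v)
  letI := subComod S
  have hfin : Module.Finite k (S.restrictScalars k) := finite_gen v
  let b := Module.finBasis k (S.restrictScalars k)
  let f : ↥(S.restrictScalars k) →ₗ[Λ] (Fin (Module.finrank k (S.restrictScalars k)) → A) :=
    LinearMap.pi fun i => toDualLinear (A := A) _ (isComodHom_cf (A := A) (b.coord i))
  have hf : Function.Injective f := by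
    intro x y h
    refine b.ext_elem fun i => ?_
    have := congrArg (CoalgebraStruct.counit (R := k)) (congrFun h i)
    have hz : ∀ z, CoalgebraStruct.counit (R := k) (f z i) = b.coord i z := fun z => counit_cf (b.coord i) z
    rw [hz, hz] at this
    exact this
  have h1 : IsSemisimpleModule Λ ↥(S.restrictScalars k) :=
    IsSemisimpleModule.of_injective
      (M := Fin (Module.finrank k (S.restrictScalars k)) → A) (N := ↥(S.restrictScalars k)) f hf
  exact IsSemisimpleModule.congr (M := ↥(S.restrictScalars k)) (N := ↥S) (subComodEquiv S).symm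

theorem subcoalg_eq_isotypicComponent {D : Submodule k A} (h0 : D ≠ ⊥) (hD : IsSubcoalg D)
    (hs : ∀ B : Submodule k A, B ≤ D → IsSubcoalg B → B = ⊥ ∨ B = D) :
    ∃ S : Submodule Λ A, IsSimpleModule Λ S ∧
      D = (isotypicComponent Λ A S).restrictScalars k := by
  have hDsub := hD.isSubcomod
  have h0' : toSub D hDsub ≠ ⊥ := fun e => h0 (by rw [← restrictScalars_toSub D hDsub, e]; simp)
  obtain ⟨S, hS, hle⟩ := exists_sub_simple _ h0'
  letI := subComod S
  have hsimp := isSimpleComod_subComod S
  have := hsimp.1
  have hhom : Hoch.IsComodHom A ((S.restrictScalars k).subtype) := ComodSub.isComodHom_subtype _ _ _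
  have hcD : coeff k A ↥(S.restrictScalars k) ≤ D :=
    coeff_le_of_injective hD hhom (Submodule.injective_subtype _)
      (by rw [Submodule.range_subtype]; exact hle)
  refine ⟨S, hS, ?_⟩
  rw [← coeff_subComod_eq S]
  exact ((hs _ hcD isSubcoalg_coeff).resolve_left coeff_ne_bot).symm

theorem isSemisimple_regular_of_cosemisimple {ι : Type*} (D : ι → Submodule k A) (htop : iSup D = ⊤)
    (hD : ∀ i, D i ≠ ⊥ ∧ IsSubcoalg (D i) ∧
      ∀ B : Submodule k A, B ≤ D i → IsSubcoalg B → B = ⊥ ∨ B = D i) :
    IsSemisimpleModule Λ A := by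
  choose S hS hDS using fun i => subcoalg_eq_isotypicComponent (hD i).1 (hD i).2.1 (hD i).2.2
  refine isSemisimpleModule_of_isSemisimpleModule_submodule'
    (p := fun i => isotypicComponent Λ A (S i)) (fun i => ?_) ?_
  · have := hS i
    infer_instance
  · apply Submodule.restrictScalars_injective k
    rw [Submodule.restrictScalars_iSup, Submodule.restrictScalars_top, ← htop]
    exact iSup_congr fun i => (hDS i).symm

theorem cosemisimple_of_isSemisimple [IsSemisimpleModule Λ A] :
    ∃ (ι : Type v) (D : ι → Submodule k A), iSupIndep D ∧ iSup D = ⊤ ∧ ∀ i,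
      D i ≠ ⊥ ∧ IsSubcoalg (D i) ∧
        ∀ B : Submodule k A, B ≤ D i → IsSubcoalg B → B = ⊥ ∨ B = D i := by
  refine ⟨isotypicComponents Λ A, fun c => c.1.restrictScalars k, ?_, ?_, ?_⟩
  · exact iSupIndep_restrictScalars ((sSupIndep_iff _).1 (sSupIndep_isotypicComponents _ _))
  · rw [iSup_restrictScalars, ← sSup_eq_iSup', sSup_isotypicComponents, Submodule.restrictScalars_top]
  · rintro ⟨c, S, hS, rfl⟩
    letI := subComod S
    have hsimp := isSimpleComod_subComod S
    have := hsimp.1
    show (isotypicComponent Λ A S).restrictScalars k ≠ ⊥ ∧ _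
    simp only [← coeff_subComod_eq S]
    exact ⟨coeff_ne_bot, isSubcoalg_coeff, fun B hle hB => isSimple_coeff hsimp B hle hB⟩

end Groth.Agent.Comod33
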