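import Groth.Agent.Comod33.Simple
import Mathlib.LinearAlgebra.Dual.Lemmas

/-!
Coefficient spaces of comodules over a field.
-/

universe u v w w'

open TensorProduct

noncomputable section

namespace Groth.Agent.Comod33

variable {k : Type u} [Field k] {A : Type v} [AddCommGroup A] [Module k A]
variable {V : Type w} [AddCommGroup V] [Module k V]
variable {W : Type w'} [AddCommGroup W] [Module k W]

/-- contraction of the left factor by a linear form -/
def lc (φ : V →ₗ[k] k) : V ⊗[k] A →ₗ[k] A :=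
  (TensorProduct.lid k A).toLinearMap ∘ₗ φ.rTensor A

@[simp] theorem lc_tmul (φ : V →ₗ[k] k) (v : V) (a : A) : lc φ (v ⊗ₜ[k] a) = φ v • a := by
  simp [lc]

theorem lc_lTensor {B : Type*} [AddCommGroup B] [Module k B] (φ : V →ₗ[k] k) (g : A →ₗ[k] B)
    (x : V ⊗[k] A) : lc φ (g.lTensor V x) = g (lc φ x) := by
  induction x with
  | zero => simp
  | tmul v a => simp
  | add x y hx hy => simp [map_add, hx, hy]

theorem lc_rTensor (φ : W →ₗ[k] k) (g : V →ₗ[k] W) (x : V ⊗[k] A) :
    lc φ (g.rTensor A x) = lc (φ ∘ₗ g) x := by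
  induction x with
  | zero => simp
  | tmul v a => simp
  | add x y hx hy => simp [map_add, hx, hy]

theorem mem_range_lTensor_iff (D : Submodule k A) (x : V ⊗[k] A) :
    x ∈ LinearMap.range (D.subtype.lTensor V) ↔ ∀ φ : V →ₗ[k] k, lc φ x ∈ D := by
  constructor
  · rintro ⟨y, rfl⟩ φ
    rw [lc_lTensor]
    exact (lc φ y).2
  · intro h
    have h2 : ∀ φ : V →ₗ[k] k, rc φ (TensorProduct.comm k V A x) = lc φ x := by
      intro φ
      clear h
      induction x with
      | zero => simp
      | tmul v a => simp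
      | add x y hx hy => simp [map_add, hx, hy]
    obtain ⟨y, hy⟩ := (mem_range_rTensor_iff D (TensorProduct.comm k V A x)).2 fun φ => (h2 φ).symm ▸ h φ
    refine ⟨TensorProduct.comm k D V y, ?_⟩
    apply (TensorProduct.comm k V A).injective
    rw [← hy]
    clear hy
    induction y with
    | zero => simp
    | tmul d v => simp
    | add p q hp hq => simp [map_add, hp, hq]

variable [Coalgebra k A] [HopfRep.Comod k A V] [HopfRep.Comod k A W]

/-- the matrix coefficient map of a linear form -/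
def cf (φ : V →ₗ[k] k) : V →ₗ[k] A := lc φ ∘ₗ HopfRep.Comod.coact (k := k) (A := A)

theorem cf_apply (φ : V →ₗ[k] k) (v : V) :
    cf (A := A) φ v = lc φ (HopfRep.Comod.coact (k := k) (A := A) v) := rfl

theorem comul_cf (φ : V →ₗ[k] k) (v : V) :
    CoalgebraStruct.comul (R := k) (cf (A := A) φ v) =
      (cf (A := A) φ).rTensor A (HopfRep.Comod.coact (k := k) (A := A) v) := by
  rw [cf_apply, ← lc_lTensor, ← coassoc_apply, cf, LinearMap.rTensor_comp, LinearMap.comp_apply]
  generalize (HopfRep.Comod.coact (k := k) (A := A)).rTensor A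
    (HopfRep.Comod.coact (k := k) (A := A) v) = y
  induction y with
  | zero => simp
  | tmul x a =>
    induction x with
    | zero => simp
    | tmul p q => simp [TensorProduct.smul_tmul']
    | add p q hp hq => rw [add_tmul, map_add, map_add, map_add, hp, hq]
  | add p q hp hq => simp [map_add, hp, hq]

theorem isComodHom_cf (φ : V →ₗ[k] k) : Hoch.IsComodHom A (cf (A := A) φ) :=
  LinearMap.ext (comul_cf φ)

theorem counit_cf (φ : V →ₗ[k] k) (v : V) :
    CoalgebraStruct.counit (R := k) (cf (A := A) φ v) = φ v := by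
  rw [cf_apply, ← lc_lTensor, counit_apply, lc_tmul, smul_eq_mul, mul_one]

theorem cf_comp {ψ : V →ₗ[k] W} (hψ : Hoch.IsComodHom A ψ) (φ : W →ₗ[k] k) (v : V) :
    cf (A := A) φ (ψ v) = cf (A := A) (φ ∘ₗ ψ) v := by
  have := LinearMap.congr_fun hψ v
  simp only [LinearMap.comp_apply] at this
  rw [cf_apply, this, lc_rTensor, cf_apply]

variable (k A V) in
/-- the coefficient space of a comodule -/
def coeff : Submodule k A := ⨆ φ : V →ₗ[k] k, LinearMap.range (cf (A := A) φ)

theorem cf_mem_coeff (φ : V →ₗ[k] k) (v : V) : cf (A := A) φ v ∈ coeff k A V :=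
  Submodule.mem_iSup_of_mem φ ⟨v, rfl⟩

theorem coeff_le_iff (D : Submodule k A) :
    coeff k A V ≤ D ↔
      ∀ v : V, HopfRep.Comod.coact (k := k) (A := A) v ∈ LinearMap.range (D.subtype.lTensor V) := by
  simp only [coeff, iSup_le_iff, mem_range_lTensor_iff]
  constructor
  · exact fun h v φ => h φ ⟨v, rfl⟩
  · rintro h φ _ ⟨v, rfl⟩; exact h v φ

theorem coact_mem_coeff (v : V) :
    HopfRep.Comod.coact (k := k) (A := A) v ∈ LinearMap.range ((coeff k A V).subtype.lTensor V) :=
  (coeff_le_iff _).1 le_rfl v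

theorem isLeast_coeff :
    IsLeast {D' : Submodule k A |
      ∀ e : V, HopfRep.Comod.coact (k := k) (A := A) e ∈ LinearMap.range (LinearMap.lTensor V D'.subtype)}
      (coeff k A V) :=
  ⟨coact_mem_coeff, fun _ h => (coeff_le_iff _).2 h⟩

theorem eq_coeff_of_isLeast {D : Submodule k A}
    (hD : IsLeast {D' : Submodule k A |
      ∀ e : V, HopfRep.Comod.coact (k := k) (A := A) e ∈ LinearMap.range (LinearMap.lTensor V D'.subtype)} D) :
    D = coeff k A V := hD.unique isLeast_coeff

/-- subcoalgebra predicate in the form used by the statements -/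
def IsSubcoalg (B : Submodule k A) : Prop :=
  ∀ b ∈ B, CoalgebraStruct.comul (R := k) b ∈ LinearMap.range (TensorProduct.map B.subtype B.subtype)

omit [Coalgebra k A] [HopfRep.Comod k A V] [HopfRep.Comod k A W] in
theorem range_map_subtype_le_right (U : Submodule k V) (D : Submodule k A) :
    LinearMap.range (TensorProduct.map U.subtype D.subtype) ≤ LinearMap.range (U.subtype.rTensor A) := by
  rintro _ ⟨x, rfl⟩
  exact ⟨D.subtype.lTensor U x, by rw [← LinearMap.comp_apply, LinearMap.rTensor_comp_lTensor]⟩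

omit [Coalgebra k A] [HopfRep.Comod k A V] [HopfRep.Comod k A W] in
theorem range_map_subtype_le_left (U : Submodule k V) (D : Submodule k A) :
    LinearMap.range (TensorProduct.map U.subtype D.subtype) ≤ LinearMap.range (D.subtype.lTensor V) := by
  rintro _ ⟨x, rfl⟩
  exact ⟨U.subtype.rTensor D x, by rw [← LinearMap.comp_apply, LinearMap.lTensor_comp_rTensor]⟩

omit [Coalgebra k A] [HopfRep.Comod k A V] [HopfRep.Comod k A W] in
theorem mem_range_map_subtype {U : Submodule k V} {D : Submodule k A} {x : V ⊗[k] A}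
    (h1 : x ∈ LinearMap.range (U.subtype.rTensor A)) (h2 : x ∈ LinearMap.range (D.subtype.lTensor V)) :
    x ∈ LinearMap.range (TensorProduct.map U.subtype D.subtype) := by
  obtain ⟨y, rfl⟩ := h1
  have h3 : y ∈ LinearMap.range (D.subtype.lTensor U) := by
    rw [mem_range_lTensor_iff] at h2 ⊢
    intro φ
    obtain ⟨ψ, hψ⟩ := LinearMap.exists_extend φ
    have := h2 ψ
    rwa [lc_rTensor, hψ] at this
  obtain ⟨z, rfl⟩ := h3
  exact ⟨z, by rw [← LinearMap.comp_apply, LinearMap.rTensor_comp_lTensor]⟩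

theorem IsSubcoalg.isSubcomod {B : Submodule k A} (hB : IsSubcoalg B) :
    HopfRep.IsSubcomod (k := k) (A := A) B :=
  fun b hb => range_map_subtype_le_right B B (hB b hb)

theorem isSubcoalg_coeff : IsSubcoalg (coeff k A V) := by
  intro b hb
  induction hb using Submodule.iSup_induction' with
  | mem φ x hx =>
    obtain ⟨v, rfl⟩ := hx
    rw [comul_cf]
    obtain ⟨y, hy⟩ := coact_mem_coeff (k := k) (A := A) v
    refine ⟨(LinearMap.codRestrict (coeff k A V) (cf (A := A) φ) (cf_mem_coeff φ)).rTensor _ y, ?_⟩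
    rw [← hy, ← LinearMap.comp_apply, ← LinearMap.comp_apply ((cf (A := A) φ).rTensor A),
      LinearMap.map_comp_rTensor, LinearMap.rTensor_comp_lTensor]
    rfl
  | zero => simp
  | add x y _ _ hx hy => rw [map_add]; exact Submodule.add_mem _ hx hy

theorem coeff_eq_of_iso (e : V ≃ₗ[k] W) (he : Hoch.IsComodHom A (e : V →ₗ[k] W)) :
    coeff k A V = coeff k A W := by
  apply le_antisymm
  · refine iSup_le fun φ => ?_
    rintro _ ⟨v, rfl⟩
    have := cf_comp (A := A) (isComodHom_symm e he) φ (e v)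
    simp only [LinearEquiv.coe_coe, LinearEquiv.symm_apply_apply] at this
    rw [this]
    exact cf_mem_coeff _ _
  · refine iSup_le fun φ => ?_
    rintro _ ⟨w, rfl⟩
    have := cf_comp (A := A) he φ (e.symm w)
    simp only [LinearEquiv.coe_coe, LinearEquiv.apply_symm_apply] at this
    rw [this]
    exact cf_mem_coeff _ _

theorem range_le_coeff {f : V →ₗ[k] A} (hf : Hoch.IsComodHom A f) :
    LinearMap.range f ≤ coeff k A V := by
  rintro _ ⟨v, rfl⟩
  have h1 : cf (A := A) (CoalgebraStruct.counit (R := k) (A := A) ∘ₗ f) v = f v := by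
    rw [← cf_comp (A := A) hf, cf_apply]
    show lc _ (CoalgebraStruct.comul (R := k) (f v)) = _
    simp [lc, Coalgebra.rTensor_counit_comul]
  exact h1 ▸ cf_mem_coeff _ _

theorem exists_cf_ne_zero {v : V} (hv : v ≠ 0) : ∃ φ : V →ₗ[k] k, cf (A := A) φ v ≠ 0 := by
  obtain ⟨φ, hφ⟩ : ∃ φ : Module.Dual k V, φ v ≠ 0 := by
    by_contra h
    push_neg at h
    exact hv ((Module.forall_dual_apply_eq_zero_iff k v).1 h)
  exact ⟨φ, fun h => hφ (by rw [← counit_cf (A := A) φ v, h, map_zero])⟩

theorem coeff_ne_bot [Nontrivial V] : coeff k A V ≠ ⊥ := by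
  obtain ⟨v, hv⟩ := exists_ne (0 : V)
  obtain ⟨φ, hφ⟩ := exists_cf_ne_zero (k := k) (A := A) hv
  exact fun h => hφ ((Submodule.mem_bot k).1 (h ▸ cf_mem_coeff φ v))

end Groth.Agent.Comod33
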