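import Groth.Agent.Comod33.Reductive
import Groth.Agent.Comod33.Chevalley
import Groth.Agent.Comod33.Points
import Groth.Agent.Comod33.Semisimple
import Groth.Prelude.Def_ComodSub
import Groth.Agent.S3272
import Mathlib.RingTheory.Coalgebra.GroupLike
import Mathlib.LinearAlgebra.Eigenspace.Triangularizable

/-!
Diagonalizable groups: cocommutative Hopf algebras without primitive elements.
-/

universe u v w

open TensorProduct

noncomputable section

namespace Groth.Agent.Comod33.Diag

variable {k : Type u} [Field k] {A : Type v} [CommRing A]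

section Bialg

variable [Bialgebra k A]

/-- an element with `Δ f = f ⊗ 1 + 1 ⊗ f` -/
def IsPrim (f : A) : Prop :=
  CoalgebraStruct.comul (R := k) f = f ⊗ₜ[k] (1 : A) + (1 : A) ⊗ₜ[k] f

theorem counit_prim {f : A} (hf : IsPrim (k := k) f) : CoalgebraStruct.counit (R := k) f = 0 := by
  have h := congrArg (TensorProduct.lid k A) (Coalgebra.rTensor_counit_comul (R := k) f)
  rw [hf] at h
  simp only [map_add, LinearMap.rTensor_tmul, lid_tmul, Bialgebra.counit_one, one_smul,
    add_eq_right] at h
  have h2 := congrArg (CoalgebraStruct.counit (R := k)) h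
  rw [map_smul, map_zero, smul_eq_mul, Bialgebra.counit_one, mul_one] at h2
  exact h2

theorem dact_comm [Coalgebra.IsCocomm k A] {V : Type w} [AddCommGroup V] [Module k V]
    [HopfRep.Comod k A V] (f g : A →ₗ[k] k) (v : V) : dact f (dact g v) = dact g (dact f v) := by
  rw [dact_dact, dact_dact]
  congr 2
  simp only [LinearMap.convMul_def]
  ext a
  simp only [LinearMap.comp_apply]
  conv_lhs => rw [← Coalgebra.comm_comul k a]
  generalize CoalgebraStruct.comul (R := k) a = z
  induction z with
  | zero => simp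
  | tmul p q => simp [mul_comm]
  | add p q hp hq => simp only [map_add, hp, hq]

/-- every operator of the dual is locally killed by a split polynomial -/
def HasSplitActions (k : Type u) [Field k] (A : Type v) [CommRing A] [Bialgebra k A] (V : Type w)
    [AddCommGroup V] [Module k V] [HopfRep.Comod k A V] : Prop :=
  ∀ (f : A →ₗ[k] k) (v : V), ∃ P : Polynomial k, P ≠ 0 ∧ P.Splits ∧
    Polynomial.aeval (dact f : Module.End k V) P v = 0

omit [Bialgebra k A] in
theorem aeval_restrict_apply {V : Type w} [AddCommGroup V] [Module k V] {E : Submodule k V}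
    (T : Module.End k V) (hst : ∀ x ∈ E, T x ∈ E) (P : Polynomial k) (x : E) :
    ((Polynomial.aeval (T.restrict hst : Module.End k E) P) x : V) = Polynomial.aeval T P (x : V) := by
  induction P using Polynomial.induction_on generalizing x with
  | C a => simp
  | add p q hp hq => simp [map_add, hp, hq]
  | monomial n a h =>
    have e : Polynomial.C a * Polynomial.X ^ (n + 1) = Polynomial.C a * Polynomial.X ^ n * Polynomial.X := by
      ring
    simp only [e, map_mul, Polynomial.aeval_X, Module.End.mul_apply] at h ⊢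
    rw [h (T.restrict hst x)]
    rfl

theorem exists_eigen_of_split [Coalgebra.IsCocomm k A] {V : Type w} [AddCommGroup V]
    [Module k V] [HopfRep.Comod k A V] [Nontrivial V] (hsp : HasSplitActions k A V) :
    ∃ (v : V) (g : A), v ≠ 0 ∧ IsGroupLikeElem k g ∧
      HopfRep.Comod.coact (k := k) (A := A) v = v ⊗ₜ[k] g := by
  obtain ⟨E, -, hE0, hE, hEf, hmin⟩ := exists_minimal_subcomod (k := k) (A := A) (⊤ : Submodule k V)
    top_ne_bot isSubcomod_top
  haveI := hEf
  have hst : ∀ (f : A →ₗ[k] k), ∀ x ∈ E, dact f x ∈ E := (isSubcomod_iff E).1 hE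
  obtain ⟨v, hvE, hv⟩ := (Submodule.ne_bot_iff E).1 hE0
  have hscal : ∀ f : A →ₗ[k] k, ∃ μ : k, ∀ x ∈ E, dact f x = μ • x := by
    intro f
    let T : Module.End k E := (dact f).restrict (hst f)
    obtain ⟨P, hP0, hPs, hP⟩ := hsp f v
    obtain ⟨μ, hμ⟩ : ∃ μ, Module.End.HasEigenvalue T μ := by
      by_contra hno
      push Not at hno
      have hunit : ∀ q : Polynomial k, Irreducible q → q ∣ P → IsUnit (Polynomial.aeval T q) := by
        intro q hq hqP
        obtain ⟨μ, hμ⟩ := (hPs.of_dvd hP0 hqP).exists_eval_eq_zero (by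
          rw [Polynomial.degree_eq_natDegree hq.ne_zero]
          exact_mod_cast (Irreducible.natDegree_pos hq).ne')
        have hassoc : Associated (Polynomial.X - Polynomial.C μ) q :=
          (Polynomial.irreducible_X_sub_C μ).associated_of_dvd hq (Polynomial.dvd_iff_isRoot.2 hμ)
        obtain ⟨u, hu⟩ := hassoc
        rw [← hu, map_mul]
        refine IsUnit.mul ?_ (u.isUnit.map _)
        rw [map_sub, Polynomial.aeval_X, Polynomial.aeval_C]
        rw [Module.End.isUnit_iff]
        have hinj : Function.Injective ⇑(T - algebraMap k (Module.End k E) μ) := by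
          rw [injective_iff_map_eq_zero]
          intro x hx
          by_contra hx0
          refine hno μ (Module.End.hasEigenvalue_of_hasEigenvector (x := x) ⟨?_, hx0⟩)
          rw [Module.End.mem_eigenspace_iff]
          rw [LinearMap.sub_apply, Module.algebraMap_end_apply, sub_eq_zero] at hx
          exact hx
        exact ⟨hinj, LinearMap.injective_iff_surjective.1 hinj⟩
      have hPu : IsUnit (Polynomial.aeval T P) := by
        clear hP hPs
        induction P using UniqueFactorizationMonoid.induction_on_prime with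
        | h₁ => exact absurd rfl hP0
        | h₂ q hq => exact hq.map _
        | h₃ q p hq hp ih =>
          rw [map_mul]
          exact (hunit p hp.irreducible (dvd_mul_right _ _)).mul
            (ih (right_ne_zero_of_mul hP0) fun r hr hrq => hunit r hr (dvd_mul_of_dvd_right hrq _))
      have h0 : Polynomial.aeval T P ⟨v, hvE⟩ = 0 := Subtype.ext (by
        rw [aeval_restrict_apply]; exact hP)
      exact hv (congrArg Subtype.val (((Module.End.isUnit_iff _).1 hPu).1 (h0.trans (map_zero _).symm)))
    obtain ⟨x, hx⟩ := hμ.exists_hasEigenvector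
    refine ⟨μ, ?_⟩
    let E' : Submodule k V := E ⊓ LinearMap.ker (dact f - μ • (LinearMap.id : V →ₗ[k] V))
    have hE' : HopfRep.IsSubcomod (k := k) (A := A) E' := (isSubcomod_iff E').2 fun g y hy => by
      refine ⟨hst g y hy.1, ?_⟩
      have h2 : dact f y - μ • y = 0 := hy.2
      show dact f (dact g y) - μ • dact g y = 0
      rw [dact_comm, ← map_smul, ← map_sub, h2, map_zero]
    rcases hmin E' inf_le_left hE' with h | h
    · exfalso
      refine hx.2 (Subtype.ext ((Submodule.mem_bot k).1 (h ▸ (⟨x.2, ?_⟩ : (x : V) ∈ E'))))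
      show dact f (x : V) - μ • (x : V) = 0
      rw [sub_eq_zero]
      exact congrArg Subtype.val hx.apply_eq_smul
    · intro y hy
      exact sub_eq_zero.1 ((h.symm ▸ hy : y ∈ E').2)
  obtain ⟨φ, hφ⟩ := Module.Projective.exists_dual_eq_one k hv
  have hcv : HopfRep.Comod.coact (k := k) (A := A) v = v ⊗ₜ[k] cf (A := A) φ v := by
    refine eq_of_rc fun f => ?_
    obtain ⟨μ, hμ⟩ := hscal f
    rw [rc_tmul, cf_apply, apply_lc, ← dact_apply, hμ v hvE, map_smul, hφ, smul_eq_mul, mul_one]
  refine ⟨v, cf (A := A) φ v, hv, ?_, hcv⟩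
  refine Mat.isGroupLike_of_eigen (BialgHom.id k A) hv (v := v) ?_
  rw [show (BialgHom.id k A).toLinearMap = LinearMap.id from rfl, LinearMap.lTensor_id]
  exact hcv

theorem hasSplitActions_of_isAlgClosed [IsAlgClosed k] (V : Type w) [AddCommGroup V] [Module k V]
    [HopfRep.Comod k A V] : HasSplitActions k A V := by
  intro f v
  let U := gen (k := k) (A := A) v
  let T : Module.End k U := (dact f).restrict ((isSubcomod_iff U).1 (isSubcomod_gen v) f)
  refine ⟨minpoly k T, minpoly.ne_zero (Algebra.IsIntegral.isIntegral T), IsAlgClosed.splits _, ?_⟩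
  have h := LinearMap.congr_fun (minpoly.aeval k T) ⟨v, mem_gen v⟩
  exact (aeval_restrict_apply _ _ _ _).symm.trans (congrArg Subtype.val h)

theorem isSubcomod_prim {f : A} (hf : IsPrim (k := k) f) :
    HopfRep.IsSubcomod (k := k) (A := A) (Submodule.span k {(1 : A), f}) := by
  have h1 : (1 : A) ∈ Submodule.span k {(1 : A), f} := Submodule.subset_span (by simp)
  have hfU : f ∈ Submodule.span k {(1 : A), f} := Submodule.subset_span (by simp)
  intro x hx
  induction hx using Submodule.span_induction with
  | mem y hy =>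
    rcases hy with rfl | rfl
    · exact ⟨⟨1, h1⟩ ⊗ₜ 1, by
        show _ = CoalgebraStruct.comul (R := k) (1 : A)
        simp [Bialgebra.comul_one, Algebra.TensorProduct.one_def]⟩
    · exact ⟨⟨y, hfU⟩ ⊗ₜ 1 + ⟨1, h1⟩ ⊗ₜ y, by rw [map_add]; exact hf.symm⟩
  | zero => rw [map_zero]; exact zero_mem _
  | add a b _ _ ha hb => rw [map_add]; exact add_mem ha hb
  | smul c a _ ha => rw [map_smul]; exact Submodule.smul_mem _ c ha

theorem no_prim_of_isLinearlyReductive (h : HopfRep.IsLinearlyReductive k A) {f : A}
    (hf : IsPrim (k := k) f) : f = 0 := by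
  let U : Submodule k A := Submodule.span k {(1 : A), f}
  have h1 : (1 : A) ∈ U := Submodule.subset_span (by simp)
  have hfU : f ∈ U := Submodule.subset_span (by simp)
  have hU : HopfRep.IsSubcomod (k := k) (A := A) U := isSubcomod_prim hf
  letI : HopfRep.Comod k A U := ComodSub.Comod.restr inferInstance U hU
  haveI : Module.Finite k U := Module.Finite.span_of_finite k (Set.toFinite _)
  have hsub : Hoch.IsComodHom A U.subtype := ComodSub.isComodHom_subtype _ _ _
  let L : Submodule k U := Submodule.span k {(⟨1, h1⟩ : U)}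
  have hd1 : ∀ g : A →ₗ[k] k, dact g (⟨1, h1⟩ : U) = g 1 • (⟨1, h1⟩ : U) := fun g => by
    refine Subtype.ext ((IsComodHom.dact hsub g _).trans ?_)
    show rc g (CoalgebraStruct.comul (R := k) (1 : A)) = g 1 • (1 : A)
    rw [Bialgebra.comul_one, Algebra.TensorProduct.one_def, rc_tmul]
  have hdf : ∀ g : A →ₗ[k] k, dact g (⟨f, hfU⟩ : U) = g 1 • (⟨f, hfU⟩ : U) + g f • (⟨1, h1⟩ : U) := fun g => by
    refine Subtype.ext ((IsComodHom.dact hsub g _).trans ?_)
    show rc g (CoalgebraStruct.comul (R := k) f) = g 1 • f + g f • (1 : A)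
    rw [show CoalgebraStruct.comul (R := k) f = _ from hf, map_add, rc_tmul, rc_tmul]
  have hL : HopfRep.IsSubcomod (k := k) (A := A) L := (isSubcomod_iff L).2 fun g x hx => by
    obtain ⟨c, rfl⟩ := Submodule.mem_span_singleton.1 hx
    rw [map_smul, hd1]
    exact L.smul_mem _ (L.smul_mem _ (Submodule.mem_span_singleton_self _))
  obtain ⟨C, hC, hcompl⟩ := h U inferInstance L hL
  obtain ⟨l, hl, c, hc, hlc⟩ := Submodule.mem_sup.1 (hcompl.sup_eq_top.ge (Submodule.mem_top (x := (⟨f, hfU⟩ : U))))
  obtain ⟨a, rfl⟩ := Submodule.mem_span_singleton.1 hl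
  have key : ∀ g : A →ₗ[k] k, g f • (⟨1, h1⟩ : U) = 0 := by
    intro g
    have h2 : dact g c - g 1 • c = g f • (⟨1, h1⟩ : U) := by
      rw [eq_sub_of_add_eq' hlc, map_sub, hdf, map_smul, hd1, smul_sub, smul_comm a]
      abel
    refine (Submodule.disjoint_def.1 hcompl.disjoint) _ (L.smul_mem _ (Submodule.mem_span_singleton_self _)) ?_
    rw [← h2]
    exact C.sub_mem ((isSubcomod_iff C).1 hC g c hc) (C.smul_mem _ hc)
  haveI : Nontrivial A := Bialgebra.nontrivial (R := k) (A := A)
  by_contra hne
  obtain ⟨g, hg⟩ := Module.Projective.exists_dual_eq_one k hne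
  have := congrArg Subtype.val (key g)
  simp [hg] at this

end Bialg

variable [HopfAlgebra k A]

theorem grouplike_mul_inv {g : A} (hg : IsGroupLikeElem k g) :
    HopfAlgebraStruct.antipode (R := k) g * g = 1 := by
  have h := HopfAlgebra.mul_antipode_rTensor_comul_apply (R := k) g
  rw [hg.comul_eq_tmul_self, hg.counit_eq_one, map_one] at h
  simpa using h

theorem grouplike_antipode {g : A} (hg : IsGroupLikeElem k g) :
    CoalgebraStruct.comul (R := k) (HopfAlgebraStruct.antipode (R := k) g) =
      HopfAlgebraStruct.antipode (R := k) g ⊗ₜ[k] HopfAlgebraStruct.antipode (R := k) g := by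
  set s := HopfAlgebraStruct.antipode (R := k) g
  have hs : s * g = 1 := grouplike_mul_inv hg
  calc CoalgebraStruct.comul (R := k) s = CoalgebraStruct.comul (R := k) s * ((g ⊗ₜ g) * (s ⊗ₜ s)) := by
        rw [Algebra.TensorProduct.tmul_mul_tmul, mul_comm g, hs, ← Algebra.TensorProduct.one_def, mul_one]
    _ = CoalgebraStruct.comul (R := k) (s * g) * (s ⊗ₜ s) := by
        rw [Bialgebra.comul_mul, hg.comul_eq_tmul_self, mul_assoc]
    _ = s ⊗ₜ s := by rw [hs, Bialgebra.comul_one, one_mul]

variable (k A) in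
/-- the span of the group-like elements -/
abbrev gspan : Submodule k A := Submodule.span k {a : A | IsGroupLikeElem k a}

theorem skew_mem_gspan [Coalgebra.IsCocomm k A]
    (hprim : ∀ f : A, IsPrim (k := k) f → f = 0) {g h a : A} (hg : IsGroupLikeElem k g)
    (hh : IsGroupLikeElem k h)
    (ha : CoalgebraStruct.comul (R := k) a = a ⊗ₜ[k] g + h ⊗ₜ[k] a) : a ∈ gspan k A := by
  set s := HopfAlgebraStruct.antipode (R := k) g
  have hs : s * g = 1 := grouplike_mul_inv hg
  let y := a * s
  let χ := h * s
  have hy : CoalgebraStruct.comul (R := k) y = y ⊗ₜ[k] (1 : A) + χ ⊗ₜ[k] y := by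
    rw [Bialgebra.comul_mul, ha, grouplike_antipode hg, add_mul,
      Algebra.TensorProduct.tmul_mul_tmul, Algebra.TensorProduct.tmul_mul_tmul, mul_comm g, hs]
  have hga : a = g * y := by
    show a = g * (a * s)
    rw [mul_comm a, ← mul_assoc, mul_comm g, hs, one_mul]
  by_cases hχ : χ = 1
  · rw [hχ] at hy
    rw [hga, hprim y hy, mul_zero]
    exact zero_mem _
  have hgh : g * χ = h := by
    show g * (h * s) = h
    rw [mul_comm h, ← mul_assoc, mul_comm g, hs, one_mul]
  have hsym : y ⊗ₜ[k] ((1 : A) - χ) = ((1 : A) - χ) ⊗ₜ[k] y := by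
    have h2 := Coalgebra.comm_comul k y
    rw [hy, map_add, TensorProduct.comm_tmul, TensorProduct.comm_tmul] at h2
    rw [tmul_sub, sub_tmul, sub_eq_sub_iff_add_eq_add, add_comm _ (y ⊗ₜ[k] χ), ← h2]
    exact add_comm _ _
  obtain ⟨φ, hφ⟩ := Module.Projective.exists_dual_eq_one k (sub_ne_zero.2 (Ne.symm hχ))
  have h3 := congrArg (rc φ) hsym
  rw [rc_tmul, rc_tmul, hφ, one_smul] at h3
  rw [hga, h3, mul_smul_comm, mul_sub, mul_one, hgh]
  exact Submodule.smul_mem _ _ (Submodule.sub_mem _ (Submodule.subset_span hg) (Submodule.subset_span hh))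

theorem isDiagonalizable_of_no_prim_of_split [Coalgebra.IsCocomm k A] (hsp : HasSplitActions k A A)
    (hprim : ∀ f : A, IsPrim (k := k) f → f = 0) : HopfRep.IsDiagonalizable k A := by
  classical
  show gspan k A = ⊤
  by_contra hne
  set S := gspan k A
  have hS : HopfRep.IsSubcomod (k := k) (A := A) S := by
    intro x hx
    induction hx using Submodule.span_induction with
    | mem y hy => exact ⟨⟨y, Submodule.subset_span hy⟩ ⊗ₜ y, by rw [LinearMap.rTensor_tmul]; exact hy.comul_eq_tmul_self.symm⟩
    | zero => rw [map_zero]; exact zero_mem _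
    | add a b _ _ ha hb => rw [map_add]; exact add_mem ha hb
    | smul c a _ ha => rw [map_smul]; exact Submodule.smul_mem _ c ha
  letI : HopfRep.Comod k A (A ⧸ S) := ComodSub.Comod.quot (HopfRep.Comod.regular k A) S hS
  haveI : Nontrivial (A ⧸ S) := Submodule.Quotient.nontrivial_iff.2 hne
  have hsq : HasSplitActions k A (A ⧸ S) := by
    intro f q
    obtain ⟨a, rfl⟩ := S.mkQ_surjective q
    obtain ⟨P, hP0, hPs, hP⟩ := hsp f a
    refine ⟨P, hP0, hPs, ?_⟩
    have hmk : Hoch.IsComodHom A S.mkQ := ComodSub.isComodHom_mkQ _ S hS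
    have key : ∀ (Q : Polynomial k) (b : A), S.mkQ (Polynomial.aeval (dact f : Module.End k A) Q b) =
        Polynomial.aeval (dact f : Module.End k (A ⧸ S)) Q (S.mkQ b) := by
      intro Q
      induction Q using Polynomial.induction_on with
      | C c => intro b; simp
      | add p q hp hq => intro b; simp [map_add, hp, hq]
      | monomial n c h =>
        intro b
        have e : Polynomial.C c * Polynomial.X ^ (n + 1) = Polynomial.C c * Polynomial.X ^ n * Polynomial.X := by
          ring
        simp only [e, map_mul, Polynomial.aeval_X, Module.End.mul_apply] at h ⊢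
        rw [h (dact f b), IsComodHom.dact hmk f b]
    rw [← key, hP, map_zero]
  obtain ⟨v, g, hv, hg, hvg⟩ := exists_eigen_of_split hsq
  obtain ⟨x, rfl⟩ := S.mkQ_surjective v
  refine hv ((Submodule.Quotient.mk_eq_zero S).2 ?_)
  have hd : CoalgebraStruct.comul (R := k) x - x ⊗ₜ[k] g ∈ LinearMap.range (S.subtype.rTensor A) := by
    rw [mem_range_rTensor_iff]
    intro f
    rw [← Submodule.Quotient.mk_eq_zero S, ← Submodule.mkQ_apply, ← rc_rTensor, map_sub,
      LinearMap.rTensor_tmul]
    rw [show S.mkQ.rTensor A (CoalgebraStruct.comul (R := k) x) = S.mkQ x ⊗ₜ[k] g from hvg, sub_self,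
      map_zero]
  -- expand in the basis of group-like elements
  let G := {a : A // IsGroupLikeElem k a}
  have hli : LinearIndependent k (fun g : G => g.1) := linearIndepOn_isGroupLikeElem (R := k) (A := A)
  let b : Module.Basis G k S := (Module.Basis.span hli).map (LinearEquiv.ofEq _ _ (by
    rw [show Set.range (fun g : G => g.1) = {a : A | IsGroupLikeElem k a} from Subtype.range_coe]))
  have hb : ∀ i, (b i : A) = i.1 := fun i => by simp [b, Module.Basis.span_apply]
  obtain ⟨y, hy⟩ := hd
  obtain ⟨c, hc⟩ : ∃ c : G →₀ A, CoalgebraStruct.comul (R := k) x - x ⊗ₜ[k] g =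
      c.sum fun i a => i.1 ⊗ₜ[k] a := by
    refine ⟨TensorProduct.equivFinsuppOfBasisLeft b y, ?_⟩
    rw [← hy]
    conv_lhs => rw [← (TensorProduct.equivFinsuppOfBasisLeft b).symm_apply_apply y,
      TensorProduct.equivFinsuppOfBasisLeft_symm_apply, map_finsuppSum]
    simp [hb]
  have hexp : CoalgebraStruct.comul (R := k) x = x ⊗ₜ[k] g + ∑ i ∈ c.support, i.1 ⊗ₜ[k] c i := by
    rw [eq_add_of_sub_eq' hc]; rfl
  have hco := Coalgebra.coassoc_apply (R := k) x
  simp only [hexp, map_add, map_sum, LinearMap.rTensor_tmul, LinearMap.lTensor_tmul, add_tmul,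
    sum_tmul, assoc_tmul, hg.comul_eq_tmul_self,
    fun i : G => i.2.comul_eq_tmul_self] at hco
  rw [add_assoc, add_right_inj, ← Finset.sum_add_distrib] at hco
  have hskew : ∀ i, CoalgebraStruct.comul (R := k) (c i) = c i ⊗ₜ[k] g + i.1 ⊗ₜ[k] c i := by
    intro i
    by_cases hi : i ∈ c.support
    · obtain ⟨ψ, hψ⟩ : ∃ ψ : A →ₗ[k] k, ∀ j : G, ψ j.1 = if j = i then 1 else 0 := by
        obtain ⟨ψ, hψ⟩ := LinearMap.exists_extend (b.coord i)
        refine ⟨ψ, fun j => ?_⟩
        have := LinearMap.congr_fun hψ (b j)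
        rw [LinearMap.comp_apply, Submodule.subtype_apply, hb] at this
        rw [this, Module.Basis.coord_apply, b.repr_self, Finsupp.single_apply]
      have h2 := congrArg (lc (A := A ⊗[k] A) ψ) hco
      simp only [map_sum, map_add, lc_tmul, hψ, ite_smul, one_smul, zero_smul, Finset.sum_add_distrib] at h2
      rw [Finset.sum_eq_single i, Finset.sum_eq_single i, Finset.sum_eq_single i] at h2
      · simp only [if_pos] at h2
        exact h2.symm
      all_goals first | (intro j _ hj; rw [if_neg hj]) | (intro hn; exact absurd hi hn)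
    · rw [Finsupp.notMem_support_iff.1 hi]; simp
  have h3 := congrArg (TensorProduct.lid k A) (Coalgebra.rTensor_counit_comul (R := k) x)
  simp only [hexp, map_add, map_sum, LinearMap.rTensor_tmul, lid_tmul, one_smul] at h3
  rw [← h3]
  exact Submodule.add_mem _ (Submodule.smul_mem _ _ (Submodule.subset_span hg))
    (Submodule.sum_mem _ fun i _ => Submodule.smul_mem _ _ (skew_mem_gspan hprim hg i.2 (hskew i)))

theorem isDiagonalizable_of_no_prim [IsAlgClosed k] [Coalgebra.IsCocomm k A]
    (hprim : ∀ f : A, IsPrim (k := k) f → f = 0) : HopfRep.IsDiagonalizable k A :=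
  isDiagonalizable_of_no_prim_of_split (hasSplitActions_of_isAlgClosed A) hprim

theorem isLinearlyReductive_of_isDiagonalizable (hD : HopfRep.IsDiagonalizable k A) :
    HopfRep.IsLinearlyReductive k A := by
  intro V _ _ _ hfin
  refine isSemisimpleComod_iff.2 (isSemisimpleModule_of_isSemisimpleModule_submodule'
    (p := fun v : {v : V | ∃ a : A, HopfRep.Comod.coact (k := k) (A := A) v = v ⊗ₜ[k] a} =>
      Submodule.span (WithConv (A →ₗ[k] k)) {(v : V)}) ?_ ?_)
  · rintro ⟨v, a, ha⟩
    have hst : ∀ F : WithConv (A →ₗ[k] k), F • v = F.ofConv a • v := fun F => by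
      rw [smul_def, dact_apply, ha, rc_tmul]
    by_cases hv : v = 0
    · have : Submodule.span (WithConv (A →ₗ[k] k)) {v} = ⊥ := by simp [hv]
      show IsSemisimpleModule _ (Submodule.span (WithConv (A →ₗ[k] k)) {v})
      rw [this]
      exact (isSemisimpleModule_iff _ _).2 ⟨fun a => ⟨⊥, by rw [Subsingleton.elim a ⊤]; exact isCompl_top_bot⟩⟩
    haveI : IsSimpleModule (WithConv (A →ₗ[k] k)) (Submodule.span (WithConv (A →ₗ[k] k)) {v}) := by
      rw [isSimpleModule_iff_isAtom]
      refine ⟨by simp [hv], fun W hW => ?_⟩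
      rw [eq_bot_iff]
      intro w hw
      obtain ⟨F, rfl⟩ := Submodule.mem_span_singleton.1 (hW.le hw)
      by_contra hne
      rw [hst] at hw hne
      have hFa : F.ofConv a ≠ 0 := fun h0 => hne (by rw [h0, zero_smul]; exact zero_mem _)
      have : v ∈ W := by
        have := Submodule.smul_of_tower_mem W ((F.ofConv a)⁻¹) hw
        rwa [smul_smul, inv_mul_cancel₀ hFa, one_smul] at this
      exact hW.ne (le_antisymm hW.le (Submodule.span_le.2 (Set.singleton_subset_iff.2 this)))
    infer_instance
  · rw [eq_top_iff]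
    intro v hv0
    clear hv0
    have hv : v ∈ Submodule.span k {v : V | ∃ a : A, HopfRep.Comod.coact (k := k) (A := A) v = v ⊗ₜ[k] a} := by
      rw [(Groth.Agent.S3272.result k A).1 hD V hfin]; trivial
    induction hv using Submodule.span_induction with
    | mem y hy => exact Submodule.mem_iSup_of_mem ⟨y, hy⟩ (Submodule.mem_span_singleton_self _)
    | zero => exact zero_mem _
    | add a b _ _ ha hb => exact add_mem ha hb
    | smul c a _ ha => exact Submodule.smul_of_tower_mem _ c ha

theorem no_prim_of_isDiagonalizable (hD : HopfRep.IsDiagonalizable k A) {f : A}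
    (hf : IsPrim (k := k) f) : f = 0 :=
  no_prim_of_isLinearlyReductive (isLinearlyReductive_of_isDiagonalizable hD) hf

theorem isCocomm_of_isDiagonalizable (hD : HopfRep.IsDiagonalizable k A) : Coalgebra.IsCocomm k A :=
  ⟨LinearMap.ext_on (hv := hD) fun a ha => by
    have ha' : IsGroupLikeElem k a := ha
    simp [ha'.comul_eq_tmul_self]⟩

end Groth.Agent.Comod33.Diag
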