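import Groth.Agent.Comod33.DimOneBasic
import Groth.Agent.Comod33.PointJordan
import Groth.Agent.Comod33.HopfSurj
import Groth.Agent.Comod33.Diag
import Mathlib.RingTheory.Bialgebra.MonoidAlgebra
import Mathlib.RingTheory.HopfAlgebra.GroupLike
import Mathlib.GroupTheory.FiniteAbelian.Basic

/-!
Connected curves with a nontrivial character are multiplicative groups.
-/

universe u

open TensorProduct WithConv

noncomputable section

namespace Groth.Agent.Comod33.DimOneClass

variable {k A : Type u} [Field k] [CommRing A] [HopfAlgebra k A]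

/-- the unipotent points -/
def unipPts (k A : Type u) [Field k] [CommRing A] [HopfAlgebra k A] : Set (WithConv (A →ₐ[k] k)) :=
  {g | ∀ (V : Type u) [AddCommGroup V] [Module k V] [HopfRep.Comod k A V], Module.Finite k V →
    IsNilpotent (HopfRep.Comod.act k A V g.ofConv - 1)}

theorem pow_mem_unipPts {g : WithConv (A →ₐ[k] k)} (hg : g ∈ unipPts k A) (n : ℕ) : g ^ n ∈ unipPts k A := by
  intro V _ _ _ hV
  rw [show HopfRep.Comod.act k A V (g ^ n).ofConv = HopfRep.Comod.act k A V g.ofConv ^ n from
    map_pow (actHom k A V) g n, show HopfRep.Comod.act k A V g.ofConv ^ n - 1 =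
      (∑ i ∈ Finset.range n, HopfRep.Comod.act k A V g.ofConv ^ i) * (HopfRep.Comod.act k A V g.ofConv - 1) from
        (geom_sum_mul _ n).symm]
  refine Commute.isNilpotent_mul_left ?_ (hg V hV)
  exact Commute.sum_left _ _ _ fun i _ => ((Commute.refl _).sub_right (Commute.one_right _)).pow_left i

variable [IsAlgClosed k] [Algebra.FiniteType k A] [IsReduced A]

/-- a group-like element takes the value one at unipotent points -/
theorem apply_groupLike_of_unip {g : WithConv (A →ₐ[k] k)} (hg : g ∈ unipPts k A) {χ : A}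
    (hχ : IsGroupLikeElem k χ) : g.ofConv χ = 1 := by
  let L : Submodule k A := Submodule.span k {χ}
  have hL : HopfRep.IsSubcomod (k := k) (A := A) L := by
    intro v hv
    obtain ⟨c, rfl⟩ := Submodule.mem_span_singleton.1 hv
    refine ⟨(c • (⟨χ, Submodule.mem_span_singleton_self χ⟩ : L)) ⊗ₜ[k] χ, ?_⟩
    show _ = CoalgebraStruct.comul (R := k) (c • χ)
    rw [map_smul, hχ.comul_eq_tmul_self, LinearMap.rTensor_tmul, Submodule.subtype_apply, smul_tmul']
    rfl
  letI := ComodSub.Comod.restr (HopfRep.Comod.regular k A) L hL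
  obtain ⟨m, hm⟩ := hg L inferInstance
  let e : L := ⟨χ, Submodule.mem_span_singleton_self χ⟩
  have he : HopfRep.Comod.act k A L g.ofConv e = g.ofConv χ • e := by
    apply Subtype.ext
    have h3 := IsComodHom.dact (ComodSub.isComodHom_subtype (HopfRep.Comod.regular k A) L hL)
      g.ofConv.toLinearMap e
    rw [← act_eq_dact, ← act_eq_dact] at h3
    refine h3.trans ?_
    show rc g.ofConv.toLinearMap (CoalgebraStruct.comul (R := k) χ) = _
    rw [hχ.comul_eq_tmul_self, rc_tmul]
    rfl
  have he2 : ∀ j : ℕ, ((HopfRep.Comod.act k A L g.ofConv - 1) ^ j) e = (g.ofConv χ - 1) ^ j • e := by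
    intro j
    induction j with
    | zero => simp
    | succ j ih =>
      rw [pow_succ', Module.End.mul_apply, ih, map_smul, LinearMap.sub_apply, he, Module.End.one_apply, smul_sub,
        smul_smul, sub_eq_iff_eq_add, ← add_smul]
      congr 1
      ring
  have h0 := he2 m
  rw [hm, LinearMap.zero_apply] at h0
  have hχ0 : χ ≠ 0 := fun h => one_ne_zero (α := k) (by rw [← hχ.counit_eq_one, h, map_zero])
  rcases smul_eq_zero.1 h0.symm with h | h
  · exact sub_eq_zero.1 (eq_zero_of_pow_eq_zero h)
  · exact absurd (congrArg Subtype.val h) hχ0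

variable [IsDomain A]

omit [IsReduced A] in
theorem eq_one_of_const {χ : A} (hχ : IsGroupLikeElem k χ) {c : k} (hc : algebraMap k A c = χ) : χ = 1 := by
  have h := hχ.counit_eq_one
  rw [← hc, Bialgebra.counit_algebraMap] at h
  rw [← hc, h, map_one]

omit [IsReduced A] in
theorem pow_ne_one {χ : A} (hχ : IsGroupLikeElem k χ) (h1 : χ ≠ 1) {N : ℕ} (hN : 0 < N) : χ ^ N ≠ 1 := by
  intro h
  obtain ⟨c, hc⟩ := mem_bot_of_aeval_eq_zero (k := k) (x := χ) (P := Polynomial.X ^ N - Polynomial.C 1)
    (Polynomial.X_pow_sub_C_ne_zero hN 1) (by simp [h])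
  exact h1 (eq_one_of_const hχ hc)

/-- finitely many unipotent points -/
theorem finite_unipPts (hdim : ringKrullDim A ≤ 1) {χ : A} (hχ : IsGroupLikeElem k χ) (h1 : χ ≠ 1) :
    (unipPts k A).Finite := by
  haveI : IsNoetherianRing A := Algebra.FiniteType.isNoetherianRing k A
  haveI : Ring.KrullDimLE 1 A := (Ring.krullDimLE_iff).2 (by exact_mod_cast hdim)
  haveI : (⊥ : Ideal A).IsPrime := Ideal.isPrime_bot
  have hf : χ - 1 ≠ 0 := sub_ne_zero.2 h1
  have hfin := Ideal.finite_minimalPrimes_of_isNoetherianRing A (Ideal.span {χ - 1})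
  let f : WithConv (A →ₐ[k] k) → Ideal A := fun g => RingHom.ker g.ofConv
  have hinj : Function.Injective f := fun g h e => by
    apply WithConv.ofConv_injective
    refine AlgHom.ext fun a => ?_
    have h2 : a - algebraMap k A (g.ofConv a) ∈ f g := by
      show g.ofConv (a - algebraMap k A (g.ofConv a)) = 0
      rw [map_sub, AlgHom.commutes]; exact sub_self _
    rw [e] at h2
    have h3 : h.ofConv (a - algebraMap k A (g.ofConv a)) = 0 := h2
    rw [map_sub, AlgHom.commutes, sub_eq_zero] at h3
    exact h3.symm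
  refine (hfin.preimage (f := f) hinj.injOn).subset fun g hg => ?_
  have hmem : χ - 1 ∈ f g := by
    show g.ofConv (χ - 1) = 0
    rw [map_sub, map_one, apply_groupLike_of_unip hg hχ, sub_self]
  haveI : (f g).IsPrime := RingHom.ker_isPrime _
  refine ⟨⟨inferInstance, (Ideal.span_singleton_le_iff_mem _).2 hmem⟩, fun Q hQ hle => ?_⟩
  have hQ0 : Q ≠ ⊥ := fun e => hf (by
    have := hQ.2 (Ideal.mem_span_singleton_self (χ - 1))
    rw [e, Ideal.mem_bot] at this
    exact this)
  exact ((Ring.krullDimLE_one_iff_of_isPrime_bot.1 inferInstance Q hQ0 hQ.1).eq_of_le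
    (Ideal.IsPrime.ne_top inferInstance) hle).ge

/-- a common exponent of the unipotent points -/
theorem exists_exponent (hfin : (unipPts k A).Finite) :
    ∃ N, 0 < N ∧ ∀ g ∈ unipPts k A, g ^ N = 1 := by
  classical
  have h : ∀ g ∈ unipPts k A, IsOfFinOrder g := fun g hg => by
    obtain ⟨m, n, hmn, he⟩ : ∃ m n : ℕ, m < n ∧ g ^ m = g ^ n := by
      obtain ⟨a, -, b, -, hab, he⟩ := Set.infinite_univ.exists_ne_map_eq_of_mapsTo
        (f := fun n : ℕ => g ^ n) (fun n _ => pow_mem_unipPts hg n) hfin
      rcases lt_or_gt_of_ne hab with h | h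
      exacts [⟨a, b, h, he⟩, ⟨b, a, h, he.symm⟩]
    refine isOfFinOrder_iff_pow_eq_one.2 ⟨n - m, Nat.sub_pos_of_lt hmn, ?_⟩
    have : g ^ m * g ^ (n - m) = g ^ m * 1 := by rw [← pow_add, Nat.add_sub_cancel' hmn.le, he, mul_one]
    exact mul_left_cancel this
  refine ⟨∏ g ∈ hfin.toFinset, orderOf g, Finset.prod_pos fun g hg => (h g (hfin.mem_toFinset.1 hg)).orderOf_pos,
    fun g hg => ?_⟩
  exact orderOf_dvd_iff_pow_eq_one.1 (Finset.dvd_prod_of_mem _ (hfin.mem_toFinset.2 hg))

/-- every point acts semisimply -/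
theorem isSemisimple_act [Coalgebra.IsCocomm k A] (hdim : ringKrullDim A ≤ 1) {χ : A}
    (hχ : IsGroupLikeElem k χ) (h1 : χ ≠ 1) (y : A →ₐ[k] k) (V : Type u) [AddCommGroup V] [Module k V]
    [HopfRep.Comod k A V] (hV : Module.Finite k V) : Module.End.IsSemisimple (HopfRep.Comod.act k A V y) := by
  obtain ⟨N, hN, hU⟩ := exists_exponent (finite_unipPts hdim hχ h1)
  have hinj : Function.Injective (powHom (k := k) (A := A) N) :=
    injective_of_nonconst hdim _ (a := χ) fun c hc => by
      rw [powConv_groupLike N hχ] at hc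
      exact pow_ne_one hχ h1 hN (eq_one_of_const hχ.pow hc.symm)
  obtain ⟨x, hx⟩ := HopfFlat.exists_point_lift_of_fg (powHom (k := k) (A := A) N) hinj k y
  have hy : toConv y = toConv x ^ N := by
    rw [← comp_powConv]
    exact congrArg toConv hx.symm
  obtain ⟨xs, -, hxs⟩ := exists_point_semisimplePart (k := k) x
  have hu : (toConv xs)⁻¹ * toConv x ∈ unipPts k A := by
    intro W _ _ _ hW
    obtain ⟨hss, u, hu, -, hsu⟩ := hxs W hW
    have h2 : HopfRep.Comod.act k A W ((toConv xs)⁻¹ * toConv x).ofConv = u := by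
      show actHom k A W ((toConv xs)⁻¹ * toConv x) = u
      rw [map_mul, show actHom k A W (toConv x) = HopfRep.Comod.act k A W x from rfl, ← hsu, ← mul_assoc,
        show HopfRep.Comod.act k A W xs = actHom k A W (toConv xs) from rfl, ← map_mul, inv_mul_cancel, map_one,
        one_mul]
    rw [h2]
    exact hu
  have hx2 : toConv x ^ N = toConv xs ^ N := by
    rw [show toConv x = toConv xs * ((toConv xs)⁻¹ * toConv x) from (mul_inv_cancel_left _ _).symm, mul_pow,
      hU _ hu, mul_one]
  show Module.End.IsSemisimple (actHom k A V (toConv y))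
  rw [hy, hx2, map_pow]
  exact (hxs V hV).1.pow N

/-- a connected curve with a nontrivial character is diagonalizable -/
theorem isDiagonalizable_of_groupLike [Coalgebra.IsCocomm k A] (hdim : ringKrullDim A ≤ 1) {χ : A}
    (hχ : IsGroupLikeElem k χ) (h1 : χ ≠ 1) : HopfRep.IsDiagonalizable k A :=
  CommSS.isDiagonalizable (fun x y => mul_comm x y) fun g V _ _ _ hV => isSemisimple_act hdim hχ h1 g V hV

omit [IsReduced A] in
/-- a diagonalizable curve is the multiplicative group -/
theorem nonempty_equiv_Gm (hD : HopfRep.IsDiagonalizable k A) (hdim : ringKrullDim A = 1) :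
    Nonempty (A ≃ₐc[k] MonoidAlgebra k (Multiplicative ℤ)) := by
  classical
  let φ : MonoidAlgebra k (GroupLike k A) →ₐc[k] A := MonoidAlgebra.liftGroupLikeBialgHom
  have hφ : ∀ g r, φ (MonoidAlgebra.single g r) = r • (g : A) := fun g r => by
    simp [φ, MonoidAlgebra.liftGroupLikeBialgHom, MonoidAlgebra.lift_single]
  have hli : LinearIndependent k (fun g : GroupLike k A => (g : A)) :=
    (linearIndepOn_isGroupLikeElem (R := k) (A := A)).comp (fun g : GroupLike k A => ⟨(g : A), g.2⟩)
      fun g h e => GroupLike.ext (congrArg Subtype.val e)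
  have hinj : Function.Injective φ := by
    intro p q hpq
    have : ∀ p : MonoidAlgebra k (GroupLike k A), φ p = Finsupp.linearCombination k (fun g : GroupLike k A => (g : A)) p.coeff := by
      intro p
      induction p using MonoidAlgebra.induction_on with
      | of g => simp [hφ]
      | add p q hp hq => simp [map_add, hp, hq]
      | smul r p hp => simp [map_smul, hp]
    rw [this, this] at hpq
    exact MonoidAlgebra.coeff_injective (hli hpq)
  have hsurj : Function.Surjective φ := by
    intro a
    have ha : a ∈ (φ : MonoidAlgebra k (GroupLike k A) →ₐ[k] A).toLinearMap.range := by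
      have h2 : Submodule.span k {a : A | IsGroupLikeElem k a} ≤
          (φ : MonoidAlgebra k (GroupLike k A) →ₐ[k] A).toLinearMap.range :=
        Submodule.span_le.2 fun g hg => ⟨MonoidAlgebra.single ⟨g, hg⟩ 1, by simpa using hφ ⟨g, hg⟩ 1⟩
      exact h2 (hD ▸ Submodule.mem_top)
    exact ha
  let e := BialgEquiv.ofBijective φ ⟨hinj, hsurj⟩
  haveI : Algebra.FiniteType k (MonoidAlgebra k (GroupLike k A)) :=
    Algebra.FiniteType.equiv ‹_› (e.symm : A ≃ₐ[k] MonoidAlgebra k (GroupLike k A))
  haveI : Group.FG (GroupLike k A) := (MonoidAlgebra.finiteType_iff_group_fg (R := k)).1 inferInstance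
  haveI : IsMulTorsionFree (GroupLike k A) := IsMulTorsionFree.of_not_isOfFinOrder fun g hg1 hg => by
    obtain ⟨n, hn, hgn⟩ := isOfFinOrder_iff_pow_eq_one.1 hg
    exact pow_ne_one g.2 (fun h => hg1 (GroupLike.ext h)) hn (congrArg GroupLike.val hgn)
  haveI : AddGroup.FG (Additive (GroupLike k A)) := inferInstance
  haveI : Module.Finite ℤ (Additive (GroupLike k A)) := Module.Finite.iff_addGroup_fg.2 inferInstance
  haveI : Module.IsTorsionFree ℤ (Additive (GroupLike k A)) := inferInstance
  let b := Module.finBasis ℤ (Additive (GroupLike k A))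
  have hr : Module.finrank ℤ (Additive (GroupLike k A)) = 1 := by
    have h0 : Module.finrank ℤ (Additive (GroupLike k A)) ≠ 0 := by
      intro h0
      haveI : Subsingleton (Additive (GroupLike k A)) := Module.finrank_zero_iff.1 h0
      haveI : Subsingleton (GroupLike k A) := Additive.ofMul.subsingleton
      have hb : Function.Bijective (algebraMap k A) := by
        refine ⟨(algebraMap k A).injective, fun a => ?_⟩
        have h2 : Submodule.span k {a : A | IsGroupLikeElem k a} ≤ (Algebra.linearMap k A).range :=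
          Submodule.span_le.2 fun g hg => ⟨1, (map_one (algebraMap k A)).trans
            (congrArg GroupLike.val (Subsingleton.elim (1 : GroupLike k A) ⟨g, hg⟩))⟩
        exact h2 (hD ▸ Submodule.mem_top)
      have := ringKrullDim_eq_of_ringEquiv (RingEquiv.ofBijective (algebraMap k A) hb)
      rw [hdim, ringKrullDim_eq_zero_of_field] at this
      exact zero_ne_one this
    by_contra h
    have h2 : 1 < Module.finrank ℤ (Additive (GroupLike k A)) := by omega
    let i0 : Fin (Module.finrank ℤ (Additive (GroupLike k A))) := ⟨0, by omega⟩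
    let i1 : Fin (Module.finrank ℤ (Additive (GroupLike k A))) := ⟨1, h2⟩
    let g : Fin 2 → GroupLike k A := ![(b i0).toMul, (b i1).toMul]
    refine not_algebraicIndependent (k := k) hdim (fun i => (g i : A)) ?_
    rw [algebraicIndependent_iff]
    intro P hP
    let m : (Fin 2 →₀ ℕ) → GroupLike k A := fun s => g 0 ^ s 0 * g 1 ^ s 1
    have hm : Function.Injective m := by
      intro s t hst
      have h3 : ∀ s : Fin 2 →₀ ℕ, Additive.ofMul (m s) = (s 0 : ℤ) • b i0 + (s 1 : ℤ) • b i1 := fun s => by
        simp [m, g, natCast_zsmul]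
      have h4 := congrArg (fun g => b.repr (Additive.ofMul g)) hst
      simp only [h3, map_add, map_zsmul, Module.Basis.repr_self] at h4
      have hne : i0 ≠ i1 := by simp [i0, i1, Fin.ext_iff]
      have e0 := DFunLike.congr_fun h4 i0
      have e1 := DFunLike.congr_fun h4 i1
      simp [Finsupp.single_apply, hne, hne.symm] at e0 e1
      ext i
      fin_cases i <;> assumption
    have hPe : MvPolynomial.aeval (fun i => (g i : A)) P = ∑ s ∈ P.support, P.coeff s • (m s : A) := by
      rw [MvPolynomial.aeval_def, MvPolynomial.eval₂_eq']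
      refine Finset.sum_congr rfl fun s _ => ?_
      simp [m, Algebra.smul_def, Fin.prod_univ_two]
    rw [hPe] at hP
    have h5 := linearIndependent_iff'.1 (hli.comp m hm) _ _ hP
    ext s
    by_cases hs : s ∈ P.support
    · simpa using h5 s hs
    · simpa using MvPolynomial.notMem_support_iff.1 hs
  let E : GroupLike k A ≃* Multiplicative ℤ :=
    AddEquiv.toMultiplicativeRight ((b.equivFun.toAddEquiv.trans
      (AddEquiv.arrowCongr (finCongr hr) (AddEquiv.refl ℤ))).trans (AddEquiv.funUnique (Fin 1) ℤ))
  exact ⟨e.symm.trans (MonoidAlgebra.domCongrBialgEquiv k k E)⟩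

end Groth.Agent.Comod33.DimOneClass
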