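import Groth.Agent.Comod33.AugFiltration
import Mathlib.RingTheory.Smooth.Field
import Mathlib.RingTheory.Smooth.Locus
import Mathlib.RingTheory.Jacobson.Ring
import Mathlib.RingTheory.Filtration
import Mathlib.RingTheory.HopfAlgebra.TensorProduct
import Mathlib.RingTheory.HopfAlgebra.Convolution
import Mathlib.FieldTheory.IsAlgClosed.AlgebraicClosure

/-!
Translations, and reducedness of commutative Hopf algebras of finite type.
-/

universe u v

open MvPolynomial TensorProduct

noncomputable section

namespace Groth.Agent.Comod33.Aug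

variable {k : Type u} [Field k] {A : Type v} [CommRing A] [HopfAlgebra k A]

/-- translation by a rational point -/
def transl (g : A →ₐ[k] k) : A →ₐ[k] A :=
  (WithConv.toConv (AlgHom.id k A) * WithConv.toConv ((Algebra.ofId k A).comp g)).ofConv

theorem counit_transl (g : A →ₐ[k] k) (a : A) :
    CoalgebraStruct.counit (R := k) (transl g a) = g a := by
  have h : (Bialgebra.counitAlgHom k A).comp (transl g) = g := by
    rw [transl, AlgHom.comp_convMul_distrib]
    have h1 : WithConv.toConv ((Bialgebra.counitAlgHom k A).comp (AlgHom.id k A)) =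
        (1 : WithConv (A →ₐ[k] k)) := rfl
    have h2 : (Bialgebra.counitAlgHom k A).comp ((Algebra.ofId k A).comp g) = g :=
      AlgHom.ext fun x => by simp [Algebra.ofId_apply]
    rw [h1, h2, one_mul]
  exact DFunLike.congr_fun h a

theorem transl_comp (g h : A →ₐ[k] k) :
    (transl g).comp (transl h) =
      transl (WithConv.toConv g * WithConv.toConv h).ofConv := by
  have e : (transl g).comp ((Algebra.ofId k A).comp h) = (Algebra.ofId k A).comp h :=
    AlgHom.ext fun x => by simp [Algebra.ofId_apply]
  conv_lhs => rw [transl.eq_1 h]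
  rw [AlgHom.comp_convMul_distrib, AlgHom.comp_id, e]
  rw [transl.eq_1 g, WithConv.toConv_ofConv, mul_assoc, transl.eq_1]
  refine congrArg (fun z => (WithConv.toConv (AlgHom.id k A) * z).ofConv) ?_
  rw [← WithConv.toConv_ofConv (WithConv.toConv ((Algebra.ofId k A).comp g) *
    WithConv.toConv ((Algebra.ofId k A).comp h))]
  exact congrArg WithConv.toConv
    (AlgHom.comp_convMul_distrib (Algebra.ofId k A) (WithConv.toConv g) (WithConv.toConv h)).symm

theorem transl_one : transl ((1 : WithConv (A →ₐ[k] k)).ofConv) = AlgHom.id k A := by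
  rw [transl]
  have : WithConv.toConv ((Algebra.ofId k A).comp (1 : WithConv (A →ₐ[k] k)).ofConv) =
      (1 : WithConv (A →ₐ[k] A)) := rfl
  rw [this, mul_one]

/-- translation as an automorphism -/
def translEquiv (g : A →ₐ[k] k) : A ≃ₐ[k] A :=
  AlgEquiv.ofAlgHom (transl g) (transl ((WithConv.toConv g)⁻¹).ofConv)
    (by rw [transl_comp, WithConv.toConv_ofConv, mul_inv_cancel, transl_one])
    (by rw [transl_comp, WithConv.toConv_ofConv, inv_mul_cancel, transl_one])

theorem exists_point_ker [IsAlgClosed k] [Algebra.FiniteType k A] (J : Ideal A) [J.IsMaximal] :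
    ∃ g : A →ₐ[k] k, J = RingHom.ker g := by
  letI : Field (A ⧸ J) := Ideal.Quotient.field J
  haveI : Module.Finite k (A ⧸ J) := finite_of_finite_type_of_isJacobsonRing k (A ⧸ J)
  let e := AlgEquiv.ofBijective (Algebra.ofId k (A ⧸ J))
    IsAlgClosed.algebraMap_bijective_of_isIntegral
  refine ⟨(e.symm : (A ⧸ J) →ₐ[k] k).comp (Ideal.Quotient.mkₐ k J), ?_⟩
  ext a
  rw [RingHom.mem_ker, AlgHom.comp_apply]
  simp [Ideal.Quotient.eq_zero_iff_mem]

theorem eq_zero_of_forall_transl_mem [IsAlgClosed k] [Algebra.FiniteType k A] {a : A}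
    (h : ∀ (g : A →ₐ[k] k) (n : ℕ), transl g a ∈ aug k A ^ n) : a = 0 := by
  haveI : IsNoetherianRing A := Algebra.FiniteType.isNoetherianRing k A
  by_contra ha
  obtain ⟨J, hJ, hle⟩ := Ideal.exists_le_maximal (Submodule.annihilator (Submodule.span A {a}))
    (fun e => by
      rw [Submodule.annihilator_eq_top_iff, Submodule.span_singleton_eq_bot] at e
      exact ha e)
  obtain ⟨g, rfl⟩ := exists_point_ker (k := k) J
  have hmem : a ∈ ⨅ n : ℕ, (RingHom.ker g ^ n • ⊤ : Submodule A A) := by
    rw [Submodule.mem_iInf]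
    intro n
    rw [smul_eq_mul, Ideal.mul_top]
    have hmap : (RingHom.ker g).map (translEquiv g) = aug k A := by
      rw [← Ideal.map_comap_of_surjective _ (translEquiv g).surjective (aug k A)]
      congr 1
      ext b
      rw [Ideal.mem_comap, mem_aug_iff, RingHom.mem_ker]
      show g b = 0 ↔ CoalgebraStruct.counit (R := k) (transl g b) = 0
      rw [counit_transl]
    have h2 := h g n
    rw [← hmap, ← Ideal.map_pow,
      show (transl g a) = translEquiv g a from rfl] at h2
    exact (Ideal.apply_mem_of_equiv_iff (f := (translEquiv g).toRingEquiv)).1 h2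
  obtain ⟨⟨r, hr⟩, hra⟩ := (Ideal.mem_iInf_smul_pow_eq_bot_iff (RingHom.ker g) a).1 hmem
  have h1 : (1 - r) ∈ RingHom.ker g := hle (by
    rw [Submodule.mem_annihilator_span_singleton, smul_eq_mul, sub_mul, one_mul, sub_eq_zero]
    exact hra.symm)
  have := Ideal.add_mem _ h1 hr
  rw [sub_add_cancel, RingHom.mem_ker, map_one] at this
  exact one_ne_zero this

theorem isReduced_of_nilradical_le_pow [IsAlgClosed k] [Algebra.FiniteType k A]
    (h : ∀ n, nilradical A ≤ aug k A ^ n) : IsReduced A :=
  ⟨fun _ ha => eq_zero_of_forall_transl_mem fun g n => h n (IsNilpotent.map ha (transl g))⟩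

theorem nilradical_le_pow [CharZero k] [Module.Finite k (aug k A).Cotangent] :
    ∀ n, nilradical A ≤ aug k A ^ n := by
  intro n a ha
  induction n with
  | zero => simp
  | succ n ih =>
    obtain ⟨c⟩ := nonempty_coords (k := k) (A := A)
    obtain ⟨p, hp, hpa⟩ := c.exists_leading n a ih
    obtain ⟨N, hN⟩ : IsNilpotent a := mem_nilradical.1 ha
    have key : ∀ j : ℕ, a ^ j - aeval c.x (p ^ j) ∈ aug k A ^ (n * j + 1) := by
      intro j
      induction j with
      | zero => simp
      | succ j hj =>
        rw [pow_succ p, map_mul, pow_succ a,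
          show a ^ j * a - aeval c.x (p ^ j) * aeval c.x p =
            a ^ j * (a - aeval c.x p) + (a ^ j - aeval c.x (p ^ j)) * aeval c.x p by ring,
          show n * (j + 1) + 1 = n * j + (n + 1) by ring]
        refine Ideal.add_mem _ ?_ ?_
        · rw [pow_add]
          exact Ideal.mul_mem_mul (by rw [pow_mul]; exact Ideal.pow_mem_pow ih j) hpa
        · rw [show n * j + (n + 1) = (n * j + 1) + n by ring, pow_add]
          exact Ideal.mul_mem_mul hj (aeval_mem_pow c.mem hp)
    have h0 := key N
    rw [hN, zero_sub, Ideal.neg_mem_iff] at h0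
    have hp0 : p = 0 := eq_zero_of_pow_eq_zero (c.eq_zero_of_aeval_mem (n * N)
      (Nat.cast_ne_zero.2 (Nat.factorial_ne_zero _)) _ (hp.pow N) h0)
    simpa [hp0] using hpa

theorem isReduced_of_charZero [CharZero k] [Algebra.FiniteType k A] : IsReduced A := by
  let K := AlgebraicClosure k
  haveI : CharZero K := charZero_of_injective_algebraMap (algebraMap k K).injective
  haveI : IsReduced (K ⊗[k] A) := by
    haveI := finite_cotangent (k := K) (A := K ⊗[k] A)
    exact isReduced_of_nilradical_le_pow (k := K) (nilradical_le_pow (k := K))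
  exact isReduced_of_injective (Algebra.TensorProduct.includeRight : A →ₐ[k] K ⊗[k] A)
    (Algebra.TensorProduct.includeRight_injective (algebraMap k K).injective)

theorem nilradical_le_pow_of_le_sq [IsAlgClosed k] [Algebra.FiniteType k A]
    (h : nilradical A ≤ aug k A ^ 2) (n : ℕ) : nilradical A ≤ aug k A ^ n := by
  haveI : IsNoetherianRing A := Algebra.FiniteType.isNoetherianRing k A
  let B := A ⧸ nilradical A
  let π : A →ₐ[k] B := Ideal.Quotient.mkₐ k (nilradical A)
  have hπ : Function.Surjective π := Ideal.Quotient.mkₐ_surjective k _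
  haveI : Algebra.FiniteType k B := Algebra.FiniteType.of_surjective π hπ
  haveI : Algebra.FinitePresentation k B := Algebra.FinitePresentation.of_finiteType.1 ‹_›
  haveI : IsReduced B := (Ideal.isRadical_iff_quotient_reduced _).1
    (Ideal.radical_isRadical (⊥ : Ideal A))
  have hne : (nilradical A : Ideal A) ≠ ⊤ := fun e => by
    have : (1 : A) ∈ aug k A := Ideal.pow_le_self two_ne_zero (h (e ▸ Submodule.mem_top))
    rw [mem_aug_iff, Bialgebra.counit_one] at this
    exact one_ne_zero this
  haveI : Nontrivial B := Ideal.Quotient.nontrivial_iff.2 hne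
  obtain ⟨P, hP⟩ := Ideal.nonempty_minimalPrimes (I := (⊥ : Ideal B)) bot_ne_top
  haveI := hP.1.1
  have hPs : (⟨P, hP.1.1⟩ : PrimeSpectrum B) ∈ Algebra.smoothLocus k B := by
    haveI := IsLocalization.AtPrime.isLocalRing (S := Localization.AtPrime P) P
    haveI : Ring.KrullDimLE 0 (Localization.AtPrime P) := by
      rw [Ring.krullDimLE_iff, IsLocalization.AtPrime.ringKrullDim_eq_height P,
        Ideal.height_eq_zero_iff.2 hP]
      rfl
    haveI : IsReduced (Localization.AtPrime P) :=
      isReduced_localizationPreserves P.primeCompl (Localization.AtPrime P) inferInstance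
    letI : Field (Localization.AtPrime P) := Ring.KrullDimLE.isField_of_isReduced.toField
    exact Algebra.FormallySmooth.of_perfectField
  haveI : IsJacobsonRing B := isJacobsonRing_of_finiteType (A := k)
  obtain ⟨Q, hQs, hQc⟩ := nonempty_inter_closedPoints ⟨_, hPs⟩
    (Algebra.isOpen_smoothLocus (R := k) (A := B)).isLocallyClosed
  haveI : Q.asIdeal.IsMaximal := (PrimeSpectrum.isClosed_singleton_iff_isMaximal Q).1 hQc
  haveI : (Q.asIdeal.comap π).IsMaximal := Ideal.comap_isMaximal_of_surjective _ hπ
  obtain ⟨g, hg⟩ := exists_point_ker (k := k) (Q.asIdeal.comap π)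
  let τ : A ≃ₐ[k] A := translEquiv g
  have hτN : (nilradical A) = (nilradical A).map (τ : A →+* A) := by
    refine le_antisymm (fun a ha => ?_) (Ideal.map_le_iff_le_comap.2 fun a ha => IsNilpotent.map ha _)
    rw [← τ.apply_symm_apply a]
    exact Ideal.mem_map_of_mem _ (IsNilpotent.map ha (τ.symm : A →ₐ[k] A))
  let τB : B ≃ₐ[k] B := Ideal.quotientEquivAlg (nilradical A) (nilradical A) τ hτN
  let m : Ideal B := (aug k A).map π
  have hm : m.IsMaximal := by
    haveI : (aug k A).IsMaximal :=
      RingHom.ker_isMaximal_of_surjective _ fun r => ⟨algebraMap k A r, by simp⟩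
    refine Ideal.IsMaximal.map_of_surjective_of_ker_le hπ ?_
    rw [show RingHom.ker π = nilradical A from Ideal.Quotient.mkₐ_ker k _]
    exact h.trans (Ideal.pow_le_self two_ne_zero)
  have hcomap : m.comap π = aug k A := by
    rw [Ideal.comap_map_of_surjective _ hπ]
    refine sup_eq_left.2 ?_
    rw [← RingHom.ker_eq_comap_bot, show RingHom.ker π = nilradical A from Ideal.Quotient.mkₐ_ker k _]
    exact h.trans (Ideal.pow_le_self two_ne_zero)
  haveI : Algebra.IsSmoothAt k Q.asIdeal := hQs
  haveI : Algebra.FormallySmooth k (Localization.AtPrime m) := by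
    refine Algebra.FormallySmooth.of_equiv (R := k) (A := Localization.AtPrime Q.asIdeal)
      (IsLocalization.algEquivOfAlgEquiv (M := Q.asIdeal.primeCompl) (T := m.primeCompl)
        (Localization.AtPrime Q.asIdeal) (Localization.AtPrime m) τB ?_)
    ext b
    simp only [Submonoid.mem_map, Ideal.mem_primeCompl_iff]
    constructor
    · rintro ⟨c, hc, rfl⟩ hcm
      obtain ⟨a, rfl⟩ := hπ c
      apply hc
      have : transl g a ∈ aug k A := by
        rw [← hcomap]; exact hcm
      rw [mem_aug_iff, counit_transl] at this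
      have : a ∈ Q.asIdeal.comap π := hg ▸ (RingHom.mem_ker.2 this)
      exact this
    · intro hb
      obtain ⟨a, rfl⟩ := hπ b
      refine ⟨π (τ.symm a), fun hc => hb ?_, ?_⟩
      · have : τ.symm a ∈ RingHom.ker g := hg ▸ hc
        rw [RingHom.mem_ker, ← counit_transl g] at this
        rw [show transl g (τ.symm a) = a from τ.apply_symm_apply a, ← mem_aug_iff] at this
        exact Ideal.mem_map_of_mem _ this
      · show π (τ (τ.symm a)) = π a
        rw [τ.apply_symm_apply]
  intro a ha
  match n with
  | 0 => simp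
  | n + 1 =>
    let ρ : A ⧸ aug k A ^ (n + 1) →ₐ[k] B ⧸ m ^ (n + 1) :=
      Ideal.Quotient.liftₐ _ ((Ideal.Quotient.mkₐ k (m ^ (n + 1))).comp π) fun x hx =>
        Ideal.Quotient.eq_zero_iff_mem.2 (by rw [← Ideal.map_pow]; exact Ideal.mem_map_of_mem _ hx)
    have hρ : Function.Surjective ρ := by
      intro y
      obtain ⟨y, rfl⟩ := Ideal.Quotient.mk_surjective y
      obtain ⟨x, rfl⟩ := hπ y
      exact ⟨Ideal.Quotient.mk _ x, rfl⟩
    have hker : IsNilpotent (RingHom.ker (ρ : A ⧸ aug k A ^ (n + 1) →+* B ⧸ m ^ (n + 1))) := by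
      refine ⟨n + 1, le_bot_iff.1 ?_⟩
      have : RingHom.ker (ρ : A ⧸ aug k A ^ (n + 1) →+* B ⧸ m ^ (n + 1)) ≤
          (aug k A).map (Ideal.Quotient.mk _) := by
        intro y hy
        obtain ⟨x, rfl⟩ := Ideal.Quotient.mk_surjective y
        refine Ideal.mem_map_of_mem _ ?_
        rw [← hcomap]
        exact Ideal.mem_comap.2 (Ideal.pow_le_self n.succ_ne_zero
          (Ideal.Quotient.eq_zero_iff_mem.1 (show Ideal.Quotient.mk (m ^ (n + 1)) (π x) = 0 from hy)))
      refine (Ideal.pow_right_mono this _).trans ?_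
      rw [← Ideal.map_pow, Ideal.map_quotient_self]
    let f : Localization.AtPrime m →ₐ[k] B ⧸ m ^ (n + 1) :=
      IsLocalization.liftAlgHom (M := m.primeCompl) (f := Ideal.Quotient.mkₐ k (m ^ (n + 1)))
        fun y => Ideal.Quotient.isUnit_mk_pow_of_notMem m y.2
    let s := Algebra.FormallySmooth.liftOfSurjective f ρ hρ hker
    let σ : B →ₐ[k] A ⧸ aug k A ^ (n + 1) := s.comp (IsScalarTower.toAlgHom k B _)
    have hσ : ∀ b, ρ (σ b) = Ideal.Quotient.mk (m ^ (n + 1)) b := by
      intro b
      have := DFunLike.congr_fun (Algebra.FormallySmooth.comp_liftOfSurjective f ρ hρ hker)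
        (algebraMap B (Localization.AtPrime m) b)
      simp only [AlgHom.comp_apply] at this
      exact this.trans (IsLocalization.lift_eq _ b)
    have hlift : ∀ j (x : A), x ∈ aug k A ^ j → j ≤ n + 1 → ∃ b : B, ∀ y : A,
        σ b = Ideal.Quotient.mk _ y → x - y ∈ aug k A ^ (min (j + 1) (n + 1)) := by
      intro j
      induction j with
      | zero =>
        intro x _ _
        refine ⟨algebraMap k B (CoalgebraStruct.counit (R := k) x), fun y hy => ?_⟩
        rw [AlgHom.commutes] at hy
        have hy' := Ideal.Quotient.eq.1 hy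
        have := Ideal.sub_mem _ (sub_mem_aug (k := k) x)
          (Ideal.neg_mem_iff _ |>.2 (Ideal.pow_le_self n.succ_ne_zero hy'))
        rw [show min (0 + 1) (n + 1) = 1 by omega, pow_one]
        simpa using this
      | succ j ih =>
        intro x hx hj
        rw [pow_succ] at hx
        induction hx using Submodule.mul_induction_on' with
        | mem_mul_mem b hb c hc =>
          obtain ⟨b', hb'⟩ := ih b hb (by omega)
          obtain ⟨β, hβ⟩ := Ideal.Quotient.mk_surjective (σ b')
          obtain ⟨γ, hγ⟩ := Ideal.Quotient.mk_surjective (σ (π c))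
          refine ⟨b' * π c, fun y hy => ?_⟩
          rw [map_mul, ← hβ, ← hγ, ← map_mul] at hy
          have h1 := hb' β hβ.symm
          rw [show min (j + 1) (n + 1) = j + 1 by omega] at h1
          have h2 : c - γ ∈ aug k A ^ (min 2 (n + 1)) := by
            have h3 := hσ (π c)
            rw [← hγ] at h3
            have h4 : π γ - π c ∈ m ^ (n + 1) := Ideal.Quotient.eq.1 h3
            rw [← map_sub, ← Ideal.map_pow, Ideal.mem_map_iff_of_surjective _ hπ] at h4
            obtain ⟨z, hz, hzz⟩ := h4
            have h5 : (γ - c) - z ∈ nilradical A := Ideal.Quotient.eq.1 hzz.symm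
            have h6 := Ideal.add_mem _ (Ideal.pow_le_pow_right (min_le_left 2 (n + 1)) (h h5))
              (Ideal.pow_le_pow_right (min_le_right 2 (n + 1)) hz)
            rw [sub_add_cancel] at h6
            rw [← neg_sub]
            exact Ideal.neg_mem_iff _ |>.2 h6
          have h7 : γ ∈ aug k A := by
            have := Ideal.sub_mem _ hc (Ideal.pow_le_self (show min 2 (n + 1) ≠ 0 by omega) h2)
            simpa using this
          have hy' := Ideal.Quotient.eq.1 hy
          have key : b * c - y = b * (c - γ) + (b - β) * γ + (β * γ - y) := by ring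
          rw [key]
          refine Ideal.add_mem _ (Ideal.add_mem _ ?_ ?_) (Ideal.pow_le_pow_right (min_le_right _ _) hy')
          · refine Ideal.pow_le_pow_right ?_ (pow_add (aug k A) j (min 2 (n + 1)) ▸ Ideal.mul_mem_mul hb h2)
            omega
          · refine Ideal.pow_le_pow_right ?_ (pow_succ (aug k A) (j + 1) ▸ Ideal.mul_mem_mul h1 h7)
            omega
        | add x _ x' _ hx hx' =>
          obtain ⟨b, hb⟩ := hx
          obtain ⟨b', hb'⟩ := hx'
          obtain ⟨β, hβ⟩ := Ideal.Quotient.mk_surjective (σ b)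
          refine ⟨b + b', fun y hy => ?_⟩
          have := Ideal.add_mem _ (hb β hβ.symm) (hb' (y - β) (by
            rw [map_sub, ← hy, hβ, map_add, add_sub_cancel_left]))
          simpa [show x + x' - y = (x - β) + (x' - (y - β)) by ring] using this
    have hsur : ∀ i ≤ n + 1, ∀ x : A, ∃ b : B, ∀ y : A,
        σ b = Ideal.Quotient.mk _ y → x - y ∈ aug k A ^ i := by
      intro i
      induction i with
      | zero => intro _ x; exact ⟨0, fun y _ => by simp⟩
      | succ i ih =>
        intro hi x
        obtain ⟨b, hb⟩ := ih (by omega) x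
        obtain ⟨β, hβ⟩ := Ideal.Quotient.mk_surjective (σ b)
        obtain ⟨b', hb'⟩ := hlift i (x - β) (hb β hβ.symm) (by omega)
        refine ⟨b + b', fun y hy => ?_⟩
        have := hb' (y - β) (by rw [map_sub, ← hy, hβ, map_add, add_sub_cancel_left])
        rw [show min (i + 1) (n + 1) = i + 1 by omega] at this
        simpa using this
    obtain ⟨b, hb⟩ := hsur (n + 1) le_rfl a
    obtain ⟨β, hβ⟩ := Ideal.Quotient.mk_surjective (σ b)
    have hab : Ideal.Quotient.mk (aug k A ^ (n + 1)) a = σ b :=
      hβ ▸ Ideal.Quotient.eq.2 (hb β hβ.symm)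
    have hbm : b ∈ m ^ (n + 1) := by
      rw [← Ideal.Quotient.eq_zero_iff_mem, ← hσ b, ← hab]
      show Ideal.Quotient.mk (m ^ (n + 1)) (π a) = 0
      rw [show π a = 0 from Ideal.Quotient.eq_zero_iff_mem.2 ha, map_zero]
    have hle : m.map σ ≤ (aug k A).map (Ideal.Quotient.mk (aug k A ^ (n + 1))) := by
      rw [Ideal.map_le_iff_le_comap]
      intro y hy
      obtain ⟨γ, hγ⟩ := Ideal.Quotient.mk_surjective (σ y)
      rw [Ideal.mem_comap, ← hγ]
      refine Ideal.mem_map_of_mem _ ?_
      have h3 := hσ y
      rw [← hγ] at h3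
      rw [← hcomap, Ideal.mem_comap]
      have h4 : π γ - y ∈ m ^ (n + 1) := Ideal.Quotient.eq.1 h3
      have := Ideal.add_mem _ (Ideal.pow_le_self n.succ_ne_zero h4) hy
      simpa using this
    have h9 := Ideal.mem_map_of_mem σ hbm
    rw [Ideal.map_pow] at h9
    have h10 := Ideal.pow_right_mono hle (n + 1) h9
    rw [← Ideal.map_pow, Ideal.map_quotient_self, Ideal.mem_bot] at h10
    rw [← Ideal.Quotient.eq_zero_iff_mem, hab, h10]

theorem isReduced_of_nilradical_le_sq [IsAlgClosed k] [Algebra.FiniteType k A]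
    (h : nilradical A ≤ aug k A ^ 2) : IsReduced A :=
  isReduced_of_nilradical_le_pow fun n => nilradical_le_pow_of_le_sq h n

end Groth.Agent.Comod33.Aug
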