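import Mathlib.RingTheory.Valuation.ValuationSubring
import Mathlib.RingTheory.Valuation.LocalSubring
import Mathlib.RingTheory.Localization.FractionRing
import Mathlib.RingTheory.Jacobson.Ring
import Mathlib.FieldTheory.IsAlgClosed.Basic
import Groth.Agent.Comod33.CartierReduced
import Groth.Agent.Comod33.Points

/-!
Connected reduced group schemes are irreducible; their units are characters up to constants.
The valuation argument is the one of `AlgGrp79.RosUnits`, in any universes.
-/

universe u v w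

open TensorProduct

noncomputable section

namespace Groth.Agent.Comod33.Units

variable {k : Type u} [Field k] [IsAlgClosed k]

/-- An element lying in every valuation ring containing the algebraically closed ground field is constant. -/
lemma mem_const_of_forall_valuationSubring {L : Type*} [Field L] [Algebra k L] (x : L)
    (h : ∀ V : ValuationSubring L, (∀ c : k, algebraMap k L c ∈ V) → x ∈ V) : ∃ c : k, algebraMap k L c = x := by
  by_contra hx
  have : IsIntegrallyClosedIn (algebraMap k L).range L := by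
    rw [Subring.isIntegrallyClosedIn_iff]
    intro y hy
    have hy' : IsIntegral k y := by
      obtain ⟨p, hp, hp0⟩ := hy
      obtain ⟨q, hq, -, hqm⟩ := Polynomial.lifts_and_degree_eq_and_monic (f := (algebraMap k L).rangeRestrict)
        (p := p) ((Polynomial.lifts_iff_coeff_lifts _).2 (fun n => Set.mem_range.2 ((algebraMap k L).rangeRestrict_surjective _))) hp
      refine ⟨q, hqm, ?_⟩
      rw [← hq, Polynomial.eval₂_map] at hp0
      exact hp0
    exact minpoly.mem_range_of_degree_eq_one k y (IsAlgClosed.degree_eq_one_of_irreducible k (minpoly.irreducible hy'))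
  obtain ⟨V, hV, hxV⟩ := Subring.exists_le_valuationSubring_of_isIntegrallyClosedIn
    (R := (algebraMap k L).range) (x := x) hx
  exact hxV (h V fun c => hV ⟨c, rfl⟩)

variable {A : Type v} {B : Type w} [CommRing A] [Algebra k A] [CommRing B] [Algebra k B]

/-- Evaluation of a tensor at a point of the second factor. -/
noncomputable def evR (ψ : B →ₐ[k] k) : A ⊗[k] B →ₐ[k] A :=
  Algebra.TensorProduct.lift (AlgHom.id k A) ((Algebra.ofId k A).comp ψ) fun _ _ => Commute.all _ _

omit [IsAlgClosed k] in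
lemma evR_tmul (ψ : B →ₐ[k] k) (a : A) (b : B) : evR ψ (a ⊗ₜ[k] b) = ψ b • a := by
  simp [evR, Algebra.smul_def, mul_comm, Algebra.ofId_apply]

omit [IsAlgClosed k] in
/-- Points whose evaluation of `F` lies in a subspace are cut out by elements of `B`. -/
lemma evR_mem_iff (F : A ⊗[k] B) (U : Submodule k A) :
    ∃ T : Set B, ∀ ψ : B →ₐ[k] k, evR ψ F ∈ U ↔ ∀ t ∈ T, ψ t = 0 := by
  let T : Set B := {t | ∃ ℓ : A →ₗ[k] k, (∀ u ∈ U, ℓ u = 0) ∧
    TensorProduct.lift ((LinearMap.lsmul k B).comp ℓ) F = t}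
  have key : ∀ (ψ : B →ₐ[k] k) (ℓ : A →ₗ[k] k),
      ψ (TensorProduct.lift ((LinearMap.lsmul k B).comp ℓ) F) = ℓ (evR ψ F) := by
    intro ψ ℓ
    induction F with
    | zero => simp
    | tmul a b => simp [evR_tmul, mul_comm]
    | add x y hx hy => simp [hx, hy]
  refine ⟨T, fun ψ => ⟨fun h => ?_, fun h => ?_⟩⟩
  · rintro _ ⟨ℓ, hℓ, rfl⟩
    rw [key]; exact hℓ _ h
  · by_contra hn
    obtain ⟨ℓ, hℓ0, hℓU⟩ := Submodule.exists_dual_map_eq_bot_of_notMem hn inferInstance
    refine hℓ0 ?_
    rw [← key ψ ℓ]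
    refine h _ ⟨ℓ, fun u hu => ?_, rfl⟩
    have : ℓ u ∈ U.map ℓ := Submodule.mem_map_of_mem hu
    rwa [hℓU] at this

/-- A unit of a tensor product of domains has proportional evaluations at the points of the second factor. -/
lemma evR_proportional [IsDomain A] [IsDomain B] [Algebra.FiniteType k B] (F : A ⊗[k] B) (hF : IsUnit F)
    (ψ₀ ψ₁ : B →ₐ[k] k) : ∃ c : k, evR ψ₁ F = c • evR ψ₀ F := by
  obtain ⟨F, rfl⟩ := hF
  let L := FractionRing A
  let jL : A →ₐ[k] L := IsScalarTower.toAlgHom k A L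
  have hjL : Function.Injective jL := IsFractionRing.injective A L
  have hunit : ∀ ψ : B →ₐ[k] k, jL (evR ψ (F : A ⊗[k] B)) * jL (evR ψ (↑F⁻¹ : A ⊗[k] B)) = 1 := fun ψ => by
    rw [← map_mul, ← map_mul, Units.mul_inv, map_one, map_one]
  let f0 := jL (evR ψ₀ (F : A ⊗[k] B)); let f1 := jL (evR ψ₁ (F : A ⊗[k] B))
  have hf0 : f0 ≠ 0 := left_ne_zero_of_mul_eq_one (hunit ψ₀)
  obtain ⟨c, hc⟩ := mem_const_of_forall_valuationSubring (k := k) (f1 / f0) (fun V hV => by
    let v := V.valuation
    have hconst : ∀ c : k, v (algebraMap k L c) ≤ 1 := fun c => (V.valuation_le_one_iff _).2 (hV c)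
    -- the two subspaces
    let m := v f0
    have hm : m ≠ 0 := (v.ne_zero_iff).2 hf0
    have hsmul : ∀ (c : k) (a : A), v (jL (c • a)) ≤ v (jL a) := fun c a => by
      rw [map_smul, Algebra.smul_def, map_mul]
      exact mul_le_of_le_one_left' (hconst c)
    let U : Submodule k A :=
      { carrier := {a | v (jL a) ≤ m}
        add_mem' := fun {a b} ha hb => by
          show v (jL (a + b)) ≤ m
          rw [map_add]; exact v.map_add_le ha hb
        zero_mem' := by show v (jL 0) ≤ m; simp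
        smul_mem' := fun c a ha => show v (jL (c • a)) ≤ m from le_trans (hsmul c a) ha }
    let U' : Submodule k A :=
      { carrier := {a | v (jL a) < m⁻¹}
        add_mem' := fun {a b} ha hb => by
          show v (jL (a + b)) < m⁻¹
          rw [map_add]; exact v.map_add_lt ha hb
        zero_mem' := by show v (jL 0) < m⁻¹; simp [zero_lt_iff, hm]
        smul_mem' := fun c a ha => show v (jL (c • a)) < m⁻¹ from lt_of_le_of_lt (hsmul c a) ha }
    obtain ⟨T, hT⟩ := evR_mem_iff (F : A ⊗[k] B) U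
    obtain ⟨T', hT'⟩ := evR_mem_iff (↑F⁻¹ : A ⊗[k] B) U'
    have hor : ∀ ψ : B →ₐ[k] k, (∀ t ∈ T, ψ t = 0) ∨ (∀ t ∈ T', ψ t = 0) := by
      intro ψ
      rw [← hT, ← hT']
      by_cases h : v (jL (evR ψ (F : A ⊗[k] B))) ≤ m
      · exact Or.inl h
      · refine Or.inr ?_
        show v (jL (evR ψ (↑F⁻¹ : A ⊗[k] B))) < m⁻¹
        rw [eq_inv_of_mul_eq_one_right (hunit ψ), map_inv₀]
        exact inv_strictAnti₀ (zero_lt_iff.2 hm) (not_le.1 h)
    have hpts : ∀ b : B, (∀ ψ : B →ₐ[k] k, ψ b = 0) → b = 0 := fun b hb => by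
      by_contra hb0
      let Bb := Localization.Away b
      have : Nontrivial Bb :=
        (IsLocalization.injective Bb (powers_le_nonZeroDivisors_of_noZeroDivisors hb0)).nontrivial
      obtain ⟨M, hM⟩ := Ideal.exists_maximal Bb
      let := Ideal.Quotient.field M
      have : Algebra.FiniteType k Bb := Algebra.FiniteType.trans (S := B) inferInstance inferInstance
      have : Algebra.FiniteType k (Bb ⧸ M) :=
        Algebra.FiniteType.of_surjective (Ideal.Quotient.mkₐ k M) (Ideal.Quotient.mkₐ_surjective k M)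
      have : Module.Finite k (Bb ⧸ M) := finite_of_finite_type_of_isJacobsonRing k (Bb ⧸ M)
      let e := (AlgEquiv.ofBijective (Algebra.ofId k (Bb ⧸ M))
        (IsAlgClosed.algebraMap_bijective_of_isIntegral (k := k) (K := Bb ⧸ M))).symm.toAlgHom
      let φ : B →ₐ[k] k := (e.comp (Ideal.Quotient.mkₐ k M)).comp (IsScalarTower.toAlgHom k B Bb)
      have hu : IsUnit (φ b) := IsUnit.map (e.comp (Ideal.Quotient.mkₐ k M))
        (IsLocalization.Away.algebraMap_isUnit b)
      exact hu.ne_zero (hb φ)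
    have hT0 : ∀ t ∈ T, t = 0 := by
      by_contra hne
      push Not at hne
      obtain ⟨t, ht, ht0⟩ := hne
      have hT'0 : ∀ t' ∈ T', t' = 0 := fun t' ht' => by
        have : t * t' = 0 := hpts _ fun ψ => by
          rcases hor ψ with h | h
          · rw [map_mul, h t ht, zero_mul]
          · rw [map_mul, h t' ht', mul_zero]
        exact (mul_eq_zero.1 this).resolve_left ht0
      have := (hT' ψ₀).2 fun t' ht' => by rw [hT'0 t' ht', map_zero]
      have h2 : v (jL (evR ψ₀ (↑F⁻¹ : A ⊗[k] B))) < m⁻¹ := this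
      rw [eq_inv_of_mul_eq_one_right (hunit ψ₀), map_inv₀] at h2
      exact lt_irrefl _ h2
    have h1 : v f1 ≤ m := (hT ψ₁).2 fun t ht => by rw [hT0 t ht, map_zero]
    apply (V.valuation_le_one_iff _).1
    show v (f1 / f0) ≤ 1
    rw [map_div₀]
    exact div_le_one_of_le₀ h1 zero_le)
  refine ⟨c, hjL ?_⟩
  rw [map_smul, Algebra.smul_def, hc]
  exact (div_mul_cancel₀ f1 hf0).symm


section Hopf

open Comod33.Aug

variable {A : Type v} [CommRing A] [HopfAlgebra k A] [Algebra.FiniteType k A] [IsReduced A]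

theorem isDomain (k : Type u) [Field k] [IsAlgClosed k] {A : Type v} [CommRing A] [HopfAlgebra k A]
    [Algebra.FiniteType k A] [IsReduced A] (hconn : ∀ e : A, IsIdempotentElem e → e = 0 ∨ e = 1) : IsDomain A := by
  classical
  haveI : IsNoetherianRing A := Algebra.FiniteType.isNoetherianRing k A
  haveI : Nontrivial A := Bialgebra.nontrivial (R := k) (A := A)
  haveI : IsJacobsonRing A := isJacobsonRing_of_finiteType (A := k)
  have hfin : (minimalPrimes A).Finite := minimalPrimes.finite_of_isNoetherianRing A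
  haveI : (RingHom.ker (Bialgebra.counitAlgHom k A)).IsPrime := RingHom.ker_isPrime _
  obtain ⟨P₁, hP₁, -⟩ := Ideal.exists_minimalPrimes_le
    (I := (⊥ : Ideal A)) (J := RingHom.ker (Bialgebra.counitAlgHom k A)) bot_le
  -- through some maximal ideal passes a single minimal prime
  obtain ⟨J, hJ, hJuniq⟩ : ∃ J : Ideal A, J.IsMaximal ∧
      ∀ Q ∈ minimalPrimes A, Q ≤ J → Q = P₁ := by
    have h1 : ∀ Q ∈ hfin.toFinset.erase P₁, ∃ q ∈ Q, q ∉ P₁ := by
      intro Q hQ
      obtain ⟨hne, hQ⟩ := Finset.mem_erase.1 hQ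
      by_contra h
      push Not at h
      rw [Set.Finite.mem_toFinset] at hQ
      exact hne (le_antisymm h (hP₁.2 hQ.1 h))
    choose! q hq hq' using h1
    have hf : ∏ Q ∈ hfin.toFinset.erase P₁, q Q ∉ P₁ := fun h => by
      obtain ⟨Q, hQ, hQ'⟩ := (Ideal.IsPrime.prod_mem_iff (hp := hP₁.1.1)).1 h
      exact hq' Q hQ hQ'
    have hjac : Ideal.jacobson P₁ = P₁ :=
      Ideal.jacobson_eq_iff_jacobson_quotient_eq_bot.2 (by
        haveI := hP₁.1.1
        exact Ideal.jacobson_eq_iff_jacobson_quotient_eq_bot.1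
          (IsJacobsonRing.out' P₁ (Ideal.IsPrime.isRadical hP₁.1.1)))
    have hf' : ∏ Q ∈ hfin.toFinset.erase P₁, q Q ∉ Ideal.jacobson P₁ := by rw [hjac]; exact hf
    rw [Ideal.jacobson, Ideal.mem_sInf] at hf'
    push Not at hf'
    obtain ⟨J, ⟨hle, hJ⟩, hfJ⟩ := hf'
    refine ⟨J, hJ, fun Q hQ hQJ => ?_⟩
    by_contra hne
    have hQ' : Q ∈ hfin.toFinset.erase P₁ := Finset.mem_erase.2 ⟨hne, hfin.mem_toFinset.2 hQ⟩
    refine hfJ ((Ideal.IsPrime.prod_mem_iff (hp := hJ.isPrime)).2 ⟨Q, hQ', hQJ (hq Q hQ')⟩)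
  -- the minimal primes are comaximal
  have hcop : ∀ P ∈ minimalPrimes A, ∀ Q ∈ minimalPrimes A, P ≠ Q → IsCoprime P Q := by
    intro P hP Q hQ hne
    rw [Ideal.isCoprime_iff_sup_eq]
    by_contra htop
    obtain ⟨M, hM, hle⟩ := Ideal.exists_le_maximal _ htop
    obtain ⟨γ, hγ⟩ := exists_point_ker (k := k) J
    obtain ⟨δ, hδ⟩ := exists_point_ker (k := k) M
    let e : A ≃+* A := ((translEquiv δ).trans (translEquiv γ).symm).toRingEquiv
    have hmap : M.map e = J := by
      have hco : ∀ g : A →ₐ[k] k, ∀ a, a ∈ RingHom.ker g ↔ translEquiv g a ∈ aug k A := fun g a => by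
        rw [mem_aug_iff, RingHom.mem_ker]
        show g a = 0 ↔ CoalgebraStruct.counit (R := k) (transl g a) = 0
        rw [counit_transl]
      ext b
      rw [← Ideal.comap_symm, Ideal.mem_comap, hγ, hδ, hco δ, hco γ]
      show translEquiv δ ((translEquiv δ).symm (translEquiv γ b)) ∈ _ ↔ _
      rw [AlgEquiv.apply_symm_apply]
    have hmin : ∀ R ∈ minimalPrimes A, R ≤ M → R.map e ∈ minimalPrimes A ∧ R.map e ≤ J := by
      intro R hR hRM
      refine ⟨?_, hmap ▸ Ideal.map_mono hRM⟩
      refine ⟨⟨?_, bot_le⟩, fun R' hR' hle' => ?_⟩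
      · haveI := hR.1.1
        exact Ideal.map_isPrime_of_equiv e
      · haveI := hR'.1
        have h2 : R'.comap e ≤ R := by
          intro a ha
          have := hle' ha
          rwa [Ideal.apply_mem_of_equiv_iff] at this
        have h3 := hR.2 ⟨Ideal.comap_isPrime e R', bot_le⟩ h2
        exact Ideal.map_le_iff_le_comap.2 h3
    have hPm := hmin P hP (le_sup_left.trans hle)
    have hQm := hmin Q hQ (le_sup_right.trans hle)
    have h4 := (hJuniq _ hPm.1 hPm.2).trans (hJuniq _ hQm.1 hQm.2).symm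
    refine hne (Ideal.ext fun a => ?_)
    rw [← Ideal.apply_mem_of_equiv_iff (f := e), h4, Ideal.apply_mem_of_equiv_iff]
  have hbot : ⨅ P ∈ hfin.toFinset, P = (⊥ : Ideal A) := by
    have : (⊥ : Ideal A).radical = ⊥ := nilradical_eq_zero A
    rw [← this, ← Ideal.sInf_minimalPrimes, sInf_eq_iInf]
    simp [Set.Finite.mem_toFinset, minimalPrimes]
  -- an idempotent separating one component
  have hsup : P₁ ⊔ ⨅ Q ∈ hfin.toFinset.erase P₁, Q = ⊤ := by
    refine Ideal.sup_iInf_eq_top fun Q hQ => ?_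
    obtain ⟨hne, hQ⟩ := Finset.mem_erase.1 hQ
    exact Ideal.isCoprime_iff_sup_eq.1 (hcop P₁ hP₁ Q (hfin.mem_toFinset.1 hQ) (Ne.symm hne))
  obtain ⟨a, ha, b, hb, hab⟩ := Submodule.mem_sup.1 ((Ideal.eq_top_iff_one _).1 hsup)
  have hb' : ∀ Q ∈ hfin.toFinset.erase P₁, b ∈ Q := by simpa [Submodule.mem_iInf] using hb
  have hab0 : a * b = 0 := by
    rw [← Ideal.mem_bot, ← hbot]
    simp only [Submodule.mem_iInf]
    intro P hP
    by_cases h : P = P₁
    · exact h ▸ P₁.mul_mem_right _ ha
    · exact P.mul_mem_left _ (hb' P (Finset.mem_erase.2 ⟨h, hP⟩))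
  have hidem : IsIdempotentElem b := by
    show b * b = b
    linear_combination (b : A) * hab - hab0
  have hP₁bot : P₁ = ⊥ := by
    rcases hconn b hidem with h | h
    · exfalso
      rw [h, add_zero] at hab
      exact hP₁.1.1.ne_top ((Ideal.eq_top_iff_one _).2 (hab ▸ ha))
    · rw [h] at hb'
      rw [← hbot, eq_comm]
      refine le_antisymm (iInf₂_le _ (hfin.mem_toFinset.2 hP₁)) (le_iInf₂ fun P hP => ?_)
      by_cases hPe : P = P₁
      · exact hPe.ge
      · exact absurd ((Ideal.eq_top_iff_one _).2 (hb' P (Finset.mem_erase.2 ⟨hPe, hP⟩)))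
          (hfin.mem_toFinset.1 hP).1.1.ne_top
  haveI : (⊥ : Ideal A).IsPrime := hP₁bot ▸ hP₁.1.1
  exact IsDomain.of_bot_isPrime A

theorem eq_zero_of_forall_evR {x : A ⊗[k] A} (h : ∀ ψ : A →ₐ[k] k, evR ψ x = 0) : x = 0 := by
  haveI : IsJacobsonRing A := isJacobsonRing_of_finiteType (A := k)
  have hev : ∀ (ψ : A →ₐ[k] k) (z : A ⊗[k] A), evR ψ z = Comod33.rc ψ.toLinearMap z := by
    intro ψ z
    induction z with
    | zero => simp
    | tmul a b => rw [evR_tmul, Comod33.rc_tmul]; rfl
    | add p q hp hq => simp only [map_add, hp, hq]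
  refine Comod33.eq_of_lc fun φ => ?_
  rw [map_zero]
  have hnil : ∀ b : A, (∀ ψ : A →ₐ[k] k, ψ b = 0) → b = 0 := by
    intro b hb
    have h1 : b ∈ Ideal.jacobson (⊥ : Ideal A) := by
      rw [Ideal.jacobson, Ideal.mem_sInf]
      rintro M ⟨-, hM⟩
      obtain ⟨γ, rfl⟩ := exists_point_ker (k := k) M
      exact hb γ
    rw [IsJacobsonRing.out' ⊥ (show (⊥ : Ideal A).IsRadical from fun x hx => by
        obtain ⟨n, hn⟩ := Ideal.mem_radical_iff.1 hx
        exact (Submodule.mem_bot A).2 (IsReduced.eq_zero x ⟨n, (Submodule.mem_bot A).1 hn⟩)), Ideal.mem_bot] at h1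
    exact h1
  refine hnil _ fun ψ => ?_
  show ψ.toLinearMap _ = 0
  rw [Comod33.apply_lc, ← hev, h, map_zero]

/-- units of a connected reduced group with value one at the identity are group-like -/
theorem isGroupLike_of_isUnit (hconn : ∀ e : A, IsIdempotentElem e → e = 0 ∨ e = 1) {u : A}
    (hu : IsUnit u) (h1 : CoalgebraStruct.counit (R := k) u = 1) : IsGroupLikeElem k u := by
  haveI := isDomain k hconn
  refine ⟨h1, ?_⟩
  rw [← sub_eq_zero]
  refine eq_zero_of_forall_evR fun ψ => ?_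
  have hev : ∀ (ψ : A →ₐ[k] k) (z : A ⊗[k] A), evR ψ z = Comod33.rc ψ.toLinearMap z := by
    intro ψ z
    induction z with
    | zero => simp
    | tmul a b => rw [evR_tmul, Comod33.rc_tmul]; rfl
    | add p q hp hq => simp only [map_add, hp, hq]
  obtain ⟨c, hc⟩ := evR_proportional (Bialgebra.comulAlgHom k A u) (hu.map _)
    (Bialgebra.counitAlgHom k A) ψ
  have h2 : evR (Bialgebra.counitAlgHom k A) (Bialgebra.comulAlgHom k A u) = u := by
    rw [hev]
    exact (congrArg (TensorProduct.rid k A) (Coalgebra.lTensor_counit_comul (R := k) u)).trans (by simp)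
  have h3 : CoalgebraStruct.counit (R := k) (evR ψ (Bialgebra.comulAlgHom k A u)) = ψ u := by
    rw [hev]
    exact Comod33.counit_act ψ u
  rw [h2] at hc
  rw [hc, map_smul, h1, smul_eq_mul, mul_one] at h3
  rw [map_sub, evR_tmul, ← h3, sub_eq_zero]
  exact hc

end Hopf

end Groth.Agent.Comod33.Units
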