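import Groth.Agent.Comod33.Push
import Mathlib.LinearAlgebra.FiniteDimensional.Lemmas
import Mathlib.LinearAlgebra.Isomorphisms

/-!
Flags for trigonalizable bialgebras.
-/

universe u v

open TensorProduct

noncomputable section

namespace Groth.Agent.Comod33

variable {k : Type u} [Field k] {A : Type v} [CommRing A] [Bialgebra k A]

theorem exists_succ_subcomod (hT : HopfRep.IsTrigonalizable k A) {V : Type v} [AddCommGroup V]
    [Module k V] [c : HopfRep.Comod k A V] [Module.Finite k V] (U : Submodule k V)
    (hU : HopfRep.IsSubcomod (k := k) (A := A) U) (hne : U ≠ ⊤) :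
    ∃ U' : Submodule k V, U ≤ U' ∧ HopfRep.IsSubcomod (k := k) (A := A) U' ∧
      Module.finrank k U' = Module.finrank k U + 1 := by
  letI := ComodSub.Comod.quot c U hU
  have hnt : Nontrivial (V ⧸ U) := Submodule.Quotient.nontrivial_iff.2 hne
  obtain ⟨E, -, hE0, hE, hfin, hmin⟩ := exists_minimal_subcomod (k := k) (A := A) (⊤ : Submodule k (V ⧸ U))
    top_ne_bot isSubcomod_top
  let S := toSub E hE
  have hS : IsSimpleModule (WithConv (A →ₗ[k] k)) S :=
    (isSimpleModule_toSub_iff hE).2 ⟨hE0, fun W h1 h2 => hmin W h2 h1⟩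
  letI := ComodSub.Comod.restr (ComodSub.Comod.quot c U hU) E hE
  have hsimp : HopfRep.IsSimpleComod k A E := by
    refine ⟨Submodule.nontrivial_iff_ne_bot.2 hE0, fun W hW => ?_⟩
    rcases hmin (W.map E.subtype) (Submodule.map_subtype_le _ _)
      (isSubcomod_map hW (ComodSub.isComodHom_subtype (ComodSub.Comod.quot c U hU) E hE)) with h | h
    · exact Or.inl (Submodule.map_injective_of_injective E.injective_subtype (by simpa using h))
    · exact Or.inr (Submodule.map_injective_of_injective E.injective_subtype (by simpa using h))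
  have h1 := hT E hfin hsimp
  refine ⟨E.comap U.mkQ, ?_, isSubcomod_comap hE (ComodSub.isComodHom_mkQ c U hU), ?_⟩
  · intro x hx
    rw [Submodule.mem_comap, show U.mkQ x = 0 from (Submodule.Quotient.mk_eq_zero U).2 hx]
    exact E.zero_mem
  · have hle : U ≤ E.comap U.mkQ := fun x hx => by
      rw [Submodule.mem_comap, show U.mkQ x = 0 from (Submodule.Quotient.mk_eq_zero U).2 hx]
      exact E.zero_mem
    let φ : E.comap U.mkQ →ₗ[k] E := U.mkQ.restrict fun x hx => hx
    have hsurj : Function.Surjective φ := fun e => by
      obtain ⟨x, hx⟩ := U.mkQ_surjective e.1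
      exact ⟨⟨x, by rw [Submodule.mem_comap, hx]; exact e.2⟩, Subtype.ext hx⟩
    have hker : LinearMap.ker φ = U.comap (E.comap U.mkQ).subtype := by
      ext ⟨x, hx⟩
      simp [φ, LinearMap.restrict_apply, Subtype.ext_iff]
    have h2 := LinearMap.finrank_range_add_finrank_ker φ
    rw [LinearMap.range_eq_top.2 hsurj, finrank_top, h1, hker,
      (Submodule.comapSubtypeEquivOfLe hle).finrank_eq] at h2
    omega

open Classical in
/-- a full flag of subcomodules -/
def flag (hT : HopfRep.IsTrigonalizable k A) (V : Type v) [AddCommGroup V]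
    [Module k V] [HopfRep.Comod k A V] [Module.Finite k V] :
    ℕ → {U : Submodule k V // HopfRep.IsSubcomod (k := k) (A := A) U}
  | 0 => ⟨⊥, isSubcomod_bot⟩
  | i + 1 => if h : (flag hT V i).1 = ⊤ then ⟨⊤, isSubcomod_top⟩
      else ⟨(exists_succ_subcomod hT _ (flag hT V i).2 h).choose,
        (exists_succ_subcomod hT _ (flag hT V i).2 h).choose_spec.2.1⟩

variable (hT : HopfRep.IsTrigonalizable k A) (V : Type v) [AddCommGroup V]
  [Module k V] [HopfRep.Comod k A V] [Module.Finite k V]

theorem flag_mono : Monotone fun i => (flag hT V i).1 := by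
  refine monotone_nat_of_le_succ fun i => ?_
  simp only [flag]
  split_ifs with h
  · exact le_top
  · exact (exists_succ_subcomod hT _ (flag hT V i).2 h).choose_spec.1

theorem finrank_flag (i : ℕ) : Module.finrank k (flag hT V i).1 = min i (Module.finrank k V) := by
  induction i with
  | zero =>
    rw [flag]
    show Module.finrank k (⊥ : Submodule k V) = _
    rw [finrank_bot, Nat.zero_min]
  | succ n ih =>
    by_cases h : (flag hT V n).1 = ⊤
    · have hle : Module.finrank k V ≤ n := by
        rw [h, finrank_top] at ih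
        omega
      have e : (flag hT V (n + 1)).1 = ⊤ := by simp only [flag]; rw [dif_pos h]
      rw [e, finrank_top]; omega
    · have e : (flag hT V (n + 1)).1 = (exists_succ_subcomod hT _ (flag hT V n).2 h).choose := by
        simp only [flag]; rw [dif_neg h]
      rw [e, (exists_succ_subcomod hT _ (flag hT V n).2 h).choose_spec.2.2, ih]
      have := Submodule.finrank_lt h
      omega

theorem flag_eq_top : (flag hT V (Module.finrank k V)).1 = ⊤ :=
  Submodule.eq_top_of_finrank_eq (by rw [finrank_flag, min_self])

end Groth.Agent.Comod33
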