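import Groth.Agent.Comod33.Connected
import Groth.Agent.Comod33.Flag
import Mathlib.GroupTheory.Abelianization.Defs
import Mathlib.LinearAlgebra.Eigenspace.Triangularizable
import Mathlib.RingTheory.RootsOfUnity.Basic

/-!
Lie-Kolchin.
-/

universe u v w

open TensorProduct WithConv
open scoped commutatorElement

noncomputable section

namespace Groth.Agent.Comod33.LK

open Conn

/-- commuting operators have a common eigenvector in every nonzero stable subspace -/
theorem exists_common_eigenvector {k : Type u} [Field k] [IsAlgClosed k] {V : Type w} [AddCommGroup V]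
    [Module k V] [FiniteDimensional k V] (S : Set (Module.End k V))
    (hS : ∀ a ∈ S, ∀ b ∈ S, Commute a b) :
    ∀ U : Submodule k V, U ≠ ⊥ → (∀ a ∈ S, ∀ u ∈ U, a u ∈ U) →
      ∃ v ∈ U, v ≠ 0 ∧ ∀ a ∈ S, ∃ c : k, a v = c • v := by
  intro U
  induction h : Module.finrank k U using Nat.strong_induction_on generalizing U with
  | _ n ih =>
  intro hU hst
  by_cases hall : ∀ a ∈ S, ∃ c : k, ∀ u ∈ U, a u = c • u
  · obtain ⟨v, hv, hv0⟩ := Submodule.exists_mem_ne_zero_of_ne_bot hU
    exact ⟨v, hv, hv0, fun a ha => ⟨(hall a ha).choose, (hall a ha).choose_spec v hv⟩⟩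
  push Not at hall
  obtain ⟨a, ha, hne⟩ := hall
  haveI : Nontrivial U := Submodule.nontrivial_iff_ne_bot.2 hU
  obtain ⟨c, hc⟩ := Module.End.exists_eigenvalue (a.restrict (hst a ha))
  obtain ⟨⟨w, hw⟩, hwe, hw0⟩ := hc.exists_hasEigenvector
  rw [Module.End.mem_eigenspace_iff] at hwe
  let U' := U ⊓ Module.End.eigenspace a c
  have hwU' : w ∈ U' := ⟨hw, Module.End.mem_eigenspace_iff.2 (congrArg Subtype.val hwe)⟩
  have hlt : U' < U := by
    refine lt_of_le_of_ne inf_le_left fun e => ?_
    obtain ⟨u, hu, hue⟩ := hne c
    rw [← e] at hu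
    exact hue (Module.End.mem_eigenspace_iff.1 hu.2)
  have hne' : U' ≠ ⊥ := fun e => hw0 (Subtype.ext ((Submodule.mem_bot k).1 (e ▸ hwU')))
  have hst' : ∀ b ∈ S, ∀ u ∈ U', b u ∈ U' := fun b hb u hu => by
    refine ⟨hst b hb u hu.1, Module.End.mem_eigenspace_iff.2 ?_⟩
    rw [← Module.End.mul_apply, (hS a ha b hb).eq, Module.End.mul_apply,
      Module.End.mem_eigenspace_iff.1 hu.2, map_smul]
  obtain ⟨v, hv, hv0, hve⟩ := ih _ (h ▸ Submodule.finrank_lt_finrank_of_lt hlt) U' rfl hne' hst'
  exact ⟨v, hv.1, hv0, hve⟩

variable {k : Type u} [Field k] [IsAlgClosed k] {A : Type v} [CommRing A] [HopfAlgebra k A]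
  [Algebra.FiniteType k A] [IsReduced A]
variable {V : Type w} [AddCommGroup V] [Module k V] [HopfRep.Comod k A V]

omit [IsAlgClosed k] [Algebra.FiniteType k A] [IsReduced A] in
theorem act_inv_act (g : Pt k A) (v : V) : actHom k A V g⁻¹ (actHom k A V g v) = v := by
  rw [← Module.End.mul_apply, ← map_mul, inv_mul_cancel, map_one]; rfl

/-- the determinant is trivial on commutators -/
theorem det_eq_one {g : Pt k A} (hg : g ∈ commutator (Pt k A)) :
    LinearMap.det (actHom k A V g) = 1 := by
  have h := Abelianization.commutator_subset_ker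
    (((LinearMap.det : Module.End k V →* k).comp (actHom k A V)).toHomUnits) hg
  rw [MonoidHom.mem_ker] at h
  have h2 := congrArg Units.val h
  rw [MonoidHom.coe_toHomUnits, Units.val_one] at h2
  exact h2

variable [FiniteDimensional k V] (hconn : ∀ e : A, IsIdempotentElem e → e = 0 ∨ e = 1)
include hconn

/-- an abelian normal connected subgroup of commutators acts trivially on a simple comodule -/
theorem eq_one_of_comm (hV : HopfRep.IsSimpleComod k A V) (D : Subgroup (Pt k A)) [D.Normal]
    (hD : IsConn (D : Set (Pt k A))) (hle : D ≤ commutator (Pt k A))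
    (hcomm : ∀ x ∈ D, ∀ y ∈ D, Commute (actHom k A V x) (actHom k A V y)) :
    ∀ h ∈ D, actHom k A V h = 1 := by
  classical
  haveI := hV.1
  let E : Set V := {v | ∀ h ∈ D, ∃ c : k, actHom k A V h v = c • v}
  have hEst : ∀ g : Pt k A, ∀ v ∈ E, actHom k A V g v ∈ E := by
    intro g v hv h hh
    obtain ⟨c, hc⟩ := hv (g⁻¹ * h * g) (Subgroup.Normal.conj_mem' inferInstance h hh g)
    refine ⟨c, ?_⟩
    rw [← map_smul, ← hc, ← Module.End.mul_apply, ← map_mul, ← Module.End.mul_apply, ← map_mul,
      mul_assoc g⁻¹ h g, mul_inv_cancel_left]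
  have hspan : Submodule.span k E = ⊤ := by
    refine (hV.2 _ (isSubcomod_of_forall_point (A := A) _ fun g u hu => ?_)).resolve_left ?_
    · induction hu using Submodule.span_induction with
      | zero => simp
      | mem x hx => exact Submodule.subset_span (hEst g x hx)
      | add a b _ _ ha hb => rw [map_add]; exact add_mem ha hb
      | smul c a _ ha => rw [map_smul]; exact Submodule.smul_mem _ c ha
    · obtain ⟨v, -, hv0, hv⟩ := exists_common_eigenvector (actHom k A V '' (D : Set (Pt k A)))
        (by rintro _ ⟨a, ha, rfl⟩ _ ⟨b, hb, rfl⟩; exact hcomm a ha b hb) ⊤ top_ne_bot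
        (fun _ _ _ _ => trivial)
      intro e
      have : v ∈ Submodule.span k E := Submodule.subset_span fun h hh => hv _ ⟨h, hh, rfl⟩
      rw [e, Submodule.mem_bot] at this
      exact hv0 this
  obtain ⟨b, hbE, hbspan, hbli⟩ := exists_linearIndependent k E
  rw [hspan] at hbspan
  haveI : Finite b := hbli.finite
  -- conjugates of an element act through a finite set of operators
  have hscal : ∀ h ∈ D, ∃ c : k, actHom k A V h = c • (1 : Module.End k V) := by
    intro h hh
    let T := fun g : Pt k A => actHom k A V (g * h * g⁻¹)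
    have hfin : (T '' Set.univ).Finite := by
      refine Set.Finite.of_finite_image (f := fun X : Module.End k V => fun v : b => X v) ?_ ?_
      · refine (Set.Finite.pi (t := fun v : b => (fun c : k => c • (v : V)) ''
          {c | (actHom k A V h).HasEigenvalue c}) fun v =>
            ((Module.End.finite_hasEigenvalue _).image _)).subset ?_
        rintro _ ⟨_, ⟨g, -, rfl⟩, rfl⟩ v -
        obtain ⟨c, hc⟩ := hbE v.2 _ (Subgroup.Normal.conj_mem inferInstance h hh g)
        refine ⟨c, ?_, hc.symm⟩
        refine Module.End.hasEigenvalue_of_hasEigenvector (x := actHom k A V g⁻¹ v) ⟨?_, ?_⟩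
        · rw [Module.End.mem_eigenspace_iff, ← map_smul, ← hc, ← Module.End.mul_apply, ← map_mul,
            ← Module.End.mul_apply, ← map_mul, mul_assoc g h g⁻¹, inv_mul_cancel_left]
        · intro e
          have h2 := congrArg (actHom k A V g) e
          rw [map_zero, ← Module.End.mul_apply, ← map_mul, mul_inv_cancel, map_one] at h2
          exact hbli.ne_zero v h2
      · exact fun X _ Y _ e => LinearMap.ext_on hbspan fun v hv => congrFun e ⟨v, hv⟩
    have hconst : ∀ g : Pt k A, Commute (actHom k A V g) (actHom k A V h) := by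
      intro g
      have e : ∀ x : Pt k A, Conn.push x (Conn.gen k A * const h * (Conn.gen k A)⁻¹) = x * h * x⁻¹ :=
        fun x => by rw [map_mul, map_mul, map_inv, Conn.push_gen, push_const]
      have h1 := (isConn_univ (k := k) hconn).act_word (V := V) (Conn.gen k A * const h * (Conn.gen k A)⁻¹)
        (by simp only [e]; exact hfin) (Set.mem_univ g)
      rw [e, e, one_mul, inv_one, mul_one] at h1
      calc actHom k A V g * actHom k A V h = actHom k A V (g * h * g⁻¹) * actHom k A V g := by
            rw [← map_mul, ← map_mul, inv_mul_cancel_right]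
        _ = _ := by rw [h1]
    obtain ⟨c, hc⟩ := Module.End.exists_eigenvalue (actHom k A V h)
    refine ⟨c, ?_⟩
    have hst : HopfRep.IsSubcomod (k := k) (A := A) (Module.End.eigenspace (actHom k A V h) c) :=
      isSubcomod_of_forall_point _ fun g u hu => by
        rw [Module.End.mem_eigenspace_iff] at hu ⊢
        rw [← Module.End.mul_apply, ← (hconst g).eq, Module.End.mul_apply, hu, map_smul]
    have htop := (hV.2 _ hst).resolve_left hc
    refine LinearMap.ext fun v => ?_
    exact Module.End.mem_eigenspace_iff.1 (htop ▸ Submodule.mem_top)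
  intro h hh
  refine hD.act_eq_one ?_ hh
  have hn : 0 < Module.finrank k V := Module.finrank_pos
  refine (((Polynomial.nthRootsFinset (Module.finrank k V) (1 : k)).finite_toSet).image
    fun c => c • (1 : Module.End k V)).subset ?_
  rintro _ ⟨x, hx, rfl⟩
  obtain ⟨c, hc⟩ := hscal x hx
  refine ⟨c, (Polynomial.mem_nthRootsFinset hn (1 : k)).2 ?_, hc.symm⟩
  have := det_eq_one (V := V) (hle hx)
  rw [hc, LinearMap.det_smul, map_one, mul_one] at this
  exact this

theorem finrank_eq_one (hV : HopfRep.IsSimpleComod k A V)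
    [Group.IsSolvable (Pt k A)] : Module.finrank k V = 1 := by
  classical
  haveI := hV.1
  obtain ⟨n, hn⟩ := Group.IsSolvable.solvable (G := Pt k A)
  have key : ∀ j, (∀ h ∈ derivedSeries (Pt k A) (j + 2), actHom k A V h = 1) →
      ∀ h ∈ derivedSeries (Pt k A) (j + 1), actHom k A V h = 1 := by
    intro j hj
    haveI := derivedSeries_normal (Pt k A) (j + 1)
    refine eq_one_of_comm hconn hV _ (isConn_derivedSeries hconn _) ?_ fun x hx y hy => ?_
    · rw [← derivedSeries_one]; exact derivedSeries_antitone _ (by omega)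
    · have h2 := hj ⁅x, y⁆ (by rw [derivedSeries_succ]; exact Subgroup.commutator_mem_commutator hx hy)
      show actHom k A V x * actHom k A V y = actHom k A V y * actHom k A V x
      rw [← map_mul, ← map_mul, show x * y = ⁅x, y⁆ * (y * x) by rw [commutatorElement_def]; group,
        map_mul, h2, one_mul]
  have hall : ∀ j, ∀ h ∈ derivedSeries (Pt k A) (n - j + 1), actHom k A V h = 1 := by
    intro j
    induction j with
    | zero =>
      intro h hh
      have := derivedSeries_antitone (Pt k A) (show n ≤ n - 0 + 1 by omega) hh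
      rw [hn, Subgroup.mem_bot] at this
      rw [this, map_one]
    | succ j ih =>
      by_cases hjn : j < n
      · refine key _ ?_
        rwa [show n - (j + 1) + 2 = n - j + 1 by omega]
      · rwa [show n - (j + 1) + 1 = n - j + 1 by omega]
  have hcomm : ∀ x y : Pt k A, Commute (actHom k A V x) (actHom k A V y) := by
    intro x y
    have h2 : actHom k A V ⁅x, y⁆ = 1 := hall n _ (by
      rw [Nat.sub_self, zero_add, derivedSeries_one]
      exact Subgroup.commutator_mem_commutator (Subgroup.mem_top x) (Subgroup.mem_top y))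
    show actHom k A V x * actHom k A V y = actHom k A V y * actHom k A V x
    rw [← map_mul, ← map_mul, show x * y = ⁅x, y⁆ * (y * x) by rw [commutatorElement_def]; group,
      map_mul, h2, one_mul]
  obtain ⟨v, -, hv0, hv⟩ := exists_common_eigenvector (Set.range (actHom k A V))
    (by rintro _ ⟨x, rfl⟩ _ ⟨y, rfl⟩; exact hcomm x y) ⊤ top_ne_bot (fun _ _ _ _ => trivial)
  have hst : HopfRep.IsSubcomod (k := k) (A := A) (k ∙ v) :=
    isSubcomod_of_forall_point _ fun g u hu => by
      obtain ⟨c, rfl⟩ := Submodule.mem_span_singleton.1 hu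
      obtain ⟨d, hd⟩ := hv _ ⟨g, rfl⟩
      rw [map_smul, hd, smul_smul]
      exact Submodule.smul_mem _ _ (Submodule.mem_span_singleton_self v)
  have htop := (hV.2 _ hst).resolve_left (by simpa using hv0)
  rw [← finrank_top, ← htop, finrank_span_singleton hv0]

omit [FiniteDimensional k V] in
theorem isTrigonalizable [Group.IsSolvable (Pt k A)] : HopfRep.IsTrigonalizable k A :=
  fun _ _ _ _ _ hV => finrank_eq_one hconn hV

end Groth.Agent.Comod33.LK

namespace Groth.Agent.Comod33.LK

open Conn

variable {k : Type u} [Field k] {A : Type v} [CommRing A] [HopfAlgebra k A]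

/-- commutators of points act unipotently on comodules of a trigonalizable group -/
theorem isNilpotent_act_commutator (hT : HopfRep.IsTrigonalizable k A) {g : Pt k A}
    (hg : g ∈ commutator (Pt k A)) (V : Type v) [AddCommGroup V] [Module k V]
    [c : HopfRep.Comod k A V] [Module.Finite k V] : IsNilpotent (actHom k A V g - 1) := by
  induction hn : Module.finrank k V using Nat.strong_induction_on generalizing V with
  | _ n ih =>
  rcases subsingleton_or_nontrivial V with hs | hnt
  · exact ⟨1, LinearMap.ext fun v => Subsingleton.elim _ _⟩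
  obtain ⟨E, -, hE, hfr⟩ := exists_succ_subcomod hT (⊥ : Submodule k V) isSubcomod_bot bot_ne_top
  rw [finrank_bot, zero_add] at hfr
  letI cE := ComodSub.Comod.restr c E hE
  letI cQ := ComodSub.Comod.quot c E hE
  have hEone : ∀ v ∈ E, actHom k A V g v = v := by
    intro v hv
    have hcomm : ∀ a b : Module.End k E, a * b = b * a := by
      intro a b
      let e := (Module.basisUnique (R := k) (M := E) (Fin 1) hfr)
      have ha : a = (e.repr (a (e default)) default) • 1 := e.ext fun i => by
        rw [Subsingleton.elim i default]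
        conv_lhs => rw [← e.sum_repr (a (e default))]
        simp
      rw [ha]; simp
    letI : CommMonoid (Module.End k E) := { (inferInstance : Monoid (Module.End k E)) with mul_comm := hcomm }
    have h := Abelianization.commutator_subset_ker ((actHom k A E).toHomUnits) hg
    rw [MonoidHom.mem_ker] at h
    have h2 := congrArg Units.val h
    rw [MonoidHom.coe_toHomUnits, Units.val_one] at h2
    have h3 := IsComodHom.dact (ComodSub.isComodHom_subtype c E hE) g.ofConv.toLinearMap ⟨v, hv⟩
    rw [← act_eq_dact, ← act_eq_dact, ← actHom_apply, ← actHom_apply, h2] at h3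
    exact h3.symm
  have hq : ∀ (j : ℕ) (v : V), E.mkQ (((actHom k A V g - 1) ^ j) v) =
      ((actHom k A (V ⧸ E) g - 1) ^ j) (E.mkQ v) := by
    intro j
    induction j with
    | zero => simp
    | succ j ihj =>
      intro v
      rw [pow_succ', pow_succ', Module.End.mul_apply, Module.End.mul_apply, ← ihj]
      generalize ((actHom k A V g - 1) ^ j) v = w
      rw [LinearMap.sub_apply, LinearMap.sub_apply, map_sub]
      congr 1
      exact IsComodHom.dact (ComodSub.isComodHom_mkQ c E hE) g.ofConv.toLinearMap w
  have hlt : Module.finrank k (V ⧸ E) < n := by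
    have := E.finrank_quotient_add_finrank
    omega
  obtain ⟨m, hm⟩ := ih _ hlt (V ⧸ E) rfl
  refine ⟨m + 1, LinearMap.ext fun v => ?_⟩
  rw [pow_succ', Module.End.mul_apply]
  have hmem : ((actHom k A V g - 1) ^ m) v ∈ E := by
    rw [← Submodule.Quotient.mk_eq_zero, ← Submodule.mkQ_apply, hq, hm]
    rfl
  rw [LinearMap.sub_apply, hEone _ hmem]
  exact sub_self _

end Groth.Agent.Comod33.LK
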