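import Groth.Agent.Comod33.Finite
import Mathlib.RingTheory.SimpleModule.Basic
import Mathlib.RingTheory.SimpleModule.Isotypic

/-!
Simple and semisimple comodules as modules over the convolution algebra.
-/

universe u v w w'

open TensorProduct

noncomputable section

namespace Groth.Agent.Comod33

variable {k : Type u} [Field k] {A : Type v} [AddCommGroup A] [Module k A] [Coalgebra k A]
variable {V : Type w} [AddCommGroup V] [Module k V] [HopfRep.Comod k A V]
variable {W : Type w'} [AddCommGroup W] [Module k W] [HopfRep.Comod k A W]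

local notation "Λ" => WithConv (A →ₗ[k] k)

theorem isSimpleComod_iff : HopfRep.IsSimpleComod k A V ↔ IsSimpleModule Λ V := by
  constructor
  · rintro ⟨hnt, h⟩
    have : Nontrivial (Submodule Λ V) := (Submodule.nontrivial_iff Λ).2 hnt
    exact (isSimpleModule_iff _ _).2 ⟨fun U => (h _ (isSubcomod_restrictScalars U)).imp
      (fun e => Submodule.restrictScalars_injective k Λ V (by simpa using e))
      (fun e => Submodule.restrictScalars_injective k Λ V (by simpa using e))⟩
  · intro h
    refine ⟨IsSimpleModule.nontrivial Λ V, fun U hU => ?_⟩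
    exact (eq_bot_or_eq_top (toSub U hU)).imp
      (fun e => by rw [← restrictScalars_toSub U hU, e]; simp)
      (fun e => by rw [← restrictScalars_toSub U hU, e]; simp)

theorem isSemisimpleComod_iff : HopfRep.IsSemisimpleComod k A V ↔ IsSemisimpleModule Λ V := by
  constructor
  · intro h
    refine (isSemisimpleModule_iff _ _).2 ⟨fun U => ?_⟩
    obtain ⟨W', hW', hc⟩ := h _ (isSubcomod_restrictScalars U)
    refine ⟨toSub W' hW', ⟨?_, ?_⟩⟩
    · rw [Submodule.disjoint_def]
      intro x hx hx'
      exact (Submodule.disjoint_def.1 hc.disjoint) x hx hx'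
    · rw [codisjoint_iff, eq_top_iff]
      intro x _
      obtain ⟨a, ha, b, hb, rfl⟩ := Submodule.mem_sup.1 (hc.sup_eq_top ▸ Submodule.mem_top (x := x))
      exact Submodule.add_mem_sup (S := U) (T := toSub W' hW') ha hb
  · intro h U hU
    obtain ⟨U', hc⟩ := exists_isCompl (toSub U hU)
    refine ⟨U'.restrictScalars k, isSubcomod_restrictScalars U', ⟨?_, ?_⟩⟩
    · rw [Submodule.disjoint_def]
      intro x hx hx'
      exact (Submodule.disjoint_def.1 hc.disjoint) x hx hx'
    · rw [codisjoint_iff, eq_top_iff]
      intro x _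
      obtain ⟨a, ha, b, hb, rfl⟩ := Submodule.mem_sup.1 (hc.sup_eq_top ▸ Submodule.mem_top (x := x))
      exact Submodule.add_mem_sup (S := U) (T := U'.restrictScalars k) ha hb

theorem isSimpleModule_toSub_iff {U : Submodule k V} (hU : HopfRep.IsSubcomod (k := k) (A := A) U) :
    IsSimpleModule Λ (toSub U hU) ↔
      U ≠ ⊥ ∧ ∀ W' : Submodule k V, HopfRep.IsSubcomod (k := k) (A := A) W' → W' ≤ U → W' = ⊥ ∨ W' = U := by
  rw [isSimpleModule_iff_isAtom, isAtom_iff_le_of_ge]
  constructor
  · rintro ⟨h0, h⟩
    refine ⟨fun e => h0 (Submodule.restrictScalars_injective k Λ V (by simpa using e)), fun W' hW' hle => ?_⟩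
    by_cases e : W' = ⊥
    · exact Or.inl e
    · refine Or.inr (le_antisymm hle ?_)
      exact fun x hx => h (toSub W' hW') (fun e' => e (by rw [← restrictScalars_toSub W' hW', e']; simp)) hle hx
  · rintro ⟨h0, h⟩
    refine ⟨fun e => h0 (by rw [← restrictScalars_toSub U hU, e]; simp), fun U' hne hle => ?_⟩
    rcases h _ (isSubcomod_restrictScalars U') hle with e | e
    · exact absurd (Submodule.restrictScalars_injective k Λ V (by simpa using e)) hne
    · intro x hx
      have : x ∈ U'.restrictScalars k := by rw [e]; exact hx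
      exact this

/-- transport a `Λ`-linear equivalence to an isomorphism of comodules -/
theorem exists_comodIso_iff :
    (∃ e : V ≃ₗ[k] W, Hoch.IsComodHom A (e : V →ₗ[k] W)) ↔ Nonempty (V ≃ₗ[Λ] W) := by
  constructor
  · rintro ⟨e, he⟩
    exact ⟨LinearEquiv.ofBijective (toDualLinear (A := A) _ he) e.bijective⟩
  · rintro ⟨e⟩
    exact ⟨e.restrictScalars k, isComodHom_restrictScalars e.toLinearMap⟩

theorem bijective_or_eq_zero (hV : HopfRep.IsSimpleComod k A V) (hW : HopfRep.IsSimpleComod k A W)
    (φ : V →ₗ[k] W) (hφ : Hoch.IsComodHom A φ) : φ = 0 ∨ Function.Bijective φ := by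
  have := isSimpleComod_iff.1 hV
  have := isSimpleComod_iff.1 hW
  rcases LinearMap.bijective_or_eq_zero (toDualLinear (A := A) φ hφ) with h | h
  · exact Or.inr h
  · exact Or.inl (LinearMap.ext fun v => LinearMap.congr_fun h v)

/-- a comodule whose finite dimensional subcomodules are semisimple is semisimple -/
theorem isSemisimpleModule_of_forall_gen
    (h : ∀ v : V, IsSemisimpleModule Λ (toSub (gen (k := k) (A := A) v) (isSubcomod_gen v))) :
    IsSemisimpleModule Λ V := by
  refine isSemisimpleModule_of_isSemisimpleModule_submodule'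
    (p := fun v => toSub (gen (k := k) (A := A) v) (isSubcomod_gen v)) h ?_
  rw [eq_top_iff]
  exact fun x _ => Submodule.mem_iSup_of_mem x (mem_gen (k := k) (A := A) x)

end Groth.Agent.Comod33
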