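import Groth.Agent.Comod33.CartierReduced
import Groth.Agent.HopfOm57.Free
import Groth.Agent.Var76.RegKaehler
import Groth.Agent.FlatMor67.RegularSmooth
import Groth.Agent.EGA4Alg4.IntegralDim
import Mathlib.RingTheory.Etale.Descent
import Mathlib.RingTheory.Smooth.Locus
import Mathlib.RingTheory.Ideal.Height
import Mathlib.FieldTheory.IsAlgClosed.AlgebraicClosure
import Mathlib.Algebra.Field.ULift
import Mathlib.RingTheory.HopfAlgebra.TensorProduct

/-!
Dimension, tangent space at the identity and smoothness of an affine algebraic group.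
-/

universe u v w

open TensorProduct IsLocalRing

noncomputable section

namespace Groth.Agent.Comod33.Dim

open Groth.Agent.Comod33.Aug

variable {k : Type u} [Field k] {A : Type v} [CommRing A] [HopfAlgebra k A]

variable (k A) in
theorem finrank_omega :
    Module.finrank A (Ω[A⁄k]) = Module.finrank k (aug k A).Cotangent := by
  have : Nontrivial A := Bialgebra.nontrivial (R := k) (A := A)
  let g : A →ₗ[k] (aug k A).Cotangent :=
    (aug k A).toCotangent.restrictScalars k ∘ₗ LinearMap.codRestrict ((aug k A).restrictScalars k)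
      (LinearMap.id - (Algebra.linearMap k A) ∘ₗ (CoalgebraStruct.counit (R := k) (A := A)))
      (fun a => sub_mem_aug a)
  have hg : Function.Surjective g := by
    intro z
    obtain ⟨⟨a, ha⟩, rfl⟩ := (aug k A).toCotangent_surjective z
    refine ⟨a, congrArg (aug k A).toCotangent (Subtype.ext ?_)⟩
    show a - algebraMap k A (CoalgebraStruct.counit (R := k) a) = a
    rw [mem_aug_iff.1 ha, map_zero, sub_zero]
  have hker : LinearMap.ker g = HopfOm57.constSq k A := by
    ext a
    rw [LinearMap.mem_ker]
    show (aug k A).toCotangent ⟨a - algebraMap k A (CoalgebraStruct.counit (R := k) a), _⟩ = 0 ↔ _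
    rw [Ideal.toCotangent_eq_zero]
    constructor
    · intro h
      refine Submodule.mem_sup.2 ⟨CoalgebraStruct.counit (R := k) a • (1 : A),
        Submodule.smul_mem _ _ (Submodule.mem_span_singleton_self _), _, h, ?_⟩
      show _ + (a - algebraMap k A (CoalgebraStruct.counit (R := k) a)) = a
      rw [Algebra.algebraMap_eq_smul_one]; abel
    · intro h
      obtain ⟨_, hc, y, hy, rfl⟩ := Submodule.mem_sup.1 h
      obtain ⟨c, rfl⟩ := Submodule.mem_span_singleton.1 hc
      have hy1 : CoalgebraStruct.counit (R := k) y = 0 := mem_aug_iff.1 (Ideal.pow_le_self two_ne_zero hy)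
      show c • (1 : A) + y - algebraMap k A (CoalgebraStruct.counit (R := k) (c • (1 : A) + y)) ∈ aug k A ^ 2
      rw [show c • (1 : A) + y - algebraMap k A (CoalgebraStruct.counit (R := k) (c • (1 : A) + y)) = y by
        rw [map_add, map_smul, hy1, Bialgebra.counit_one, smul_eq_mul, mul_one, add_zero,
          Algebra.algebraMap_eq_smul_one]; abel]
      exact hy
  let e0 : (A ⧸ HopfOm57.constSq k A) ≃ₗ[k] (aug k A).Cotangent :=
    (Submodule.quotEquivOfEq _ _ hker.symm).trans (g.quotKerEquivOfSurjective hg)
  let e1 : A ⊗[k] (A ⧸ HopfOm57.constSq k A) ≃ₗ[A] Ω[A⁄k] :=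
    LinearEquiv.ofLinear (HopfOm57.psi k A) (HopfOm57.der k A).liftKaehlerDifferential
      (Derivation.liftKaehlerDifferential_unique _ _ (Derivation.ext fun b => by simp [HopfOm57.psi_der]))
      (by
        ext x
        simp only [TensorProduct.AlgebraTensorModule.curry_apply, LinearMap.restrictScalars_self,
          TensorProduct.curry_apply, LinearMap.coe_restrictScalars, LinearMap.comp_apply, LinearMap.id_apply]
        rw [HopfOm57.psi_tmul, one_smul, HopfOm57.phi_omega])
  rw [← e1.finrank_eq, Module.finrank_baseChange, e0.finrank_eq]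

theorem finrank_cotangent_baseChange (K : Type w) [Field K] [Algebra k K] :
    Module.finrank K (aug K (K ⊗[k] A)).Cotangent = Module.finrank k (aug k A).Cotangent := by
  have : Nontrivial A := Bialgebra.nontrivial (R := k) (A := A)
  have : Nontrivial (K ⊗[k] A) := Bialgebra.nontrivial (R := K) (A := K ⊗[k] A)
  rw [← finrank_omega K (K ⊗[k] A), ← finrank_omega k A]
  letI : Algebra A (K ⊗[k] A) := Algebra.TensorProduct.rightAlgebra
  have := HopfOm57.free k A
  rw [← (KaehlerDifferential.tensorKaehlerEquiv k K A (K ⊗[k] A)).finrank_eq, Module.finrank_baseChange]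

theorem exists_translate [IsAlgClosed k] [Algebra.FiniteType k A] (m : Ideal A) [m.IsMaximal] :
    ∃ σ : A ≃+* A, m = (aug k A).comap σ := by
  obtain ⟨g, rfl⟩ := exists_point_ker (k := k) m
  refine ⟨(translEquiv g).toRingEquiv, Ideal.ext fun a => ?_⟩
  rw [Ideal.mem_comap, mem_aug_iff, RingHom.mem_ker, ← counit_transl g a]
  rfl

theorem aug_isMaximal : (aug k A).IsMaximal :=
  RingHom.ker_isMaximal_of_surjective (Bialgebra.counitAlgHom k A)
    fun c => ⟨algebraMap k A c, (Bialgebra.counitAlgHom k A).commutes c⟩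

theorem ringKrullDim_eq_height [IsAlgClosed k] [Algebra.FiniteType k A] :
    ringKrullDim A = ((aug k A).height : WithBot ℕ∞) := by
  have : Nontrivial A := Bialgebra.nontrivial (R := k) (A := A)
  refine le_antisymm ?_ (Ideal.height_le_ringKrullDim_of_ne_top aug_isMaximal.ne_top)
  rw [← Ideal.sup_height_eq_ringKrullDim, WithBot.coe_le_coe]
  refine iSup₂_le fun I hI => ?_
  obtain ⟨m, hm, hIm⟩ := Ideal.exists_le_maximal I hI
  obtain ⟨σ, hσ⟩ := exists_translate (k := k) m
  refine (Ideal.height_mono hIm).trans ?_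
  rw [hσ, RingEquiv.height_comap]

section Closed

variable {K : Type w} [Field K] [IsAlgClosed K] {C : Type w} [CommRing C] [HopfAlgebra K C]
  [Algebra.FiniteType K C]

theorem dim_le_and_smooth_iff :
    ringKrullDim C ≤ (Module.finrank K (aug K C).Cotangent : WithBot ℕ∞) ∧
      (ringKrullDim C = (Module.finrank K (aug K C).Cotangent : WithBot ℕ∞) ↔ Algebra.Smooth K C) := by
  have : IsNoetherianRing C := Algebra.FiniteType.isNoetherianRing K C
  have : Algebra.FinitePresentation K C := Algebra.FinitePresentation.of_finiteType.1 inferInstance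
  haveI : (aug K C).IsMaximal := aug_isMaximal
  let eq : (C ⧸ aug K C) ≃ₐ[K] K := Ideal.quotientKerAlgEquivOfSurjective
    (f := Bialgebra.counitAlgHom K C) fun c => ⟨algebraMap K C c, (Bialgebra.counitAlgHom K C).commutes c⟩
  have hn : Module.finrank (C ⧸ aug K C) (aug K C).Cotangent = Module.finrank K (aug K C).Cotangent := by
    letI : Field (C ⧸ aug K C) := Ideal.Quotient.field _
    haveI : Module.Free (C ⧸ aug K C) (aug K C).Cotangent := Module.Free.of_divisionRing _ _
    haveI : IsScalarTower K (C ⧸ aug K C) (aug K C).Cotangent := IsScalarTower.to₁₃₄ _ C _ _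
    rw [← Module.finrank_mul_finrank K (C ⧸ aug K C) (aug K C).Cotangent,
      eq.toLinearEquiv.finrank_eq, Module.finrank_self, one_mul]
  let R := Localization.AtPrime (aug K C)
  have hsr : (maximalIdeal R).spanFinrank = Module.finrank K (aug K C).Cotangent :=
    hn ▸ le_antisymm (Var76.RegKaehler.spanFinrank_le _) (Var76.RegKaehler.finrank_cotangent_le _)
  have hdim : ringKrullDim C = ringKrullDim R := by
    rw [ringKrullDim_eq_height (k := K), IsLocalization.AtPrime.ringKrullDim_eq_height (aug K C)]
  rw [hdim, ← hsr]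
  refine ⟨ringKrullDim_le_spanFinrank_maximalIdeal R, fun h => ?_, fun h => ?_⟩
  · have hreg : IsRegularLocalRing R := IsRegularLocalRing.of_spanFinrank_maximalIdeal_le R h.ge
    refine ⟨Algebra.smoothLocus_eq_univ_iff.1 (Set.eq_univ_iff_forall.2 fun p => ?_), inferInstance⟩
    obtain ⟨m, hm, hpm⟩ := Ideal.exists_le_maximal p.asIdeal p.2.ne_top
    obtain ⟨σ, hσ⟩ := exists_translate (k := K) m
    have : IsRegularLocalRing (Localization.AtPrime m) :=
      IsRegularLocalRing.of_ringEquiv (Localization.localRingEquiv (I := m) (aug K C) σ hσ).symm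
    have : Algebra.FormallySmooth K m.ResidueField := by
      obtain ⟨g, hg⟩ := exists_point_ker (k := K) m
      let e1 : (C ⧸ m) ≃ₐ[K] K := (Ideal.quotientEquivAlgOfEq K hg).trans
        (Ideal.quotientKerAlgEquivOfSurjective (f := g) fun c => ⟨algebraMap K C c, g.commutes c⟩)
      let e2 : (C ⧸ m) ≃ₐ[K] m.ResidueField := AlgEquiv.ofBijective (IsScalarTower.toAlgHom _ _ _)
        m.bijective_algebraMap_quotient_residueField
      exact Algebra.FormallySmooth.of_equiv (e1.symm.trans e2)
    have hm' : (⟨m, hm.isPrime⟩ : PrimeSpectrum C) ∈ Algebra.smoothLocus K C :=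
      FlatMor67.isSmoothAt_of_regular m
    exact ((PrimeSpectrum.le_iff_specializes p ⟨m, hm.isPrime⟩).1 hpm).mem_open
      Algebra.isOpen_smoothLocus hm'
  · have := Var76.RegKaehler.isRegularRing_of_smooth (k := K) C
    exact (IsRegularRing.isRegularLocalRing_localization (aug K C)).spanFinrank_maximalIdeal.symm

end Closed

theorem dim_le_finrank_and_smooth_iff [Algebra.FiniteType k A] :
    ringKrullDim A ≤ (Module.finrank k (aug k A).Cotangent : WithBot ℕ∞) ∧
      (ringKrullDim A = (Module.finrank k (aug k A).Cotangent : WithBot ℕ∞) ↔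
        Algebra.FormallySmooth k A) := by
  let K := ULift.{v} (AlgebraicClosure k)
  let ι : AlgebraicClosure k ≃+* K := ULift.ringEquiv.symm
  haveI : IsAlgClosed K := ⟨fun p => by
    have h := (IsAlgClosed.splits (p.map (ι.symm : K →+* AlgebraicClosure k))).map (ι : AlgebraicClosure k →+* K)
    rwa [Polynomial.map_map, RingEquiv.comp_symm, Polynomial.map_id] at h⟩
  haveI : Algebra.IsAlgebraic k K :=
    (ULift.algEquiv (R := k) (A := AlgebraicClosure k)).symm.isAlgebraic
  letI : Algebra A (K ⊗[k] A) := Algebra.TensorProduct.rightAlgebra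
  have : Nontrivial A := Bialgebra.nontrivial (R := k) (A := A)
  haveI : Algebra.IsIntegral A (K ⊗[k] A) := by
    haveI : Algebra.IsIntegral k K := inferInstance
    let e : A ⊗[k] K ≃ₐ[A] K ⊗[k] A :=
      AlgEquiv.ofRingEquiv (f := Algebra.TensorProduct.comm k A K) fun a => by
        simp [RingHom.algebraMap_toAlgebra]
    exact Algebra.IsIntegral.of_surjective (R := A) (A := A ⊗[k] K) e.toAlgHom e.surjective
  have hd : ringKrullDim (K ⊗[k] A) = ringKrullDim A := by
    refine EGA4Alg4.ringKrullDim_eq_of_integral A (K ⊗[k] A) ?_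
    exact Algebra.TensorProduct.includeRight_injective (algebraMap k K).injective
  obtain ⟨h1, h2⟩ := dim_le_and_smooth_iff (K := K) (C := K ⊗[k] A)
  rw [hd, finrank_cotangent_baseChange] at h1 h2
  refine ⟨h1, h2.trans ⟨fun _ => ?_, fun _ => ?_⟩⟩
  · have := Algebra.Smooth.of_smooth_tensorProduct_of_faithfullyFlat (R := k) (S := A) K
    exact this.1
  · exact ⟨inferInstance, Algebra.FinitePresentation.of_finiteType.1 inferInstance⟩

end Groth.Agent.Comod33.Dim
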