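import Mathlib.RingTheory.SimpleModule.Basic
import Mathlib.RepresentationTheory.AlgebraRepresentation.Basic
import Mathlib.LinearAlgebra.Trace
import Mathlib.FieldTheory.IsAlgClosed.AlgebraicClosure
import Mathlib.LinearAlgebra.TensorProduct.Tower
import Mathlib.LinearAlgebra.FiniteDimensional.Basic

/-!
Kolchin's fixed vector theorem.
-/

universe u v w

open TensorProduct

noncomputable section

namespace Groth.Agent.Comod33

theorem trace_eq_zero_of_isNilpotent {K : Type u} [Field K] {V : Type v} [AddCommGroup V] [Module K V]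
    {x : Module.End K V} (h : IsNilpotent x) : LinearMap.trace K V x = 0 :=
  (LinearMap.isNilpotent_trace_of_isNilpotent h).eq_zero

/-- over an algebraically closed field, a monoid acting by unipotents on a simple module acts trivially -/
theorem eq_one_of_simple {K : Type u} [Field K] [IsAlgClosed K] {W : Type v} [AddCommGroup W] [Module K W]
    [FiniteDimensional K W] (M : Submonoid (Module.End K W)) (hM : ∀ x ∈ M, IsNilpotent (x - 1))
    [Nontrivial W]
    (hsimple : ∀ U : Submodule K W, (∀ x ∈ M, ∀ u ∈ U, x u ∈ U) → U = ⊥ ∨ U = ⊤) :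
    ∀ x ∈ M, x = 1 := by
  let E := Algebra.adjoin K (M : Set (Module.End K W))
  have hsimpE : IsSimpleModule E W := by
    refine (isSimpleModule_iff _ _).2 ⟨fun U => ?_⟩
    rcases hsimple (U.restrictScalars K)
      (fun x hx u hu => U.smul_mem (⟨x, Algebra.subset_adjoin hx⟩ : E) hu) with h | h
    · exact Or.inl (Submodule.restrictScalars_injective K E W (by simpa using h))
    · exact Or.inr (Submodule.restrictScalars_injective K E W (by simpa using h))
  have hsurj : ∀ g : Module.End K W, g ∈ E := by
    intro g
    have hb := IsSimpleModule.algebraMap_end_bijective_of_isAlgClosed (A := E) (V := W) K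
    let g' : Module.End (Module.End E W) W :=
      { toFun := g
        map_add' := map_add g
        map_smul' := fun r m => by
          obtain ⟨c, rfl⟩ := hb.2 r
          simp [Module.algebraMap_end_apply] }
    have : Module.Finite (Module.End E W) W := Module.Finite.of_restrictScalars_finite K _ _
    obtain ⟨r, hr⟩ := Module.Finite.toModuleEnd_moduleEnd_surjective (R := E) (M := W) g'
    have : g = (r : Module.End K W) := by
      ext m; exact (LinearMap.congr_fun hr m).symm
    rw [this]; exact r.2
  intro x hx
  have key : ∀ g : Module.End K W, LinearMap.trace K W ((x - 1) * g) = 0 := by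
    intro g
    have hspan : g ∈ Submodule.span K (M : Set (Module.End K W)) := by
      have := hsurj g
      change g ∈ Subalgebra.toSubmodule (Algebra.adjoin K (M : Set (Module.End K W))) at this
      rw [Algebra.adjoin_eq_span, Submonoid.closure_eq] at this
      exact this
    induction hspan using Submodule.span_induction with
    | mem y hy =>
      have : (x - 1) * y = (x * y - 1) - (y - 1) := by rw [sub_mul, one_mul]; abel
      rw [this, map_sub, trace_eq_zero_of_isNilpotent (hM _ (M.mul_mem hx hy)),
        trace_eq_zero_of_isNilpotent (hM _ hy), sub_zero]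
    | zero => simp
    | add a b _ _ ha hb => rw [mul_add, map_add, ha, hb, add_zero]
    | smul c a _ ha => rw [mul_smul_comm, map_smul, ha, smul_zero]
  refine sub_eq_zero.1 (LinearMap.ext fun w => (Module.forall_dual_apply_eq_zero_iff K _).1 fun φ => ?_)
  have := key (φ.smulRight w)
  rwa [show (x - 1) * φ.smulRight w = φ.smulRight ((x - 1) w) by ext m; simp,
    LinearMap.trace_smulRight] at this

/-- a monoid of unipotent endomorphisms fixes a nonzero vector (algebraically closed case) -/
theorem exists_fixed_isAlgClosed {K : Type u} [Field K] [IsAlgClosed K] {W : Type v} [AddCommGroup W]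
    [Module K W] [FiniteDimensional K W] [Nontrivial W] (M : Submonoid (Module.End K W))
    (hM : ∀ x ∈ M, IsNilpotent (x - 1)) : ∃ w : W, w ≠ 0 ∧ ∀ x ∈ M, x w = w := by
  induction h : Module.finrank K W using Nat.strong_induction_on generalizing W with
  | _ n ih =>
    by_cases hs : ∀ U : Submodule K W, (∀ x ∈ M, ∀ u ∈ U, x u ∈ U) → U = ⊥ ∨ U = ⊤
    · obtain ⟨w, hw⟩ := exists_ne (0 : W)
      exact ⟨w, hw, fun x hx => by rw [eq_one_of_simple M hM hs x hx]; rfl⟩
    · push Not at hs
      obtain ⟨U, hU, h0, htop⟩ := hs
      have : Nontrivial U := Submodule.nontrivial_iff_ne_bot.2 h0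
      let M' : Submonoid (Module.End K U) :=
        { carrier := {y | ∃ x ∈ M, ∀ u : U, (y u : W) = x u}
          one_mem' := ⟨1, M.one_mem, fun u => rfl⟩
          mul_mem' := by
            rintro a b ⟨x, hx, ha⟩ ⟨y, hy, hb⟩
            exact ⟨x * y, M.mul_mem hx hy, fun u => by
              rw [Module.End.mul_apply, ha, hb]; rfl⟩ }
      have hM' : ∀ y ∈ M', IsNilpotent (y - 1) := by
        rintro y ⟨x, hx, hy⟩
        obtain ⟨m, hm⟩ := hM x hx
        refine ⟨m, LinearMap.ext fun u => Subtype.ext ?_⟩
        have hp : ∀ (j : ℕ) (u : U), (((y - 1) ^ j) u : W) = ((x - 1) ^ j) (u : W) := by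
          intro j
          induction j with
          | zero => simp
          | succ j ihj =>
            intro u
            rw [pow_succ', pow_succ', Module.End.mul_apply, Module.End.mul_apply, ← ihj]
            simp [hy]
        rw [hp, hm]; simp
      obtain ⟨w, hw, hfix⟩ := ih _ (h ▸ Submodule.finrank_lt htop) M' hM' rfl
      refine ⟨w, fun e => hw (Subtype.ext e), fun x hx => ?_⟩
      exact congrArg Subtype.val (hfix (x.restrict (hU x hx)) ⟨x, hx, fun u => rfl⟩)

/-- Kolchin: a monoid of unipotent endomorphisms fixes a nonzero vector -/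
theorem exists_fixed_of_unipotent {k : Type u} [Field k] {G : Type w} [Monoid G] {V : Type v}
    [AddCommGroup V] [Module k V] [FiniteDimensional k V] [Nontrivial V] (ρ : G →* Module.End k V)
    (hρ : ∀ g, IsNilpotent (ρ g - 1)) : ∃ v : V, v ≠ 0 ∧ ∀ g, ρ g v = v := by
  classical
  let K := AlgebraicClosure k
  let F : Module.End k V →ₐ[k] Module.End K (K ⊗[k] V) := Module.End.baseChangeHom k K V
  have hnt : Nontrivial (K ⊗[k] V) := by
    obtain ⟨v, hv⟩ := exists_ne (0 : V)
    refine ⟨⟨(1 : K) ⊗ₜ v, 0, fun e => hv ?_⟩⟩
    have := congrArg (fun z => TensorProduct.equivFinsuppOfBasisLeft (Module.Free.chooseBasis k K) z) e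
    simp only [map_zero, TensorProduct.equivFinsuppOfBasisLeft_apply_tmul] at this
    have hne : (Module.Free.chooseBasis k K).repr (1 : K) ≠ 0 := by simp
    obtain ⟨i, hi⟩ := Finsupp.ne_iff.1 hne
    have h2 := DFunLike.congr_fun this i
    simp only [Finsupp.mapRange_apply, Finsupp.coe_zero, Pi.zero_apply] at h2 hi
    exact (smul_eq_zero.1 h2).resolve_left hi
  let M : Submonoid (Module.End K (K ⊗[k] V)) := MonoidHom.mrange (F.toRingHom.toMonoidHom.comp ρ)
  have hM : ∀ x ∈ M, IsNilpotent (x - 1) := by
    rintro _ ⟨g, rfl⟩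
    have := (hρ g).map F
    rwa [map_sub, map_one] at this
  obtain ⟨x, hx, hfix⟩ := exists_fixed_isAlgClosed M hM
  let b := Module.Free.chooseBasis k K
  let e := TensorProduct.equivFinsuppOfBasisLeft (N := V) b
  obtain ⟨i, hi⟩ := Finsupp.ne_iff.1 (fun h => hx (e.injective (h.trans (map_zero e).symm)))
  refine ⟨e x i, by simpa using hi, fun g => ?_⟩
  have hnat : ∀ z : K ⊗[k] V, e (F (ρ g) z) i = ρ g (e z i) := by
    intro z
    induction z with
    | zero => simp
    | tmul c v =>
      show e (((ρ g).baseChange K) (c ⊗ₜ[k] v)) i = _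
      simp [e]
    | add p q hp hq => simp only [map_add, Finsupp.add_apply, hp, hq]
  rw [← hnat]
  exact congrArg (fun z => e z i) (hfix _ ⟨g, rfl⟩)

end Groth.Agent.Comod33
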