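import Groth.Agent.Comod33.Points
import Mathlib.LinearAlgebra.Dimension.Constructions

/-!
The fixed point series of a comodule.
-/

universe u v w w'

open TensorProduct

noncomputable section

namespace Groth.Agent.Comod33

variable {k : Type u} [Field k] {A : Type v}

theorem mem_range_iff_mkQ [AddCommGroup A] [Module k A] {V : Type w} [AddCommGroup V] [Module k V]
    (U : Submodule k V) (x : V ⊗[k] A) :
    x ∈ LinearMap.range (U.subtype.rTensor A) ↔ U.mkQ.rTensor A x = 0 := by
  rw [mem_range_rTensor_iff]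
  constructor
  · intro h
    refine eq_of_rc fun f => ?_
    rw [rc_rTensor, map_zero, Submodule.mkQ_apply, Submodule.Quotient.mk_eq_zero]
    exact h f
  · intro h f
    rw [← Submodule.Quotient.mk_eq_zero U, ← Submodule.mkQ_apply, ← rc_rTensor, h, map_zero]

variable [CommRing A] [Bialgebra k A]
variable {V : Type w} [AddCommGroup V] [Module k V] [HopfRep.Comod k A V]

variable (k A V) in
/-- the fixed point series -/
def soc : ℕ → Submodule k V
  | 0 => ⊥
  | i + 1 => (LinearMap.range ((soc i).subtype.rTensor A)).comap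
      (HopfRep.Comod.coact (k := k) (A := A) - (TensorProduct.mk k V A).flip 1)

theorem mem_soc_succ {i : ℕ} {v : V} : v ∈ soc k A V (i + 1) ↔
    HopfRep.Comod.coact (k := k) (A := A) v - v ⊗ₜ[k] (1 : A) ∈
      LinearMap.range ((soc k A V i).subtype.rTensor A) := Iff.rfl

theorem soc_one : soc k A V 1 = HopfRep.fixedPts k A V := by
  ext v
  rw [mem_soc_succ]
  show _ ↔ HopfRep.Comod.coact (k := k) (A := A) v = v ⊗ₜ[k] (1 : A)
  constructor
  · rintro ⟨y, hy⟩
    rw [show y = 0 by
      have : Subsingleton (soc k A V 0) := by simp [soc]; infer_instance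
      exact Subsingleton.elim _ _, map_zero] at hy
    exact sub_eq_zero.1 hy.symm
  · intro h; rw [h, sub_self]; exact zero_mem _

theorem mem_soc_succ_iff {i : ℕ} {v : V} : v ∈ soc k A V (i + 1) ↔
    ∀ f : A →ₗ[k] k, f 1 = 0 → dact f v ∈ soc k A V i := by
  rw [mem_soc_succ, mem_range_rTensor_iff]
  constructor
  · intro h f hf
    have := h f
    rw [map_sub, rc_tmul, hf, zero_smul, sub_zero] at this
    exact this
  · intro h f
    have := h (f - f 1 • CoalgebraStruct.counit) (by simp [Bialgebra.counit_one])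
    rw [sub_eq_add_neg, dact_add, ← neg_one_smul k (f 1 • CoalgebraStruct.counit (R := k) (A := A)),
      dact_smul, dact_smul] at this
    rw [neg_one_smul, ← sub_eq_add_neg, LinearMap.sub_apply, LinearMap.smul_apply, dact_counit] at this
    rw [map_sub, rc_tmul, ← dact_apply]
    exact this

theorem isSubcomod_soc_and_le (i : ℕ) :
    HopfRep.IsSubcomod (k := k) (A := A) (soc k A V i) ∧ soc k A V i ≤ soc k A V (i + 1) := by
  have hle : ∀ j, HopfRep.IsSubcomod (k := k) (A := A) (soc k A V j) → soc k A V j ≤ soc k A V (j + 1) :=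
    fun j hj v hv => mem_soc_succ.2 (Submodule.sub_mem _ (hj v hv) ⟨⟨v, hv⟩ ⊗ₜ 1, by simp⟩)
  induction i with
  | zero => exact ⟨isSubcomod_bot, hle 0 isSubcomod_bot⟩
  | succ n ih =>
    suffices h : HopfRep.IsSubcomod (k := k) (A := A) (soc k A V (n + 1)) from ⟨h, hle _ h⟩
    intro v hv
    rw [← sub_add_cancel (HopfRep.Comod.coact (k := k) (A := A) v) (v ⊗ₜ[k] (1 : A))]
    exact Submodule.add_mem _ (range_rTensor_mono ih.2 (mem_soc_succ.1 hv)) ⟨⟨v, hv⟩ ⊗ₜ 1, by simp⟩

theorem isSubcomod_soc (i : ℕ) : HopfRep.IsSubcomod (k := k) (A := A) (soc k A V i) :=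
  (isSubcomod_soc_and_le i).1

theorem soc_mono : Monotone (soc k A V) :=
  monotone_nat_of_le_succ fun i => (isSubcomod_soc_and_le i).2

theorem map_soc_le {W : Type w'} [AddCommGroup W] [Module k W] [HopfRep.Comod k A W] {h : V →ₗ[k] W}
    (hh : Hoch.IsComodHom A h) {a : ℕ} (ha : soc k A V a ≤ LinearMap.ker h) :
    ∀ b, ∀ x ∈ soc k A V (a + b), h x ∈ soc k A W b
  | 0, x, hx => (Submodule.mem_bot k).2 (ha hx)
  | b + 1, x, hx => mem_soc_succ_iff.2 fun f hf => by
      rw [← IsComodHom.dact hh]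
      exact map_soc_le hh ha b _ (mem_soc_succ_iff.1 hx f hf)

theorem map_soc_le' {W : Type w'} [AddCommGroup W] [Module k W] [HopfRep.Comod k A W] {h : V →ₗ[k] W}
    (hh : Hoch.IsComodHom A h) (b : ℕ) {x : V} (hx : x ∈ soc k A V b) : h x ∈ soc k A W b :=
  map_soc_le hh (a := 0) bot_le b x (by rwa [zero_add])

theorem act_sub_one_mem_soc (g : A →ₐ[k] k) {i : ℕ} {v : V} (hv : v ∈ soc k A V (i + 1)) :
    (HopfRep.Comod.act k A V g - 1) v ∈ soc k A V i := by
  have := mem_soc_succ_iff.1 hv (g.toLinearMap - CoalgebraStruct.counit) (by simp [Bialgebra.counit_one])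
  rw [sub_eq_add_neg, dact_add, ← neg_one_smul k (CoalgebraStruct.counit (R := k) (A := A)),
    dact_smul] at this
  rw [neg_one_smul, ← sub_eq_add_neg, LinearMap.sub_apply, dact_counit] at this
  exact this

theorem act_sub_one_pow_mem_soc (g : A →ₐ[k] k) :
    ∀ j i, ∀ v ∈ soc k A V (i + j), ((HopfRep.Comod.act k A V g - 1) ^ j) v ∈ soc k A V i
  | 0, i, v, hv => by simpa using hv
  | j + 1, i, v, hv => by
      rw [pow_succ, Module.End.mul_apply]
      exact act_sub_one_pow_mem_soc g j i _ (act_sub_one_mem_soc g (by rwa [add_assoc]))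

section Unipotent

variable {k : Type u} [Field k] {A : Type v} [CommRing A] [Bialgebra k A]

theorem soc_lt_of_ne_top (hU : HopfRep.IsUnipotent k A) (V : Type v) [AddCommGroup V] [Module k V]
    [c : HopfRep.Comod k A V] [Module.Finite k V] {i : ℕ} (hi : soc k A V i ≠ ⊤) :
    soc k A V i < soc k A V (i + 1) := by
  refine lt_of_le_not_ge (soc_mono i.le_succ) fun hle => ?_
  let W := soc k A V i
  letI := ComodSub.Comod.quot c W (isSubcomod_soc i)
  have hnt : Nontrivial (V ⧸ W) := Submodule.Quotient.nontrivial_iff.2 hi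
  obtain ⟨q, hq, hq0⟩ := (Submodule.ne_bot_iff _).1 (hU (V ⧸ W) inferInstance hnt)
  obtain ⟨v, rfl⟩ := W.mkQ_surjective q
  refine hq0 ((Submodule.Quotient.mk_eq_zero W).2 (hle (mem_soc_succ.2 ((mem_range_iff_mkQ W _).2 ?_))))
  rw [map_sub, LinearMap.rTensor_tmul]
  exact sub_eq_zero.2 hq

theorem soc_finrank_eq_top (hU : HopfRep.IsUnipotent k A) (V : Type v) [AddCommGroup V] [Module k V]
    [HopfRep.Comod k A V] [Module.Finite k V] : soc k A V (Module.finrank k V) = ⊤ := by
  have key : ∀ i, soc k A V i = ⊤ ∨ i ≤ Module.finrank k (soc k A V i) := by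
    intro i
    induction i with
    | zero => exact Or.inr (Nat.zero_le _)
    | succ n ih =>
      by_cases h : soc k A V n = ⊤
      · exact Or.inl (top_le_iff.1 (h.ge.trans (soc_mono n.le_succ)))
      · exact Or.inr ((ih.resolve_left h).trans_lt
          (Submodule.finrank_lt_finrank_of_lt (soc_lt_of_ne_top hU V h)))
  rcases key (Module.finrank k V) with h | h
  · exact h
  · exact Submodule.eq_top_of_finrank_eq (le_antisymm (Submodule.finrank_le _) h)

theorem isNilpotent_act_sub_one (hU : HopfRep.IsUnipotent k A) (g : A →ₐ[k] k) (V : Type v)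
    [AddCommGroup V] [Module k V] [HopfRep.Comod k A V] [Module.Finite k V] :
    IsNilpotent (HopfRep.Comod.act k A V g - 1) := by
  refine ⟨Module.finrank k V, LinearMap.ext fun v => ?_⟩
  have := act_sub_one_pow_mem_soc (k := k) (A := A) (V := V) g (Module.finrank k V) 0 v (by
    rw [zero_add, soc_finrank_eq_top hU]; trivial)
  exact (Submodule.mem_bot k).1 this

theorem iSup_soc_eq_top (hU : HopfRep.IsUnipotent k A) (V : Type v) [AddCommGroup V] [Module k V]
    [c : HopfRep.Comod k A V] : ⨆ i, soc k A V i = ⊤ := by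
  rw [eq_top_iff]
  intro v _
  obtain ⟨W, hfin, hv, hW⟩ := exists_finite_subcomod_mem (k := k) (A := A) v
  letI := ComodSub.Comod.restr c W hW
  have h : (⟨v, hv⟩ : W) ∈ soc k A W (Module.finrank k W) := by rw [soc_finrank_eq_top hU]; trivial
  exact Submodule.mem_iSup_of_mem _ (map_soc_le' (ComodSub.isComodHom_subtype c W hW) _ h)

end Unipotent

end Groth.Agent.Comod33
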