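import Mathlib.GroupTheory.Nilpotent
import Mathlib.Algebra.Module.Submodule.Lattice
import Mathlib.Algebra.Module.LinearMap.End
import Mathlib.Tactic.NoncommRing

/-!
Groups of automorphisms unipotent with respect to a filtration are nilpotent.
-/

universe u v w

open scoped commutatorElement

namespace Groth.Agent.Comod33

variable {k : Type u} [CommRing k] {V : Type v} [AddCommGroup V] [Module k V]

/-- endomorphisms lowering a filtration by `p` steps -/
def Lowers (F : ℕ → Submodule k V) (p : ℕ) (x : Module.End k V) : Prop :=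
  ∀ i, ∀ v ∈ F (i + p), x v ∈ F i

variable {F : ℕ → Submodule k V}

theorem Lowers.mul {p q : ℕ} {x y : Module.End k V} (hx : Lowers F p x) (hy : Lowers F q y) :
    Lowers F (p + q) (x * y) := fun i v hv =>
  hx i (y v) (hy (i + p) v (by rwa [add_assoc]))

theorem Lowers.add {p : ℕ} {x y : Module.End k V} (hx : Lowers F p x) (hy : Lowers F p y) :
    Lowers F p (x + y) := fun i v hv => (F i).add_mem (hx i v hv) (hy i v hv)

theorem Lowers.neg {p : ℕ} {x : Module.End k V} (hx : Lowers F p x) : Lowers F p (-x) :=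
  fun i v hv => (F i).neg_mem (hx i v hv)

theorem Lowers.sub {p : ℕ} {x y : Module.End k V} (hx : Lowers F p x) (hy : Lowers F p y) :
    Lowers F p (x - y) := fun i v hv => (F i).sub_mem (hx i v hv) (hy i v hv)

theorem Lowers.of_le (hF : Monotone F) {p q : ℕ} (h : q ≤ p) {x : Module.End k V} (hx : Lowers F p x) :
    Lowers F q x := fun i v hv => hx i v (hF (by omega) hv)

theorem lowers_zero_one : Lowers F 0 (1 : Module.End k V) := fun _ _ hv => hv

theorem isNilpotent_of_lowers {H : Type w} [Group H] (ρ : H →* Module.End k V)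
    (hinj : Function.Injective ρ) (hF : Monotone F) (h0 : F 0 = ⊥) {n : ℕ} (hn : F n = ⊤)
    (h1 : ∀ g, Lowers F 1 (ρ g - 1)) : Group.IsNilpotent H := by
  have h00 : ∀ g, Lowers F 0 (ρ g) := fun g => by
    have := ((h1 g).of_le hF (Nat.zero_le 1)).add lowers_zero_one
    rwa [sub_add_cancel] at this
  let S : ℕ → Subgroup H := fun p =>
    { carrier := {g | Lowers F (p + 1) (ρ g - 1)}
      one_mem' := by
        intro i v _
        simp
      mul_mem' := by
        intro a b ha hb
        have e : ρ (a * b) - 1 = (ρ a - 1) * ρ b + (ρ b - 1) := by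
          rw [map_mul]; noncomm_ring
        show Lowers F (p + 1) (ρ (a * b) - 1)
        rw [e]
        exact ((Lowers.mul ha (h00 b)).of_le hF (by omega)).add hb
      inv_mem' := by
        intro a ha
        have e : ρ a⁻¹ - 1 = -(ρ a⁻¹ * (ρ a - 1)) := by
          rw [mul_sub, ← map_mul, inv_mul_cancel, map_one, mul_one, neg_sub]
        show Lowers F (p + 1) (ρ a⁻¹ - 1)
        rw [e]
        exact ((Lowers.mul (h00 _) ha).of_le hF (by omega)).neg }
  rw [Subgroup.nilpotent_iff_finite_descending_central_series]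
  refine ⟨n, S, ⟨eq_top_iff.2 fun g _ => h1 g, fun x p hx g => ?_⟩, ?_⟩
  · show Lowers F (p + 1 + 1) (ρ ⁅x, g⁆ - 1)
    have e : ρ ⁅x, g⁆ - 1 =
        ((ρ x - 1) * (ρ g - 1) - (ρ g - 1) * (ρ x - 1)) * (ρ x⁻¹ * ρ g⁻¹) := by
      have h2 : ρ g * ρ x * (ρ x⁻¹ * ρ g⁻¹) = 1 := by
        rw [← map_mul, ← map_mul, ← map_mul]
        simp [mul_assoc]
      have h3 : (ρ x - 1) * (ρ g - 1) - (ρ g - 1) * (ρ x - 1) = ρ x * ρ g - ρ g * ρ x := by noncomm_ring
      rw [h3, sub_mul, h2, commutatorElement_def, map_mul, map_mul, map_mul]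
      noncomm_ring
    rw [e]
    exact ((((Lowers.mul hx (h1 g))).sub ((Lowers.mul (h1 g) hx).of_le hF (by omega))).mul
      (Lowers.mul (h00 _) (h00 _))).of_le hF (by omega)
  · refine eq_bot_iff.2 fun g hg => Subgroup.mem_bot.2 (hinj ?_)
    rw [map_one]
    refine sub_eq_zero.1 (LinearMap.ext fun v => ?_)
    have := hg 0 v (hF (by omega : n ≤ 0 + (n + 1)) (hn ▸ Submodule.mem_top))
    rw [h0] at this
    simpa using this

end Groth.Agent.Comod33
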