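import Groth.Agent.Comod33.CommSemisimple
import Groth.Agent.Comod33.UnipotentGroup
import Groth.Agent.Comod33.Socle
import Groth.Agent.Comod33.Kolchin
import Groth.Agent.Comod33.DiagBC
import Groth.Agent.Comod33.Dimension
import Mathlib.RingTheory.Idempotents
import Mathlib.RingTheory.Ideal.IdempotentFG

/-!
Connected groups of dimension one are commutative.
-/

universe u v w

set_option maxHeartbeats 1000000
set_option synthInstance.maxHeartbeats 200000

open TensorProduct WithConv
open scoped commutatorElement

noncomputable section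

namespace Groth.Agent.Comod33.DimOne

open Conn

/-- connectedness of an algebra with a rational point is geometric -/
theorem isIdempotentElem_baseChange {k : Type u} [Field k] {A : Type v} [CommRing A] [Algebra k A]
    [IsNoetherianRing A] (ε : A →ₐ[k] k) (K : Type w) [Field K] [Algebra k K]
    (hconn : ∀ e : A, IsIdempotentElem e → e = 0 ∨ e = 1) (e : K ⊗[k] A) (he : IsIdempotentElem e) :
    e = 0 ∨ e = 1 := by
  classical
  let b := Module.Free.chooseBasis k K
  let r := TensorProduct.equivFinsuppOfBasisLeft (N := A) b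
  let E : K ⊗[k] A →ₐ[k] K :=
    (Algebra.TensorProduct.rid k k K).toAlgHom.comp (Algebra.TensorProduct.map (AlgHom.id k K) ε)
  -- an idempotent vanishing at the point is zero
  have key : ∀ e : K ⊗[k] A, IsIdempotentElem e → E e = 0 → e = 0 := by
    intro e he hE
    let I : Ideal A := Ideal.span (Set.range (r e))
    have hrepr : e = ∑ i ∈ (r e).support, b i ⊗ₜ[k] r e i := by
      conv_lhs => rw [← r.symm_apply_apply e]
      rw [TensorProduct.equivFinsuppOfBasisLeft_symm_apply]
      rfl
    have hI : IsIdempotentElem I := by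
      refine le_antisymm Ideal.mul_le_left (Ideal.span_le.2 ?_)
      rintro _ ⟨l, rfl⟩
      show r e l ∈ I * I
      have h2 : e = ∑ i ∈ (r e).support, ∑ j ∈ (r e).support, (b i * b j) ⊗ₜ[k] (r e i * r e j) := by
        conv_lhs => rw [← he.eq, hrepr, Finset.sum_mul_sum]
        simp only [Algebra.TensorProduct.tmul_mul_tmul]
      rw [h2, map_sum, Finsupp.finsetSum_apply]
      refine Ideal.sum_mem _ fun i _ => ?_
      rw [map_sum, Finsupp.finsetSum_apply]
      refine Ideal.sum_mem _ fun j _ => ?_
      rw [TensorProduct.equivFinsuppOfBasisLeft_apply_tmul_apply]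
      exact Submodule.smul_of_tower_mem _ _
        (Ideal.mul_mem_mul (Ideal.subset_span ⟨i, rfl⟩) (Ideal.subset_span ⟨j, rfl⟩))
    obtain ⟨f, hf, hIf⟩ := (Ideal.isIdempotentElem_iff_of_fg I (IsNoetherian.noetherian I)).1 hI
    have hI0 : I = ⊥ := by
      rcases hconn f hf with h | h
      · rw [hIf, h, Submodule.span_singleton_eq_bot]
      · exfalso
        have hle : I ≤ RingHom.ker ε := by
          refine Ideal.span_le.2 ?_
          rintro _ ⟨l, rfl⟩
          show ε (r e l) = 0
          have h3 : E e = ∑ i ∈ (r e).support, ε (r e i) • b i := by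
            conv_lhs => rw [hrepr]
            simp [E]
          rw [hE] at h3
          by_cases hl : l ∈ (r e).support
          · exact linearIndependent_iff'.1 b.linearIndependent _ _ h3.symm l hl
          · rw [Finsupp.notMem_support_iff.1 hl, map_zero]
        refine (RingHom.ker_ne_top ε) ?_
        rw [Ideal.eq_top_iff_one]
        refine hle ?_
        rw [hIf, h]
        exact Submodule.mem_span_singleton_self _
    rw [hrepr]
    refine Finset.sum_eq_zero fun i _ => ?_
    have : r e i ∈ I := Ideal.subset_span ⟨i, rfl⟩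
    rw [hI0, Submodule.mem_bot] at this
    rw [this, tmul_zero]
  have hE : IsIdempotentElem (E e) := he.map E
  rcases IsIdempotentElem.iff_eq_zero_or_one.1 hE with h | h
  · exact Or.inl (key e he h)
  · refine Or.inr ?_
    have := key (1 - e) he.one_sub (by rw [map_sub, map_one, h, sub_self])
    exact (sub_eq_zero.1 this).symm

variable {k : Type u} [Field k] {A : Type v} [CommRing A] [HopfAlgebra k A]
  [IsAlgClosed k] [Algebra.FiniteType k A] [IsReduced A]

/-- commuting points give cocommutativity -/
theorem isCocomm_of_comm (hcomm : ∀ x y : Pt k A, x * y = y * x) : Coalgebra.IsCocomm k A := by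
  refine ⟨LinearMap.ext fun a => eq_of_lc fun φ => sub_eq_zero.1 (eq_zero_of_forall_point (k := k) fun h => ?_)⟩
  rw [map_sub, sub_eq_zero]
  show h.ofConv.toLinearMap (lc φ (TensorProduct.comm k A A (CoalgebraStruct.comul (R := k) a))) =
    h.ofConv.toLinearMap (lc φ (CoalgebraStruct.comul (R := k) a))
  rw [apply_lc, apply_lc]
  congr 1
  refine sub_eq_zero.1 (eq_zero_of_forall_point (k := k) fun g => ?_)
  rw [map_sub, sub_eq_zero]
  have e1 : ∀ (g h : Pt k A) (z : A ⊗[k] A), g.ofConv (rc h.ofConv.toLinearMap z) =
      Algebra.TensorProduct.lmul' k (Algebra.TensorProduct.map g.ofConv h.ofConv z) := by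
    intro g h z
    induction z with
    | zero => simp
    | tmul p q => simp [mul_comm]
    | add p q hp hq => simp only [map_add, hp, hq]
  have e2 : ∀ z : A ⊗[k] A,
      Algebra.TensorProduct.lmul' k (Algebra.TensorProduct.map g.ofConv h.ofConv (TensorProduct.comm k A A z)) =
      Algebra.TensorProduct.lmul' k (Algebra.TensorProduct.map h.ofConv g.ofConv z) := by
    intro z
    induction z with
    | zero => simp
    | tmul p q => simp [mul_comm]
    | add p q hp hq => simp only [map_add, hp, hq]
  rw [e1, e1, e2]
  show (h * g).ofConv a = (g * h).ofConv a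
  rw [hcomm]

/-- unipotent points give a nilpotent group of points -/
theorem isNilpotent_points (W : Submodule k A) (hW : HopfRep.IsSubcomod (k := k) (A := A) W)
    [Module.Finite k W]
    (hinj : Function.Injective (@actHom k _ A _ _ W _ _ (ComodSub.Comod.restr (HopfRep.Comod.regular k A) W hW)))
    (hu : ∀ g : Pt k A,
      IsNilpotent ((@actHom k _ A _ _ W _ _ (ComodSub.Comod.restr (HopfRep.Comod.regular k A) W hW)) g - 1)) :
    Group.IsNilpotent (Pt k A) := by
  classical
  letI c := ComodSub.Comod.restr (HopfRep.Comod.regular k A) W hW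
  -- the socle series climbs
  have hstep : ∀ i, soc k A W i ≠ ⊤ → soc k A W i < soc k A W (i + 1) := by
    intro i hi
    refine lt_of_le_not_ge (soc_mono i.le_succ) fun hle => ?_
    let U := soc k A W i
    letI := ComodSub.Comod.quot c U (isSubcomod_soc i)
    have hnt : Nontrivial (W ⧸ U) := Submodule.Quotient.nontrivial_iff.2 hi
    have hρ : ∀ g : Pt k A, IsNilpotent (actHom k A (W ⧸ U) g - 1) := by
      intro g
      obtain ⟨m, hm⟩ := hu g
      refine ⟨m, LinearMap.ext fun q => ?_⟩
      obtain ⟨v, rfl⟩ := U.mkQ_surjective q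
      have hq : ∀ (j : ℕ) (v : W), U.mkQ (((actHom k A W g - 1) ^ j) v) =
          ((actHom k A (W ⧸ U) g - 1) ^ j) (U.mkQ v) := by
        intro j
        induction j with
        | zero => simp
        | succ j ihj =>
          intro v
          rw [pow_succ', pow_succ', Module.End.mul_apply, Module.End.mul_apply, ← ihj]
          generalize ((actHom k A W g - 1) ^ j) v = z
          rw [LinearMap.sub_apply, LinearMap.sub_apply, map_sub]
          congr 1
          exact IsComodHom.dact (ComodSub.isComodHom_mkQ c U (isSubcomod_soc i)) g.ofConv.toLinearMap z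
      rw [← hq, hm]
      simp
    obtain ⟨q, hq0, hq⟩ := exists_fixed_of_unipotent (actHom k A (W ⧸ U)) hρ
    have hfix : HopfRep.Comod.coact (k := k) (A := A) q = q ⊗ₜ[k] (1 : A) := by
      refine eq_of_lc fun φ => sub_eq_zero.1 (eq_zero_of_forall_point (k := k) fun g => ?_)
      rw [map_sub, ← cf_apply, apply_cf, hq, lc_tmul, map_smul, map_one, smul_eq_mul, mul_one, sub_self]
    obtain ⟨v, rfl⟩ := U.mkQ_surjective q
    refine hq0 ((Submodule.Quotient.mk_eq_zero U).2 (hle (mem_soc_succ.2 ((mem_range_iff_mkQ U _).2 ?_))))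
    rw [map_sub, LinearMap.rTensor_tmul, ← hfix]
    exact sub_eq_zero.2 (LinearMap.congr_fun (ComodSub.isComodHom_mkQ c U (isSubcomod_soc i)) v).symm
  have htop : soc k A W (Module.finrank k W) = ⊤ := by
    have key : ∀ i, soc k A W i = ⊤ ∨ i ≤ Module.finrank k (soc k A W i) := by
      intro i
      induction i with
      | zero => exact Or.inr (Nat.zero_le _)
      | succ n ih =>
        by_cases h : soc k A W n = ⊤
        · exact Or.inl (top_le_iff.1 (h.ge.trans (soc_mono n.le_succ)))
        · exact Or.inr ((ih.resolve_left h).trans_lt (Submodule.finrank_lt_finrank_of_lt (hstep n h)))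
    rcases key (Module.finrank k W) with h | h
    · exact h
    · exact Submodule.eq_top_of_finrank_eq (le_antisymm (Submodule.finrank_le _) h)
  exact isNilpotent_of_lowers (actHom k A W) hinj soc_mono rfl htop
    fun g i v hv => act_sub_one_mem_soc g.ofConv hv

/-- in dimension one a connected reduced group is commutative -/
theorem comm_points (hconn : ∀ e : A, IsIdempotentElem e → e = 0 ∨ e = 1) (hdim : ringKrullDim A ≤ 1)
    (x y : Pt k A) : x * y = y * x := by
  classical
  haveI : IsDomain A := Units.isDomain k hconn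
  haveI : IsNoetherianRing A := Algebra.FiniteType.isNoetherianRing k A
  haveI : IsJacobsonRing A := isJacobsonRing_of_finiteType (A := k)
  haveI : Ring.KrullDimLE 1 A := (Ring.krullDimLE_iff).2 (by exact_mod_cast hdim)
  have hmax : ∀ p : Ideal A, p.IsPrime → p ≠ ⊥ → p.IsMaximal := fun p hp hp0 => by
    haveI : (⊥ : Ideal A).IsPrime := Ideal.isPrime_bot
    exact Ring.krullDimLE_one_iff_of_isPrime_bot.1 inferInstance p hp0 hp
  have hfinite : ∀ f : A, f ≠ 0 → {p : PrimeSpectrum A | f ∈ p.asIdeal}.Finite := by
    intro f hf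
    have h1 := Ideal.finite_minimalPrimes_of_isNoetherianRing A (Ideal.span {f})
    refine (h1.preimage (f := PrimeSpectrum.asIdeal) fun p _ q _ h => PrimeSpectrum.ext h).subset ?_
    intro p hp
    refine ⟨⟨p.isPrime, (Ideal.span_singleton_le_iff_mem _).2 hp⟩, fun Q hQ hle => ?_⟩
    have hQ0 : Q ≠ ⊥ := fun e => hf (by
      have := hQ.2 (Ideal.mem_span_singleton_self f)
      rw [e, Ideal.mem_bot] at this
      exact this)
    exact ((hmax Q hQ.1 hQ0).eq_of_le p.isPrime.ne_top hle).ge
  obtain ⟨W, hW, hfin, hinj⟩ := exists_faithful (k := k) (A := A)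
  letI := ComodSub.Comod.restr (HopfRep.Comod.regular k A) W hW
  let b := Module.finBasis k W
  by_cases hC : ∀ c ∈ ClassFun.charAlg (A := A) b, c = algebraMap k A (CoalgebraStruct.counit (R := k) c)
  · -- all points are unipotent
    have hu : ∀ g : Pt k A, IsNilpotent (actHom k A W g - 1) := fun g =>
      ClassFun.isNilpotent_of_charpoly b (ClassFun.charpoly_eq_of_eq_on b fun c hc => by
        rw [hC c hc, AlgHom.commutes, AlgHom.commutes])
    haveI := isNilpotent_points W hW hinj hu
    have hΓ : ∀ i, IsConn (((⊤ : Subgroup (Pt k A)).lowerCentralSeries i : Subgroup (Pt k A)) : Set (Pt k A)) := by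
      intro i
      induction i with
      | zero => rw [Subgroup.lowerCentralSeries_zero, Subgroup.coe_top]; exact isConn_univ hconn
      | succ n ih =>
        rw [Subgroup.lowerCentralSeries_succ]
        exact ih.commutator (by rw [Subgroup.coe_top]; exact isConn_univ hconn)
    obtain ⟨n, hn⟩ := Subgroup.nilpotent_iff_lowerCentralSeries.1 (inferInstance : Group.IsNilpotent (Pt k A))
    by_contra hxy
    have h1 : (⊤ : Subgroup (Pt k A)).lowerCentralSeries 1 ≠ ⊥ := by
      intro e
      apply hxy
      have h2 : ⁅x, y⁆ ∈ (⊤ : Subgroup (Pt k A)).lowerCentralSeries 1 := by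
        rw [Subgroup.lowerCentralSeries_succ, Subgroup.lowerCentralSeries_zero]
        exact Subgroup.commutator_mem_commutator (Subgroup.mem_top x) (Subgroup.mem_top y)
      rw [e, Subgroup.mem_bot, commutatorElement_eq_one_iff_mul_comm] at h2
      exact h2
    let P := fun i => (⊤ : Subgroup (Pt k A)).lowerCentralSeries i = ⊥
    have hex : ∃ i, P i := ⟨n, hn⟩
    have hN := Nat.find_spec hex
    have hN0 : Nat.find hex ≠ 0 := fun e => by
      apply h1
      rw [e] at hN
      exact bot_unique (hN ▸ Subgroup.lowerCentralSeries_antitone _ (Nat.zero_le 1))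
    obtain ⟨j, hj⟩ := Nat.exists_eq_succ_of_ne_zero hN0
    have hj' : ¬ P j := Nat.find_min hex (by omega)
    obtain ⟨z, hz, hz1⟩ : ∃ z ∈ (⊤ : Subgroup (Pt k A)).lowerCentralSeries j, z ≠ 1 := by
      by_contra h
      push Not at h
      exact hj' ((Subgroup.eq_bot_iff_forall _).2 h)
    -- the last term is central and dense
    have hdense : ∀ f : A, (∀ g ∈ (⊤ : Subgroup (Pt k A)).lowerCentralSeries j, g.ofConv f = 0) → f = 0 := by
      intro f hf
      by_contra hf0
      refine hz1 (WithConv.ofConv_injective (AlgHom.ext fun a => ?_))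
      refine ((hΓ j).2 a ?_ z hz).trans rfl
      let pt : Pt k A → PrimeSpectrum A := fun g => ⟨RingHom.ker g.ofConv, RingHom.ker_isPrime _⟩
      have hpt : Function.Injective pt := fun g h e => by
        apply WithConv.ofConv_injective
        refine AlgHom.ext fun a => ?_
        have h2 : a - algebraMap k A (g.ofConv a) ∈ (pt g).asIdeal := by
          show g.ofConv (a - algebraMap k A (g.ofConv a)) = 0
          rw [map_sub, AlgHom.commutes]; exact sub_self _
        rw [e] at h2
        have h3 : h.ofConv (a - algebraMap k A (g.ofConv a)) = 0 := h2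
        rw [map_sub, AlgHom.commutes, sub_eq_zero] at h3
        exact h3.symm
      refine (((hfinite f hf0).preimage hpt.injOn).image fun g => g.ofConv a).subset ?_
      rintro _ ⟨g, hg, rfl⟩
      exact ⟨g, hf g hg, rfl⟩
    apply hxy
    suffices hxy' : x * y * x⁻¹ = y by
      conv_rhs => rw [← hxy', inv_mul_cancel_right]
    apply WithConv.ofConv_injective
    refine AlgHom.ext fun a => ?_
    let w : GA k A := const x * Conn.gen k A * const x⁻¹
    have hw : ∀ g : Pt k A, Conn.push g w = x * g * x⁻¹ := fun g => by
      rw [map_mul, map_mul, push_const, push_const, Conn.push_gen]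
    have h0 := hdense (w.ofConv a - a) fun g hg => by
      have hc : ⁅g, x⁆ ∈ (⊤ : Subgroup (Pt k A)).lowerCentralSeries (j + 1) := by
        rw [Subgroup.lowerCentralSeries_succ]
        exact Subgroup.commutator_mem_commutator hg (Subgroup.mem_top x)
      rw [show (⊤ : Subgroup (Pt k A)).lowerCentralSeries (j + 1) = ⊥ by
        rw [← Nat.succ_eq_add_one, ← hj]; exact hN, Subgroup.mem_bot,
        commutatorElement_eq_one_iff_mul_comm] at hc
      rw [map_sub, ← Conn.push_apply, hw, ← hc, mul_inv_cancel_right, sub_self]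
    have h1' := congrArg y.ofConv (sub_eq_zero.1 h0)
    rw [← Conn.push_apply, hw] at h1'
    exact h1'
  · push Not at hC
    obtain ⟨f, hf, hfne⟩ := hC
    let C := ClassFun.charAlg (A := A) b
    let q : PrimeSpectrum A := ⟨RingHom.ker (Bialgebra.counitAlgHom k A), RingHom.ker_isPrime _⟩
    haveI : q.asIdeal.IsPrime := q.isPrime
    haveI : Algebra.FiniteType C A := Algebra.FiniteType.of_restrictScalars_finiteType k C A
    let d := f - algebraMap k A (CoalgebraStruct.counit (R := k) f)
    have hd : d ≠ 0 := sub_ne_zero.2 hfne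
    have hdq : d ∈ q.asIdeal := by
      show Bialgebra.counitAlgHom k A d = 0
      rw [map_sub, AlgHom.commutes]
      exact sub_self _
    let F := PrimeSpectrum.comap (algebraMap C A) ⁻¹' {q.comap (algebraMap C A)}
    have hsubset : F ⊆ {p : PrimeSpectrum A | d ∈ p.asIdeal} := by
      intro p hp
      have h1 : ∀ c : C, (c : A) ∈ p.asIdeal ↔ (c : A) ∈ q.asIdeal := fun c =>
        SetLike.ext_iff.1 (congrArg PrimeSpectrum.asIdeal (show p.comap (algebraMap C A) = _ from hp)) c
      exact (h1 ⟨d, sub_mem hf (C.algebraMap_mem _)⟩).2 hdq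
    haveI : Finite F := ((hfinite d hd).subset hsubset).to_subtype
    haveI : T1Space F := ⟨fun p => by
      haveI := hmax p.1.asIdeal p.1.isPrime fun e => hd (by
        have h1 := hsubset p.2
        rw [Set.mem_setOf_eq, e, Ideal.mem_bot] at h1
        exact h1)
      have h2 : IsClosed ({p.1} : Set (PrimeSpectrum A)) :=
        (PrimeSpectrum.isClosed_singleton_iff_isMaximal _).2 this
      have h3 := h2.preimage (continuous_subtype_val (p := (· ∈ F)))
      convert h3 using 1
      ext z
      simp [Subtype.ext_iff]⟩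
    haveI : Algebra.QuasiFiniteAt C q.asIdeal :=
      Algebra.QuasiFiniteAt.of_isOpen_singleton_fiber q (isOpen_discrete _)
    exact ClassFun.comm_of_quasiFiniteAt hconn b C le_rfl q.asIdeal x y

theorem isCocomm_of_dim_one (hconn : ∀ e : A, IsIdempotentElem e → e = 0 ∨ e = 1)
    (hdim : ringKrullDim A ≤ 1) : Coalgebra.IsCocomm k A :=
  isCocomm_of_comm (comm_points hconn hdim)

omit [IsAlgClosed k] [IsReduced A] in
/-- descent to the ground field -/
theorem isCocomm_of_dim_one_general [Algebra.IsGeometricallyReduced k A]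
    (K : Type w) [Field K] [Algebra k K] [IsAlgClosed K] [Algebra.IsAlgebraic k K]
    (hconn : ∀ e : A, IsIdempotentElem e → e = 0 ∨ e = 1) (hdim : ringKrullDim A ≤ 1) :
    Coalgebra.IsCocomm k A := by
  haveI : IsNoetherianRing A := Algebra.FiniteType.isNoetherianRing k A
  have hd : ringKrullDim (K ⊗[k] A) = ringKrullDim A := by
    letI : Algebra A (K ⊗[k] A) := Algebra.TensorProduct.rightAlgebra
    haveI : Algebra.IsIntegral A (K ⊗[k] A) := by
      haveI : Algebra.IsIntegral k K := inferInstance
      let e : A ⊗[k] K ≃ₐ[A] K ⊗[k] A :=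
        AlgEquiv.ofRingEquiv (f := Algebra.TensorProduct.comm k A K) fun a => by
          simp [RingHom.algebraMap_toAlgebra]
      exact Algebra.IsIntegral.of_surjective (R := A) (A := A ⊗[k] K) e.toAlgHom e.surjective
    refine EGA4Alg4.ringKrullDim_eq_of_integral A (K ⊗[k] A) ?_
    exact Algebra.TensorProduct.includeRight_injective (algebraMap k K).injective
  haveI : Coalgebra.IsCocomm K (K ⊗[k] A) := isCocomm_of_dim_one (k := K) (A := K ⊗[k] A)
    (isIdempotentElem_baseChange (Bialgebra.counitAlgHom k A) K hconn) (hd ▸ hdim)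
  exact Diag.isCocomm_descend (K := K)

end Groth.Agent.Comod33.DimOne
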