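import Groth.Agent.Comod33.Socle
import Mathlib.RingTheory.FiniteType

/-!
A finite dimensional comodule separating the points.
-/

universe u v

open TensorProduct

noncomputable section

namespace Groth.Agent.Comod33

variable {k : Type u} [Field k] {A : Type v} [CommRing A] [Bialgebra k A]

theorem exists_faithful [Algebra.FiniteType k A] :
    ∃ (W : Submodule k A) (hW : HopfRep.IsSubcomod (k := k) (A := A) W), Module.Finite k W ∧
      Function.Injective (@actHom k _ A _ _ W _ _ (ComodSub.Comod.restr (HopfRep.Comod.regular k A) W hW)) := by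
  classical
  obtain ⟨s, hs⟩ := ‹Algebra.FiniteType k A›.out
  obtain ⟨W, hfin, hle, hW⟩ := exists_finite_subcomod_le (k := k) (A := A)
    (Submodule.span k (s : Set A))
  refine ⟨W, hW, hfin, fun g h hgh => ?_⟩
  letI := ComodSub.Comod.restr (HopfRep.Comod.regular k A) W hW
  refine WithConv.ofConv_injective (AlgHom.ext_of_adjoin_eq_top hs fun a ha => ?_)
  have hh : Hoch.IsComodHom A W.subtype :=
    ComodSub.isComodHom_subtype (HopfRep.Comod.regular k A) W hW
  rw [← counit_act (k := k) g.ofConv a, ← counit_act (k := k) h.ofConv a]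
  have key : ∀ x : WithConv (A →ₐ[k] k), HopfRep.Comod.act k A A x.ofConv a =
      (actHom k A W x ⟨a, hle (Submodule.subset_span ha)⟩ : A) := fun x =>
    (IsComodHom.dact hh x.ofConv.toLinearMap ⟨a, hle (Submodule.subset_span ha)⟩).symm
  rw [key, key, hgh]

end Groth.Agent.Comod33
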