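import Groth.Agent.Comod33.Flag
import Groth.Agent.Comod33.Faithful
import Mathlib.RingTheory.HopfAlgebra.Convolution
import Mathlib.GroupTheory.Solvable

/-!
Rational points of a trigonalizable group form a solvable group.
-/

universe u v w

open TensorProduct

noncomputable section

namespace Groth.Agent.Comod33.Solv

variable {G : Type*} [Group G] {k : Type u} [Field k] {V : Type w} [AddCommGroup V] [Module k V]
variable (ρ : G →* Module.End k V) (F : ℕ → Submodule k V)

/-- elements lowering the filtration by `j` -/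
def level (hmono : Monotone F) (hstab : ∀ g i, ∀ v ∈ F i, ρ g v ∈ F i) (j : ℕ) : Subgroup G where
  carrier := {g | ∀ i, ∀ v ∈ F (i + j), ρ g v - v ∈ F i}
  one_mem' i v hv := by simp
  mul_mem' {a b} ha hb i v hv := by
    have e : ρ (a * b) v - v = (ρ a (ρ b v) - ρ b v) + (ρ b v - v) := by
      rw [map_mul, Module.End.mul_apply, sub_add_sub_cancel]
    rw [e]
    exact (F i).add_mem (ha i _ (hstab b _ v hv)) (hb i v hv)
  inv_mem' {a} ha i v hv := by
    have hv' := hstab a⁻¹ _ v hv
    have h := ha i _ hv'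
    rw [← Module.End.mul_apply, ← map_mul, mul_inv_cancel, map_one, Module.End.one_apply] at h
    rw [← neg_mem_iff, neg_sub]
    exact h

theorem commutator_mem_level {hmono : Monotone F} {hstab : ∀ g i, ∀ v ∈ F i, ρ g v ∈ F i}
    {j : ℕ} {a b : G} (h : ∀ i, ∀ v ∈ F (i + j), ρ a (ρ b v) - ρ b (ρ a v) ∈ F i) :
    a * b * a⁻¹ * b⁻¹ ∈ level ρ F hmono hstab j := by
  intro i v hv
  have hv' : ρ (a⁻¹ * b⁻¹) v ∈ F (i + j) := hstab _ _ v hv
  have e := h i _ hv'
  rwa [← Module.End.mul_apply, ← map_mul, ← Module.End.mul_apply, ← map_mul,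
    ← Module.End.mul_apply, ← map_mul, ← Module.End.mul_apply, ← map_mul,
    show a * b * (a⁻¹ * b⁻¹) = a * b * a⁻¹ * b⁻¹ by group,
    show b * a * (a⁻¹ * b⁻¹) = 1 by group, map_one, Module.End.one_apply] at e

theorem derivedSeries_eq_bot (hmono : Monotone F) (hstab : ∀ g i, ∀ v ∈ F i, ρ g v ∈ F i)
    (hρ : Function.Injective ρ) (h0 : F 0 = ⊥) (n : ℕ) (hn : F n = ⊤)
    (hline : ∀ i, ∃ v₀, F (i + 1) ≤ F i ⊔ Submodule.span k {v₀}) (hv₀ : ∀ i, ∀ v₀,
      F (i + 1) ≤ F i ⊔ Submodule.span k {v₀} → v₀ ∈ F (i + 1) ∨ F (i + 1) ≤ F i) :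
    derivedSeries G n = ⊥ := by
  have hscal : ∀ i, ∀ a b : G, ∀ v ∈ F (i + 1), ρ a (ρ b v) - ρ b (ρ a v) ∈ F i := by
    intro i a b v hv
    obtain ⟨v₀, hv0⟩ := hline i
    rcases hv₀ i v₀ hv0 with hm | hle
    · have hc : ∀ g : G, ∃ c : k, ρ g v₀ - c • v₀ ∈ F i := by
        intro g
        obtain ⟨y, hy, z, hz, hyz⟩ := Submodule.mem_sup.1 (hv0 (hstab g _ v₀ hm))
        obtain ⟨c, rfl⟩ := Submodule.mem_span_singleton.1 hz
        exact ⟨c, by rw [← hyz, add_sub_cancel_right]; exact hy⟩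
      obtain ⟨y, hy, z, hz, rfl⟩ := Submodule.mem_sup.1 (hv0 hv)
      obtain ⟨t, rfl⟩ := Submodule.mem_span_singleton.1 hz
      obtain ⟨ca, hca⟩ := hc a
      obtain ⟨cb, hcb⟩ := hc b
      have e : ρ a (ρ b (y + t • v₀)) - ρ b (ρ a (y + t • v₀)) =
          (ρ a (ρ b y) - ρ b (ρ a y)) +
            t • ((ρ a (ρ b v₀ - cb • v₀) + cb • (ρ a v₀ - ca • v₀)) -
              (ρ b (ρ a v₀ - ca • v₀) + ca • (ρ b v₀ - cb • v₀))) := by
        simp only [map_add, map_sub, map_smul, smul_sub, smul_add, smul_smul, mul_comm ca cb]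
        abel
      rw [e]
      refine (F i).add_mem ((F i).sub_mem (hstab a i _ (hstab b i _ hy))
        (hstab b i _ (hstab a i _ hy))) ((F i).smul_mem t ((F i).sub_mem ?_ ?_))
      · exact (F i).add_mem (hstab a i _ hcb) ((F i).smul_mem cb hca)
      · exact (F i).add_mem (hstab b i _ hca) ((F i).smul_mem ca hcb)
    · exact (F i).sub_mem (hstab a i _ (hstab b i _ (hle hv))) (hstab b i _ (hstab a i _ (hle hv)))
  have key : ∀ m, derivedSeries G (m + 1) ≤ level ρ F hmono hstab (m + 1) := by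
    intro m
    induction m with
    | zero =>
      rw [derivedSeries_succ, Subgroup.commutator_le]
      intro a _ b _
      exact commutator_mem_level ρ F fun i v hv => hscal i a b v hv
    | succ m ih =>
      rw [derivedSeries_succ, Subgroup.commutator_le]
      intro a ha b hb
      refine commutator_mem_level ρ F fun i v hv => ?_
      have hv2 : v ∈ F ((i + (m + 1)) + (m + 1)) := hmono (by omega) hv
      have e : ρ a (ρ b v) - ρ b (ρ a v) =
          (ρ a (ρ b v - v) - (ρ b v - v)) - (ρ b (ρ a v - v) - (ρ a v - v)) := by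
        simp only [map_sub]
        abel
      rw [e]
      exact (F i).sub_mem (ih ha i _ (ih hb _ v hv2)) (ih hb i _ (ih ha _ v hv2))
  rcases n with _ | m
  · refine eq_bot_iff.2 fun g _ => hρ (LinearMap.ext fun v => ?_)
    have hv : ∀ x : V, x = 0 := fun x => by
      have : x ∈ F 0 := hn ▸ Submodule.mem_top
      rwa [h0, Submodule.mem_bot] at this
    rw [hv (ρ g v), hv (ρ 1 v)]
  · refine eq_bot_iff.2 fun g hg => hρ (LinearMap.ext fun v => ?_)
    have := key m hg 0 v (by rw [zero_add, hn]; exact Submodule.mem_top)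
    rw [h0, Submodule.mem_bot, sub_eq_zero] at this
    rw [this, map_one, Module.End.one_apply]

variable {A : Type v} [CommRing A] [HopfAlgebra k A]

theorem isSolvable_points [Algebra.FiniteType k A] (hT : HopfRep.IsTrigonalizable k A) :
    Group.IsSolvable (WithConv (A →ₐ[k] k)) := by
  obtain ⟨W, hW, hfin, hinj⟩ := exists_faithful (k := k) (A := A)
  letI : HopfRep.Comod k A W := ComodSub.Comod.restr (HopfRep.Comod.regular k A) W hW
  haveI := hfin
  refine ⟨⟨Module.finrank k W, derivedSeries_eq_bot (actHom k A W) (fun i => (flag hT W i).1)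
    (flag_mono hT W) (fun g i v hv => ?_) hinj rfl _ (flag_eq_top hT W) (fun i => ?_) (fun i v₀ h => ?_)⟩⟩
  · exact (isSubcomod_iff _).1 (flag hT W i).2 g.ofConv.toLinearMap v hv
  · show ∃ v₀, (flag hT W (i + 1)).1 ≤ (flag hT W i).1 ⊔ Submodule.span k {v₀}
    by_cases hle : (flag hT W (i + 1)).1 ≤ (flag hT W i).1
    · exact ⟨0, hle.trans le_sup_left⟩
    · obtain ⟨v, hv, hv'⟩ := SetLike.not_le_iff_exists.1 hle
      refine ⟨v, le_of_eq (Submodule.eq_of_le_of_finrank_le
        (sup_le (flag_mono hT W (Nat.le_succ i)) ((Submodule.span_singleton_le_iff_mem v _).2 hv)) ?_).symm⟩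
      have hlt : (flag hT W i).1 < (flag hT W i).1 ⊔ Submodule.span k {v} :=
        left_lt_sup.2 fun h => hv' (h (Submodule.mem_span_singleton_self v))
      have := Submodule.finrank_lt_finrank_of_lt hlt
      simp only [finrank_flag] at this ⊢
      omega
  · show v₀ ∈ (flag hT W (i + 1)).1 ∨ (flag hT W (i + 1)).1 ≤ (flag hT W i).1
    by_cases hle : (flag hT W (i + 1)).1 ≤ (flag hT W i).1
    · exact Or.inr hle
    · obtain ⟨v, hv, hv'⟩ := SetLike.not_le_iff_exists.1 hle
      obtain ⟨y, hy, z, hz, hyz⟩ := Submodule.mem_sup.1 (h hv)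
      obtain ⟨c, rfl⟩ := Submodule.mem_span_singleton.1 hz
      have hc : c ≠ 0 := fun h0 => hv' (by rw [← hyz, h0, zero_smul, add_zero]; exact hy)
      refine Or.inl ?_
      have : c • v₀ ∈ (flag hT W (i + 1)).1 := by
        have := Submodule.sub_mem _ hv (flag_mono hT W (Nat.le_succ i) hy)
        rwa [← hyz, add_sub_cancel_left] at this
      simpa [hc] using Submodule.smul_mem _ c⁻¹ this

end Groth.Agent.Comod33.Solv
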