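import Groth.Agent.Comod33.BaseChange
import Groth.Agent.Comod33.Socle
import Groth.Prelude.Def_ComodTens
import Groth.Prelude.Def_ComodSub

/-!
Unipotence in every universe and under field extensions.
-/

universe u v w

open TensorProduct

noncomputable section

namespace Groth.Agent.Comod33

variable {k : Type u} [Field k] {A : Type v} [CommRing A] [Bialgebra k A]

/-- a unipotent group fixes a nonzero vector in a nonzero finite comodule of any universe -/
theorem exists_fixed_of_isUnipotent (hU : HopfRep.IsUnipotent k A) (V : Type w) [AddCommGroup V]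
    [Module k V] [HopfRep.Comod k A V] [Module.Finite k V] [Nontrivial V] :
    ∃ v : V, v ∈ HopfRep.fixedPts k A V ∧ v ≠ 0 := by
  haveI : Nontrivial A := Bialgebra.nontrivial (R := k) (A := A)
  let b := Module.finBasis k V
  let ψ : V →ₗ[k] (Fin (Module.finrank k V) → A) :=
    LinearMap.pi fun i => Algebra.linearMap k A ∘ₗ b.coord i
  have hψ : Function.Injective ψ := fun x y h => b.repr.injective (Finsupp.ext fun i =>
    (algebraMap k A).injective (congrFun h i))
  let e := LinearEquiv.ofInjective ψ hψ
  letI : HopfRep.Comod k A (LinearMap.range ψ) :=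
    ComodTens.Comod.ofEquiv e (inferInstance : HopfRep.Comod k A V)
  have : Nontrivial (LinearMap.range ψ) := e.toEquiv.symm.nontrivial
  obtain ⟨x, hx, hx0⟩ := Submodule.exists_mem_ne_zero_of_ne_bot
    (hU (LinearMap.range ψ) inferInstance this)
  refine ⟨e.symm x, ?_, fun h => hx0 (e.symm.map_eq_zero_iff.1 h)⟩
  have h1 := ComodTens.ofEquiv_coact_apply e (inferInstance : HopfRep.Comod k A V) (e.symm x)
  rw [e.apply_symm_apply] at h1
  have h2 : HopfRep.Comod.coact (k := k) (A := A) x = x ⊗ₜ[k] (1 : A) := hx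
  rw [show (ComodTens.Comod.ofEquiv e (inferInstance : HopfRep.Comod k A V)).coact x = x ⊗ₜ[k] (1 : A) from h2] at h1
  show HopfRep.Comod.coact (k := k) (A := A) (e.symm x) = e.symm x ⊗ₜ[k] (1 : A)
  have h3 := congrArg ((e.symm : LinearMap.range ψ →ₗ[k] V).rTensor A) h1
  rw [LinearMap.rTensor_tmul, ← LinearMap.comp_apply ((e.symm : LinearMap.range ψ →ₗ[k] V).rTensor A),
    ← LinearMap.rTensor_comp, LinearEquiv.symm_comp, LinearMap.rTensor_id, LinearMap.id_apply] at h3
  exact h3.symm

theorem isUnipotent_baseChange (hU : HopfRep.IsUnipotent k A) (K : Type w) [Field K] [Algebra k K] :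
    HopfRep.IsUnipotent K (K ⊗[k] A) := by
  intro W _ _ _ _ hnt
  letI : Module k W := Module.compHom W (algebraMap k K)
  haveI : IsScalarTower k K W := IsScalarTower.of_algebraMap_smul fun r x => rfl
  letI : HopfRep.Comod k A W := BC.resComod (K := K)
  obtain ⟨v, hv⟩ := exists_ne (0 : W)
  let U := gen (k := k) (A := A) v
  letI : HopfRep.Comod k A U := ComodSub.Comod.restr inferInstance U (isSubcomod_gen v)
  haveI : Module.Finite k U := finite_gen v
  haveI : Nontrivial U := ⟨⟨⟨v, mem_gen v⟩, 0, fun e => hv (congrArg Subtype.val e)⟩⟩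
  obtain ⟨⟨u, hu⟩, huf, hu0⟩ := exists_fixed_of_isUnipotent hU U
  intro hbot
  have := (BC.mem_fixedPts_res_iff u).1 (map_mem_fixedPts
    (ComodSub.isComodHom_subtype inferInstance U (isSubcomod_gen v)) huf)
  rw [hbot, Submodule.mem_bot] at this
  exact hu0 (Subtype.ext this)

end Groth.Agent.Comod33
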