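import Groth.Agent.Comod33.CartierReduced
import Groth.Agent.Unip38.Extension
import Mathlib.RingTheory.HopfAlgebra.Quotient
import Mathlib.LinearAlgebra.TensorProduct.Basis

/-!
The identity component of an affine algebraic group, cut out by a minimal idempotent.
-/

universe u v w

open TensorProduct

noncomputable section

namespace Groth.Agent.Comod33.IdComp

/-- an idempotent of a product with a connected pointed space vanishing on a section is zero -/
theorem idem_eq_zero {k : Type u} [Field k] {A : Type v} [CommRing A] [Algebra k A] [IsNoetherianRing A]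
    (hconn : ∀ e : A, IsIdempotentElem e → e = 0 ∨ e = 1) (ε : A →ₐ[k] k) {D : Type w} [CommRing D]
    [Algebra k D] {e : D ⊗[k] A} (he : IsIdempotentElem e)
    (hE : (Algebra.TensorProduct.rid k k D).toAlgHom
      (Algebra.TensorProduct.map (AlgHom.id k D) ε e) = 0) : e = 0 := by
  classical
  let b := Module.Free.chooseBasis k D
  let r := TensorProduct.equivFinsuppOfBasisLeft (N := A) b
  let I : Ideal A := Ideal.span (Set.range (r e))
  have hrepr : e = ∑ i ∈ (r e).support, b i ⊗ₜ[k] r e i := by
    conv_lhs => rw [← r.symm_apply_apply e]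
    rw [TensorProduct.equivFinsuppOfBasisLeft_symm_apply]
    rfl
  have hI : IsIdempotentElem I := by
    refine le_antisymm Ideal.mul_le_left (Ideal.span_le.2 ?_)
    rintro _ ⟨l, rfl⟩
    show r e l ∈ I * I
    have h2 : e = ∑ i ∈ (r e).support, ∑ j ∈ (r e).support, (b i * b j) ⊗ₜ[k] (r e i * r e j) := by
      conv_lhs => rw [← he.eq, hrepr, Finset.sum_mul_sum]
      simp only [Algebra.TensorProduct.tmul_mul_tmul]
    rw [h2, map_sum, Finsupp.finsetSum_apply]
    refine Ideal.sum_mem _ fun i _ => ?_
    rw [map_sum, Finsupp.finsetSum_apply]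
    refine Ideal.sum_mem _ fun j _ => ?_
    rw [TensorProduct.equivFinsuppOfBasisLeft_apply_tmul_apply]
    exact Submodule.smul_of_tower_mem _ _
      (Ideal.mul_mem_mul (Ideal.subset_span ⟨i, rfl⟩) (Ideal.subset_span ⟨j, rfl⟩))
  obtain ⟨f, hf, hIf⟩ := (Ideal.isIdempotentElem_iff_of_fg I (IsNoetherian.noetherian I)).1 hI
  have hI0 : I = ⊥ := by
    rcases hconn f hf with h | h
    · rw [hIf, h, Submodule.span_singleton_eq_bot]
    · exfalso
      have hle : I ≤ RingHom.ker ε := by
        refine Ideal.span_le.2 ?_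
        rintro _ ⟨l, rfl⟩
        show ε (r e l) = 0
        have h3 : (Algebra.TensorProduct.rid k k D).toAlgHom
            (Algebra.TensorProduct.map (AlgHom.id k D) ε e) = ∑ i ∈ (r e).support, ε (r e i) • b i := by
          conv_lhs => rw [hrepr]
          simp
        rw [hE] at h3
        by_cases hl : l ∈ (r e).support
        · exact linearIndependent_iff'.1 b.linearIndependent _ _ h3.symm l hl
        · rw [Finsupp.notMem_support_iff.1 hl, map_zero]
      refine (RingHom.ker_ne_top ε) ?_
      rw [Ideal.eq_top_iff_one]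
      refine hle ?_
      rw [hIf, h]
      exact Submodule.mem_span_singleton_self _
  rw [hrepr]
  refine Finset.sum_eq_zero fun i _ => ?_
  have : r e i ∈ I := Ideal.subset_span ⟨i, rfl⟩
  rw [hI0, Submodule.mem_bot] at this
  rw [this, tmul_zero]

theorem isHopfIdeal_span {k : Type u} [Field k] {A : Type v} [CommRing A] [HopfAlgebra k A] (s : Set A)
    (h0 : ∀ x ∈ s, CoalgebraStruct.counit (R := k) x = 0)
    (hΔ : ∀ x ∈ s, Algebra.TensorProduct.map (Ideal.Quotient.mkₐ k (Ideal.span s))
      (Ideal.Quotient.mkₐ k (Ideal.span s)) (CoalgebraStruct.comul (R := k) x) = 0)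
    (hS : ∀ x ∈ s, HopfAlgebraStruct.antipode (R := k) x ∈ Ideal.span s) :
    (Ideal.span s).IsHopfIdeal k := by
  refine { counit_eq_zero := ?_, map_mkQ_comul_eq_zero := ?_, antipode_mem := ?_ }
  · intro x hx
    have h : Ideal.span s ≤ RingHom.ker (Bialgebra.counitAlgHom k A) :=
      Ideal.span_le.2 fun y hy => h0 y hy
    exact h hx
  · intro x hx
    have h : Ideal.span s ≤ RingHom.ker ((Algebra.TensorProduct.map (Ideal.Quotient.mkₐ k (Ideal.span s))
      (Ideal.Quotient.mkₐ k (Ideal.span s))).comp (Bialgebra.comulAlgHom k A)) :=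
      Ideal.span_le.2 fun y hy => hΔ y hy
    exact h hx
  · intro x hx
    have h : Ideal.span s ≤ (Ideal.span s).comap (HopfAlgebra.antipodeAlgHom k A) :=
      Ideal.span_le.2 fun y hy => hS y hy
    exact h hx

variable (k : Type u) [Field k] (H : Type v) [CommRing H] [HopfAlgebra k H] [IsNoetherianRing H]

/-- the identity component is a closed subgroup -/
theorem exists_idem : ∃ e : H, IsIdempotentElem e ∧ CoalgebraStruct.counit (R := k) e = 1 ∧
    (∀ e' : H, IsIdempotentElem e' → CoalgebraStruct.counit (R := k) e' = 1 → e * e' = e) ∧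
    (Ideal.span {1 - e}).IsHopfIdeal k := by
  let S : Set (Ideal H) :=
    {I | ∃ e : H, IsIdempotentElem e ∧ CoalgebraStruct.counit (R := k) e = 1 ∧ I = Ideal.span {1 - e}}
  obtain ⟨_, ⟨e, he, hε, rfl⟩, hmax⟩ := set_has_maximal_iff_noetherian.2 inferInstance S
    ⟨_, 1, IsIdempotentElem.one, Bialgebra.counit_one, rfl⟩
  have hmin : ∀ e' : H, IsIdempotentElem e' → CoalgebraStruct.counit (R := k) e' = 1 → e * e' = e := by
    intro e' he' hε'
    have hle : Ideal.span {1 - e} ≤ Ideal.span {1 - e * e'} := by
      rw [Ideal.span_singleton_le_span_singleton]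
      refine ⟨1 - e, ?_⟩
      linear_combination (-e') * he.eq
    have heq := (eq_of_le_of_not_lt hle (hmax _ ⟨e * e', he.mul he', by
      rw [Bialgebra.counit_mul, hε, hε', mul_one], rfl⟩))
    obtain ⟨a, ha⟩ := Ideal.mem_span_singleton'.1
      (heq.ge (Ideal.mem_span_singleton_self (1 - e * e')))
    linear_combination e * ha + (a - e') * he.eq
  refine ⟨e, he, hε, hmin, isHopfIdeal_span _ ?_ ?_ ?_⟩
  · rintro _ rfl
    rw [map_sub, Bialgebra.counit_one, hε, sub_self]
  · rintro _ rfl
    let I : Ideal H := Ideal.span {1 - e}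
    have hIε : ∀ x ∈ I, Bialgebra.counitAlgHom k H x = 0 := fun x hx =>
      (Ideal.span_le (I := RingHom.ker (Bialgebra.counitAlgHom k H))).2 (by
        rintro _ rfl
        show CoalgebraStruct.counit (R := k) (1 - e) = 0
        rw [map_sub, Bialgebra.counit_one, hε, sub_self]) hx
    let εQ : H ⧸ I →ₐ[k] k := Ideal.Quotient.liftₐ I (Bialgebra.counitAlgHom k H) hIε
    have hQ : ∀ x : H ⧸ I, IsIdempotentElem x → x = 0 ∨ x = 1 := by
      intro x hx
      obtain ⟨h, rfl⟩ := Ideal.Quotient.mk_surjective x
      obtain ⟨a, ha⟩ := Ideal.mem_span_singleton'.1 (Ideal.Quotient.eq.1 ((map_mul _ h h).trans hx.eq))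
      have hi : IsIdempotentElem (h * e) := by
        show h * e * (h * e) = h * e
        linear_combination (-e ^ 2) * ha + (h - a * e) * he.eq
      have he1 : Ideal.Quotient.mk I e = 1 :=
        (Ideal.Quotient.eq.2 (Ideal.mem_span_singleton'.2 ⟨-1, by ring⟩)).trans (map_one _)
      rcases IsIdempotentElem.iff_eq_zero_or_one.1 (hi.map (Bialgebra.counitAlgHom k H)) with h0 | h1
      · left
        have h2 := hmin _ hi.one_sub (show Bialgebra.counitAlgHom k H (1 - h * e) = 1 by
          rw [map_sub, map_one, h0, sub_zero])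
        have h3 : h * e = 0 := by linear_combination (-1 : H) * h2 - h * he.eq
        rw [← mul_one (Ideal.Quotient.mk I h), ← he1, ← map_mul, h3, map_zero]
      · right
        have h2 := hmin _ hi h1
        have h3 : h * e = e := by linear_combination h2 - h * he.eq
        rw [← mul_one (Ideal.Quotient.mk I h), ← he1, ← map_mul, h3]
    refine idem_eq_zero hQ εQ ((he.one_sub.map (Bialgebra.comulAlgHom k H)).map _) ?_
    have key : ∀ z : H ⊗[k] H, (Algebra.TensorProduct.rid k k (H ⧸ I)).toAlgHom
        (Algebra.TensorProduct.map (AlgHom.id k (H ⧸ I)) εQ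
          (Algebra.TensorProduct.map (Ideal.Quotient.mkₐ k I) (Ideal.Quotient.mkₐ k I) z)) =
        Ideal.Quotient.mkₐ k I (TensorProduct.rid k H (CoalgebraStruct.counit.lTensor H z)) := by
      intro z
      induction z with
      | zero => simp
      | add x y hx hy => simp only [map_add, hx, hy]
      | tmul p q =>
        simp only [Algebra.TensorProduct.map_tmul, LinearMap.lTensor_tmul, TensorProduct.rid_tmul, map_smul]
        simp [εQ]
    rw [key, Coalgebra.lTensor_counit_comul, TensorProduct.rid_tmul, one_smul]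
    exact Ideal.Quotient.eq_zero_iff_mem.2 (Ideal.mem_span_singleton_self _)
  · rintro _ rfl
    refine Ideal.mem_span_singleton'.2 ⟨1 - HopfAlgebra.antipodeAlgHom k H e, ?_⟩
    have h2 := hmin _ (he.map (HopfAlgebra.antipodeAlgHom k H)) (by
      show CoalgebraStruct.counit (R := k) (HopfAlgebraStruct.antipode (R := k) e) = 1
      rw [HopfAlgebra.counit_antipode, hε])
    show _ = HopfAlgebra.antipodeAlgHom k H (1 - e)
    rw [map_sub, map_one]
    linear_combination h2

/-- the kernel of a surjective map of Hopf algebras is a Hopf ideal -/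
theorem isHopfIdeal_ker {k : Type u} [Field k] {A : Type v} [CommRing A] [HopfAlgebra k A] {D : Type w}
    [CommRing D] [HopfAlgebra k D] (π : A →ₐc[k] D) (hπ : Function.Surjective π) :
    (RingHom.ker (π : A →ₐ[k] D)).IsHopfIdeal k := by
  refine { counit_eq_zero := ?_, map_mkQ_comul_eq_zero := ?_, antipode_mem := ?_ }
  · intro x hx
    rw [← CoalgHomClass.counit_comp_apply π x, show π x = 0 from hx, map_zero]
  · intro x hx
    let q : A →ₗ[k] A ⧸ (RingHom.ker (π : A →ₐ[k] D)).restrictScalars k :=
      ((RingHom.ker (π : A →ₐ[k] D)).restrictScalars k).mkQ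
    obtain ⟨s, hs⟩ := (π : A →ₗ[k] D).exists_rightInverse_of_surjective (LinearMap.range_eq_top.2 hπ)
    have hq : ∀ y, q (s (π y)) = q y := fun y => (Submodule.Quotient.eq _).2 (by
      show π (s (π y) - y) = 0
      rw [map_sub, show π (s (π y)) = π y from LinearMap.congr_fun hs (π y), sub_self])
    have h1 : TensorProduct.map (q ∘ₗ s) (q ∘ₗ s) (CoalgebraStruct.comul (R := k) (π x)) = 0 := by
      rw [show π x = 0 from hx, map_zero, map_zero]
    show TensorProduct.map q q (CoalgebraStruct.comul (R := k) x) = 0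
    rw [← h1, ← CoalgHomClass.map_comp_comul_apply π x]
    generalize CoalgebraStruct.comul (R := k) x = y
    induction y with
    | zero => simp
    | add a b ha hb => simp only [map_add, ha, hb]
    | tmul a b =>
      simp only [TensorProduct.map_tmul, LinearMap.comp_apply]
      exact congrArg₂ (· ⊗ₜ[k] ·) (hq a).symm (hq b).symm
  · intro x hx
    show π _ = 0
    rw [← Unip38.bialgHom_antipode, show π x = 0 from hx, map_zero]

end Groth.Agent.Comod33.IdComp
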