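import Groth.Agent.Comod33.Simple
import Mathlib.RingTheory.Coalgebra.Hom

/-!
Corestriction of comodules along coalgebra maps.
-/

universe u v v' w w'

open TensorProduct

noncomputable section

namespace Groth.Agent.Comod33

variable {k : Type u} [CommRing k] {C : Type v} [AddCommGroup C] [Module k C] [Coalgebra k C]
  {D : Type v'} [AddCommGroup D] [Module k D] [Coalgebra k D]
variable {V : Type w} [AddCommGroup V] [Module k V] {W : Type w'} [AddCommGroup W] [Module k W]

/-- corestriction of a comodule along a coalgebra map -/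
@[reducible] def push (i : C →ₗc[k] D) (c : HopfRep.Comod k C V) : HopfRep.Comod k D V where
  coact := (i : C →ₗ[k] D).lTensor V ∘ₗ c.coact
  coassoc := by
    ext v
    have hco : (TensorProduct.map (i : C →ₗ[k] D) (i : C →ₗ[k] D)) ∘ₗ CoalgebraStruct.comul =
        CoalgebraStruct.comul ∘ₗ (i : C →ₗ[k] D) := CoalgHomClass.map_comp_comul i
    simp only [LinearMap.comp_apply, LinearEquiv.coe_coe]
    rw [← LinearMap.comp_apply ((CoalgebraStruct.comul (R := k) (A := D)).lTensor V),
      ← LinearMap.lTensor_comp, ← hco, LinearMap.lTensor_comp, LinearMap.comp_apply, ← coassoc_apply]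
    generalize c.coact v = x
    induction x with
    | zero => simp
    | tmul w a =>
      simp only [LinearMap.rTensor_tmul, LinearMap.lTensor_tmul, LinearMap.comp_apply]
      generalize c.coact w = y
      induction y with
      | zero => simp
      | tmul p q => simp
      | add p q hp hq => simp only [add_tmul, map_add, hp, hq]
    | add p q hp hq => simp only [map_add, hp, hq]
  counit_comp := by
    ext v
    simp only [LinearMap.comp_apply]
    rw [← LinearMap.comp_apply, ← LinearMap.lTensor_comp, CoalgHomClass.counit_comp]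
    exact counit_apply v

theorem dact_push (i : C →ₗc[k] D) (c : HopfRep.Comod k C V) (f : D →ₗ[k] k) (v : V) :
    @dact k _ D _ _ V _ _ _ (push i c) f v = @dact k _ C _ _ V _ _ _ c (f ∘ₗ (i : C →ₗ[k] D)) v :=
  rc_lTensor _ _ _

theorem isSubcomod_push (i : C →ₗc[k] D) (c : HopfRep.Comod k C V) {U : Submodule k V}
    (hU : @HopfRep.IsSubcomod k C _ _ _ _ V _ _ c U) : @HopfRep.IsSubcomod k D _ _ _ _ V _ _ (push i c) U := by
  intro u hu
  obtain ⟨y, hy⟩ := hU u hu
  refine ⟨(i : C →ₗ[k] D).lTensor U y, ?_⟩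
  show _ = (i : C →ₗ[k] D).lTensor V (c.coact u)
  rw [← hy, ← LinearMap.comp_apply, ← LinearMap.comp_apply, LinearMap.rTensor_comp_lTensor,
    LinearMap.lTensor_comp_rTensor]

theorem isComodHom_push (i : C →ₗc[k] D) (c : HopfRep.Comod k C V) (d : HopfRep.Comod k C W)
    {f : V →ₗ[k] W} (hf : @Hoch.IsComodHom k _ C _ _ _ V _ _ c W _ _ d f) :
    @Hoch.IsComodHom k _ D _ _ _ V _ _ (push i c) W _ _ (push i d) f := by
  ext v
  show (i : C →ₗ[k] D).lTensor W (d.coact (f v)) = f.rTensor D ((i : C →ₗ[k] D).lTensor V (c.coact v))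
  have h := LinearMap.congr_fun hf v
  simp only [LinearMap.comp_apply] at h
  rw [show d.coact (f v) = _ from h]
  generalize c.coact v = y
  induction y with
  | zero => simp
  | tmul p q => simp
  | add p q hp hq => simp only [map_add, hp, hq]

theorem isComodHom_coalgHom_push (i : C →ₗc[k] D) :
    @Hoch.IsComodHom k _ D _ _ _ C _ _ (push i (HopfRep.Comod.regular k C)) D _ _
      (HopfRep.Comod.regular k D) (i : C →ₗ[k] D) := by
  ext a
  show CoalgebraStruct.comul (R := k) ((i : C →ₗ[k] D) a) =
    (i : C →ₗ[k] D).rTensor D ((i : C →ₗ[k] D).lTensor C (CoalgebraStruct.comul (R := k) a))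
  rw [← LinearMap.comp_apply ((i : C →ₗ[k] D).rTensor D), LinearMap.rTensor_comp_lTensor]
  exact (CoalgHomClass.map_comp_comul_apply i a).symm

theorem isSimpleComod_push {k : Type u} [Field k] {C : Type v} [AddCommGroup C] [Module k C]
    [Coalgebra k C] {D : Type v'} [AddCommGroup D] [Module k D] [Coalgebra k D]
    {V : Type w} [AddCommGroup V] [Module k V] (i : C →ₗc[k] D) (hi : Function.Injective i)
    (c : HopfRep.Comod k C V) (hV : @HopfRep.IsSimpleComod k C _ _ _ _ V _ _ c) :
    @HopfRep.IsSimpleComod k D _ _ _ _ V _ _ (push i c) := by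
  refine ⟨hV.1, fun U hU => hV.2 U ?_⟩
  refine (@isSubcomod_iff k _ C _ _ V _ _ _ _ c U).2 ?_
  have hU := (@isSubcomod_iff k _ D _ _ V _ _ _ _ (push i c) U).1 hU
  intro f u hu
  obtain ⟨g, hg⟩ := (i : C →ₗ[k] D).exists_leftInverse_of_injective (LinearMap.ker_eq_bot.2 hi)
  have h := hU (f ∘ₗ g) u hu
  rw [dact_push, LinearMap.comp_assoc, hg, LinearMap.comp_id] at h
  exact h

end Groth.Agent.Comod33
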