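import Groth.Agent.Comod33.BaseChange
import Groth.Agent.Comod33.UnipotentBC
import Groth.Agent.Comod33.Flag
import Mathlib.RingTheory.Valuation.ValuationRing
import Mathlib.RingTheory.Flat.Basic

/-!
Specialisation of subcomodules of the regular representation over a valuation ring.
-/

universe u

open TensorProduct

noncomputable section

namespace Groth.Agent.Comod33.Spec

set_option maxHeartbeats 1000000
set_option synthInstance.maxHeartbeats 100000

variable {A : Type u} [CommRing A] {H : Type u} [CommRing H] [HopfAlgebra A H]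

section Ring

variable (R : Type u) [CommRing R] [Algebra A R]

/-- the canonical map to the base change -/
def iota : H →ₗ[A] R ⊗[A] H := TensorProduct.mk A R H 1

theorem iota_apply (h : H) : iota (A := A) R h = (1 : R) ⊗ₜ[A] h := rfl

theorem iota_one : iota (A := A) R (1 : H) = 1 := rfl

/-- the canonical map between the tensor squares -/
def Psi : H ⊗[A] H →ₗ[A] (R ⊗[A] H) ⊗[R] (R ⊗[A] H) :=
  (AlgebraTensorModule.distribBaseChange A R H H).toLinearMap.restrictScalars A ∘ₗ
    TensorProduct.mk A R (H ⊗[A] H) 1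

theorem Psi_tmul (p q : H) : Psi (A := A) R (p ⊗ₜ[A] q) = iota (A := A) R p ⊗ₜ[R] iota (A := A) R q := by
  simp [Psi, iota]

theorem comul_iota (h : H) :
    CoalgebraStruct.comul (R := R) (iota (A := A) R h) = Psi (A := A) R (CoalgebraStruct.comul (R := A) h) := by
  rw [iota_apply, show CoalgebraStruct.comul (R := R) ((1 : R) ⊗ₜ[A] h) =
    AlgebraTensorModule.tensorTensorTensorComm A R A R R R H H
      (((1 : R) ⊗ₜ[R] (1 : R)) ⊗ₜ[A] CoalgebraStruct.comul (R := A) h) from rfl]
  generalize CoalgebraStruct.comul (R := A) h = z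
  induction z with
  | zero => simp
  | tmul p q => simp [Psi_tmul, iota_apply]
  | add x y hx hy => simp only [tmul_add, map_add, hx, hy]

end Ring

section Generic

variable {K : Type u} [Field K] [Algebra A K] [Module.Flat A H]

/-- the lattice cut out by a subspace of the generic fibre -/
def lat (U : Submodule K (K ⊗[A] H)) : Submodule A H :=
  (U.restrictScalars A).comap (iota (A := A) K)

theorem mem_lat {U : Submodule K (K ⊗[A] H)} {h : H} :
    h ∈ lat U ↔ iota (A := A) K h ∈ U := Iff.rfl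

theorem smul_sub_tmul {R M : Type u} [CommRing R] [CommRing M] [Algebra R M] (c : R) (a : M)
    (z : M ⊗[R] M) : c • z - (c • a) ⊗ₜ[R] (1 : M) = c • (z - a ⊗ₜ[R] (1 : M)) := by
  rw [smul_sub, smul_tmul']

theorem mem_of_Psi {U : Submodule K (K ⊗[A] H)} {z : H ⊗[A] H}
    (hz : Psi (A := A) K z ∈ LinearMap.range (U.subtype.rTensor (K ⊗[A] H))) :
    z ∈ LinearMap.range ((lat U).subtype.rTensor H) := by
  let g : H →ₗ[A] (K ⊗[A] H) ⧸ U := U.mkQ.restrictScalars A ∘ₗ iota (A := A) K
  have hex : Function.Exact (lat U).subtype g := by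
    rw [LinearMap.exact_iff, Submodule.range_subtype]
    ext h
    simp [g, mem_lat, Submodule.Quotient.mk_eq_zero]
  have hex2 := Module.Flat.rTensor_exact H hex
  refine (hex2 z).1 ?_
  have hfac : ∀ z, g.rTensor H z = (U.mkQ.restrictScalars A).rTensor H
      (BC.cbc K (K ⊗[A] H) H (Psi (A := A) K z)) := by
    intro z
    induction z with
    | zero => simp
    | tmul p q => simp [g, Psi_tmul, BC.cbc, iota_apply]
    | add x y hx hy => simp only [map_add, hx, hy]
  rw [hfac]
  obtain ⟨y, hy⟩ := hz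
  rw [← hy]
  clear hy
  induction y with
  | zero => simp
  | add x y hx hy => simp only [map_add, hx, hy, add_zero]
  | tmul w x =>
    induction x with
    | zero => simp
    | add x y hx hy => simp only [tmul_add, map_add, hx, hy, add_zero]
    | tmul c b =>
      rw [LinearMap.rTensor_tmul, BC.cbc, AlgebraTensorModule.cancelBaseChange_tmul, LinearMap.rTensor_tmul,
        LinearMap.restrictScalars_apply, Submodule.subtype_apply, Submodule.mkQ_apply,
        (Submodule.Quotient.mk_eq_zero U).2 (U.smul_mem c w.2), zero_tmul]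

variable (k : Type u) [Field k] [Algebra A k]

/-- the specialisation of a subspace of the generic fibre -/
def spec (U : Submodule K (K ⊗[A] H)) : Submodule k (k ⊗[A] H) :=
  Submodule.span k (iota (A := A) k '' (lat U : Set H))

variable {k}

theorem iota_mem_spec {U : Submodule K (K ⊗[A] H)} {n : H} (hn : n ∈ lat U) :
    iota (A := A) k n ∈ spec k U := Submodule.subset_span ⟨n, hn, rfl⟩

theorem Psi_mem_spec {U : Submodule K (K ⊗[A] H)} {z : H ⊗[A] H}
    (hz : Psi (A := A) K z ∈ LinearMap.range (U.subtype.rTensor (K ⊗[A] H))) :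
    Psi (A := A) k z ∈ LinearMap.range ((spec k U).subtype.rTensor (k ⊗[A] H)) := by
  obtain ⟨y, rfl⟩ := mem_of_Psi hz
  clear hz
  induction y with
  | zero => simp
  | add a b ha hb => simp only [map_add]; exact Submodule.add_mem _ ha hb
  | tmul n q =>
    exact ⟨⟨_, iota_mem_spec (k := k) n.2⟩ ⊗ₜ iota (A := A) k q, by simp [Psi_tmul]⟩

theorem isSubcomod_spec {U : Submodule K (K ⊗[A] H)}
    (hU : HopfRep.IsSubcomod (k := K) (A := K ⊗[A] H) U) :
    HopfRep.IsSubcomod (k := k) (A := k ⊗[A] H) (spec k U) := by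
  intro x hx
  induction hx using Submodule.span_induction with
  | zero => simp
  | add a b _ _ ha hb => simp only [map_add]; exact Submodule.add_mem _ ha hb
  | smul c a _ ha => rw [map_smul]; exact Submodule.smul_mem _ c ha
  | mem a ha =>
    obtain ⟨n, hn, rfl⟩ := ha
    show CoalgebraStruct.comul (R := k) (iota (A := A) k n) ∈ _
    rw [comul_iota]
    refine Psi_mem_spec ?_
    rw [← comul_iota]
    exact hU _ hn

theorem comul_sub_mem_spec {U U' : Submodule K (K ⊗[A] H)}
    (h : ∀ y ∈ U, CoalgebraStruct.comul (R := K) y - y ⊗ₜ[K] (1 : K ⊗[A] H) ∈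
      LinearMap.range (U'.subtype.rTensor (K ⊗[A] H))) {x : k ⊗[A] H} (hx : x ∈ spec k U) :
    CoalgebraStruct.comul (R := k) x - x ⊗ₜ[k] (1 : k ⊗[A] H) ∈
      LinearMap.range ((spec k U').subtype.rTensor (k ⊗[A] H)) := by
  induction hx using Submodule.span_induction with
  | zero => simp
  | add a b _ _ ha hb =>
    rw [map_add, add_tmul, add_sub_add_comm]; exact Submodule.add_mem _ ha hb
  | smul c a _ ha => rw [map_smul, smul_sub_tmul c]; exact Submodule.smul_mem _ c ha
  | mem a ha =>
    obtain ⟨n, hn, rfl⟩ := ha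
    have e : ∀ (R : Type u) [CommRing R] [Algebra A R],
        Psi (A := A) R (CoalgebraStruct.comul (R := A) n - n ⊗ₜ[A] (1 : H)) =
          CoalgebraStruct.comul (R := R) (iota (A := A) R n) - iota (A := A) R n ⊗ₜ[R] (1 : R ⊗[A] H) := by
      intro R _ _
      rw [map_sub, comul_iota, Psi_tmul, iota_one]
    rw [← e k]
    exact Psi_mem_spec (e K ▸ h _ hn)

variable [IsDomain A] [IsFractionRing A K]

theorem spec_bot : spec k (⊥ : Submodule K (K ⊗[A] H)) = ⊥ := by
  rw [spec, Submodule.span_eq_bot]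
  rintro _ ⟨n, hn, rfl⟩
  have : iota (A := A) K n = iota (A := A) K 0 := by
    rw [map_zero]; exact (Submodule.mem_bot K).1 hn
  rw [Algebra.TensorProduct.includeRight_injective (R := A) (A := K) (B := H)
    (IsFractionRing.injective A K) this, map_zero]

variable [ValuationRing A]

theorem exists_spec_le {U U' : Submodule K (K ⊗[A] H)} [Module.Finite K U] (hle : U' ≤ U)
    (hfr : Module.finrank K U = Module.finrank K U' + 1) :
    ∃ g, spec k U ≤ spec k U' ⊔ (k ∙ g) := by
  classical
  by_cases hall : ∀ n ∈ lat U, iota (A := A) k n ∈ spec k U'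
  · exact ⟨0, Submodule.span_le.2 (by
      rintro _ ⟨n, hn, rfl⟩; exact Submodule.mem_sup_left (hall n hn))⟩
  push Not at hall
  obtain ⟨n₀, hn₀, hn₀'⟩ := hall
  refine ⟨iota (A := A) k n₀, Submodule.span_le.2 ?_⟩
  rintro _ ⟨m, hm, rfl⟩
  have hm₀ : iota (A := A) K n₀ ∉ U' := fun h => hn₀' (iota_mem_spec h)
  -- U = U' + K ι n₀
  have hsup : U' ⊔ (K ∙ iota (A := A) K n₀) = U := by
    have h1 : U' ⊔ (K ∙ iota (A := A) K n₀) ≤ U :=
      sup_le hle ((Submodule.span_singleton_le_iff_mem _ _).2 hn₀)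
    have h2 : U' < U' ⊔ (K ∙ iota (A := A) K n₀) :=
      lt_of_le_of_ne le_sup_left fun e => hm₀ (e ▸ Submodule.mem_sup_right (Submodule.mem_span_singleton_self _))
    haveI : Module.Finite K ↥(U' ⊔ (K ∙ iota (A := A) K n₀)) := Submodule.finiteDimensional_of_le h1
    have h3 := Submodule.finrank_lt_finrank_of_lt h2
    exact Submodule.eq_of_le_of_finrank_le h1 (by omega)
  have hm' : iota (A := A) K m ∈ U' ⊔ (K ∙ iota (A := A) K n₀) := hsup.symm ▸ hm
  obtain ⟨w, hw, v, hv, hsum⟩ := Submodule.mem_sup.1 hm'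
  obtain ⟨c, rfl⟩ := Submodule.mem_span_singleton.1 hv
  rcases ValuationRing.isInteger_or_isInteger A c with ⟨a, ha⟩ | ⟨a, ha⟩
  · have hd : m - a • n₀ ∈ lat U' := by
      rw [mem_lat, map_sub, map_smul, ← algebraMap_smul K, ha, ← hsum, add_sub_cancel_right]
      exact hw
    have := iota_mem_spec (k := k) hd
    rw [map_sub, map_smul, ← algebraMap_smul k] at this
    rw [← sub_add_cancel (iota (A := A) k m) (algebraMap A k a • iota (A := A) k n₀)]
    exact Submodule.add_mem_sup this (Submodule.smul_mem _ _ (Submodule.mem_span_singleton_self _))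
  · by_cases hc : c = 0
    · subst hc
      rw [zero_smul, add_zero] at hsum
      exact Submodule.mem_sup_left (iota_mem_spec (mem_lat.2 (hsum ▸ hw)))
    have hd : a • m - n₀ ∈ lat U' := by
      rw [mem_lat, map_sub, map_smul, ← algebraMap_smul K, ha, ← hsum, smul_add,
        inv_smul_smul₀ hc, add_sub_cancel_right]
      exact U'.smul_mem _ hw
    have hd' := iota_mem_spec (k := k) hd
    rw [map_sub, map_smul, ← algebraMap_smul k] at hd'
    have ha0 : algebraMap A k a ≠ 0 := by
      intro h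
      rw [h, zero_smul, zero_sub, neg_mem_iff] at hd'
      exact hn₀' hd'
    have := Submodule.add_mem_sup hd' (Submodule.mem_span_singleton_self (R := k) (iota (A := A) k n₀))
    rw [sub_add_cancel] at this
    have h2 := Submodule.smul_mem _ (algebraMap A k a)⁻¹ this
    rwa [inv_smul_smul₀ ha0] at h2

/-- every minimal subcomodule of the special fibre lies in a one-dimensional layer -/
theorem exists_layer (hsurj : Function.Surjective (algebraMap A k))
    (P : Submodule K (K ⊗[A] H) → Submodule K (K ⊗[A] H) → Prop)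
    (hP : ∀ U : Submodule K (K ⊗[A] H), HopfRep.IsSubcomod (k := K) (A := K ⊗[A] H) U →
      Module.Finite K U → U ≠ ⊥ → ∃ U', U' ≤ U ∧ HopfRep.IsSubcomod (k := K) (A := K ⊗[A] H) U' ∧
        Module.finrank K U = Module.finrank K U' + 1 ∧ P U U')
    (E : Submodule k (k ⊗[A] H)) (hE : HopfRep.IsSubcomod (k := k) (A := k ⊗[A] H) E) (hE0 : E ≠ ⊥)
    (hmin : ∀ W, HopfRep.IsSubcomod (k := k) (A := k ⊗[A] H) W → W ≤ E → W = ⊥ ∨ W = E) :
    ∃ U U', P U U' ∧ E ≤ spec k U ∧ E ⊓ spec k U' = ⊥ ∧ Module.finrank k E = 1 := by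
  obtain ⟨x, hx, hx0⟩ := Submodule.exists_mem_ne_zero_of_ne_bot hE0
  obtain ⟨h, rfl⟩ := TensorProduct.mk_surjective A H k hsurj x
  suffices key : ∀ n (U : Submodule K (K ⊗[A] H)), HopfRep.IsSubcomod (k := K) (A := K ⊗[A] H) U →
      Module.Finite K U → Module.finrank K U = n → E ≤ spec k U →
      ∃ U U', P U U' ∧ E ≤ spec k U ∧ E ⊓ spec k U' = ⊥ ∧ Module.finrank k E = 1 by
    let U := gen (k := K) (A := K ⊗[A] H) (iota (A := A) K h)
    refine key _ U (isSubcomod_gen _) (finite_gen _) rfl ?_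
    have hxU : iota (A := A) k h ∈ spec k U := iota_mem_spec (mem_gen _)
    rcases hmin _ (isSubcomod_inf hE (isSubcomod_spec (isSubcomod_gen (iota (A := A) K h)))) inf_le_left with e | e
    · exact absurd ((Submodule.mem_bot k).1 (e ▸ ⟨hx, hxU⟩)) hx0
    · exact inf_eq_left.1 e
  intro n
  induction n using Nat.strong_induction_on with
  | _ n ih =>
  intro U hU hfin hn hEU
  have hU0 : U ≠ ⊥ := by
    rintro rfl
    rw [spec_bot, le_bot_iff] at hEU
    exact hE0 hEU
  obtain ⟨U', hle, hU', hfr, hPU⟩ := hP U hU hfin hU0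
  haveI : Module.Finite K U' := Submodule.finiteDimensional_of_le hle
  rcases hmin _ (isSubcomod_inf hE (isSubcomod_spec (k := k) hU')) inf_le_left with e | e
  · refine ⟨U, U', hPU, hEU, e, ?_⟩
    obtain ⟨g, hg⟩ := exists_spec_le (k := k) hle hfr
    let φ : E →ₗ[k] (k ⊗[A] H) ⧸ spec k U' := (spec k U').mkQ ∘ₗ E.subtype
    have hφ : Function.Injective φ := by
      rw [injective_iff_map_eq_zero]
      intro y hy
      have : y.1 ∈ E ⊓ spec k U' := ⟨y.2, (Submodule.Quotient.mk_eq_zero _).1 hy⟩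
      rw [e, Submodule.mem_bot] at this
      exact Subtype.ext this
    have hr : LinearMap.range φ ≤ k ∙ (spec k U').mkQ g := by
      rintro _ ⟨y, rfl⟩
      obtain ⟨a, ha, b, hb, hab⟩ := Submodule.mem_sup.1 (hg (hEU y.2))
      obtain ⟨c, rfl⟩ := Submodule.mem_span_singleton.1 hb
      refine Submodule.mem_span_singleton.2 ⟨c, ?_⟩
      show c • (spec k U').mkQ g = (spec k U').mkQ y.1
      rw [← hab, map_add, map_smul, show (spec k U').mkQ a = 0 from (Submodule.Quotient.mk_eq_zero _).2 ha, zero_add]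
    haveI : Nontrivial E := Submodule.nontrivial_iff_ne_bot.2 hE0
    haveI : Module.Finite k (LinearMap.range φ) := Submodule.finiteDimensional_of_le hr
    have h1 : Module.finrank k E = Module.finrank k (LinearMap.range φ) :=
      (LinearEquiv.ofInjective φ hφ).finrank_eq
    haveI : Module.Finite k E := Module.Finite.equiv (LinearEquiv.ofInjective φ hφ).symm
    have h2 := Submodule.finrank_mono hr
    have h3 : Module.finrank k (k ∙ (spec k U').mkQ g) ≤ 1 :=
      (finrank_span_le_card ({(spec k U').mkQ g} : Set _)).trans_eq (by simp only [Set.toFinset_singleton, Finset.card_singleton])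
    have h4 : 0 < Module.finrank k E := Module.finrank_pos
    omega
  · exact ih _ (by omega) U' hU' inferInstance rfl (inf_eq_left.1 e)

end Generic

section Field

variable {k : Type u} [Field k] {C : Type u} [CommRing C] [Bialgebra k C]

/-- a hyperplane subcomodule for a trigonalizable bialgebra -/
theorem exists_hyperplane_subcomod (hT : HopfRep.IsTrigonalizable k C) (U : Submodule k C)
    (hU : HopfRep.IsSubcomod (k := k) (A := C) U) (hfin : Module.Finite k U) (hU0 : U ≠ ⊥) :
    ∃ U', U' ≤ U ∧ HopfRep.IsSubcomod (k := k) (A := C) U' ∧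
      Module.finrank k U = Module.finrank k U' + 1 := by
  letI := ComodSub.Comod.restr (HopfRep.Comod.regular k C) U hU
  refine ⟨(flag hT U (Module.finrank k U - 1)).1.map U.subtype, Submodule.map_subtype_le _ _,
    isSubcomod_map (flag hT U _).2 (ComodSub.isComodHom_subtype _ U hU), ?_⟩
  haveI : Nontrivial U := Submodule.nontrivial_iff_ne_bot.2 hU0
  have := Module.finrank_pos (R := k) (M := U)
  rw [(Submodule.equivMapOfInjective _ U.injective_subtype _).finrank_eq.symm, finrank_flag]
  omega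

/-- a hyperplane containing the image of `Δ - id ⊗ 1` for a unipotent bialgebra -/
theorem exists_hyperplane_unipotent (hT : HopfRep.IsUnipotent k C) (U : Submodule k C)
    (hU : HopfRep.IsSubcomod (k := k) (A := C) U) (hfin : Module.Finite k U) (hU0 : U ≠ ⊥) :
    ∃ U', U' ≤ U ∧ HopfRep.IsSubcomod (k := k) (A := C) U' ∧
      Module.finrank k U = Module.finrank k U' + 1 ∧
      ∀ y ∈ U, CoalgebraStruct.comul (R := k) y - y ⊗ₜ[k] (1 : C) ∈ LinearMap.range (U'.subtype.rTensor C) := by
  classical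
  letI c := ComodSub.Comod.restr (HopfRep.Comod.regular k C) U hU
  haveI : Nontrivial U := Submodule.nontrivial_iff_ne_bot.2 hU0
  have hex : ∃ r, soc k C U r = ⊤ := ⟨_, soc_finrank_eq_top hT U⟩
  have hr := Nat.find_spec hex
  have hr0 : Nat.find hex ≠ 0 := by
    intro e
    rw [e] at hr
    exact bot_ne_top (α := Submodule k U) hr
  obtain ⟨i, hi⟩ := Nat.exists_eq_succ_of_ne_zero hr0
  have hi' : soc k C U i ≠ ⊤ := Nat.find_min hex (by omega)
  obtain ⟨v, -, hv⟩ := SetLike.exists_of_lt (lt_top_iff_ne_top.2 hi')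
  obtain ⟨f, hfv, hf⟩ := Submodule.exists_le_ker_of_notMem hv
  let L := LinearMap.ker f
  have hstep : ∀ y : U, HopfRep.Comod.coact (k := k) (A := C) y - y ⊗ₜ[k] (1 : C) ∈
      LinearMap.range (L.subtype.rTensor C) := fun y =>
    range_rTensor_mono hf (mem_soc_succ.1 (by rw [← Nat.succ_eq_add_one, ← hi, hr]; trivial))
  have hL : HopfRep.IsSubcomod (k := k) (A := C) L := fun y hy => by
    rw [← sub_add_cancel (HopfRep.Comod.coact (k := k) (A := C) y) (y ⊗ₜ[k] (1 : C))]
    exact Submodule.add_mem _ (hstep y) ⟨⟨y, hy⟩ ⊗ₜ 1, by simp⟩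
  refine ⟨L.map U.subtype, Submodule.map_subtype_le _ _,
    isSubcomod_map hL (ComodSub.isComodHom_subtype _ U hU), ?_, fun y hy => ?_⟩
  · rw [(Submodule.equivMapOfInjective _ U.injective_subtype _).finrank_eq.symm]
    have hf0 : f ≠ 0 := fun e => hfv (by rw [e]; rfl)
    have h1 := LinearMap.finrank_range_add_finrank_ker f
    rw [LinearMap.range_eq_top.2 (LinearMap.surjective_of_ne_zero hf0), finrank_top, Module.finrank_self] at h1
    show _ = Module.finrank k (LinearMap.ker f) + 1
    omega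
  · obtain ⟨z, hz⟩ := hstep ⟨y, hy⟩
    have h2 := LinearMap.congr_fun (ComodSub.isComodHom_subtype (HopfRep.Comod.regular k C) U hU) ⟨y, hy⟩
    refine ⟨(U.subtype.submoduleMap L).rTensor C z, ?_⟩
    rw [← LinearMap.comp_apply, ← LinearMap.rTensor_comp]
    have e : (L.map U.subtype).subtype ∘ₗ U.subtype.submoduleMap L = U.subtype ∘ₗ L.subtype :=
      LinearMap.ext fun _ => rfl
    rw [e, LinearMap.rTensor_comp, LinearMap.comp_apply, hz, map_sub, LinearMap.rTensor_tmul]
    simp only [LinearMap.comp_apply] at h2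
    rw [← h2]
    rfl

/-- a simple comodule embeds into the regular comodule -/
theorem exists_embedding {V : Type u} [AddCommGroup V] [Module k V] [HopfRep.Comod k C V]
    (hV : HopfRep.IsSimpleComod k C V) :
    ∃ j : V →ₗ[k] C, Hoch.IsComodHom C j ∧ Function.Injective j ∧
      HopfRep.IsSubcomod (k := k) (A := C) (LinearMap.range j) ∧ LinearMap.range j ≠ ⊥ ∧
      ∀ W, HopfRep.IsSubcomod (k := k) (A := C) W → W ≤ LinearMap.range j →
        W = ⊥ ∨ W = LinearMap.range j := by
  haveI := hV.1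
  obtain ⟨v, hv⟩ := exists_ne (0 : V)
  obtain ⟨φ, hφ⟩ := Module.Projective.exists_dual_ne_zero k hv
  have hj := isComodHom_cf (A := C) φ
  have hinj : Function.Injective (cf (A := C) φ) := by
    rw [← LinearMap.ker_eq_bot]
    refine (hV.2 _ (isSubcomod_ker hj)).resolve_right fun e => hφ ?_
    have h0 : cf (A := C) φ v = 0 := LinearMap.mem_ker.1 (e ▸ Submodule.mem_top)
    rw [← counit_cf (A := C), h0, map_zero]
  refine ⟨cf (A := C) φ, hj, hinj, isSubcomod_range hj, fun e => ?_, fun W hW hle => ?_⟩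
  · have : cf (A := C) φ v ∈ LinearMap.range (cf (A := C) φ) := ⟨v, rfl⟩
    rw [e, Submodule.mem_bot] at this
    exact hv (hinj (by rw [this, map_zero]))
  · have hW' : W = (W.comap (cf (A := C) φ)).map (cf (A := C) φ) := by
      rw [Submodule.map_comap_eq, inf_eq_right.2 hle]
    rcases hV.2 _ (isSubcomod_comap hW hj) with e | e
    · left; rw [hW', e, Submodule.map_bot]
    · right; rw [hW', e, Submodule.map_top]

theorem isUnipotent_of_minimal (h : ∀ E : Submodule k C, HopfRep.IsSubcomod (k := k) (A := C) E → E ≠ ⊥ →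
      (∀ W, HopfRep.IsSubcomod (k := k) (A := C) W → W ≤ E → W = ⊥ ∨ W = E) →
      ∀ x ∈ E, CoalgebraStruct.comul (R := k) x = x ⊗ₜ[k] (1 : C)) :
    HopfRep.IsUnipotent k C := by
  intro V _ _ c hfin hnt
  obtain ⟨E, -, hE0, hE, -, hmin⟩ := exists_minimal_subcomod (k := k) (A := C) (⊤ : Submodule k V)
    top_ne_bot isSubcomod_top
  letI := ComodSub.Comod.restr c E hE
  have hsimp : HopfRep.IsSimpleComod k C E := by
    refine ⟨Submodule.nontrivial_iff_ne_bot.2 hE0, fun W hW => ?_⟩
    rcases hmin (W.map E.subtype) (Submodule.map_subtype_le _ _)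
      (isSubcomod_map hW (ComodSub.isComodHom_subtype c E hE)) with h | h
    · exact Or.inl (Submodule.map_injective_of_injective E.injective_subtype (by simpa using h))
    · exact Or.inr (Submodule.map_injective_of_injective E.injective_subtype (by simpa using h))
  obtain ⟨j, hj, hinj, hsub, hne, hmin'⟩ := exists_embedding hsimp
  obtain ⟨v, hv, hv0⟩ := Submodule.exists_mem_ne_zero_of_ne_bot hE0
  rw [Submodule.ne_bot_iff]
  refine ⟨v, map_mem_fixedPts (ComodSub.isComodHom_subtype c E hE) (v := ⟨v, hv⟩) ?_, hv0⟩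
  show HopfRep.Comod.coact (k := k) (A := C) (⟨v, hv⟩ : E) = (⟨v, hv⟩ : E) ⊗ₜ[k] (1 : C)
  apply Module.Flat.rTensor_preserves_injective_linearMap j hinj
  have h2 := LinearMap.congr_fun hj ⟨v, hv⟩
  simp only [LinearMap.comp_apply] at h2
  rw [LinearMap.rTensor_tmul, ← h2]
  exact h _ hsub hne hmin' _ ⟨_, rfl⟩

end Field

section Main

variable {K : Type u} [Field K] [Algebra A K] [Module.Flat A H] [IsDomain A] [IsFractionRing A K]
  [ValuationRing A] {k : Type u} [Field k] [Algebra A k]

theorem isTrigonalizable_special (hsurj : Function.Surjective (algebraMap A k))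
    (hK : HopfRep.IsTrigonalizable K (K ⊗[A] H)) : HopfRep.IsTrigonalizable k (k ⊗[A] H) := by
  intro V _ _ c _ hV
  obtain ⟨j, -, hinj, hsub, hne, hmin⟩ := exists_embedding hV
  obtain ⟨-, -, -, -, -, h⟩ := exists_layer (K := K) hsurj (fun _ _ => True) (fun U h1 h2 h3 => by
    obtain ⟨U', a, b, d⟩ := exists_hyperplane_subcomod hK U h1 h2 h3
    exact ⟨U', a, b, d, trivial⟩) _ hsub hne hmin
  rw [← h]
  exact (LinearEquiv.ofInjective j hinj).finrank_eq

theorem isUnipotent_special (hsurj : Function.Surjective (algebraMap A k))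
    (hK : HopfRep.IsUnipotent K (K ⊗[A] H)) : HopfRep.IsUnipotent k (k ⊗[A] H) := by
  refine isUnipotent_of_minimal fun E hE hE0 hmin x hx => ?_
  obtain ⟨U, U', hP, hEU, hinf, -⟩ := exists_layer (K := K) hsurj
    (fun U U' => ∀ y ∈ U, CoalgebraStruct.comul (R := K) y - y ⊗ₜ[K] (1 : K ⊗[A] H) ∈
      LinearMap.range (U'.subtype.rTensor (K ⊗[A] H)))
    (fun U h1 h2 h3 => exists_hyperplane_unipotent hK U h1 h2 h3) E hE hE0 hmin
  rw [← sub_eq_zero]
  refine eq_of_rc fun f => ?_
  rw [map_zero]
  have h1 : CoalgebraStruct.comul (R := k) x - x ⊗ₜ[k] (1 : k ⊗[A] H) ∈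
      LinearMap.range (E.subtype.rTensor (k ⊗[A] H)) :=
    Submodule.sub_mem _ (hE x hx) ⟨⟨x, hx⟩ ⊗ₜ 1, by simp⟩
  have h2 := comul_sub_mem_spec hP (hEU hx)
  have : rc f (CoalgebraStruct.comul (R := k) x - x ⊗ₜ[k] (1 : k ⊗[A] H)) ∈ E ⊓ spec k U' :=
    ⟨rc_mem_of_mem_range f h1, rc_mem_of_mem_range f h2⟩
  rwa [hinf, Submodule.mem_bot] at this

end Main

end Groth.Agent.Comod33.Spec
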