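import Groth.Agent.Comod33.DiagSep
import Groth.Agent.Comod33.DvrSpecial
import Mathlib.FieldTheory.PurelyInseparable.Basic
import Mathlib.FieldTheory.SeparableClosure

/-!
Homomorphisms of groups of multiplicative type descend along purely inseparable extensions.
-/

universe u

set_option maxHeartbeats 1000000
set_option synthInstance.maxHeartbeats 100000

open TensorProduct Polynomial

noncomputable section

namespace Groth.Agent.Comod33.RatHom

variable {k : Type u} [Field k]

section Eigen

variable {K : Type u} [Field K] [Algebra k K] {A : Type u} [CommRing A] [Bialgebra k A]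

/-- contractions determine a tensor -/
theorem eq_of_extFun {z w : K ⊗[k] A} (h : ∀ f : A →ₗ[k] k, Diag.extFun f z = Diag.extFun f w) : z = w := by
  let b := Module.Free.chooseBasis k A
  apply (TensorProduct.equivFinsuppOfBasisRight b).injective
  ext i
  have key : ∀ x : K ⊗[k] A,
      TensorProduct.equivFinsuppOfBasisRight b x i = Diag.extFun (b.coord i) x := by
    intro x
    induction x with
    | zero => simp
    | tmul c a => rw [TensorProduct.equivFinsuppOfBasisRight_apply_tmul_apply, Diag.extFun_tmul]; rfl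
    | add x y hx hy => simp only [map_add, Finsupp.add_apply, hx, hy]
  rw [key, key, h]

/-- a tensor with rational contractions comes from the small field -/
theorem exists_eq_one_tmul {z : K ⊗[k] A}
    (h : ∀ f : A →ₗ[k] k, Diag.extFun f z ∈ (algebraMap k K).range) : ∃ a : A, z = (1 : K) ⊗ₜ[k] a := by
  classical
  let b := Module.Free.chooseBasis k A
  choose r hr using h
  obtain ⟨c, hc⟩ : ∃ c : Module.Free.ChooseBasisIndex k A →₀ K, c = TensorProduct.equivFinsuppOfBasisRight b z := ⟨_, rfl⟩
  refine ⟨∑ i ∈ c.support, r (b.coord i) • b i, ?_⟩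
  conv_lhs => rw [← (TensorProduct.equivFinsuppOfBasisRight b).symm_apply_apply z, ← hc,
    TensorProduct.equivFinsuppOfBasisRight_symm_apply]
  rw [tmul_sum]
  refine Finset.sum_congr rfl fun i _ => ?_
  have key : ∀ x : K ⊗[k] A,
      TensorProduct.equivFinsuppOfBasisRight b x i = Diag.extFun (b.coord i) x := by
    intro x
    induction x with
    | zero => simp
    | tmul c a => rw [TensorProduct.equivFinsuppOfBasisRight_apply_tmul_apply, Diag.extFun_tmul]; rfl
    | add x y hx hy => simp only [map_add, Finsupp.add_apply, hx, hy]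
  show c i ⊗ₜ[k] b i = _
  rw [hc, key, ← hr, TensorProduct.tmul_smul, TensorProduct.smul_tmul', Algebra.smul_def, mul_one]

/-- contractions of group-like elements are separable -/
theorem isSeparable_extFun (hD : HopfRep.IsDiagonalizable K (K ⊗[k] A)) (f : A →ₗ[k] k)
    {g : K ⊗[k] A} (hg : IsGroupLikeElem K g) : IsSeparable k (Diag.extFun f g) := by
  classical
  choose P hP hPa using Diag.exists_separable_dact hD f
  let T : Module.End K (K ⊗[k] A) := (dact f : A →ₗ[k] A).baseChange K
  have hT : ∀ (q : k[X]) (c : K) (a : A), aeval T (q.map (algebraMap k K)) (c ⊗ₜ[k] a) =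
      c ⊗ₜ[k] aeval (dact f : Module.End k A) q a := by
    intro q c a
    induction q using Polynomial.induction_on' with
    | add x y hx hy => simp only [Polynomial.map_add, map_add, LinearMap.add_apply, hx, hy, tmul_add]
    | monomial n r =>
      rw [Polynomial.map_monomial, aeval_monomial, aeval_monomial, Module.End.mul_apply, Module.End.mul_apply,
        show c ⊗ₜ[k] a = c • ((1 : K) ⊗ₜ[k] a) by rw [smul_tmul', smul_eq_mul, mul_one], map_smul,
        Diag.baseChange_pow_tmul, Module.algebraMap_end_apply, Module.algebraMap_end_apply, tmul_smul,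
        smul_smul, smul_tmul', smul_tmul', smul_eq_mul, mul_one, Algebra.smul_def]
  obtain ⟨s, hs⟩ := TensorProduct.exists_finset g
  let Q : k[X] := ∏ i ∈ s, P i.2
  have h0 : aeval T (Q.map (algebraMap k K)) g = 0 := by
    rw [hs, map_sum]
    refine Finset.sum_eq_zero fun i hi => ?_
    rw [hT, show Q = (∏ j ∈ s.erase i, P j.2) * P i.2 from (Finset.prod_erase_mul _ _ hi).symm, map_mul,
      Module.End.mul_apply, hPa, map_zero, tmul_zero]
  have h1 : ∀ r : K[X], aeval T r g = r.eval (Diag.extFun f g) • g := by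
    intro r
    induction r using Polynomial.induction_on with
    | C c => simp [Module.algebraMap_end_apply]
    | add x y hx hy => simp only [map_add, LinearMap.add_apply, hx, hy, Polynomial.eval_add, add_smul]
    | monomial n c ih =>
      rw [pow_succ, ← mul_assoc, map_mul, Module.End.mul_apply, aeval_X,
        show T g = Diag.extFun f g • g from Diag.baseChange_eigen f hg, map_smul, ih, smul_smul,
        Polynomial.eval_mul (q := X), Polynomial.eval_X, mul_comm]
  rw [h1] at h0
  have h2 := (smul_eq_zero.1 h0).resolve_right hg.ne_zero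
  rw [Polynomial.eval_map, ← Polynomial.aeval_def, map_prod, Finset.prod_eq_zero_iff] at h2
  obtain ⟨i, -, hi⟩ := h2
  exact (hP i.2).of_dvd (minpoly.dvd k _ hi)

/-- a rational element has separable coordinates on group-like elements -/
theorem exists_separable_coords (hD : HopfRep.IsDiagonalizable K (K ⊗[k] A)) (a : A) :
    ∃ (s : Finset (K ⊗[k] A)) (c : K ⊗[k] A → K), (∀ g ∈ s, IsGroupLikeElem K g) ∧
      (∀ g ∈ s, IsSeparable k (c g)) ∧ (1 : K) ⊗ₜ[k] a = ∑ g ∈ s, c g • g := by
  classical
  obtain ⟨c, hcs, hc⟩ := Submodule.mem_span_set.1 (hD.ge (Submodule.mem_top (x := (1 : K) ⊗ₜ[k] a)))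
  let L := separableClosure k K
  obtain ⟨π, hπ⟩ := (Algebra.linearMap L K).exists_leftInverse_of_injective
    (LinearMap.ker_eq_bot.2 (algebraMap L K).injective)
  have hπ' : ∀ (x : K) (l : L), π (x * l) = π x * l := fun x l => by
    have := π.map_smul l x
    rw [Algebra.smul_def, smul_eq_mul, mul_comm] at this
    rw [mul_comm (π x)]
    exact this
  refine ⟨c.support, fun g => (π (c g) : K), fun g hg => hcs hg,
    fun g _ => mem_separableClosure_iff.1 (π (c g)).2, eq_of_extFun fun f => ?_⟩
  have h1 := congrArg (fun z => π (Diag.extFun f z)) hc.symm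
  simp only [Finsupp.sum, map_sum, map_smul, smul_eq_mul] at h1 ⊢
  have h2 : ∀ g ∈ c.support, ((π (c g * Diag.extFun f g) : L) : K) = (π (c g) : K) * Diag.extFun f g := by
    intro g hg
    have hs : Diag.extFun f g ∈ L := mem_separableClosure_iff.2 (isSeparable_extFun hD f (hcs hg))
    exact congrArg Subtype.val (hπ' (c g) ⟨_, hs⟩)
  have h3 := congrArg Subtype.val h1
  rw [AddSubmonoidClass.coe_finset_sum, Finset.sum_congr rfl h2] at h3
  rw [← h3, Diag.extFun_tmul, Algebra.smul_def, mul_one]
  have h4 := congrArg Subtype.val (LinearMap.congr_fun hπ (algebraMap k L (f a)))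
  simpa using h4.symm

end Eigen

section Descent

variable {k' : Type u} [Field k'] [Algebra k k'] {K : Type u} [Field K] [Algebra k K] [Algebra k' K]
  [IsScalarTower k k' K]
variable {A B : Type u} [CommRing A] [HopfAlgebra k A] [CommRing B] [HopfAlgebra k B]

/-- the inclusion of base changes -/
def jmap : k' ⊗[k] A →ₗ[k'] K ⊗[k] A :=
  AlgebraTensorModule.map (IsScalarTower.toAlgHom k' k' K).toLinearMap LinearMap.id

theorem jmap_tmul (c : k') (a : A) : jmap (k := k) (K := K) (c ⊗ₜ[k] a) = algebraMap k' K c ⊗ₜ[k] a := by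
  simp [jmap]

/-- the inclusion of tensor squares -/
def jj : (k' ⊗[k] A) ⊗[k'] (k' ⊗[k] A) →ₗ[k'] (K ⊗[k] A) ⊗[K] (K ⊗[k] A) :=
  TensorProduct.lift (((TensorProduct.mk K (K ⊗[k] A) (K ⊗[k] A)).restrictScalars₁₂ k' k').compl₁₂
    (jmap (k := k) (K := K)) (jmap (k := k) (K := K)))

theorem jj_tmul (x y : k' ⊗[k] A) :
    jj (K := K) (x ⊗ₜ[k'] y) = jmap (k := k) (K := K) x ⊗ₜ[K] jmap (k := k) (K := K) y := rfl

theorem jj_Psi (z : A ⊗[k] A) :
    jj (K := K) (Spec.Psi (A := k) k' z) = Spec.Psi (A := k) K z := by
  induction z with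
  | zero => simp
  | tmul p q =>
    rw [Spec.Psi_tmul, Spec.Psi_tmul, jj_tmul]
    simp [Spec.iota_apply, jmap_tmul]
  | add x y hx hy => simp only [map_add, hx, hy]

theorem comul_jmap (z : k' ⊗[k] A) :
    CoalgebraStruct.comul (R := K) (jmap (k := k) (K := K) z) = jj (CoalgebraStruct.comul (R := k') z) := by
  induction z with
  | zero => simp
  | add x y hx hy => simp only [map_add, hx, hy]
  | tmul c a =>
    rw [show c ⊗ₜ[k] a = c • Spec.iota (A := k) k' a by
      rw [Spec.iota_apply, smul_tmul', smul_eq_mul, mul_one],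
      LinearMap.map_smul (CoalgebraStruct.comul (R := k') (A := k' ⊗[k] A)),
      LinearMap.map_smul (jj (K := K) (A := A) (k' := k')), Spec.comul_iota,
      jj_Psi, LinearMap.map_smul (jmap (k := k) (K := K) (A := A)),
      show jmap (k := k) (K := K) (Spec.iota (A := k) k' a) = Spec.iota (A := k) K a by
        rw [Spec.iota_apply, jmap_tmul, map_one]; rfl,
      ← algebraMap_smul K c (Spec.iota (A := k) K a), map_smul, Spec.comul_iota, algebraMap_smul]

theorem counit_jmap (z : k' ⊗[k] A) :
    CoalgebraStruct.counit (R := K) (jmap (k := k) (K := K) z) =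
      algebraMap k' K (CoalgebraStruct.counit (R := k') z) := by
  induction z with
  | zero => simp
  | add x y hx hy => simp only [map_add, hx, hy]
  | tmul c a => simp [jmap_tmul, Algebra.smul_def, ← IsScalarTower.algebraMap_apply]

/-- contractions of an element of the middle field -/
theorem extFun_jmap (f : A →ₗ[k] k) (z : k' ⊗[k] A) :
    Diag.extFun f (jmap (k := k) (K := K) z) = algebraMap k' K (Diag.extFun f z) := by
  induction z with
  | zero => simp
  | add x y hx hy => simp only [map_add, hx, hy]
  | tmul c a =>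
    rw [jmap_tmul, Diag.extFun_tmul, Diag.extFun_tmul, Algebra.smul_def, Algebra.smul_def, map_mul,
      ← IsScalarTower.algebraMap_apply]

/-- images of rational elements are rational -/
theorem exists_descended [IsPurelyInseparable k k'] (hA : HopfRep.IsDiagonalizable K (K ⊗[k] A))
    (hB : HopfRep.IsDiagonalizable K (K ⊗[k] B)) (φ : k' ⊗[k] B →ₐc[k'] k' ⊗[k] A) (b : B) :
    ∃ a : A, φ ((1 : k') ⊗ₜ[k] b) = (1 : k') ⊗ₜ[k] a := by
  classical
  let lin : B →ₗ[k] K ⊗[k] A :=
    ((jmap (k := k) (K := K) (A := A)).restrictScalars k) ∘ₗ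
      ((φ : k' ⊗[k] B →ₗ[k'] k' ⊗[k] A).restrictScalars k) ∘ₗ Spec.iota (A := k) k'
  let Φ : K ⊗[k] B →ₗ[K] K ⊗[k] A := TensorProduct.AlgebraTensorModule.lift
    (LinearMap.toSpanSingleton K (B →ₗ[k] K ⊗[k] A) lin)
  have hΦ : ∀ (c : K) (x : B), Φ (c ⊗ₜ[k] x) = c • jmap (k := k) (K := K) (φ ((1 : k') ⊗ₜ[k] x)) :=
    fun c x => rfl
  have hΦι : ∀ x : B, Φ (Spec.iota (A := k) K x) = jmap (k := k) (K := K) (φ (Spec.iota (A := k) k' x)) :=
    fun x => (hΦ 1 x).trans (one_smul K _)
  have hcomul : ∀ z, CoalgebraStruct.comul (R := K) (Φ z) =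
      TensorProduct.map Φ Φ (CoalgebraStruct.comul (R := K) z) := by
    intro z
    induction z with
    | zero => simp
    | add x y hx hy => simp only [map_add, hx, hy]
    | tmul c x =>
      rw [show c ⊗ₜ[k] x = c • Spec.iota (A := k) K x by
        rw [Spec.iota_apply, smul_tmul', smul_eq_mul, mul_one], map_smul, map_smul, map_smul, map_smul,
        hΦι, comul_jmap, Spec.comul_iota, ← CoalgHomClass.map_comp_comul_apply φ, Spec.comul_iota]
      congr 1
      generalize CoalgebraStruct.comul (R := k) x = w
      induction w with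
      | zero => simp
      | add p q hp hq => simp only [map_add, hp, hq]
      | tmul p q =>
        rw [Spec.Psi_tmul, Spec.Psi_tmul, TensorProduct.map_tmul, TensorProduct.map_tmul, jj_tmul, hΦι, hΦι]
        rfl
  have hcounit : ∀ z, CoalgebraStruct.counit (R := K) (Φ z) = CoalgebraStruct.counit (R := K) z := by
    intro z
    induction z with
    | zero => simp
    | add x y hx hy => simp only [map_add, hx, hy]
    | tmul c x =>
      rw [hΦ, map_smul, counit_jmap, CoalgHomClass.counit_comp_apply]
      simp [Algebra.smul_def, ← IsScalarTower.algebraMap_apply, mul_comm]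
  obtain ⟨s, c, hs, hc, hsum⟩ := exists_separable_coords hB b
  refine exists_eq_one_tmul fun f => ?_
  refine IsPurelyInseparable.inseparable k _ ?_
  have h1 : Diag.extFun f (Φ ((1 : K) ⊗ₜ[k] b)) ∈ separableClosure k K := by
    rw [hsum, map_sum, map_sum]
    refine sum_mem fun g hg => ?_
    rw [map_smul, map_smul, smul_eq_mul]
    refine mul_mem (mem_separableClosure_iff.2 (hc g hg))
      (mem_separableClosure_iff.2 (isSeparable_extFun hA f ⟨?_, ?_⟩))
    · rw [hcounit, (hs g hg).counit_eq_one]
    · rw [hcomul, (hs g hg).comul_eq_tmul_self, TensorProduct.map_tmul]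
  rw [hΦ, one_smul, extFun_jmap, mem_separableClosure_iff, IsSeparable,
    minpoly.algebraMap_eq (algebraMap k' K).injective] at h1
  exact h1

/-- homomorphisms descend uniquely -/
theorem existsUnique_descent [IsPurelyInseparable k k'] (hA : HopfRep.IsDiagonalizable K (K ⊗[k] A))
    (hB : HopfRep.IsDiagonalizable K (K ⊗[k] B)) (φ : k' ⊗[k] B →ₐc[k'] k' ⊗[k] A) :
    ∃! f : B →ₐc[k] A, ∀ (c : k') (b : B), φ (c ⊗ₜ[k] b) = c ⊗ₜ[k] f b := by
  choose f hf using exists_descended hA hB φ
  have hinj : Function.Injective fun a : A => (1 : k') ⊗ₜ[k] a :=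
    Algebra.TensorProduct.includeRight_injective (algebraMap k k').injective
  let ι := (Algebra.TensorProduct.includeRight : A →ₐ[k] k' ⊗[k] A)
  let ιB := (Algebra.TensorProduct.includeRight : B →ₐ[k] k' ⊗[k] B)
  have hι : ∀ b, ι (f b) = φ (ιB b) := fun b => (hf b).symm
  let g : B →ₐ[k] A :=
    { toFun := f
      map_one' := hinj (by show ι (f 1) = ι 1; rw [hι, map_one, map_one, map_one])
      map_mul' := fun x y => hinj (by
        show ι (f (x * y)) = ι (f x * f y)
        rw [hι, map_mul, map_mul, map_mul, hι, hι])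
      map_zero' := hinj (by show ι (f 0) = ι 0; rw [hι, map_zero, map_zero, map_zero])
      map_add' := fun x y => hinj (by
        show ι (f (x + y)) = ι (f x + f y)
        rw [hι, map_add, map_add, map_add, hι, hι])
      commutes' := fun r => hinj (by
        show ι (f (algebraMap k B r)) = ι (algebraMap k A r)
        rw [hι, AlgHom.commutes, AlgHom.commutes, IsScalarTower.algebraMap_apply k k' (k' ⊗[k] B),
          IsScalarTower.algebraMap_apply k k' (k' ⊗[k] A)]
        exact (φ : k' ⊗[k] B →ₐ[k'] k' ⊗[k] A).commutes _) }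
  have hg : ∀ b, φ (Spec.iota (A := k) k' b) = Spec.iota (A := k) k' (g b) := fun b => hf b
  have hcounit : ∀ b, CoalgebraStruct.counit (R := k) (g b) = CoalgebraStruct.counit (R := k) b := by
    intro b
    have h := CoalgHomClass.counit_comp_apply φ ((1 : k') ⊗ₜ[k] b)
    rw [hf] at h
    refine (algebraMap k k').injective ?_
    show algebraMap k k' (CoalgebraStruct.counit (R := k) (f b)) = _
    simpa [Algebra.smul_def] using h
  have hPsi : Function.Injective (Spec.Psi (A := k) (H := A) k') :=
    (AlgebraTensorModule.distribBaseChange k k' A A).injective.comp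
      (Algebra.TensorProduct.includeRight_injective (B := A ⊗[k] A) (algebraMap k k').injective)
  have hcomul : ∀ b, CoalgebraStruct.comul (R := k) (g b) =
      TensorProduct.map g.toLinearMap g.toLinearMap (CoalgebraStruct.comul (R := k) b) := by
    intro b
    refine hPsi ?_
    rw [← Spec.comul_iota, ← hg, ← CoalgHomClass.map_comp_comul_apply φ, Spec.comul_iota]
    generalize CoalgebraStruct.comul (R := k) b = w
    induction w with
    | zero => simp
    | add p q hp hq => simp only [map_add, hp, hq]
    | tmul p q =>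
      rw [Spec.Psi_tmul, TensorProduct.map_tmul, TensorProduct.map_tmul, Spec.Psi_tmul]
      simp only [AlgHom.toLinearMap_apply]
      rw [← hg, ← hg]
      rfl
  refine ⟨BialgHom.ofAlgHom g (AlgHom.ext hcounit) (AlgHom.ext fun b => (hcomul b).symm), fun c b => ?_, ?_⟩
  · show φ (c ⊗ₜ[k] b) = c ⊗ₜ[k] g b
    rw [show c ⊗ₜ[k] b = c • ((1 : k') ⊗ₜ[k] b) by rw [smul_tmul', smul_eq_mul, mul_one], map_smul, hf,
      smul_tmul', smul_eq_mul, mul_one]
    rfl
  · intro h hh
    refine DFunLike.ext _ _ fun b => hinj ?_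
    show (1 : k') ⊗ₜ[k] h b = (1 : k') ⊗ₜ[k] g b
    rw [← hh]
    exact hf b

end Descent

end Groth.Agent.Comod33.RatHom
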