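import Groth.Agent.Comod33.Infinitesimal

/-!
The Frobenius image of a Hopf algebra over a perfect field, and infinitesimal group schemes.
-/

universe u v

open MvPolynomial TensorProduct Groth.Agent.Hopf35

noncomputable section

namespace Groth.Agent.Comod33.Infinitesimal

open Comod33.Aug

variable {k : Type u} [Field k] [PerfectField k] (p : ℕ) [hp : Fact p.Prime] [CharP k p]

theorem charP_algebra (R : Type v) [CommRing R] [Algebra k R] [Nontrivial R] : CharP R p :=
  charP_of_injective_algebraMap (algebraMap k R).injective p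

include hp in
/-- the subalgebra of `n`-fold Frobenius images -/
theorem exists_frobImage (A : Type v) [CommRing A] [HopfAlgebra k A] (n : ℕ) :
    ∃ B : Subalgebra k A, (B : Set A) = Set.range (fun a : A => a ^ p ^ n) ∧
      SubHopf.IsSubHopf B := by
  haveI : Nontrivial A := Bialgebra.nontrivial (R := k) (A := A)
  haveI : Nontrivial (A ⊗[k] A) := Bialgebra.nontrivial (R := k) (A := A ⊗[k] A)
  haveI := charP_algebra (k := k) p A
  haveI := charP_algebra (k := k) p (A ⊗[k] A)
  haveI : ExpChar A p := ExpChar.prime hp.out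
  haveI : ExpChar (A ⊗[k] A) p := ExpChar.prime hp.out
  haveI : ExpChar k p := ExpChar.prime hp.out
  haveI : PerfectRing k p := PerfectField.toPerfectRing p
  let B : Subalgebra k A :=
    { (iterateFrobenius A p n).range.toSubsemiring with
      algebraMap_mem' := fun c => by
        obtain ⟨d, hd⟩ := (bijective_iterateFrobenius k p n).2 c
        exact ⟨algebraMap k A d, by rw [iterateFrobenius_def, ← map_pow, ← hd, iterateFrobenius_def]⟩ }
  have hmem : ∀ a, a ∈ B ↔ a ∈ Set.range (fun a : A => a ^ p ^ n) := fun a => by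
    show a ∈ (iterateFrobenius A p n).range ↔ _
    simp [iterateFrobenius_def]
  refine ⟨B, Set.ext hmem, fun b hb => ?_, fun b hb => ?_⟩
  · obtain ⟨a, rfl⟩ := (hmem b).1 hb
    have h1 : CoalgebraStruct.comul (R := k) (a ^ p ^ n) =
        iterateFrobenius (A ⊗[k] A) p n (CoalgebraStruct.comul (R := k) a) := by
      rw [iterateFrobenius_def]
      exact map_pow (Bialgebra.comulAlgHom k A) a _
    rw [h1]
    generalize CoalgebraStruct.comul (R := k) a = z
    induction z with
    | zero => rw [map_zero]; exact Submodule.zero_mem _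
    | tmul x y =>
      refine ⟨(⟨x ^ p ^ n, (hmem _).2 ⟨x, rfl⟩⟩ : B) ⊗ₜ[k] (⟨y ^ p ^ n, (hmem _).2 ⟨y, rfl⟩⟩ : B), ?_⟩
      rw [iterateFrobenius_def, Algebra.TensorProduct.tmul_pow]
      rfl
    | add x y hx hy => rw [map_add]; exact Submodule.add_mem _ hx hy
  · obtain ⟨a, rfl⟩ := (hmem b).1 hb
    exact (hmem _).2 ⟨HopfAlgebraStruct.antipode (R := k) a, (map_pow (HopfAlgebra.antipodeAlgHom k A) a _).symm⟩

omit [PerfectField k] in
theorem aug_zero_case {A : Type v} [CommRing A] [HopfAlgebra k A] (h : aug k A = ⊥) :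
    Nonempty (A ≃ₐ[k] (MvPolynomial (Fin 0) k ⧸ TruncPoly.rel (k := k) fun _ : Fin 0 => p)) := by
  let φ : MvPolynomial (Fin 0) k →ₐ[k] A := aeval Fin.elim0
  have hker : ∀ P ∈ TruncPoly.rel (k := k) (fun _ : Fin 0 => p), φ P = 0 := by
    intro P hP
    have e : TruncPoly.rel (k := k) (fun _ : Fin 0 => p) = ⊥ := by
      rw [Ideal.span_eq_bot]; rintro _ ⟨i, _⟩; exact i.elim0
    rw [e, Ideal.mem_bot] at hP
    rw [hP, map_zero]
  refine ⟨(AlgEquiv.ofBijective (Ideal.Quotient.liftₐ _ φ hker) ⟨?_, fun a => ?_⟩).symm⟩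
  · rw [injective_iff_map_eq_zero]
    intro y hy
    obtain ⟨P, rfl⟩ := Ideal.Quotient.mk_surjective y
    change φ P = 0 at hy
    rw [eq_C_of_isEmpty P] at hy ⊢
    rw [show φ (C (coeff 0 P)) = algebraMap k A (coeff 0 P) from aeval_C _ _] at hy
    haveI : Nontrivial A := Bialgebra.nontrivial (R := k) (A := A)
    rw [(map_eq_zero_iff _ (algebraMap k A).injective).1 hy, map_zero, map_zero]
  · refine ⟨Ideal.Quotient.mk _ (C (CoalgebraStruct.counit (R := k) a)), ?_⟩
    show φ (C (CoalgebraStruct.counit (R := k) a)) = a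
    rw [show φ (C _) = algebraMap k A (CoalgebraStruct.counit (R := k) a) from aeval_C _ _]
    exact (sub_eq_zero.1 ((Submodule.mem_bot A).1 (h ▸ sub_mem_aug (k := k) a))).symm

end Groth.Agent.Comod33.Infinitesimal
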