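import Groth.Agent.Hopf35.Local
import Mathlib.RingTheory.MvPolynomial.EulerIdentity
import Mathlib.RingTheory.Ideal.Cotangent

/-!
The filtration of a commutative Hopf algebra by the powers of the augmentation ideal.
-/

universe u v

open MvPolynomial Groth.Agent.Hopf35

noncomputable section

namespace Groth.Agent.Comod33.Aug

variable (k : Type u) [Field k] (A : Type v) [CommRing A] [HopfAlgebra k A]

/-- the augmentation ideal -/
abbrev aug : Ideal A := RingHom.ker (Bialgebra.counitAlgHom k A)

variable {k A}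

theorem mem_aug_iff {a : A} : a ∈ aug k A ↔ CoalgebraStruct.counit (R := k) a = 0 := by
  rw [RingHom.mem_ker, Bialgebra.counitAlgHom_apply]

theorem sub_mem_aug (a : A) :
    a - algebraMap k A (CoalgebraStruct.counit (R := k) a) ∈ aug k A := by
  rw [mem_aug_iff, map_sub, Bialgebra.counit_algebraMap, sub_self]

theorem derivation_aeval {n : ℕ} (x : Fin n → A) (D : Derivation k A A) (p : MvPolynomial (Fin n) k) :
    D (aeval x p) = ∑ j, aeval x (pderiv j p) * D (x j) := by
  induction p using MvPolynomial.induction_on with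
  | C a => simp
  | add p q hp hq => simp only [map_add, hp, hq, add_mul, Finset.sum_add_distrib]
  | mul_X p i hp =>
    have h : ∀ j, aeval x (pderiv j (p * X i)) * D (x j) =
        aeval x (pderiv j p) * D (x j) * x i + if j = i then aeval x p * D (x j) else 0 := by
      intro j
      rw [pderiv_mul, pderiv_X, map_add, map_mul, map_mul, aeval_X]
      by_cases hj : j = i
      · subst hj; simp; ring
      · simp [hj, Pi.single_eq_of_ne (Ne.symm hj)]; ring
    rw [Finset.sum_congr rfl fun j _ => h j, Finset.sum_add_distrib, ← Finset.sum_mul, ← hp]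
    simp only [map_mul, aeval_X, Derivation.leibniz, smul_eq_mul, Finset.sum_ite_eq',
      Finset.mem_univ, if_true]
    ring

theorem derivation_mem_pow (I : Ideal A) (D : Derivation k A A) :
    ∀ (j : ℕ) (a : A), a ∈ I ^ (j + 1) → D a ∈ I ^ j := by
  intro j
  induction j with
  | zero => intro a _; simp
  | succ j ih =>
    intro a ha
    rw [pow_succ] at ha
    induction ha using Submodule.mul_induction_on' with
    | mem_mul_mem b hb c hc =>
      rw [Derivation.leibniz, smul_eq_mul, smul_eq_mul]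
      refine Ideal.add_mem _ (Ideal.mul_mem_right _ _ hb) ?_
      rw [pow_succ']
      exact Ideal.mul_mem_mul hc (ih b hb)
    | add a _ b _ ha hb => rw [map_add]; exact Ideal.add_mem _ ha hb

theorem aeval_mem_pow {n : ℕ} {x : Fin n → A} {I : Ideal A} (hx : ∀ i, x i ∈ I) {j : ℕ}
    {p : MvPolynomial (Fin n) k} (hp : p.IsHomogeneous j) : aeval x p ∈ I ^ j := by
  rw [p.as_sum, map_sum]
  refine Ideal.sum_mem _ fun d hd => ?_
  rw [aeval_monomial]
  refine Ideal.mul_mem_left _ _ ?_
  have hdeg : d.degree = j := by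
    have := hp (MvPolynomial.mem_support_iff.1 hd)
    simpa [Finsupp.weight_apply, Finsupp.degree_apply, Finsupp.sum] using this
  subst hdeg
  clear hd hp
  rw [Finsupp.degree_apply, ← Finset.prod_pow_eq_pow_sum, Finsupp.prod]
  exact Ideal.prod_mem_prod fun i _ => Ideal.pow_mem_pow (hx i) _

variable (k A) in
/-- coordinates at the identity -/
structure Coords where
  r : ℕ
  finrank_eq : r = Module.finrank k (aug k A).Cotangent
  x : Fin r → A
  mem : ∀ i, x i ∈ aug k A
  le_span : aug k A ≤ Ideal.span (Set.range x) ⊔ aug k A ^ 2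
  D : Fin r → Derivation k A A
  delta : ∀ i j, D i (x j) - (if j = i then 1 else 0) ∈ aug k A

theorem nonempty_coords [Module.Finite k (aug k A).Cotangent] : Nonempty (Coords k A) := by
  classical
  let r := Module.finrank k (aug k A).Cotangent
  let b := Module.finBasis k (aug k A).Cotangent
  choose x hx using fun i => Ideal.toCotangent_surjective (aug k A) (b i)
  let p : A →ₗ[k] aug k A :=
    LinearMap.codRestrict ((aug k A).restrictScalars k)
      (LinearMap.id - Algebra.linearMap k A ∘ₗ CoalgebraStruct.counit) fun a => sub_mem_aug a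
  have hp : ∀ a : A, ∀ ha : a ∈ aug k A, p a = ⟨a, ha⟩ := fun a ha => Subtype.ext
    (show a - algebraMap k A (CoalgebraStruct.counit (R := k) a) = a by
      rw [mem_aug_iff.1 ha, map_zero, sub_zero])
  let q : A →ₗ[k] (aug k A).Cotangent := ((aug k A).toCotangent.restrictScalars k) ∘ₗ p
  have hq2 : ∀ a ∈ aug k A ^ 2, q a = 0 := fun a ha => by
    show (aug k A).toCotangent (p a) = 0
    rw [hp a (Ideal.pow_le_self two_ne_zero ha), Ideal.toCotangent_eq_zero]
    exact ha
  have hξ : ∀ i, Loc.IsPtDer k (b.coord i ∘ₗ q) := by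
    intro i a c
    have hm : (a - algebraMap k A (CoalgebraStruct.counit (R := k) a)) *
        (c - algebraMap k A (CoalgebraStruct.counit (R := k) c)) ∈ aug k A ^ 2 := by
      rw [pow_two]; exact Ideal.mul_mem_mul (sub_mem_aug a) (sub_mem_aug c)
    have h1 : q 1 = 0 := by
      show (aug k A).toCotangent (p 1) = 0
      rw [show p 1 = 0 from Subtype.ext
        (show (1 : A) - algebraMap k A (CoalgebraStruct.counit (R := k) 1) = 0 by simp), map_zero]
    have h := congrArg (b.coord i) (hq2 _ hm)
    simp only [Algebra.algebraMap_eq_smul_one, sub_mul, mul_sub, smul_mul_assoc, mul_smul_comm,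
      one_mul, mul_one, map_sub, map_smul, map_zero, h1, smul_zero, sub_zero, smul_eq_mul] at h
    simp only [LinearMap.comp_apply]
    linear_combination h
  refine ⟨⟨r, rfl, fun i => (x i : A), fun i => (x i).2, fun a ha => ?_,
    fun i => Loc.der (hξ i), fun i j => ?_⟩⟩
  · let c := fun i => b.repr ((aug k A).toCotangent ⟨a, ha⟩) i
    have hc : (aug k A).toCotangent ⟨a, ha⟩ = (aug k A).toCotangent (∑ i, c i • x i) := by
      rw [map_sum]
      simp only [LinearMap.map_smul_of_tower, hx]
      exact (b.sum_repr _).symm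
    rw [Ideal.toCotangent_eq] at hc
    refine Submodule.mem_sup.2 ⟨((∑ i, c i • x i : aug k A) : A), ?_, _, hc, by simp⟩
    rw [Submodule.coe_sum]
    refine Ideal.sum_mem _ fun i _ => ?_
    rw [Submodule.coe_smul_of_tower]
    exact Submodule.smul_of_tower_mem _ _ (Ideal.subset_span (Set.mem_range_self i))
  · have hij : (b.coord i ∘ₗ q) (x j : A) = if j = i then 1 else 0 := by
      simp [q, hp _ (x j).2, hx, Finsupp.single_apply, eq_comm]
    rw [mem_aug_iff, map_sub, Loc.der_apply, Loc.counit_op, hij]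
    split_ifs <;> simp

namespace Coords

variable (c : Coords k A)

theorem eq_zero_of_aeval_mem :
    ∀ (j : ℕ) (_ : (j.factorial : k) ≠ 0) (p : MvPolynomial (Fin c.r) k), p.IsHomogeneous j →
      aeval c.x p ∈ aug k A ^ (j + 1) → p = 0 := by
  intro j
  induction j with
  | zero =>
    intro _ p hp h
    rw [← totalDegree_zero_iff_isHomogeneous, totalDegree_eq_zero_iff_eq_C] at hp
    rw [hp] at h ⊢
    simp only [aeval_C, zero_add, pow_one, mem_aug_iff, Bialgebra.counit_algebraMap] at h
    rw [h, map_zero]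
  | succ j ih =>
    intro hj p hp h
    have hj' : ((j + 1 : ℕ) : k) ≠ 0 ∧ (j.factorial : k) ≠ 0 := by
      rw [Nat.factorial_succ, Nat.cast_mul] at hj
      exact ⟨left_ne_zero_of_mul hj, right_ne_zero_of_mul hj⟩
    have hpd : ∀ i, (pderiv i p).IsHomogeneous j := fun i => by simpa using hp.pderiv (i := i)
    have hz : ∀ i, pderiv i p = 0 := fun i => by
      refine ih hj'.2 _ (hpd i) ?_
      have h1 := derivation_mem_pow _ (c.D i) (j + 1) _ h
      rw [derivation_aeval] at h1
      have h2 : ∑ l, aeval c.x (pderiv l p) * (c.D i (c.x l) - if l = i then 1 else 0) ∈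
          aug k A ^ (j + 1) :=
        Ideal.sum_mem _ fun l _ => by
          rw [pow_succ]; exact Ideal.mul_mem_mul (aeval_mem_pow c.mem (hpd l)) (c.delta i l)
      simp only [mul_sub, Finset.sum_sub_distrib, mul_ite, mul_one, mul_zero, Finset.sum_ite_eq',
        Finset.mem_univ, if_true] at h2
      simpa using Ideal.sub_mem _ h1 h2
    have he := hp.sum_X_mul_pderiv
    simp only [hz, mul_zero, Finset.sum_const_zero, nsmul_eq_mul] at he
    refine (mul_eq_zero.1 he.symm).resolve_left ?_
    rw [← map_natCast (C : k →+* MvPolynomial (Fin c.r) k)]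
    exact fun h0 => hj'.1 ((C_eq_zero (σ := Fin c.r)).1 h0)

theorem exists_linear {a : A} (ha : a ∈ aug k A) :
    ∃ p : MvPolynomial (Fin c.r) k, p.IsHomogeneous 1 ∧ a - aeval c.x p ∈ aug k A ^ 2 := by
  obtain ⟨s, hs, z, hz, rfl⟩ := Submodule.mem_sup.1 (c.le_span ha)
  obtain ⟨f, rfl⟩ := (Submodule.mem_span_range_iff_exists_fun A).1 hs
  refine ⟨∑ i, C (CoalgebraStruct.counit (R := k) (f i)) * X i,
    IsHomogeneous.sum _ _ _ fun i _ => (isHomogeneous_X k i).C_mul _, ?_⟩
  simp only [map_sum, map_mul, aeval_C, aeval_X, smul_eq_mul]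
  rw [add_sub_right_comm, ← Finset.sum_sub_distrib]
  refine Ideal.add_mem _ (Ideal.sum_mem _ fun i _ => ?_) hz
  rw [← sub_mul, pow_two]
  exact Ideal.mul_mem_mul (sub_mem_aug _) (c.mem i)

theorem exists_leading : ∀ (j : ℕ) (a : A), a ∈ aug k A ^ j →
    ∃ p : MvPolynomial (Fin c.r) k, p.IsHomogeneous j ∧ a - aeval c.x p ∈ aug k A ^ (j + 1) := by
  intro j
  induction j with
  | zero =>
    intro a _
    exact ⟨C (CoalgebraStruct.counit (R := k) a), isHomogeneous_C _ _, by simpa using sub_mem_aug a⟩
  | succ j ih =>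
    intro a ha
    rw [pow_succ] at ha
    induction ha using Submodule.mul_induction_on' with
    | mem_mul_mem b hb d hd =>
      obtain ⟨p, hp, hpb⟩ := ih b hb
      obtain ⟨q, hq, hqd⟩ := c.exists_linear hd
      refine ⟨p * q, hp.mul hq, ?_⟩
      rw [map_mul, show b * d - aeval c.x p * aeval c.x q =
        b * (d - aeval c.x q) + (b - aeval c.x p) * aeval c.x q by ring]
      refine Ideal.add_mem _ ?_ ?_
      · rw [show j + 1 + 1 = j + 2 by ring, pow_add]; exact Ideal.mul_mem_mul hb hqd
      · rw [pow_succ]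
        exact Ideal.mul_mem_mul hpb (by simpa using aeval_mem_pow c.mem hq)
    | add a _ b _ ha hb =>
      obtain ⟨p, hp, hpa⟩ := ha
      obtain ⟨q, hq, hqb⟩ := hb
      refine ⟨p + q, hp.add hq, ?_⟩
      rw [map_add, show a + b - (aeval c.x p + aeval c.x q) =
        (a - aeval c.x p) + (b - aeval c.x q) by ring]
      exact Ideal.add_mem _ hpa hqb

/-- the leading-term map -/
def gr (n : ℕ) : homogeneousSubmodule (Fin c.r) k n →ₗ[k] A ⧸ aug k A ^ (n + 1) :=
  (Ideal.Quotient.mkₐ k (aug k A ^ (n + 1))).toLinearMap ∘ₗ (aeval c.x).toLinearMap ∘ₗ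
    (homogeneousSubmodule (Fin c.r) k n).subtype

theorem range_gr (n : ℕ) :
    LinearMap.range (c.gr n) =
      LinearMap.ker (Ideal.Quotient.factorₐ k (Ideal.pow_le_pow_right (I := aug k A) n.le_succ)).toLinearMap := by
  ext y
  obtain ⟨a, rfl⟩ := Ideal.Quotient.mk_surjective y
  simp only [LinearMap.mem_range, LinearMap.mem_ker, AlgHom.toLinearMap_apply]
  rw [show Ideal.Quotient.factorₐ k _ (Ideal.Quotient.mk (aug k A ^ (n + 1)) a) =
    Ideal.Quotient.mk (aug k A ^ n) a from rfl, Ideal.Quotient.eq_zero_iff_mem]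
  constructor
  · rintro ⟨⟨p, hp⟩, hpa⟩
    have := Ideal.Quotient.eq.1 hpa
    have h2 := Ideal.sub_mem _ (aeval_mem_pow c.mem hp) (Ideal.pow_le_pow_right n.le_succ this)
    simpa [gr] using h2
  · intro ha
    obtain ⟨p, hp, hpa⟩ := c.exists_leading n a ha
    exact ⟨⟨p, hp⟩, (Ideal.Quotient.eq.2 hpa).symm⟩

theorem ker_gr (n : ℕ) (hn : (n.factorial : k) ≠ 0) : LinearMap.ker (c.gr n) = ⊥ := by
  rw [LinearMap.ker_eq_bot']
  rintro ⟨p, hp⟩ h
  exact Subtype.ext (c.eq_zero_of_aeval_mem n hn p hp (Ideal.Quotient.eq_zero_iff_mem.1 h))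

end Coords

theorem finrank_homogeneousSubmodule (r n : ℕ) :
    Module.finrank k (homogeneousSubmodule (Fin r) k n) = Nat.choose (r + n - 1) n := by
  classical
  rw [homogeneousSubmodule_eq_finsupp_supported]
  let e : Sym (Fin r) n ≃ ({d : Fin r →₀ ℕ | d.degree = n} : Set (Fin r →₀ ℕ)) :=
    (Sym.equivNatSum (Fin r) n).trans (Equiv.subtypeEquivRight fun d => by
      simp [Finsupp.degree_apply, Finsupp.sum])
  let b := (MvPolynomial.basisRestrictSupport k
    ({d : Fin r →₀ ℕ | d.degree = n} : Set (Fin r →₀ ℕ))).reindex e.symm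
  rw [show Nat.choose (r + n - 1) n = Fintype.card (Sym (Fin r) n) by
    rw [Sym.card_sym_eq_choose, Fintype.card_fin]]
  exact Module.finrank_eq_card_basis b

theorem finite_cotangent [Algebra.FiniteType k A] : Module.Finite k (aug k A).Cotangent := by
  classical
  have : IsNoetherianRing A := Algebra.FiniteType.isNoetherianRing k A
  obtain ⟨s, hs⟩ := IsNoetherian.noetherian (aug k A)
  have hmem : ∀ a ∈ s, a ∈ aug k A := fun a ha => hs ▸ Submodule.subset_span ha
  refine Module.finite_def.2 ⟨(s.attach.image fun a => (aug k A).toCotangent ⟨a.1, hmem _ a.2⟩), ?_⟩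
  refine eq_top_iff.2 fun y _ => ?_
  obtain ⟨⟨a, ha⟩, rfl⟩ := Ideal.toCotangent_surjective _ y
  obtain ⟨f, -, hf⟩ := (Submodule.mem_span_finset.1 (hs.symm ▸ ha : a ∈ Submodule.span A (s : Set A)))
  have hf' : a = ∑ z ∈ s.attach, f z.1 • z.1 := by
    rw [← hf]; exact (Finset.sum_attach s fun z => f z • z).symm
  have key : (aug k A).toCotangent ⟨a, ha⟩ = ∑ z ∈ s.attach,
      (CoalgebraStruct.counit (R := k) (f z.1)) • (aug k A).toCotangent ⟨z.1, hmem _ z.2⟩ := by
    simp only [← LinearMap.map_smul_of_tower]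
    rw [← map_sum, Ideal.toCotangent_eq, Submodule.coe_sum]
    show a - _ ∈ _
    rw [hf', ← Finset.sum_sub_distrib]
    refine Ideal.sum_mem _ fun z _ => ?_
    show f z.1 * z.1 - CoalgebraStruct.counit (R := k) (f z.1) • z.1 ∈ _
    rw [Algebra.smul_def, ← sub_mul, pow_two]
    exact Ideal.mul_mem_mul (sub_mem_aug _) (hmem _ z.2)
  rw [key]
  exact Submodule.sum_mem _ fun z hz => Submodule.smul_mem _ _
    (Submodule.subset_span (Finset.mem_image_of_mem _ hz))

theorem finite_quotient_pow [Module.Finite k (aug k A).Cotangent] :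
    ∀ n, Module.Finite k (A ⧸ aug k A ^ n) := by
  intro n
  induction n with
  | zero =>
    haveI : Subsingleton (A ⧸ aug k A ^ 0) := by
      rw [pow_zero, Ideal.one_eq_top]
      exact Ideal.Quotient.subsingleton_iff.2 rfl
    exact Module.Finite.of_finite
  | succ n ih =>
    obtain ⟨c⟩ := nonempty_coords (k := k) (A := A)
    let f := (Ideal.Quotient.factorₐ k (Ideal.pow_le_pow_right (I := aug k A) n.le_succ)).toLinearMap
    haveI : Module.Finite k (homogeneousSubmodule (Fin c.r) k n) :=
      Module.Finite.iff_fg.2 (homogeneousSubmodule_fg (σ := Fin c.r) (R := k) n)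
    haveI : Module.Finite k (LinearMap.ker f) :=
      c.range_gr n ▸ Module.Finite.range (c.gr n)
    haveI : Module.Finite k ((A ⧸ aug k A ^ (n + 1)) ⧸ LinearMap.ker f) :=
      Module.Finite.equiv f.quotKerEquivRange.symm
    exact Module.Finite.of_submodule_quotient (LinearMap.ker f)

theorem finrank_quotient_pow_succ [Module.Finite k (aug k A).Cotangent] (n : ℕ)
    (hn : (n.factorial : k) ≠ 0) :
    Module.finrank k (A ⧸ aug k A ^ (n + 1)) = Module.finrank k (A ⧸ aug k A ^ n) +
      Nat.choose (Module.finrank k (aug k A).Cotangent + n - 1) n := by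
  obtain ⟨c⟩ := nonempty_coords (k := k) (A := A)
  haveI := finite_quotient_pow (k := k) (A := A) (n + 1)
  let f := (Ideal.Quotient.factorₐ k (Ideal.pow_le_pow_right (I := aug k A) n.le_succ)).toLinearMap
  rw [← LinearMap.finrank_range_add_finrank_ker f, ← c.range_gr n,
    LinearMap.finrank_range_of_inj (LinearMap.ker_eq_bot.1 (c.ker_gr n hn)),
    finrank_homogeneousSubmodule, c.finrank_eq]
  congr 1
  rw [LinearMap.range_eq_top.2 (Ideal.Quotient.factor_surjective
    (Ideal.pow_le_pow_right (I := aug k A) n.le_succ)), finrank_top]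

end Groth.Agent.Comod33.Aug
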