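import Groth.Agent.Comod33.AugFiltration
import Mathlib.RingTheory.Nakayama
import Mathlib.RingTheory.LocalRing.Basic

/-!
Monomials with small exponents are independent over the constants of dual derivations.
-/

universe u v

open MvPolynomial

noncomputable section

namespace Groth.Agent.Comod33.Trunc

variable {k : Type u} [Field k] {A : Type v} [CommRing A] [Algebra k A] {r : ℕ}
  (D : Fin r → Derivation k A A) (x : Fin r → A) (m : Ideal A)

theorem derivation_aeval (E : Derivation k A A) (p : MvPolynomial (Fin r) k) :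
    E (aeval x p) = ∑ j, aeval x (pderiv j p) * E (x j) := by
  induction p using MvPolynomial.induction_on with
  | C a => simp
  | add p q hp hq => simp only [map_add, hp, hq, add_mul, Finset.sum_add_distrib]
  | mul_X p i hp =>
    have h : ∀ j, aeval x (pderiv j (p * X i)) * E (x j) =
        aeval x (pderiv j p) * E (x j) * x i + if j = i then aeval x p * E (x j) else 0 := by
      intro j
      rw [pderiv_mul, pderiv_X, map_add, map_mul, map_mul, aeval_X]
      by_cases hj : j = i
      · subst hj; simp; ring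
      · simp [hj, Pi.single_eq_of_ne (Ne.symm hj)]; ring
    rw [Finset.sum_congr rfl fun j _ => h j, Finset.sum_add_distrib, ← Finset.sum_mul, ← hp]
    simp only [map_mul, aeval_X, Derivation.leibniz, smul_eq_mul, Finset.sum_ite_eq',
      Finset.mem_univ, if_true]
    ring

theorem derivation_mem_pow (E : Derivation k A A) :
    ∀ (j : ℕ) (a : A), a ∈ m ^ (j + 1) → E a ∈ m ^ j := by
  intro j
  induction j with
  | zero => intro a _; simp
  | succ j ih =>
    intro a ha
    rw [pow_succ] at ha
    induction ha using Submodule.mul_induction_on' with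
    | mem_mul_mem b hb c hc =>
      rw [Derivation.leibniz, smul_eq_mul, smul_eq_mul]
      refine Ideal.add_mem _ (Ideal.mul_mem_right _ _ hb) ?_
      rw [pow_succ']
      exact Ideal.mul_mem_mul hc (ih b hb)
    | add a _ b _ ha hb => rw [map_add]; exact Ideal.add_mem _ ha hb

theorem aeval_mem_pow (hx : ∀ i, x i ∈ m) {j : ℕ}
    {p : MvPolynomial (Fin r) k} (hp : p.IsHomogeneous j) : aeval x p ∈ m ^ j := by
  rw [p.as_sum, map_sum]
  refine Ideal.sum_mem _ fun d hd => ?_
  rw [aeval_monomial]
  refine Ideal.mul_mem_left _ _ ?_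
  have hdeg : d.degree = j := by
    have := hp (MvPolynomial.mem_support_iff.1 hd)
    simpa [Finsupp.weight_apply, Finsupp.degree_apply, Finsupp.sum] using this
  subst hdeg
  clear hd hp
  rw [Finsupp.degree_apply, ← Finset.prod_pow_eq_pow_sum, Finsupp.prod]
  exact Ideal.prod_mem_prod fun i _ => Ideal.pow_mem_pow (hx i) _

variable {x m} (hx : ∀ i, x i ∈ m)
  (hD : ∀ i j, D i (x j) - (if j = i then 1 else 0) ∈ m)
  (p : ℕ) [CharP k p]

include hx hD in
/-- the operator extracting one coefficient -/
theorem exists_op : ∀ (n : ℕ) (a : Fin r →₀ ℕ), a.degree = n → (∀ i, a i < p) →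
    ∃ T : A →ₗ[k] A, (∀ c y : A, (∀ i, D i c = 0) → T (c * y) = c * T y) ∧
      (∀ J : Ideal A, (∀ i, ∀ z ∈ J, D i z ∈ J) → ∀ z ∈ J, T z ∈ J) ∧
      (∀ y ∈ m ^ (n + 1), T y ∈ m) ∧
      ∃ N : k, N ≠ 0 ∧ ∀ P : MvPolynomial (Fin r) k, P.IsHomogeneous n →
        T (aeval x P) - algebraMap k A (coeff a P * N) ∈ m := by
  intro n
  induction n with
  | zero =>
    intro a ha _
    refine ⟨LinearMap.id, fun c y _ => rfl, fun J _ z hz => hz, fun y hy => by simpa using hy, 1,
      one_ne_zero, fun P hP => ?_⟩
    rw [Finsupp.degree_eq_zero_iff] at ha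
    subst ha
    rw [← totalDegree_zero_iff_isHomogeneous, totalDegree_eq_zero_iff_eq_C] at hP
    rw [mul_one, LinearMap.id_apply]
    conv => arg 2; rw [hP, aeval_C, coeff_zero_C]
    simp
  | succ n ih =>
    intro a ha hlt
    obtain ⟨i, hi⟩ : ∃ i, a i ≠ 0 := by
      by_contra h
      push Not at h
      rw [show a = 0 from Finsupp.ext h] at ha
      simp at ha
    let b := a - Finsupp.single i 1
    have hab : a = b + Finsupp.single i 1 :=
      (tsub_add_cancel_of_le (Finsupp.single_le_iff.2 (Nat.one_le_iff_ne_zero.2 hi))).symm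
    have hbn : b.degree = n := by
      have := congrArg Finsupp.degree hab
      rw [ha, map_add, Finsupp.degree_single] at this
      omega
    obtain ⟨T, hTc, hTJ, hTm, N, hN, hT⟩ := ih b hbn fun j => lt_of_le_of_lt (by
      show a j - Finsupp.single i 1 j ≤ a j; omega) (hlt j)
    refine ⟨T ∘ₗ (D i).toLinearMap, fun c y hc => ?_, fun J hJ z hz => hTJ J hJ _ (hJ i z hz),
      fun y hy => hTm _ (derivation_mem_pow m (D i) (n + 1) y hy), (a i : k) * N,
      mul_ne_zero (fun h => ?_) hN, fun P hP => ?_⟩
    · simp only [LinearMap.comp_apply, Derivation.coeFn_coe,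
        Derivation.leibniz, hc i, smul_eq_mul, mul_zero, add_zero]
      exact hTc c _ hc
    · rw [CharP.cast_eq_zero_iff k p] at h
      exact absurd (Nat.le_of_dvd (Nat.pos_of_ne_zero hi) h) (not_le.2 (hlt i))
    · have hpd : (pderiv i P).IsHomogeneous n := by simpa using hP.pderiv (i := i)
      have h1 : D i (aeval x P) - aeval x (pderiv i P) ∈ m ^ (n + 1) := by
        rw [derivation_aeval]
        have h2 : ∑ l, aeval x (pderiv l P) * (D i (x l) - if l = i then 1 else 0) ∈ m ^ (n + 1) :=
          Ideal.sum_mem _ fun l _ => by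
            rw [pow_succ]
            exact Ideal.mul_mem_mul (aeval_mem_pow x m hx (by simpa using hP.pderiv (i := l))) (hD i l)
        simpa [mul_sub, Finset.sum_sub_distrib] using h2
      have h3 := hT _ hpd
      have hc : coeff b (pderiv i P) * N = coeff a P * ((a i : k) * N) := by
        rw [coeff_pderiv, ← hab, show ((b i : k) + 1) = ((a i : ℕ) : k) by
          conv_rhs => rw [hab]
          simp]
        ring
      rw [hc] at h3
      have h4 := hTm _ h1
      rw [map_sub] at h4
      simpa using Ideal.add_mem m h4 h3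

include hx hD in
/-- independence over constants, relative to a stable ideal -/
theorem mem_of_sum_mem (hm : m ≤ Ideal.jacobson ⊥) (hm1 : m ≠ ⊤) (J : Ideal A)
    (hJ : ∀ i, ∀ z ∈ J, D i z ∈ J)
    (S : Finset (Fin r →₀ ℕ)) (hS : ∀ a ∈ S, ∀ i, a i < p) (c : (Fin r →₀ ℕ) → A)
    (hc : ∀ a ∈ S, ∀ i, D i (c a) = 0)
    (h : ∑ a ∈ S, c a * aeval x (monomial a (1 : k)) ∈ J) : ∀ a ∈ S, c a ∈ J := by
  classical
  let N : Ideal A := Ideal.span (c '' (S : Set (Fin r →₀ ℕ)))
  have key : ∀ (n : ℕ), ∀ a ∈ S, a.degree = n → c a ∈ m * N ⊔ J := by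
    intro n
    induction n using Nat.strong_induction_on with
    | _ n ih =>
      intro a ha han
      obtain ⟨T, hTc, hTJ, hTm, e, he, hT⟩ := exists_op D hx hD p n a han (hS a ha)
      have h1 : T (∑ b ∈ S, c b * aeval x (monomial b (1 : k))) ∈ J := hTJ J hJ _ h
      rw [map_sum, Finset.sum_congr rfl fun b hb => hTc _ _ (hc b hb),
        ← Finset.add_sum_erase _ _ ha] at h1
      have h2 : ∑ b ∈ S.erase a, c b * T (aeval x (monomial b (1 : k))) ∈ m * N ⊔ J := by
        refine Ideal.sum_mem _ fun b hb => ?_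
        obtain ⟨hba, hb⟩ := Finset.mem_erase.1 hb
        have hcN : c b ∈ N := Ideal.subset_span ⟨b, hb, rfl⟩
        rcases lt_trichotomy b.degree n with hlt | heq | hgt
        · exact Ideal.mul_mem_right _ _ (ih _ hlt b hb rfl)
        · refine Ideal.mem_sup_left ?_
          rw [mul_comm (c b)]
          refine Ideal.mul_mem_mul ?_ hcN
          have := hT _ (isHomogeneous_monomial (1 : k) heq)
          rwa [coeff_monomial, if_neg hba, zero_mul, map_zero, sub_zero] at this
        · refine Ideal.mem_sup_left ?_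
          rw [mul_comm (c b)]
          exact Ideal.mul_mem_mul (hTm _ (Ideal.pow_le_pow_right hgt
            (aeval_mem_pow x m hx (isHomogeneous_monomial (1 : k) rfl)))) hcN
      have h3 := hT _ (isHomogeneous_monomial (1 : k) han)
      rw [coeff_monomial, if_pos rfl, one_mul] at h3
      have h4 : c a * algebraMap k A e ∈ m * N ⊔ J := by
        have h5 : c a * (T (aeval x (monomial a (1 : k))) - algebraMap k A e) ∈ m * N ⊔ J := by
          refine Ideal.mem_sup_left ?_
          rw [mul_comm (c a)]
          exact Ideal.mul_mem_mul h3 (Ideal.subset_span ⟨a, ha, rfl⟩)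
        have h6 := Ideal.sub_mem _ (Ideal.sub_mem _ (Ideal.mem_sup_right (S := m * N) h1) h2) h5
        convert h6 using 1
        ring
      have h7 := Ideal.mul_mem_right (algebraMap k A e⁻¹) _ h4
      rwa [mul_assoc, ← map_mul, mul_inv_cancel₀ he, map_one, mul_one] at h7
  have hN : N ≤ J := by
    refine Submodule.le_of_le_smul_of_le_jacobson_bot (Submodule.fg_span ((S.finite_toSet).image c)) hm ?_
    rw [sup_comm]
    exact Ideal.span_le.2 (Set.forall_mem_image.2 fun a ha => key _ a ha rfl)
  exact fun a ha => hN (Ideal.subset_span ⟨a, ha, rfl⟩)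

end Groth.Agent.Comod33.Trunc
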