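import Groth.Agent.Comod33.TrigStructure
import Groth.Agent.Comod33.RationalHom
import Groth.Agent.Comod33.UnipotentBC
import Groth.Agent.Hopf35.Basic
import Groth.Agent.Unip38.Infinitesimal
import Groth.Agent.Comod33.IdentityComp
import Mathlib.RingTheory.Trace.Basic
import Mathlib.FieldTheory.Normal.Closure
import Mathlib.FieldTheory.Galois.Basic

/-!
Largest quotients of multiplicative type of groups trigonalizable over a separable extension.
-/

universe u

set_option maxHeartbeats 1000000
set_option synthInstance.maxHeartbeats 100000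

open TensorProduct

noncomputable section

namespace Groth.Agent.Comod33.MultQuot

variable {k : Type u} [Field k]

section Embed

variable {F E : Type u} [Field F] [Field E] [Algebra k F] [Algebra k E] {A : Type u} [CommRing A]
  [Bialgebra k A]

/-- a group-like element is one on which every functional acts by its value -/
theorem isGroupLike_iff {g : F ⊗[k] A} :
    IsGroupLikeElem F g ↔ CoalgebraStruct.counit (R := F) g = 1 ∧
      ∀ f : A →ₗ[k] k, (dact f : A →ₗ[k] A).baseChange F g = Diag.extFun f g • g := by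
  classical
  refine ⟨fun hg => ⟨hg.counit_eq_one, fun f => Diag.baseChange_eigen f hg⟩, fun ⟨h1, h2⟩ => ⟨h1, ?_⟩⟩
  let b := Module.Free.chooseBasis k A
  let bF := Algebra.TensorProduct.basis F b
  have hc : ∀ i, bF.coord i = Diag.extFun (b.coord i) := by
    intro i
    refine LinearMap.ext fun z => ?_
    induction z with
    | zero => simp
    | add x y hx hy => simp only [map_add, hx, hy]
    | tmul c a => simp [bF, Diag.extFun_tmul, Algebra.smul_def, mul_comm]
  have h3 : ∀ i, rc (bF.coord i) (CoalgebraStruct.comul (R := F) g - g ⊗ₜ[F] g) = 0 := by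
    intro i
    rw [map_sub, rc_tmul, hc, ← h2, Diag.rc_extFun, Diag.collapse_comul, ← LinearMap.comp_apply,
      ← LinearMap.lTensor_comp, LinearMap.baseChange_eq_ltensor]
    exact sub_self _
  obtain ⟨s, hs⟩ := sum_rc_coord bF (CoalgebraStruct.comul (R := F) g - g ⊗ₜ[F] g)
  refine sub_eq_zero.1 (hs.trans (Finset.sum_eq_zero fun i _ => ?_))
  rw [h3, zero_tmul]

variable (A) in
/-- the map of base changes along an embedding -/
def emb (τ : F →ₐ[k] E) : F ⊗[k] A →ₐ[k] E ⊗[k] A := Algebra.TensorProduct.map τ (AlgHom.id k A)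

theorem emb_tmul (τ : F →ₐ[k] E) (c : F) (a : A) : emb A τ (c ⊗ₜ[k] a) = τ c ⊗ₜ[k] a := rfl

theorem emb_smul (τ : F →ₐ[k] E) (c : F) (z : F ⊗[k] A) : emb A τ (c • z) = τ c • emb A τ z := by
  rw [Algebra.smul_def, map_mul, Algebra.smul_def]
  rfl

theorem emb_injective (τ : F →ₐ[k] E) : Function.Injective (emb A τ) :=
  Module.Flat.rTensor_preserves_injective_linearMap (M := A) τ.toLinearMap τ.toRingHom.injective

theorem extFun_emb (τ : F →ₐ[k] E) (f : A →ₗ[k] k) (z : F ⊗[k] A) :
    Diag.extFun f (emb A τ z) = τ (Diag.extFun f z) := by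
  induction z with
  | zero => simp
  | add x y hx hy => simp only [map_add, hx, hy]
  | tmul c a => rw [emb_tmul, Diag.extFun_tmul, Diag.extFun_tmul, map_smul]

theorem dact_emb (τ : F →ₐ[k] E) (T : A →ₗ[k] A) (z : F ⊗[k] A) :
    T.baseChange E (emb A τ z) = emb A τ (T.baseChange F z) := by
  induction z with
  | zero => simp
  | add x y hx hy => simp only [map_add, hx, hy]
  | tmul c a => simp [emb_tmul]

theorem counit_emb (τ : F →ₐ[k] E) (z : F ⊗[k] A) :
    CoalgebraStruct.counit (R := E) (emb A τ z) = τ (CoalgebraStruct.counit (R := F) z) := by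
  induction z with
  | zero => simp
  | add x y hx hy => simp only [map_add, hx, hy]
  | tmul c a => simp [emb_tmul, TensorProduct.counit_tmul, map_smul]

/-- embeddings preserve and reflect group-like elements -/
theorem isGroupLike_emb_iff (τ : F →ₐ[k] E) {g : F ⊗[k] A} :
    IsGroupLikeElem E (emb A τ g) ↔ IsGroupLikeElem F g := by
  rw [isGroupLike_iff, isGroupLike_iff, counit_emb, ← map_one τ]
  refine Iff.trans (and_congr τ.toRingHom.injective.eq_iff Iff.rfl) ?_
  refine and_congr Iff.rfl (forall_congr' fun f => ?_)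
  rw [dact_emb, extFun_emb, ← emb_smul, (emb_injective τ).eq_iff]

end Embed

/-- injective maps of bialgebras reflect group-like elements -/
theorem isGroupLike_of_injective {F : Type u} [Field F] {C D : Type u} [CommRing C] [Bialgebra F C]
    [CommRing D] [Bialgebra F D] (φ : C →ₐc[F] D) (hφ : Function.Injective φ) {g : C}
    (hg : IsGroupLikeElem F (φ g)) : IsGroupLikeElem F g := by
  refine ⟨by rw [← CoalgHomClass.counit_comp_apply φ]; exact hg.counit_eq_one, ?_⟩
  refine SubHopf.map_injective (k := F) (f := (φ : C →ₗ[F] D)) (g := (φ : C →ₗ[F] D)) hφ hφ ?_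
  rw [CoalgHomClass.map_comp_comul_apply φ, hg.comul_eq_tmul_self, TensorProduct.map_tmul]
  rfl

/-- an injective map to a unipotent bialgebra has unipotent source -/
theorem isUnipotent_of_injective {C D : Type u} [CommRing C] [Bialgebra k C] [CommRing D] [Bialgebra k D]
    (φ : C →ₐc[k] D) (hφ : Function.Injective φ) (hD : HopfRep.IsUnipotent k D) :
    HopfRep.IsUnipotent k C := by
  intro V _ _ cV hfin hnt
  haveI := hfin
  haveI := hnt
  letI cD : HopfRep.Comod k D V := push (φ : C →ₗc[k] D) cV
  obtain ⟨v, hv, hv0⟩ := exists_fixed_of_isUnipotent hD V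
  intro hbot
  have hv' : v ∈ HopfRep.fixedPts k C V := by
    apply Module.Flat.lTensor_preserves_injective_linearMap (M := V) (φ : C →ₗ[k] D) hφ
    rw [LinearMap.lTensor_tmul, show (φ : C →ₗ[k] D) 1 = 1 from map_one φ]
    exact hv
  rw [hbot, Submodule.mem_bot] at hv'
  exact hv0 hv'

/-- unipotence descends along field extensions -/
theorem isUnipotent_descend {C : Type u} [CommRing C] [Bialgebra k C] {F : Type u} [Field F] [Algebra k F]
    (h : HopfRep.IsUnipotent F (F ⊗[k] C)) : HopfRep.IsUnipotent k C := by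
  intro V _ _ _ hfin hnt
  haveI := hfin
  haveI := hnt
  haveI : Module.Finite F (F ⊗[k] V) := Module.Finite.base_change k F V
  obtain ⟨v, hv⟩ := exists_ne (0 : V)
  haveI : Nontrivial (F ⊗[k] V) := ⟨⟨(1 : F) ⊗ₜ[k] v, 0, fun e => hv
    (Module.Flat.rTensor_preserves_injective_linearMap (M := V) (Algebra.linearMap k F)
      (algebraMap k F).injective |>.comp (TensorProduct.lid k V).symm.injective
      (show ((Algebra.linearMap k F).rTensor V) ((TensorProduct.lid k V).symm v) =
        ((Algebra.linearMap k F).rTensor V) ((TensorProduct.lid k V).symm 0) by simpa using e))⟩⟩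
  letI := CoactBr.Comod.baseChange k F C V
  obtain ⟨z, hz, hz0⟩ := exists_fixed_of_isUnipotent h (F ⊗[k] V)
  intro hbot
  obtain ⟨y, hy⟩ := BC.exists_of_mem_fixedPts_baseChange z hz
  have : Subsingleton (HopfRep.fixedPts k C V) := by
    rw [hbot]; infer_instance
  exact hz0 (by rw [← hy, Subsingleton.elim y 0, map_zero])

section Aug

variable {A B : Type u} [CommRing A] [HopfAlgebra k A] [CommRing B] [HopfAlgebra k B]

variable (F : Type u) [Field F] [Algebra k F]

/-- augmentation elements of the quotient land in the extended kernel ideal -/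
theorem sub_counit_mem (ψ : B →ₐc[k] A) (J : Ideal A)
    (hJ : ∀ b : B, CoalgebraStruct.counit (R := k) b = 0 → ψ b ∈ J) (z : F ⊗[k] B) :
    Bialgebra.TensorProduct.map (BialgHom.id F F) ψ z -
      algebraMap F (F ⊗[k] A) (CoalgebraStruct.counit (R := F) z) ∈
        J.map (Algebra.TensorProduct.includeRight : A →ₐ[k] F ⊗[k] A) := by
  induction z with
  | zero => simp
  | add x y hx hy => simp only [map_add]; rw [add_sub_add_comm]; exact add_mem hx hy
  | tmul c b =>
    have h1 : ψ (b - algebraMap k B (CoalgebraStruct.counit (R := k) b)) ∈ J :=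
      hJ _ (by rw [map_sub, Bialgebra.counit_algebraMap, sub_self])
    have h2 := Ideal.mul_mem_left _ (c ⊗ₜ[k] (1 : A)) (Ideal.mem_map_of_mem
      (Algebra.TensorProduct.includeRight : A →ₐ[k] F ⊗[k] A) h1)
    rw [Algebra.TensorProduct.includeRight_apply, Algebra.TensorProduct.tmul_mul_tmul, mul_one, one_mul,
      map_sub, tmul_sub] at h2
    convert h2 using 2
    · rfl
    simp [Algebra.algebraMap_eq_smul_one, TensorProduct.smul_tmul', Algebra.TensorProduct.one_def,
      TensorProduct.tmul_smul]

/-- the kernel of the base change of a quotient map -/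
theorem ker_mk (J : Ideal A) [J.IsHopfIdeal k] :
    RingHom.ker (Bialgebra.TensorProduct.map (BialgHom.id F F) (Bialgebra.Quotient.mkBialgHom (R := k) J) :
      F ⊗[k] A →ₐ[F] F ⊗[k] (A ⧸ J)) =
      J.map (Algebra.TensorProduct.includeRight : A →ₐ[k] F ⊗[k] A) := by
  have h := Algebra.TensorProduct.lTensor_ker (A := F) (Ideal.Quotient.mkₐ k J) Ideal.Quotient.mk_surjective
  exact h.trans (congrArg (Ideal.map _) Ideal.mk_ker)

theorem surjective_mk (J : Ideal A) [J.IsHopfIdeal k] :
    Function.Surjective (Bialgebra.TensorProduct.map (BialgHom.id F F)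
      (Bialgebra.Quotient.mkBialgHom (R := k) J)) :=
  LinearMap.lTensor_surjective F (g := (Ideal.Quotient.mkₐ k J).toLinearMap) Ideal.Quotient.mk_surjective

end Aug

variable {A : Type u} [CommRing A] [HopfAlgebra k A]

/-- combinations of group-like elements minus their counit lie in the augmentation ideal of their span -/
theorem sub_counit_mem_glAlg {F : Type u} [Field F] {C D : Type u} [CommRing C] [HopfAlgebra F C]
    [CommRing D] [HopfAlgebra F D] (ψ : C →ₐc[F] D) {T : Set C} (hT : ∀ t ∈ T, IsGroupLikeElem F t)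
    {z : C} (hz : z ∈ Submodule.span F T) :
    letI := SubHopf.hopfAlgebra (TrigStr.isSubHopf_glAlg hT)
    ψ z - algebraMap F D (CoalgebraStruct.counit (R := F) z) ∈
      Ideal.map ((ψ.comp (SubHopf.incl (TrigStr.isSubHopf_glAlg hT)) :
        TrigStr.glAlg (k := F) T →ₐc[F] D) : TrigStr.glAlg (k := F) T →+* D)
        (RingHom.ker (Bialgebra.counitAlgHom F (TrigStr.glAlg (k := F) T))) := by
  letI := SubHopf.hopfAlgebra (TrigStr.isSubHopf_glAlg hT)
  induction hz using Submodule.span_induction with
  | mem g hg =>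
    have hm : g ∈ TrigStr.glAlg (k := F) T := Algebra.subset_adjoin (Or.inl hg)
    rw [(hT g hg).counit_eq_one, map_one, ← map_one ψ, ← map_sub]
    refine Ideal.mem_map_of_mem _ (x := (⟨g, hm⟩ : TrigStr.glAlg (k := F) T) - 1) ?_
    show CoalgebraStruct.counit (R := F) (g - 1) = 0
    rw [map_sub, Bialgebra.counit_one, (hT g hg).counit_eq_one, sub_self]
  | zero => simp
  | add a b _ _ ha hb => rw [map_add, map_add, map_add, add_sub_add_comm]; exact add_mem ha hb
  | smul c a _ ha =>
    rw [map_smul, map_smul, smul_eq_mul, map_mul, Algebra.smul_def, ← mul_sub]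
    exact Ideal.mul_mem_left _ _ ha

/-- backward direction over a splitting field -/
theorem isTrigonalizable_baseChange [Algebra.FiniteType k A] {B : Type u} [CommRing B] [HopfAlgebra k B]
    (ψ : B →ₐc[k] A) (J : Ideal A) [J.IsHopfIdeal k]
    (hJ : J = Ideal.map (ψ : B →+* A) (RingHom.ker (Bialgebra.counitAlgHom k B)))
    (hU : HopfRep.IsUnipotent k (A ⧸ J)) (L : Type u) [Field L] [Algebra k L] (s : Finset A)
    (hJs : J = Ideal.span (s : Set A))
    (hgen : ∀ y ∈ (s : Set A), ∃ x : B, CoalgebraStruct.counit (R := k) x = 0 ∧ ψ x = y ∧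
      (1 : L) ⊗ₜ[k] x ∈ Submodule.span L {g : L ⊗[k] B | IsGroupLikeElem L g}) :
    HopfRep.IsTrigonalizable L (L ⊗[k] A) := by
  classical
  let T' : Set (L ⊗[k] B) := {g | IsGroupLikeElem L g}
  have hT' : ∀ t ∈ T', IsGroupLikeElem L t := fun _ h => h
  letI := SubHopf.hopfAlgebra (TrigStr.isSubHopf_glAlg hT')
  let ψ' : L ⊗[k] B →ₐc[L] L ⊗[k] A := Bialgebra.TensorProduct.map (BialgHom.id L L) ψ
  let φ := ψ'.comp (SubHopf.incl (TrigStr.isSubHopf_glAlg hT'))
  let π := Bialgebra.TensorProduct.map (BialgHom.id L L) (Bialgebra.Quotient.mkBialgHom (R := k) J)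
  let J' : Ideal (L ⊗[k] A) := RingHom.ker (π : L ⊗[k] A →ₐ[L] L ⊗[k] (A ⧸ J))
  haveI : J'.IsHopfIdeal L := IdComp.isHopfIdeal_ker π (surjective_mk L J)
  have hJ' : J' = J.map (Algebra.TensorProduct.includeRight : A →ₐ[k] L ⊗[k] A) := ker_mk L J
  have hψJ : ∀ x : B, CoalgebraStruct.counit (R := k) x = 0 → ψ x ∈ J := fun x hx =>
    hJ ▸ Ideal.mem_map_of_mem (ψ : B →+* A) hx
  refine TrigStr.isTrigonalizable_of_extension φ J' (TrigStr.isDiagonalizable_glAlg hT')
    (le_antisymm ?_ ?_) ?_
  · rw [hJ', Ideal.map_le_iff_le_comap, hJs, Ideal.span_le]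
    intro y hy
    rw [SetLike.mem_coe, Ideal.mem_comap, Algebra.TensorProduct.includeRight_apply]
    obtain ⟨x, hx0, rfl, hx⟩ := hgen y hy
    have h := sub_counit_mem_glAlg ψ' hT' hx
    rw [TensorProduct.counit_tmul, hx0, zero_smul, map_zero, sub_zero] at h
    exact h
  · rw [hJ', Ideal.map_le_iff_le_comap]
    intro x hx
    have h := sub_counit_mem L ψ J hψJ (x : L ⊗[k] B)
    rw [show CoalgebraStruct.counit (R := L) (x : L ⊗[k] B) = 0 from hx, map_zero, sub_zero] at h
    exact h
  · obtain ⟨f, hf⟩ := Unip38.exists_bialgHom_factor (Bialgebra.Quotient.mkBialgHom (R := L) J')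
      Ideal.Quotient.mk_surjective π fun a ha => Ideal.Quotient.eq_zero_iff_mem.1 ha
    refine isUnipotent_of_injective f (fun x y hxy => ?_) (isUnipotent_baseChange hU L)
    obtain ⟨x, rfl⟩ := Ideal.Quotient.mk_surjective x
    obtain ⟨y, rfl⟩ := Ideal.Quotient.mk_surjective y
    refine Ideal.Quotient.eq.2 ?_
    show π (x - y) = 0
    rw [map_sub, ← hf, ← hf]
    exact sub_eq_zero.2 hxy

/-- backward direction -/
theorem exists_trigonalizable [Algebra.FiniteType k A] {B : Type u} [CommRing B] [HopfAlgebra k B]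
    (ψ : B →ₐc[k] A) (J : Ideal A) [J.IsHopfIdeal k]
    (hB : HopfRep.IsDiagonalizable (AlgebraicClosure k) (AlgebraicClosure k ⊗[k] B))
    (hJ : J = Ideal.map (ψ : B →+* A) (RingHom.ker (Bialgebra.counitAlgHom k B)))
    (hU : HopfRep.IsUnipotent k (A ⧸ J)) :
    ∃ (k' : Type u) (_ : Field k') (_ : Algebra k k'),
      FiniteDimensional k k' ∧ Algebra.IsSeparable k k' ∧ HopfRep.IsTrigonalizable k' (k' ⊗[k] A) := by
  classical
  let K := AlgebraicClosure k
  haveI : IsNoetherianRing A := Algebra.FiniteType.isNoetherianRing k A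
  let T : Set B := RingHom.ker (Bialgebra.counitAlgHom k B)
  have hfg : (Submodule.span A ((ψ : B → A) '' T)).FG := IsNoetherian.noetherian _
  obtain ⟨s, hs, hspan⟩ := (Submodule.fg_span_iff_fg_span_finset_subset _).1 hfg
  have hJs : J = Ideal.span (s : Set A) := by rw [hJ]; exact hspan
  choose! b hbT hbs using fun y (hy : y ∈ (s : Set A)) => hs hy
  choose gs c hgl hcsep hexp using fun y : A => RatHom.exists_separable_coords hB (b y)
  let bK := Module.Free.chooseBasis k B
  let coef : K ⊗[k] B → Finset K := fun g =>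
    (TensorProduct.equivFinsuppOfBasisRight bK g).support.image fun i => TensorProduct.equivFinsuppOfBasisRight bK g i
  let S : Set K := ↑(s.biUnion fun y => (gs y).biUnion fun g => insert (c y g) (coef g))
  have hcoef : ∀ (g : K ⊗[k] B) i,
      TensorProduct.equivFinsuppOfBasisRight bK g i = Diag.extFun (bK.coord i) g := by
    intro g i
    induction g with
    | zero => simp
    | tmul x a => rw [TensorProduct.equivFinsuppOfBasisRight_apply_tmul_apply, Diag.extFun_tmul]; rfl
    | add x y hx hy => simp only [map_add, Finsupp.add_apply, hx, hy]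
  have hS : ∀ x ∈ S, IsSeparable k x := by
    intro x hx
    simp only [S, coef, Finset.coe_biUnion, Set.mem_iUnion, Finset.mem_coe, Finset.mem_insert,
      Finset.mem_image] at hx
    obtain ⟨y, -, g, hg, rfl | ⟨i, -, rfl⟩⟩ := hx
    · exact hcsep y g hg
    · rw [hcoef]; exact RatHom.isSeparable_extFun hB _ (hgl y g hg)
  let L : IntermediateField k K := IntermediateField.adjoin k S
  haveI : Algebra.IsSeparable k L := (IntermediateField.isSeparable_adjoin_iff_isSeparable k K).2 hS
  haveI : FiniteDimensional k L :=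
    IntermediateField.finiteDimensional_adjoin (S := S) fun x hx => (hS x hx).isIntegral
  have hdesc : ∀ y ∈ (s : Set A), ∀ g ∈ gs y, ∃ g' : L ⊗[k] B, emb B L.val g' = g := by
    intro y hy g hg
    let r := TensorProduct.equivFinsuppOfBasisRight bK g
    have hmem : ∀ i ∈ r.support, r i ∈ L := fun i hi => IntermediateField.subset_adjoin k S (by
      simp only [S, coef, Finset.coe_biUnion, Set.mem_iUnion, Finset.mem_coe, Finset.mem_insert,
        Finset.mem_image]
      exact ⟨y, hy, g, hg, Or.inr ⟨i, hi, rfl⟩⟩)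
    refine ⟨∑ i ∈ r.support.attach, (⟨r i, hmem i i.2⟩ : L) ⊗ₜ[k] bK i, ?_⟩
    rw [map_sum]
    conv_rhs => rw [← (TensorProduct.equivFinsuppOfBasisRight bK).symm_apply_apply g,
      TensorProduct.equivFinsuppOfBasisRight_symm_apply, Finsupp.sum, ← Finset.sum_attach]
    rfl
  refine ⟨L, inferInstance, inferInstance, inferInstance, inferInstance,
    isTrigonalizable_baseChange ψ J hJ hU L s hJs fun y hy => ⟨b y, hbT y hy, hbs y hy, ?_⟩⟩
  choose! g' hg' using hdesc y hy
  have hcL : ∀ g ∈ gs y, c y g ∈ L := fun g hg => IntermediateField.subset_adjoin k S (by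
    simp only [S, Finset.coe_biUnion, Set.mem_iUnion, Finset.mem_coe, Finset.mem_insert]
    exact ⟨y, hy, g, hg, Or.inl rfl⟩)
  let z : L ⊗[k] B := ∑ g ∈ (gs y).attach, (⟨c y g, hcL g g.2⟩ : L) • g' g
  have hz : z = (1 : L) ⊗ₜ[k] b y := by
    apply emb_injective L.val
    rw [map_sum, emb_tmul, map_one, hexp, ← Finset.sum_attach (gs y) (fun g => c y g • g)]
    refine Finset.sum_congr rfl fun g _ => ?_
    rw [emb_smul, hg' g g.2]
    rfl
  rw [← hz]
  exact Submodule.sum_mem _ fun g _ => Submodule.smul_mem _ _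
    (Submodule.subset_span ((isGroupLike_emb_iff L.val).1 ((hg' g g.2).symm ▸ hgl y g g.2)))

section Descent

variable (k A) in
/-- the functions which are combinations of characters over a bigger field -/
def chars (F : Type u) [Field F] [Algebra k F] : Subalgebra k A where
  carrier := {a | (1 : F) ⊗ₜ[k] a ∈ Submodule.span F {g : F ⊗[k] A | IsGroupLikeElem F g}}
  mul_mem' {a b} ha hb := by
    simp only [Set.mem_setOf_eq] at *
    rw [show (1 : F) ⊗ₜ[k] (a * b) = ((1 : F) ⊗ₜ[k] a) * ((1 : F) ⊗ₜ[k] b) by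
      rw [Algebra.TensorProduct.tmul_mul_tmul, mul_one]]
    refine (Submodule.span_induction₂ (p := fun x y _ _ => x * y ∈ Submodule.span F _) ?_ ?_ ?_ ?_ ?_ ?_ ?_ ha hb)
    · exact fun x y hx hy => Submodule.subset_span (IsGroupLikeElem.mul hx hy)
    · intro y _; rw [zero_mul]; exact zero_mem _
    · intro x _; rw [mul_zero]; exact zero_mem _
    · intro a b c _ _ _ h1 h2; rw [add_mul]; exact add_mem h1 h2
    · intro a b c _ _ _ h1 h2; rw [mul_add]; exact add_mem h1 h2
    · intro c a b _ _ h; rw [smul_mul_assoc]; exact Submodule.smul_mem _ c h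
    · intro c a b _ _ h; rw [mul_smul_comm]; exact Submodule.smul_mem _ c h
  add_mem' {a b} ha hb := by
    simp only [Set.mem_setOf_eq] at *
    rw [tmul_add]; exact add_mem ha hb
  algebraMap_mem' r := by
    simp only [Set.mem_setOf_eq]
    rw [Algebra.algebraMap_eq_smul_one, tmul_smul, ← algebraMap_smul F r, ← Algebra.TensorProduct.one_def]
    exact Submodule.smul_mem _ _ (Submodule.subset_span TrigStr.isGroupLike_one)

variable {F : Type u} [Field F] [Algebra k F]

theorem rc_mem_chars {b : A} (hb : b ∈ chars k A F) (f : A →ₗ[k] k) :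
    rc f (CoalgebraStruct.comul (R := k) b) ∈ chars k A F := by
  show (1 : F) ⊗ₜ[k] (dact f : A →ₗ[k] A) b ∈ Submodule.span F _
  rw [← LinearMap.baseChange_tmul]
  have hb' : (1 : F) ⊗ₜ[k] b ∈ Submodule.span F {g : F ⊗[k] A | IsGroupLikeElem F g} := hb
  generalize (1 : F) ⊗ₜ[k] b = z at hb' ⊢
  induction hb' using Submodule.span_induction with
  | mem g hg => rw [Diag.baseChange_eigen f hg]; exact Submodule.smul_mem _ _ (Submodule.subset_span hg)
  | zero => simp
  | add x y _ _ hx hy => rw [map_add]; exact add_mem hx hy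
  | smul c x _ hx => rw [map_smul]; exact Submodule.smul_mem _ c hx

theorem antipode_mem_chars {b : A} (hb : b ∈ chars k A F) :
    HopfAlgebraStruct.antipode (R := k) b ∈ chars k A F := by
  show (1 : F) ⊗ₜ[k] HopfAlgebraStruct.antipode (R := k) b ∈ Submodule.span F _
  rw [show (1 : F) ⊗ₜ[k] HopfAlgebraStruct.antipode (R := k) b =
    HopfAlgebraStruct.antipode (R := F) ((1 : F) ⊗ₜ[k] b) by simp]
  have hb' : (1 : F) ⊗ₜ[k] b ∈ Submodule.span F {g : F ⊗[k] A | IsGroupLikeElem F g} := hb
  generalize (1 : F) ⊗ₜ[k] b = z at hb' ⊢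
  induction hb' using Submodule.span_induction with
  | mem g hg => exact Submodule.subset_span (TrigStr.isGroupLike_antipode hg)
  | zero => simp
  | add x y _ _ hx hy => rw [map_add]; exact add_mem hx hy
  | smul c x _ hx => rw [map_smul]; exact Submodule.smul_mem _ c hx

theorem isSubHopf_chars : SubHopf.IsSubHopf (chars k A F) := by
  classical
  refine ⟨fun b hb => ?_, fun b hb => antipode_mem_chars hb⟩
  let B := (chars k A F).toSubmodule
  have h1 : CoalgebraStruct.comul (R := k) b ∈ LinearMap.range (B.subtype.rTensor A) :=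
    (mem_range_rTensor_iff B _).2 fun f => rc_mem_chars hb f
  have h2 : CoalgebraStruct.comul (R := k) b ∈ LinearMap.range (B.subtype.lTensor A) := by
    have e := Hopf35.comul_antipode (R := k) (HopfAlgebraStruct.antipode (R := k) b)
    rw [Quot.antipode_antipode] at e
    rw [e]
    obtain ⟨y, hy⟩ := (mem_range_rTensor_iff B _).2 fun f =>
      rc_mem_chars (antipode_mem_chars hb) f
    rw [← hy]
    clear hy e
    induction y with
    | zero => simp
    | add p q hp hq => simp only [map_add]; exact add_mem hp hq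
    | tmul p q =>
      exact ⟨HopfAlgebraStruct.antipode (R := k) q ⊗ₜ ⟨_, antipode_mem_chars p.2⟩, rfl⟩
  obtain ⟨r, hr⟩ := B.subtype.exists_leftInverse_of_injective B.ker_subtype
  refine ⟨TensorProduct.map r r (CoalgebraStruct.comul (R := k) b), ?_⟩
  have e1 : (B.subtype ∘ₗ r).rTensor A (CoalgebraStruct.comul (R := k) b) = CoalgebraStruct.comul (R := k) b := by
    obtain ⟨y, hy⟩ := h1
    rw [← hy, ← LinearMap.comp_apply, ← LinearMap.rTensor_comp, LinearMap.comp_assoc, hr, LinearMap.comp_id]
  have e2 : (B.subtype ∘ₗ r).lTensor A (CoalgebraStruct.comul (R := k) b) = CoalgebraStruct.comul (R := k) b := by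
    obtain ⟨y, hy⟩ := h2
    rw [← hy, ← LinearMap.comp_apply, ← LinearMap.lTensor_comp, LinearMap.comp_assoc, hr, LinearMap.comp_id]
  show TensorProduct.map B.subtype B.subtype (TensorProduct.map r r _) = _
  rw [← LinearMap.comp_apply, ← TensorProduct.map_comp, ← LinearMap.rTensor_comp_lTensor,
    LinearMap.comp_apply, e2, e1]

/-- Galois descent of combinations of characters -/
theorem exists_preimage [FiniteDimensional k F] [IsGalois k F] {z : F ⊗[k] A}
    (hz : z ∈ Submodule.span F {g : F ⊗[k] A | IsGroupLikeElem F g}) :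
    ∃ w : F ⊗[k] (chars k A F), Algebra.TensorProduct.map (AlgHom.id F F) (chars k A F).val w = z := by
  classical
  let lam := Module.finBasis k F
  let mu := (Algebra.traceForm k F).dualBasis (traceForm_nondegenerate k F) lam
  let t : Fin (Module.finrank k F) → F ⊗[k] A →ₗ[k] A := fun j =>
    (TensorProduct.lid k A).toLinearMap ∘ₗ (Algebra.trace k F ∘ₗ LinearMap.mulLeft k (lam j)).rTensor A
  have h1 : ∀ (j) (x : F ⊗[k] A), (1 : F) ⊗ₜ[k] t j x = ∑ σ : F ≃ₐ[k] F, emb A σ.toAlgHom (lam j • x) := by
    intro j x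
    induction x with
    | zero => simp
    | add p q hp hq => simp only [map_add, tmul_add, smul_add, Finset.sum_add_distrib, hp, hq]
    | tmul c a =>
      simp only [t, LinearMap.comp_apply, LinearMap.rTensor_tmul, LinearEquiv.coe_coe, TensorProduct.lid_tmul,
        LinearMap.mulLeft_apply, smul_tmul', smul_eq_mul, emb_tmul]
      rw [tmul_smul, smul_tmul', Algebra.smul_def, mul_one, trace_eq_sum_automorphisms, sum_tmul]
      rfl
  have h2 : ∀ x : F ⊗[k] A, x = ∑ j, mu j ⊗ₜ[k] t j x := by
    intro x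
    induction x with
    | zero => simp
    | add p q hp hq =>
      simp only [map_add, tmul_add, Finset.sum_add_distrib]
      rw [← hp, ← hq]
    | tmul c a =>
      simp only [t, LinearMap.comp_apply, LinearMap.rTensor_tmul, LinearEquiv.coe_coe, TensorProduct.lid_tmul,
        LinearMap.mulLeft_apply, tmul_smul, smul_tmul', ← sum_tmul]
      congr 1
      conv_lhs => rw [← mu.sum_repr c]
      refine Finset.sum_congr rfl fun j _ => ?_
      rw [LinearMap.BilinForm.dualBasis_repr_apply, Algebra.traceForm_apply, mul_comm]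
  have h3 : ∀ j, t j z ∈ chars k A F := by
    intro j
    show (1 : F) ⊗ₜ[k] t j z ∈ Submodule.span F _
    rw [h1]
    refine Submodule.sum_mem _ fun σ _ => ?_
    induction hz using Submodule.span_induction with
    | mem g hg =>
      rw [emb_smul]
      exact Submodule.smul_mem _ _ (Submodule.subset_span ((isGroupLike_emb_iff σ.toAlgHom).2 hg))
    | zero => simp
    | add x y _ _ hx hy => rw [smul_add, map_add]; exact add_mem hx hy
    | smul c x _ hx => rw [smul_comm, emb_smul]; exact Submodule.smul_mem _ _ hx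
  refine ⟨∑ j, mu j ⊗ₜ[k] ⟨t j z, h3 j⟩, ?_⟩
  rw [map_sum]
  exact (h2 z).symm

end Descent

/-- forward direction over a Galois splitting field -/
theorem exists_extension_aux [Algebra.FiniteType k A] {k' : Type u} [Field k'] [Algebra k k']
    (h : HopfRep.IsTrigonalizable k' (k' ⊗[k] A)) (N : Type u) [Field N] [Algebra k N]
    [FiniteDimensional k N] [IsGalois k N] (τ : N →ₐ[k] AlgebraicClosure k) (j : k' →ₐ[k] N) :
    ∃ (B : Type u) (_ : CommRing B) (_ : HopfAlgebra k B) (ψ : B →ₐc[k] A) (J : Ideal A) (_ : J.IsHopfIdeal k),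
      Function.Injective ψ ∧ HopfRep.IsDiagonalizable (AlgebraicClosure k) (AlgebraicClosure k ⊗[k] B) ∧
        J = Ideal.map (ψ : B →+* A) (RingHom.ker (Bialgebra.counitAlgHom k B)) ∧
        HopfRep.IsUnipotent k (A ⧸ J) := by
  classical
  let B := chars k A N
  have hB : SubHopf.IsSubHopf B := isSubHopf_chars
  letI := SubHopf.hopfAlgebra hB
  let ψ : B →ₐc[k] A := SubHopf.incl hB
  let J : Ideal A := Ideal.map (ψ : B →+* A) (RingHom.ker (Bialgebra.counitAlgHom k B))
  haveI : J.IsHopfIdeal k := Unip38.isHopfIdeal_map_aug ψ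
  let Φ : N ⊗[k] B →ₐc[N] N ⊗[k] A := Bialgebra.TensorProduct.map (BialgHom.id N N) ψ
  have hΦinj : Function.Injective Φ :=
    Module.Flat.lTensor_preserves_injective_linearMap (M := N) B.val.toLinearMap Subtype.val_injective
  have hΦ : ∀ z ∈ Submodule.span N {g : N ⊗[k] A | IsGroupLikeElem N g}, ∃ w, Φ w = z := fun z hz =>
    exists_preimage (F := N) hz
  refine ⟨B, inferInstance, inferInstance, ψ, J, inferInstance, Subtype.val_injective, ?_, rfl, ?_⟩
  · have hN : HopfRep.IsDiagonalizable N (N ⊗[k] B) := by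
      rw [HopfRep.IsDiagonalizable, eq_top_iff]
      intro w _
      induction w with
      | zero => exact zero_mem _
      | add x y hx hy => exact add_mem (hx trivial) (hy trivial)
      | tmul c b =>
        rw [show c ⊗ₜ[k] b = c • ((1 : N) ⊗ₜ[k] b) by rw [smul_tmul', smul_eq_mul, mul_one]]
        refine Submodule.smul_mem _ c ?_
        apply (Submodule.apply_mem_span_image_iff_mem_span (f := (Φ : N ⊗[k] B →ₐ[N] N ⊗[k] A).toLinearMap) hΦinj).1
        refine Submodule.span_mono ?_ (show (1 : N) ⊗ₜ[k] (b : A) ∈ Submodule.span N _ from b.2)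
        intro g hg
        obtain ⟨w, rfl⟩ := hΦ g (Submodule.subset_span hg)
        exact ⟨w, isGroupLike_of_injective Φ hΦinj hg, rfl⟩
    rw [HopfRep.IsDiagonalizable, eq_top_iff]
    intro w _
    induction w with
    | zero => exact zero_mem _
    | add x y hx hy => exact add_mem (hx trivial) (hy trivial)
    | tmul c b =>
      rw [show c ⊗ₜ[k] b = c • emb B τ ((1 : N) ⊗ₜ[k] b) by
        rw [emb_tmul, map_one, smul_tmul', smul_eq_mul, mul_one]]
      refine Submodule.smul_mem _ c ?_
      generalize (1 : N) ⊗ₜ[k] b = z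
      induction (hN.ge (Submodule.mem_top (x := z))) using Submodule.span_induction with
      | mem g hg => exact Submodule.subset_span ((isGroupLike_emb_iff τ).2 hg)
      | zero => rw [map_zero]; exact zero_mem _
      | add x y _ _ hx hy => rw [map_add]; exact add_mem hx hy
      | smul a x _ hx => rw [emb_smul]; exact Submodule.smul_mem _ _ hx
  · let π := Bialgebra.TensorProduct.map (BialgHom.id k' k') (Bialgebra.Quotient.mkBialgHom (R := k) J)
    let J' : Ideal (k' ⊗[k] A) := RingHom.ker (π : k' ⊗[k] A →ₐ[k'] k' ⊗[k] (A ⧸ J))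
    haveI : J'.IsHopfIdeal k' := IdComp.isHopfIdeal_ker π (surjective_mk k' J)
    have hU : HopfRep.IsUnipotent k' ((k' ⊗[k] A) ⧸ J') := by
      refine TrigStr.isUnipotent_quotient h J' fun g hg => ?_
      show π (g - 1) = 0
      have hg' : IsGroupLikeElem N (emb A j g) := (isGroupLike_emb_iff j).2 hg
      obtain ⟨w, hw⟩ := hΦ _ (Submodule.subset_span hg')
      have hwε : CoalgebraStruct.counit (R := N) w = 1 := by
        rw [← CoalgHomClass.counit_comp_apply Φ w, hw]
        exact hg'.counit_eq_one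
      have hmem := sub_counit_mem N ψ J (fun x hx => Ideal.mem_map_of_mem (ψ : B →+* A) hx) w
      rw [hwε, map_one, show Bialgebra.TensorProduct.map (BialgHom.id N N) ψ w = emb A j g from hw,
        ← map_one (emb A j), ← map_sub, ← ker_mk N J] at hmem
      refine emb_injective (A := A ⧸ J) j ?_
      rw [map_zero, ← RingHom.mem_ker.1 hmem]
      generalize g - 1 = x
      induction x with
      | zero => simp
      | add p q hp hq => simp only [map_add, hp, hq]
      | tmul c a => rfl
    obtain ⟨f, hf⟩ := Unip38.exists_bialgHom_factor π (surjective_mk k' J)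
      (Bialgebra.Quotient.mkBialgHom (R := k') J') fun a ha => Ideal.Quotient.eq_zero_iff_mem.2 ha
    refine isUnipotent_descend (F := k') (isUnipotent_of_injective f (fun x y hxy => ?_) hU)
    obtain ⟨x, rfl⟩ := surjective_mk k' J x
    obtain ⟨y, rfl⟩ := surjective_mk k' J y
    rw [← sub_eq_zero, ← map_sub]
    rw [hf, hf] at hxy
    exact Ideal.Quotient.eq.1 hxy

/-- forward direction -/
theorem exists_extension [Algebra.FiniteType k A] {k' : Type u} [Field k'] [Algebra k k']
    [FiniteDimensional k k'] [Algebra.IsSeparable k k'] (h : HopfRep.IsTrigonalizable k' (k' ⊗[k] A)) :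
    ∃ (B : Type u) (_ : CommRing B) (_ : HopfAlgebra k B) (ψ : B →ₐc[k] A) (J : Ideal A) (_ : J.IsHopfIdeal k),
      Function.Injective ψ ∧ HopfRep.IsDiagonalizable (AlgebraicClosure k) (AlgebraicClosure k ⊗[k] B) ∧
        J = Ideal.map (ψ : B →+* A) (RingHom.ker (Bialgebra.counitAlgHom k B)) ∧
        HopfRep.IsUnipotent k (A ⧸ J) := by
  classical
  let K := AlgebraicClosure k
  let N : IntermediateField k K := IntermediateField.normalClosure k k' K
  let ι : k' →ₐ[k] K := IsAlgClosed.lift
  haveI : Algebra.IsSeparable k N := (le_separableClosure_iff k K _).1 (iSup_le fun f => by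
    rintro _ ⟨x, rfl⟩
    refine mem_separableClosure_iff.2 ?_
    show (minpoly k (f x)).Separable
    rw [minpoly.algHom_eq f f.toRingHom.injective]
    exact Algebra.IsSeparable.isSeparable k x)
  haveI : IsGalois k N := ⟨⟩
  let j : k' →ₐ[k] N := AlgHom.codRestrict ι N.toSubalgebra fun x => ι.fieldRange_le_normalClosure ⟨x, rfl⟩
  exact exists_extension_aux h N N.val j

end Groth.Agent.Comod33.MultQuot
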