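import Groth.Agent.Comod33.Socle
import Mathlib.RingTheory.Polynomial.Pochhammer
import Mathlib.Algebra.Polynomial.Roots
import Mathlib.Data.Nat.Choose.Sum
import Mathlib.Algebra.CharP.Invertible

/-!
One-parameter subgroups through unipotent points in characteristic zero.
-/

universe u v

open TensorProduct Polynomial

noncomputable section

namespace Groth.Agent.Comod33.Powers

variable {k : Type u} [Field k] [CharZero k] {A : Type v} [CommRing A] [Bialgebra k A]

/-- the binomial polynomial -/
def binom (i : ℕ) : k[X] := C ((i.factorial : k)⁻¹) * descPochhammer k i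

theorem eval_binom (i n : ℕ) : (binom i : k[X]).eval (n : k) = (n.choose i : k) := by
  have h : (i.factorial : k) ≠ 0 := Nat.cast_ne_zero.2 (Nat.factorial_ne_zero i)
  rw [binom, eval_mul, eval_C, descPochhammer_eval_eq_descFactorial,
    Nat.descFactorial_eq_factorial_mul_choose, Nat.cast_mul, ← mul_assoc, inv_mul_cancel₀ h, one_mul]

theorem poly_ext {p q : k[X]} (h : ∀ n : ℕ, p.eval (n : k) = q.eval (n : k)) : p = q := by
  refine eq_of_infinite_eval_eq p q (Set.Infinite.mono ?_ (Set.infinite_range_of_injective (f := ((↑) : ℕ → k)) Nat.cast_injective))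
  rintro _ ⟨n, rfl⟩
  exact h n

theorem exists_poly (hU : HopfRep.IsUnipotent k A) (g : WithConv (A →ₐ[k] k)) (a : A) :
    ∃ P : k[X], ∀ n : ℕ, P.eval (n : k) = (g ^ n).ofConv a := by
  have hmem : a ∈ ⨆ i, soc k A A i := by rw [iSup_soc_eq_top hU]; trivial
  obtain ⟨N, hN⟩ := (Submodule.mem_iSup_of_directed _ soc_mono.directed_le).1 hmem
  let φ : Module.End k A := HopfRep.Comod.act k A A g.ofConv - 1
  have hz : ∀ j, N ≤ j → (φ ^ j) a = 0 := fun j hj => by
    have := act_sub_one_pow_mem_soc (k := k) (A := A) (V := A) g.ofConv j 0 a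
      (by rw [zero_add]; exact soc_mono hj hN)
    exact (Submodule.mem_bot k).1 this
  refine ⟨∑ i ∈ Finset.range N, C (CoalgebraStruct.counit (R := k) ((φ ^ i) a)) * binom i, fun n => ?_⟩
  rw [eval_finset_sum, ← counit_act, ← actHom_apply, map_pow,
    show actHom k A A g = φ + 1 by rw [actHom_apply]; exact (sub_add_cancel _ _).symm,
    (Commute.one_right φ).add_pow]
  simp only [one_pow, mul_one, ← nsmul_eq_mul', LinearMap.coe_sum, Finset.sum_apply,
    LinearMap.smul_apply, map_sum, map_nsmul, eval_mul, eval_C, eval_binom, smul_eq_mul]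
  refine (Finset.sum_subset (Finset.range_subset_range.2 (le_max_left N (n + 1))) (fun i _ hi => by
      rw [hz i (by simpa using hi)]; simp)).trans ?_
  exact (Finset.sum_subset (Finset.range_subset_range.2 (le_max_right N (n + 1))) (fun i _ hi => by
      rw [Nat.choose_eq_zero_of_lt (by simpa using hi)]; simp)).symm

variable (hU : HopfRep.IsUnipotent k A)

/-- the polynomial function `n ↦ (g ^ n) a` -/
def poly (g : WithConv (A →ₐ[k] k)) (a : A) : k[X] := (exists_poly hU g a).choose

theorem eval_poly (g : WithConv (A →ₐ[k] k)) (a : A) (n : ℕ) :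
    (poly hU g a).eval (n : k) = (g ^ n).ofConv a := (exists_poly hU g a).choose_spec n

/-- the point `g ^ t` -/
def rpow (g : WithConv (A →ₐ[k] k)) (t : k) : WithConv (A →ₐ[k] k) :=
  WithConv.toConv
    { toFun := fun a => (poly hU g a).eval t
      map_one' := by
        rw [show poly hU g 1 = 1 from poly_ext fun n => by rw [eval_poly]; simp, eval_one]
      map_mul' := fun a b => by
        rw [← eval_mul]; congr 1; exact poly_ext fun n => by simp [eval_poly]
      map_zero' := by
        rw [show poly hU g 0 = 0 from poly_ext fun n => by rw [eval_poly]; simp, eval_zero]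
      map_add' := fun a b => by
        rw [← eval_add]; congr 1; exact poly_ext fun n => by simp [eval_poly]
      commutes' := fun c => by
        rw [show poly hU g (algebraMap k A c) = C c from poly_ext fun n => by rw [eval_poly]; simp, eval_C]
        rfl }

theorem rpow_apply (g : WithConv (A →ₐ[k] k)) (t : k) (a : A) :
    (rpow hU g t).ofConv a = (poly hU g a).eval t := rfl

theorem rpow_natCast (g : WithConv (A →ₐ[k] k)) (n : ℕ) : rpow hU g (n : k) = g ^ n :=
  WithConv.ofConv_injective (AlgHom.ext fun a => eval_poly hU g a n)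

theorem rpow_natCast_mul_mul (g : WithConv (A →ₐ[k] k)) (m : ℕ) (t : k) :
    rpow hU g ((m : k) * t) * rpow hU g t = rpow hU g (((m + 1 : ℕ) : k) * t) := by
  refine WithConv.ofConv_injective (AlgHom.ext fun a => ?_)
  obtain ⟨S, hS⟩ := TensorProduct.exists_finset (CoalgebraStruct.comul (R := k) a)
  have key : ∀ x y : WithConv (A →ₐ[k] k), (x * y).ofConv a = ∑ i ∈ S, x.ofConv i.1 * y.ofConv i.2 := by
    intro x y
    rw [AlgHom.convMul_apply, hS, map_sum]
    simp
  have hp : (∑ i ∈ S, (poly hU g i.1).comp (C (m : k) * X) * poly hU g i.2) =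
      (poly hU g a).comp (C ((m + 1 : ℕ) : k) * X) := poly_ext fun n => by
    rw [eval_finset_sum]
    simp only [eval_mul, eval_comp, eval_C, eval_X, ← Nat.cast_mul, eval_poly]
    rw [← key, ← pow_add, Nat.succ_mul]
  have h := congrArg (eval t) hp
  rw [eval_finset_sum] at h
  simp only [eval_mul, eval_comp, eval_C, eval_X] at h
  rw [key, rpow_apply, ← h]
  rfl

theorem rpow_pow (g : WithConv (A →ₐ[k] k)) (t : k) : ∀ e : ℕ, rpow hU g t ^ e = rpow hU g ((e : k) * t)
  | 0 => by rw [pow_zero, Nat.cast_zero, zero_mul, ← Nat.cast_zero, rpow_natCast, pow_zero]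
  | e + 1 => by rw [pow_succ, rpow_pow g t e, rpow_natCast_mul_mul]

include hU in
theorem bijective_pow {e : ℕ} (he : e ≠ 0) :
    Function.Bijective fun g : WithConv (A →ₐ[k] k) => g ^ e := by
  have he' : (e : k) ≠ 0 := Nat.cast_ne_zero.2 he
  constructor
  · intro g h hgh
    refine WithConv.ofConv_injective (AlgHom.ext fun a => ?_)
    have hp : (poly hU g a).comp (C (e : k) * X) = (poly hU h a).comp (C (e : k) * X) := poly_ext fun n => by
      simp only [eval_comp, eval_mul, eval_C, eval_X, ← Nat.cast_mul, eval_poly, pow_mul]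
      simp only at hgh
      rw [hgh]
    have h1 := congrArg (eval (e : k)⁻¹) hp
    simp only [eval_comp, eval_mul, eval_C, eval_X, mul_inv_cancel₀ he'] at h1
    rw [← Nat.cast_one, eval_poly, eval_poly, pow_one, pow_one] at h1
    exact h1
  · intro g
    refine ⟨rpow hU g (e : k)⁻¹, ?_⟩
    simp only
    rw [rpow_pow, mul_inv_cancel₀ he', ← Nat.cast_one, rpow_natCast, pow_one]

end Groth.Agent.Comod33.Powers
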