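import Groth.Agent.Comod33.Criteria
import Groth.Prelude.Def_CoactBr2
import Mathlib.RingTheory.Bialgebra.TensorProduct

/-!
Base change and restriction of scalars of comodules.
-/

universe u v w

open TensorProduct

noncomputable section

namespace Groth.Agent.Comod33.BC

variable {k : Type u} {K : Type v} [CommRing k] [CommRing K] [Algebra k K]
variable {A : Type w} [CommRing A] [Bialgebra k A]

variable (K) in
/-- collapse the base change of the right factor -/
def cbc (W : Type*) [AddCommGroup W] [Module k W] [Module K W] [IsScalarTower k K W] (N : Type*)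
    [AddCommGroup N] [Module k N] : W ⊗[K] (K ⊗[k] N) ≃ₗ[K] W ⊗[k] N :=
  AlgebraTensorModule.cancelBaseChange k K K W N

section res

variable {W : Type*} [AddCommGroup W] [Module k W] [Module K W] [IsScalarTower k K W]
variable [HopfRep.Comod K (K ⊗[k] A) W]

variable (k K A W) in
/-- the coaction read over the small ring -/
def resCoact : W →ₗ[k] W ⊗[k] A :=
  ((cbc K W A).toLinearMap ∘ₗ HopfRep.Comod.coact (k := K) (A := K ⊗[k] A)).restrictScalars k

theorem resCoact_apply (w : W) :
    resCoact k K A W w = cbc K W A (HopfRep.Comod.coact (k := K) (A := K ⊗[k] A) w) := rfl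

/-- restriction of a comodule along a ring map -/
@[reducible] def resComod : HopfRep.Comod k A W where
  coact := resCoact k K A W
  coassoc := by
    refine LinearMap.ext fun w => ?_
    simp only [LinearMap.comp_apply, LinearEquiv.coe_coe, resCoact_apply]
    let μ : (K ⊗[k] A) ⊗[K] (K ⊗[k] A) →ₗ[K] K ⊗[k] (A ⊗[k] A) :=
      (AlgebraTensorModule.distribBaseChange k K A A).symm.toLinearMap
    let T : W ⊗[K] ((K ⊗[k] A) ⊗[K] (K ⊗[k] A)) →ₗ[K] W ⊗[k] (A ⊗[k] A) :=
      (cbc K W (A ⊗[k] A)).toLinearMap ∘ₗ μ.lTensor W
    have hL : ∀ t : W ⊗[K] (K ⊗[k] A),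
        TensorProduct.assoc k W A A ((resCoact k K A W).rTensor A (cbc K W A t)) =
        T (TensorProduct.assoc K W (K ⊗[k] A) (K ⊗[k] A)
          ((HopfRep.Comod.coact (k := K) (A := K ⊗[k] A) (V := W)).rTensor _ t)) := by
      intro t
      induction t with
      | zero => simp
      | add x y hx hy => simp only [map_add, hx, hy]
      | tmul n b =>
        induction b with
        | zero => simp
        | add x y hx hy => simp only [tmul_add, map_add, hx, hy]
        | tmul c a =>
          simp only [cbc, AlgebraTensorModule.cancelBaseChange_tmul, LinearMap.rTensor_tmul]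
          rw [resCoact_apply, map_smul]
          generalize HopfRep.Comod.coact (k := K) (A := K ⊗[k] A) n = s
          induction s with
          | zero => simp
          | add x y hx hy =>
            simp only [smul_add, map_add, add_tmul, hx, hy]
          | tmul m b =>
            induction b with
            | zero => simp
            | add x y hx hy =>
              simp only [smul_add, map_add, add_tmul, tmul_add, hx, hy]
            | tmul d a' =>
              simp [T, μ, cbc, smul_tmul', smul_smul, mul_comm]
    have hR : ∀ t : W ⊗[K] (K ⊗[k] A),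
        (CoalgebraStruct.comul (R := k) (A := A)).lTensor W (cbc K W A t) =
        T ((CoalgebraStruct.comul (R := K) (A := K ⊗[k] A)).lTensor W t) := by
      intro t
      induction t with
      | zero => simp
      | add x y hx hy => simp only [map_add, hx, hy]
      | tmul n b =>
        induction b with
        | zero => simp
        | add x y hx hy => simp only [tmul_add, map_add, hx, hy]
        | tmul c a =>
          simp only [cbc, AlgebraTensorModule.cancelBaseChange_tmul, LinearMap.lTensor_tmul,
            T, μ, LinearMap.comp_apply]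
          generalize hs : CoalgebraStruct.comul (R := k) a = s
          rw [show CoalgebraStruct.comul (R := K) (c ⊗ₜ[k] a) =
            AlgebraTensorModule.tensorTensorTensorComm k K k K K K A A
              (((1 : K) ⊗ₜ[K] c) ⊗ₜ[k] s) from by rw [← hs]; rfl]
          clear hs
          induction s with
          | zero => simp
          | add x y hx hy => simp only [tmul_add, map_add, hx, hy]
          | tmul p q => simp [cbc]
    rw [hL, coassoc_apply, ← hR]
  counit_comp := by
    refine LinearMap.ext fun w => ?_
    simp only [LinearMap.comp_apply, LinearMap.flip_apply, TensorProduct.mk_apply, resCoact_apply]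
    apply (TensorProduct.rid k W).injective
    have h : ∀ t : W ⊗[K] (K ⊗[k] A),
        TensorProduct.rid k W ((CoalgebraStruct.counit (R := k) (A := A)).lTensor W (cbc K W A t)) =
        TensorProduct.rid K W ((CoalgebraStruct.counit (R := K) (A := K ⊗[k] A)).lTensor W t) := by
      intro t
      induction t with
      | zero => simp
      | add x y hx hy => simp only [map_add, hx, hy]
      | tmul n b =>
        induction b with
        | zero => simp
        | add x y hx hy => simp only [tmul_add, map_add, hx, hy]
        | tmul c a => simp [cbc, ← IsScalarTower.algebraMap_smul K (CoalgebraStruct.counit (R := k) a), smul_smul, mul_comm]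
    rw [h, counit_apply]
    simp

theorem mem_fixedPts_res_iff (w : W) :
    (resComod (k := k) (K := K) (A := A) (W := W)).coact w = w ⊗ₜ[k] (1 : A) ↔
      w ∈ HopfRep.fixedPts K (K ⊗[k] A) W := by
  show resCoact k K A W w = _ ↔ HopfRep.Comod.coact (k := K) (A := K ⊗[k] A) w = _
  rw [resCoact_apply, ← (cbc K W A).eq_symm_apply,
    show (cbc K W A).symm (w ⊗ₜ[k] (1 : A)) = w ⊗ₜ[K] (1 : K ⊗[k] A) from rfl]

theorem isComodHom_res {X : Type*} [AddCommGroup X] [Module k X] [Module K X]
    [IsScalarTower k K X] [HopfRep.Comod K (K ⊗[k] A) X] {f : W →ₗ[K] X}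
    (hf : Hoch.IsComodHom (K ⊗[k] A) f) :
    @Hoch.IsComodHom k _ A _ _ _ W _ _ (resComod (k := k) (K := K)) X _ _
      (resComod (k := k) (K := K)) (f.restrictScalars k) := by
  refine LinearMap.ext fun w => ?_
  show resCoact k K A X (f w) = (f.restrictScalars k).rTensor A (resCoact k K A W w)
  rw [resCoact_apply, resCoact_apply, show HopfRep.Comod.coact (k := K) (A := K ⊗[k] A) (f w) =
    f.rTensor _ (HopfRep.Comod.coact (k := K) (A := K ⊗[k] A) w) from LinearMap.congr_fun hf w]
  generalize HopfRep.Comod.coact (k := K) (A := K ⊗[k] A) w = t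
  induction t with
  | zero => simp
  | add x y hx hy => simp only [map_add, hx, hy]
  | tmul n b =>
    induction b with
    | zero => simp
    | add x y hx hy => simp only [tmul_add, map_add, hx, hy]
    | tmul c a => simp [cbc]

end res

section ext

variable {V : Type*} [AddCommGroup V] [Module k V] [HopfRep.Comod k A V]

theorem cbc_baseChange_coact (z : K ⊗[k] V) :
    cbc K (K ⊗[k] V) A ((CoactBr.Comod.baseChange k K A V).coact z) =
      (TensorProduct.assoc k K V A).symm ((HopfRep.Comod.coact (k := k) (A := A)).lTensor K z) := by
  induction z with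
  | zero => simp
  | add x y hx hy => simp only [map_add, hx, hy]
  | tmul c v =>
    rw [CoactBr.baseChange_coact_tmul, LinearMap.lTensor_tmul]
    generalize HopfRep.Comod.coact (k := k) (A := A) v = s
    induction s with
    | zero => simp
    | add x y hx hy => simp only [tmul_add, map_add, hx, hy]
    | tmul n a => simp [cbc, smul_tmul']

theorem mem_fixedPts_baseChange_iff (z : K ⊗[k] V) :
    (CoactBr.Comod.baseChange k K A V).coact z = z ⊗ₜ[K] (1 : K ⊗[k] A) ↔
      z ∈ LinearMap.ker (((HopfRep.Comod.coact (k := k) (A := A) : V →ₗ[k] V ⊗[k] A) -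
        (TensorProduct.mk k V A).flip 1).lTensor K) := by
  rw [LinearMap.mem_ker, LinearMap.lTensor_sub, LinearMap.sub_apply, sub_eq_zero,
    ← (cbc K (K ⊗[k] V) A).injective.eq_iff, cbc_baseChange_coact,
    (TensorProduct.assoc k K V A).symm_apply_eq]
  refine Eq.congr_right ?_
  induction z with
  | zero => simp
  | add x y hx hy => simp only [add_tmul, map_add, hx, hy]
  | tmul c v => simp [cbc, Algebra.TensorProduct.one_def]

theorem exists_of_mem_fixedPts_baseChange [Module.Flat k K] (z : K ⊗[k] V)
    (hz : (CoactBr.Comod.baseChange k K A V).coact z = z ⊗ₜ[K] (1 : K ⊗[k] A)) :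
    z ∈ LinearMap.range ((HopfRep.fixedPts k A V).subtype.lTensor K) := by
  rw [mem_fixedPts_baseChange_iff] at hz
  have hex : Function.Exact (HopfRep.fixedPts k A V).subtype
      ((HopfRep.Comod.coact (k := k) (A := A) : V →ₗ[k] V ⊗[k] A) -
        (TensorProduct.mk k V A).flip 1) := by
    intro v
    rw [LinearMap.sub_apply, sub_eq_zero]
    exact ⟨fun h => ⟨⟨v, h⟩, rfl⟩, fun ⟨x, hx⟩ => hx ▸ x.2⟩
  exact (Module.Flat.lTensor_exact (M := K) hex z).1 hz

theorem isComodHom_baseChange {W : Type*} [AddCommGroup W] [Module k W] [HopfRep.Comod k A W]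
    {f : V →ₗ[k] W} (hf : Hoch.IsComodHom A f) :
    @Hoch.IsComodHom K _ (K ⊗[k] A) _ _ _ (K ⊗[k] V) _ _ (CoactBr.Comod.baseChange k K A V)
      (K ⊗[k] W) _ _ (CoactBr.Comod.baseChange k K A W) (f.baseChange K) := by
  refine LinearMap.ext fun z => (cbc K (K ⊗[k] W) A).injective ?_
  simp only [LinearMap.comp_apply]
  rw [cbc_baseChange_coact]
  have : ∀ x, cbc K (K ⊗[k] W) A ((f.baseChange K).rTensor _ x) =
      (f.lTensor K).rTensor A (cbc K (K ⊗[k] V) A x) := by
    intro x
    induction x with
    | zero => simp
    | add p q hp hq => simp only [map_add, hp, hq]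
    | tmul n b =>
      induction b with
      | zero => simp
      | add p q hp hq => simp only [tmul_add, map_add, hp, hq]
      | tmul c a =>
        induction n with
        | zero => simp
        | add p q hp hq => simp only [add_tmul, map_add, hp, hq]
        | tmul d v => simp [cbc, smul_tmul']
  rw [this, cbc_baseChange_coact]
  induction z with
  | zero => simp
  | add p q hp hq => simp only [map_add, hp, hq]
  | tmul d v =>
    simp only [LinearMap.baseChange_tmul, LinearMap.lTensor_tmul]
    rw [show HopfRep.Comod.coact (k := k) (A := A) (f v) =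
      f.rTensor A (HopfRep.Comod.coact (k := k) (A := A) v) from LinearMap.congr_fun hf v]
    generalize HopfRep.Comod.coact (k := k) (A := A) v = s
    induction s with
    | zero => simp
    | add p q hp hq => simp only [tmul_add, map_add, hp, hq]
    | tmul n a => simp

end ext

end Groth.Agent.Comod33.BC
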