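import Groth.Agent.Comod33.QuotReductive
import Groth.Agent.Comod33.Diag
import Groth.Agent.Comod33.UnipotentBC
import Mathlib.RingTheory.HopfAlgebra.Quotient

/-!
Unipotence and primitive elements of subgroups.
-/

universe u v

open TensorProduct

noncomputable section

namespace Groth.Agent.Comod33.PrimUni

variable {k : Type u} [Field k] {C K : Type v} [CommRing C] [HopfAlgebra k C] [Algebra.FiniteType k C]
  [CommRing K] [HopfAlgebra k K]

omit [Algebra.FiniteType k C] in
theorem coeff_coinvariant {X : Type v} [AddCommGroup X] [Module k X] [HopfRep.Comod k C X]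
    (ψ : C →ₐc[k] K) {x : X}
    (hx : (ψ : C →ₐ[k] K).toLinearMap.lTensor X (HopfRep.Comod.coact (k := k) (A := C) x) = x ⊗ₜ[k] (1 : K))
    (g : X →ₗ[k] k) :
    (ψ : C →ₐ[k] K).toLinearMap.lTensor C (CoalgebraStruct.comul (R := k)
        (lc g (HopfRep.Comod.coact (k := k) (A := C) x))) =
      lc g (HopfRep.Comod.coact (k := k) (A := C) x) ⊗ₜ[k] (1 : K) := by
  let P : X ⊗[k] (C ⊗[k] C) →ₗ[k] C ⊗[k] K :=
    (TensorProduct.lid k _).toLinearMap ∘ₗ TensorProduct.map g ((ψ : C →ₐ[k] K).toLinearMap.lTensor C)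
  have e1 : ∀ w : X ⊗[k] C, (ψ : C →ₐ[k] K).toLinearMap.lTensor C (CoalgebraStruct.comul (R := k) (lc g w)) =
      P ((CoalgebraStruct.comul (R := k) (A := C)).lTensor X w) := by
    intro w
    induction w with
    | zero => simp
    | add p q hp hq => simp only [map_add, hp, hq]
    | tmul p q => simp [P, lc_tmul]
  have e2 : ∀ w : X ⊗[k] C, P (TensorProduct.assoc k X C C
      ((HopfRep.Comod.coact (k := k) (A := C)).rTensor C w)) =
      (lc g ∘ₗ HopfRep.Comod.coact (k := k) (A := C)).rTensor K ((ψ : C →ₐ[k] K).toLinearMap.lTensor X w) := by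
    intro w
    induction w with
    | zero => simp
    | add p q hp hq => simp only [map_add, hp, hq]
    | tmul p q =>
      simp only [LinearMap.rTensor_tmul, LinearMap.lTensor_tmul, LinearMap.comp_apply]
      generalize HopfRep.Comod.coact (k := k) (A := C) p = s
      induction s with
      | zero => simp
      | add a b ha hb => simp only [map_add, add_tmul, ha, hb]
      | tmul a b => simp [P, lc_tmul, smul_tmul']
  rw [e1, ← coassoc_apply, e2, hx]
  simp

section Filt

variable (x : C)

omit [Algebra.FiniteType k C] in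
theorem isSubHopf_adjoin (hx : CoalgebraStruct.comul (R := k) x = x ⊗ₜ[k] (1 : C) + (1 : C) ⊗ₜ[k] x) :
    SubHopf.IsSubHopf (Algebra.adjoin k ({x} : Set C)) := by
  set B := Algebra.adjoin k ({x} : Set C)
  have hxB : x ∈ B := Algebra.subset_adjoin rfl
  refine ⟨?_, ?_⟩
  · intro b hb
    have : B ≤ ((Algebra.TensorProduct.map B.val B.val).range).comap (Bialgebra.comulAlgHom k C) := by
      refine Algebra.adjoin_le (Set.singleton_subset_iff.2 ?_)
      exact ⟨⟨x, hxB⟩ ⊗ₜ 1 + 1 ⊗ₜ ⟨x, hxB⟩, by
        show Algebra.TensorProduct.map B.val B.val _ = CoalgebraStruct.comul (R := k) x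
        rw [hx]; simp⟩
    obtain ⟨z, hz⟩ := this hb
    exact ⟨z, hz⟩
  · intro b hb
    have : B ≤ B.comap (HopfAlgebra.antipodeAlgHom k C) := by
      refine Algebra.adjoin_le (Set.singleton_subset_iff.2 ?_)
      have h := HopfAlgebra.mul_antipode_rTensor_comul_apply (R := k) x
      rw [hx, map_add, map_add, LinearMap.rTensor_tmul, LinearMap.rTensor_tmul,
        show CoalgebraStruct.counit (R := k) x = 0 from Diag.counit_prim hx, map_zero,
        LinearMap.mul'_apply, LinearMap.mul'_apply, mul_one, HopfAlgebra.antipode_one, one_mul] at h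
      show HopfAlgebraStruct.antipode (R := k) x ∈ B
      rw [eq_neg_of_add_eq_zero_left h]
      exact B.neg_mem hxB
    exact this hb

variable (k) in
/-- polynomials of degree `≤ d` in `x` -/
def filt (d : ℕ) : Submodule k C := Submodule.span k {y | ∃ i ≤ d, y = x ^ i}

omit [Algebra.FiniteType k C] in
theorem filt_mono {i j : ℕ} (h : i ≤ j) : filt k x i ≤ filt k x j :=
  Submodule.span_mono fun _ ⟨l, hl, e⟩ => ⟨l, hl.trans h, e⟩

omit [Algebra.FiniteType k C] in
theorem rc_comul_mem (hx : CoalgebraStruct.comul (R := k) x = x ⊗ₜ[k] (1 : C) + (1 : C) ⊗ₜ[k] x)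
    (f : C →ₗ[k] k) (hf : f 1 = 0) {d : ℕ} {y : C} (hy : y ∈ filt k x (d + 1)) :
    rc f (CoalgebraStruct.comul (R := k) y) ∈ filt k x d := by
  induction hy using Submodule.span_induction with
  | mem z hz =>
    obtain ⟨i, hi, rfl⟩ := hz
    rw [Bialgebra.comul_pow, hx, add_pow, map_sum]
    refine Submodule.sum_mem _ fun j hj => ?_
    rw [Finset.mem_range] at hj
    simp only [Algebra.TensorProduct.tmul_pow, one_pow, Algebra.TensorProduct.tmul_mul_tmul, one_mul,
      mul_one, mul_comm _ ((Nat.choose i j : ℕ) : C ⊗[k] C), ← nsmul_eq_mul, map_nsmul, rc_tmul]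
    refine Submodule.smul_of_tower_mem _ _ ?_
    rcases Nat.eq_zero_or_pos (i - j) with h0 | h0
    · rw [h0, pow_zero, hf, zero_smul]; exact zero_mem _
    · exact Submodule.smul_mem _ _ (Submodule.subset_span ⟨j, by omega, rfl⟩)
  | zero => simp
  | add a b _ _ ha hb => rw [map_add, map_add]; exact add_mem ha hb
  | smul c a _ ha => rw [map_smul, map_smul]; exact Submodule.smul_mem _ c ha

end Filt

theorem isUnipotent_of_prim {x : C} (hxp : CoalgebraStruct.comul (R := k) x = x ⊗ₜ[k] (1 : C) + (1 : C) ⊗ₜ[k] x)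
    (ψ : C →ₐc[k] K) (hψ : Function.Surjective ψ)
    (hker : RingHom.ker (ψ : C →ₐ[k] K) = Ideal.span {x}) (hK : HopfRep.IsUnipotent k K) :
    HopfRep.IsUnipotent k C := by
  classical
  intro V _ _ _ hfin hnt
  haveI := hfin
  haveI := hnt
  have hB := isSubHopf_adjoin x hxp
  set B := Algebra.adjoin k ({x} : Set C)
  letI := SubHopf.hopfAlgebra hB
  haveI : Algebra.FiniteType k B := ⟨(Subalgebra.fg_top B).2 ⟨{x}, by simp [B]⟩⟩
  let φ : B →ₐc[k] C := SubHopf.incl hB
  obtain ⟨r, hr, hr1⟩ := Quot.exists_linear_retraction φ Subtype.val_injective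
  have hx0 : CoalgebraStruct.counit (R := k) x = 0 := Diag.counit_prim hxp
  have hker' : RingHom.ker (ψ : C →ₐ[k] K) =
      Ideal.map (φ : B →ₐ[k] C) (RingHom.ker (Bialgebra.counitAlgHom k B)) := by
    rw [hker]
    refine le_antisymm ?_ (Ideal.map_le_iff_le_comap.2 ?_)
    · rw [Ideal.span_singleton_le_iff_mem]
      exact Ideal.mem_map_of_mem (φ : B →ₐ[k] C)
        (show (⟨x, Algebra.subset_adjoin rfl⟩ : B) ∈ RingHom.ker (Bialgebra.counitAlgHom k B) from hx0)
    · rintro ⟨b, hb⟩ hb0
      have hb' : ∀ y ∈ B, y - algebraMap k C (CoalgebraStruct.counit (R := k) y) ∈ Ideal.span ({x} : Set C) := by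
        intro y hy
        induction hy using Algebra.adjoin_induction with
        | mem z hz =>
          rw [Set.mem_singleton_iff.1 hz, hx0, map_zero, sub_zero]
          exact Ideal.subset_span rfl
        | algebraMap c => simp
        | add p q _ _ hp hq => rw [map_add, map_add, add_sub_add_comm]; exact add_mem hp hq
        | mul p q _ _ hp hq =>
          rw [Bialgebra.counit_mul, map_mul,
            show p * q - algebraMap k C (CoalgebraStruct.counit (R := k) p) * algebraMap k C (CoalgebraStruct.counit (R := k) q) =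
              (p - algebraMap k C (CoalgebraStruct.counit (R := k) p)) * q +
              algebraMap k C (CoalgebraStruct.counit (R := k) p) * (q - algebraMap k C (CoalgebraStruct.counit (R := k) q)) by ring]
          exact add_mem (Ideal.mul_mem_right _ _ hp) (Ideal.mul_mem_left _ _ hq)
      have := hb' b hb
      rw [show CoalgebraStruct.counit (R := k) b = 0 from hb0, map_zero, sub_zero] at this
      exact this
  let cV : HopfRep.Comod k C V := inferInstance
  obtain ⟨v, hv, hv0⟩ : ∃ v : V, (ψ : C →ₐ[k] K).toLinearMap.lTensor V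
      (HopfRep.Comod.coact (k := k) (A := C) v) = v ⊗ₜ[k] (1 : K) ∧ v ≠ 0 := by
    letI : HopfRep.Comod k K V := push (ψ : C →ₗc[k] K) cV
    obtain ⟨v, hv, hv0⟩ := exists_fixed_of_isUnipotent hK V
    exact ⟨v, hv, hv0⟩
  have hcoef : ∀ g, lc g (HopfRep.Comod.coact (k := k) (A := C) v) ∈ B := fun g => by
    rw [← Quot.mem_range_of_coinvariant φ r ψ hker' hr hr1 hψ (coeff_coinvariant ψ hv g)]
    exact Subtype.prop _
  have hmemB : HopfRep.Comod.coact (k := k) (A := C) v ∈
      LinearMap.range ((Subalgebra.toSubmodule B).subtype.lTensor V) :=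
    (mem_range_lTensor_iff _ _).2 hcoef
  have hex : ∃ d, ∃ w : V, w ≠ 0 ∧
      HopfRep.Comod.coact (k := k) (A := C) w ∈ LinearMap.range ((filt k x d).subtype.lTensor V) := by
    have hmono : Monotone fun d => LinearMap.range ((filt k x d).subtype.lTensor V) := fun i j h => by
      rintro _ ⟨z, rfl⟩
      exact ⟨(Submodule.inclusion (filt_mono x h)).lTensor V z, by
        rw [← LinearMap.lTensor_comp_apply]; rfl⟩
    have hle : ∀ b : B, ∃ d, (b : C) ∈ filt k x d := by
      intro b
      have hb2 : (b : C) ∈ B := b.2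
      obtain ⟨p, hp⟩ := (SetLike.ext_iff.1 (Algebra.adjoin_singleton_eq_range_aeval k x) _).1 hb2
      refine ⟨p.natDegree, ?_⟩
      rw [← hp, AlgHom.toRingHom_eq_coe, RingHom.coe_coe, Polynomial.aeval_eq_sum_range]
      refine Submodule.sum_mem _ fun i hi => Submodule.smul_mem _ _ (Submodule.subset_span ⟨i, ?_, rfl⟩)
      rw [Finset.mem_range] at hi
      omega
    obtain ⟨z, hz⟩ := hmemB
    suffices ∀ z : V ⊗[k] Subalgebra.toSubmodule B, ∃ d, (Subalgebra.toSubmodule B).subtype.lTensor V z ∈
        LinearMap.range ((filt k x d).subtype.lTensor V) by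
      obtain ⟨d, hd⟩ := this z
      exact ⟨d, v, hv0, hz ▸ hd⟩
    intro z
    induction z with
    | zero => exact ⟨0, by simp⟩
    | add p q hp hq =>
      obtain ⟨d, hd⟩ := hp
      obtain ⟨e, he⟩ := hq
      exact ⟨max d e, by rw [map_add]; exact add_mem (hmono (le_max_left d e) hd) (hmono (le_max_right d e) he)⟩
    | tmul p b =>
      obtain ⟨d, hd⟩ := hle b
      exact ⟨d, p ⊗ₜ ⟨b, hd⟩, rfl⟩
  obtain ⟨w, hw0, hw⟩ := Nat.find_spec hex
  refine fun hbot => hw0 ?_
  suffices hfix : w ∈ HopfRep.fixedPts k C V by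
    rw [hbot] at hfix
    exact (Submodule.mem_bot k).1 hfix
  show HopfRep.Comod.coact (k := k) (A := C) w = w ⊗ₜ[k] (1 : C)
  have hkill : ∀ f : C →ₗ[k] k, f 1 = 0 → dact f w = 0 := by
    intro f hf
    rcases Nat.eq_zero_or_pos (Nat.find hex) with h0 | h0
    · rw [dact_apply]
      obtain ⟨z, hz⟩ := hw
      rw [← hz]
      clear hz
      induction z with
      | zero => simp
      | add p q hp hq => simp only [map_add, hp, hq, add_zero]
      | tmul p b =>
        have hb : (b : C) ∈ Submodule.span k {(1 : C)} := by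
          refine Submodule.span_mono ?_ b.2
          rintro _ ⟨i, hi, rfl⟩
          rw [h0, Nat.le_zero] at hi
          rw [hi, pow_zero]
          rfl
        obtain ⟨c, hc⟩ := Submodule.mem_span_singleton.1 hb
        simp [rc_tmul, ← hc, hf]
    · obtain ⟨d, hd⟩ := Nat.exists_eq_add_of_lt h0
      by_contra hne
      refine Nat.find_min hex (m := d) (by omega) ⟨dact f w, hne, ?_⟩
      rw [coact_dact]
      obtain ⟨z, hz⟩ := hw
      rw [← hz]
      clear hz
      induction z with
      | zero => simp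
      | add p q hp hq => rw [map_add, map_add]; exact add_mem hp hq
      | tmul p b =>
        have hb : (b : C) ∈ filt k x (d + 1) := filt_mono x (by omega) b.2
        exact ⟨p ⊗ₜ ⟨_, rc_comul_mem x hxp f hf hb⟩, rfl⟩
  refine eq_of_rc fun f => ?_
  have h := hkill (f - f 1 • CoalgebraStruct.counit) (by simp)
  have h' : dact f w = f 1 • w := by
    conv_lhs => rw [← sub_add_cancel f (f 1 • CoalgebraStruct.counit)]
    rw [dact_add, dact_smul, LinearMap.add_apply, LinearMap.smul_apply, dact_counit, h, zero_add]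
  rw [← dact_apply, h', rc_tmul]

end Groth.Agent.Comod33.PrimUni
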