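import Groth.Agent.Comod33.DvrSpecial
import Groth.Agent.Comod33.PrimUnipotent
import Groth.Agent.Comod33.Push
import Mathlib.RingTheory.HopfAlgebra.Quotient
import Mathlib.RingTheory.Bialgebra.GroupLike

/-!
Trigonalizable groups as extensions of diagonalizable by unipotent groups.
-/

universe v

set_option maxHeartbeats 1000000

open TensorProduct

noncomputable section

namespace Groth.Agent.Comod33.TrigStr

variable {k : Type v} [Field k] {A : Type v} [CommRing A] [HopfAlgebra k A]

theorem isGroupLike_antipode {g : A} (hg : IsGroupLikeElem k g) :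
    IsGroupLikeElem k (HopfAlgebraStruct.antipode (R := k) g) :=
  ⟨by rw [HopfAlgebra.counit_antipode, hg.counit_eq_one], Diag.grouplike_antipode hg⟩

theorem isGroupLike_one : IsGroupLikeElem k (1 : A) :=
  ⟨Bialgebra.counit_one, by rw [Bialgebra.comul_one, Algebra.TensorProduct.one_def]⟩

/-- the sub Hopf algebra generated by group-like elements and their inverses -/
def glAlg (T : Set A) : Subalgebra k A :=
  Algebra.adjoin k (T ∪ (HopfAlgebraStruct.antipode (R := k) (A := A)) '' T)

variable {T : Set A} (hT : ∀ t ∈ T, IsGroupLikeElem k t)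
include hT

theorem isGroupLike_gen {t : A} (ht : t ∈ T ∪ (HopfAlgebraStruct.antipode (R := k) (A := A)) '' T) :
    IsGroupLikeElem k t := by
  rcases ht with ht | ⟨s, hs, rfl⟩
  · exact hT t ht
  · exact isGroupLike_antipode (hT s hs)

theorem isSubHopf_glAlg : SubHopf.IsSubHopf (glAlg (k := k) T) := by
  set B := glAlg (k := k) T
  have hB : ∀ t ∈ T ∪ (HopfAlgebraStruct.antipode (R := k) (A := A)) '' T, t ∈ B :=
    fun t ht => Algebra.subset_adjoin ht
  refine ⟨fun b hb => ?_, fun b hb => ?_⟩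
  · have : B ≤ ((Algebra.TensorProduct.map B.val B.val).range).comap (Bialgebra.comulAlgHom k A) := by
      refine Algebra.adjoin_le fun t ht => ⟨⟨t, hB t ht⟩ ⊗ₜ ⟨t, hB t ht⟩, ?_⟩
      show Algebra.TensorProduct.map B.val B.val _ = CoalgebraStruct.comul (R := k) t
      rw [(isGroupLike_gen hT ht).comul_eq_tmul_self]
      simp
    obtain ⟨z, hz⟩ := this hb
    exact ⟨z, hz⟩
  · have : B ≤ B.comap (HopfAlgebra.antipodeAlgHom k A) := by
      refine Algebra.adjoin_le fun t ht => ?_
      show HopfAlgebraStruct.antipode (R := k) t ∈ B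
      rcases ht with ht | ⟨s, hs, rfl⟩
      · exact hB _ (Or.inr ⟨t, ht, rfl⟩)
      · rw [Quot.antipode_antipode]
        exact hB _ (Or.inl hs)
    exact this hb

theorem glAlg_le_span : (glAlg (k := k) T).toSubmodule ≤
    Submodule.span k {a : A | IsGroupLikeElem k a ∧ a ∈ glAlg (k := k) T} := by
  intro b hb
  induction (hb : b ∈ glAlg (k := k) T) using Algebra.adjoin_induction with
  | mem x hx => exact Submodule.subset_span ⟨isGroupLike_gen hT hx, Algebra.subset_adjoin hx⟩
  | algebraMap c =>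
    rw [Algebra.algebraMap_eq_smul_one]
    exact Submodule.smul_mem _ c (Submodule.subset_span ⟨isGroupLike_one, one_mem _⟩)
  | add x y _ _ hx hy => exact add_mem hx hy
  | mul x y _ _ hx hy =>
    refine (Submodule.span_induction₂ (p := fun a b _ _ => a * b ∈ Submodule.span k _) ?_ ?_ ?_ ?_ ?_ ?_ ?_ hx hy)
    · rintro a b ⟨ha, ha'⟩ ⟨hb, hb'⟩
      exact Submodule.subset_span ⟨ha.mul hb, mul_mem ha' hb'⟩
    · intro b _; rw [zero_mul]; exact zero_mem _
    · intro a _; rw [mul_zero]; exact zero_mem _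
    · intro a b c _ _ _ h1 h2; rw [add_mul]; exact add_mem h1 h2
    · intro a b c _ _ _ h1 h2; rw [mul_add]; exact add_mem h1 h2
    · intro c a b _ _ h; rw [smul_mul_assoc]; exact Submodule.smul_mem _ c h
    · intro c a b _ _ h; rw [mul_smul_comm]; exact Submodule.smul_mem _ c h

/-- the sub Hopf algebra generated by group-like elements is diagonalizable -/
theorem isDiagonalizable_glAlg :
    letI := SubHopf.hopfAlgebra (isSubHopf_glAlg hT)
    HopfRep.IsDiagonalizable k (glAlg (k := k) T) := by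
  letI := SubHopf.hopfAlgebra (isSubHopf_glAlg hT)
  rw [HopfRep.IsDiagonalizable, eq_top_iff]
  intro b _
  apply (Submodule.apply_mem_span_image_iff_mem_span (f := (glAlg (k := k) T).val.toLinearMap)
    Subtype.val_injective).1
  refine Submodule.span_mono ?_ (glAlg_le_span hT b.2)
  rintro a ⟨ha, ha'⟩
  refine ⟨⟨a, ha'⟩, ⟨ha.counit_eq_one, ?_⟩, rfl⟩
  apply SubHopf.val₂_injective (glAlg (k := k) T)
  show (SubHopf.val₂ (glAlg (k := k) T)) (SubHopf.comul (isSubHopf_glAlg hT) ⟨a, ha'⟩) = _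
  rw [SubHopf.val₂_comul, ha.comul_eq_tmul_self]
  simp

omit hT

variable (k) in
/-- the ideal generated by `t - 1` -/
def glIdeal (T : Set A) : Ideal A := Ideal.span ((fun t => t - 1) '' T)

include hT

theorem sub_one_mem_glIdeal {t : A} (ht : t ∈ T ∪ (HopfAlgebraStruct.antipode (R := k) (A := A)) '' T) :
    t - 1 ∈ glIdeal T := by
  rcases ht with ht | ⟨s, hs, rfl⟩
  · exact Ideal.subset_span ⟨t, ht, rfl⟩
  · have h1 := Diag.grouplike_mul_inv (k := k) (hT s hs)
    rw [show HopfAlgebraStruct.antipode (R := k) s - 1 = -(HopfAlgebraStruct.antipode (R := k) s * (s - 1)) by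
      rw [mul_sub, h1, mul_one, neg_sub]]
    exact neg_mem (Ideal.mul_mem_left _ _ (Ideal.subset_span ⟨s, hs, rfl⟩))

theorem map_aug_glAlg :
    Ideal.map (glAlg (k := k) T).val
      (RingHom.ker ((Bialgebra.counitAlgHom k A).comp (glAlg (k := k) T).val)) = glIdeal T := by
  refine le_antisymm (Ideal.map_le_iff_le_comap.2 ?_) (Ideal.span_le.2 ?_)
  · rintro ⟨b, hb⟩ hb0
    have key : ∀ y ∈ glAlg (k := k) T, y - algebraMap k A (CoalgebraStruct.counit (R := k) y) ∈ glIdeal T := by
      intro y hy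
      induction hy using Algebra.adjoin_induction with
      | mem x hx => rw [(isGroupLike_gen hT hx).counit_eq_one, map_one]; exact sub_one_mem_glIdeal hT hx
      | algebraMap c => rw [Bialgebra.counit_algebraMap, sub_self]; exact zero_mem _
      | add x y _ _ hx hy => rw [map_add, map_add, add_sub_add_comm]; exact add_mem hx hy
      | mul x y _ _ hx hy =>
        rw [Bialgebra.counit_mul, map_mul, show x * y - algebraMap k A (CoalgebraStruct.counit (R := k) x) *
          algebraMap k A (CoalgebraStruct.counit (R := k) y) =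
          x * (y - algebraMap k A (CoalgebraStruct.counit (R := k) y)) +
          (x - algebraMap k A (CoalgebraStruct.counit (R := k) x)) *
            algebraMap k A (CoalgebraStruct.counit (R := k) y) by ring]
        exact add_mem (Ideal.mul_mem_left _ _ hy) (Ideal.mul_mem_right _ _ hx)
    have h := key b hb
    rw [show CoalgebraStruct.counit (R := k) b = 0 from hb0, map_zero, sub_zero] at h
    exact h
  · rintro _ ⟨t, ht, rfl⟩
    have htB : t ∈ glAlg (k := k) T := Algebra.subset_adjoin (Or.inl ht)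
    refine Ideal.mem_map_of_mem (glAlg (k := k) T).val (x := ⟨t, htB⟩ - 1) ?_
    show Bialgebra.counitAlgHom k A (t - 1) = 0
    rw [map_sub, map_one, Bialgebra.counitAlgHom_apply, (hT t ht).counit_eq_one, sub_self]

theorem isHopfIdeal_glIdeal : (glIdeal T).IsHopfIdeal k := by
  let π := Ideal.Quotient.mkₐ k (glIdeal T)
  have h0 : glIdeal T ≤ RingHom.ker (Bialgebra.counitAlgHom k A) := Ideal.span_le.2 <| by
    rintro _ ⟨t, ht, rfl⟩
    show Bialgebra.counitAlgHom k A (t - 1) = 0
    rw [map_sub, map_one, Bialgebra.counitAlgHom_apply, (hT t ht).counit_eq_one, sub_self]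
  have h1 : glIdeal T ≤ RingHom.ker ((Algebra.TensorProduct.map π π).comp (Bialgebra.comulAlgHom k A)) :=
    Ideal.span_le.2 <| by
      rintro _ ⟨t, ht, rfl⟩
      show Algebra.TensorProduct.map π π (CoalgebraStruct.comul (R := k) (t - 1)) = 0
      have e : π t = 1 := by
        rw [← map_one π]
        exact Ideal.Quotient.eq.2 (Ideal.subset_span ⟨t, ht, rfl⟩)
      rw [map_sub, (hT t ht).comul_eq_tmul_self, Bialgebra.comul_one, map_sub, map_one,
        Algebra.TensorProduct.map_tmul, e, ← Algebra.TensorProduct.one_def, sub_self]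
  have h2 : glIdeal T ≤ (glIdeal T).comap (HopfAlgebra.antipodeAlgHom k A) := Ideal.span_le.2 <| by
    rintro _ ⟨t, ht, rfl⟩
    show HopfAlgebra.antipodeAlgHom k A (t - 1) ∈ glIdeal T
    rw [map_sub, map_one]
    exact sub_one_mem_glIdeal hT (Or.inr ⟨t, ht, rfl⟩)
  exact { counit_eq_zero := fun b hb => h0 hb
          map_mkQ_comul_eq_zero := fun b hb => h1 hb
          antipode_mem := fun b hb => h2 hb }

omit hT

/-- forward direction -/
theorem isUnipotent_quotient [Algebra.FiniteType k A] (hA : HopfRep.IsTrigonalizable k A) (J : Ideal A)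
    [J.IsHopfIdeal k] (hJ : ∀ g : A, IsGroupLikeElem k g → g - 1 ∈ J) : HopfRep.IsUnipotent k (A ⧸ J) := by
  classical
  let π := Bialgebra.Quotient.mkBialgHom (R := k) J
  let i : A →ₗc[k] A ⧸ J := π
  let P : A →ₗ[k] A ⧸ J := (Ideal.Quotient.mkₐ k J).toLinearMap
  have hP : ∀ a, CoalgebraStruct.comul (R := k) (P a) = TensorProduct.map P P (CoalgebraStruct.comul (R := k) a) :=
    fun a => rfl
  have hsub : ∀ U : Submodule k A, HopfRep.IsSubcomod (k := k) (A := A) U →
      HopfRep.IsSubcomod (k := k) (A := A ⧸ J) (U.map P) := by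
    intro U hU
    rintro _ ⟨u, hu, rfl⟩
    obtain ⟨z, hz⟩ := hU u hu
    refine ⟨TensorProduct.map (P.submoduleMap U) P z, ?_⟩
    show _ = CoalgebraStruct.comul (R := k) (P u)
    rw [hP, ← show _ = CoalgebraStruct.comul (R := k) u from hz]
    clear hz
    induction z with
    | zero => simp
    | tmul p q => simp
    | add p q hp hq => simp only [map_add, hp, hq]
  refine Spec.isUnipotent_of_minimal (k := k) (C := A ⧸ J) fun E hE hE0 hmin x hx => ?_
  obtain ⟨x₀, hx₀, hx₀0⟩ := Submodule.exists_mem_ne_zero_of_ne_bot hE0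
  obtain ⟨a, rfl⟩ := Ideal.Quotient.mk_surjective x₀
  suffices key : ∀ n (U : Submodule k A), HopfRep.IsSubcomod (k := k) (A := A) U → Module.Finite k U →
      Module.finrank k U = n → E ≤ U.map P →
      CoalgebraStruct.comul (R := k) x = x ⊗ₜ[k] (1 : A ⧸ J) by
    let U := gen (k := k) (A := A) a
    refine key _ U (isSubcomod_gen a) (finite_gen a) rfl ?_
    rcases hmin _ (isSubcomod_inf hE (hsub U (isSubcomod_gen a))) inf_le_left with e | e
    · exact absurd ((Submodule.mem_bot k).1 (e ▸ ⟨hx₀, a, mem_gen a, rfl⟩)) hx₀0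
    · exact inf_eq_left.1 e
  intro n
  induction n using Nat.strong_induction_on with
  | _ n ih =>
  intro U hU hfin hn hEU
  have hU0 : U ≠ ⊥ := by
    rintro rfl
    rw [Submodule.map_bot, le_bot_iff] at hEU
    exact hE0 hEU
  obtain ⟨U', hle, hU', hfr⟩ := Spec.exists_hyperplane_subcomod hA U hU hfin hU0
  haveI : Module.Finite k U' := Submodule.finiteDimensional_of_le hle
  rcases hmin _ (isSubcomod_inf hE (hsub U' hU')) inf_le_left with e | e
  swap
  · exact ih _ (by omega) U' hU' inferInstance rfl (inf_eq_left.1 e)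
  obtain ⟨v, hv, hv'⟩ := SetLike.exists_of_lt (lt_of_le_of_ne hle fun h => by rw [h] at hfr; omega)
  obtain ⟨f₀, hfv, hf⟩ := Submodule.exists_le_ker_of_notMem hv'
  let f := (f₀ v)⁻¹ • f₀
  have hfv1 : f v = 1 := by simp [f, inv_mul_cancel₀ hfv]
  have hfU' : ∀ u ∈ U', f u = 0 := fun u hu => by
    have : f₀ u = 0 := hf hu
    simp [f, this]
  have hsup : U = U' ⊔ (k ∙ v) := by
    have h1 : U' ⊔ (k ∙ v) ≤ U := sup_le hle ((Submodule.span_singleton_le_iff_mem _ _).2 hv)
    have h2 : U' < U' ⊔ (k ∙ v) :=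
      lt_of_le_of_ne le_sup_left fun h => hv' (h ▸ Submodule.mem_sup_right (Submodule.mem_span_singleton_self v))
    haveI : Module.Finite k ↥(U' ⊔ (k ∙ v)) := Submodule.finiteDimensional_of_le h1
    have h3 := Submodule.finrank_lt_finrank_of_lt h2
    exact (Submodule.eq_of_le_of_finrank_le h1 (by omega)).symm
  let g := cf (A := A) f v
  have hd : CoalgebraStruct.comul (R := k) v - v ⊗ₜ[k] g ∈ LinearMap.range (U'.subtype.rTensor A) := by
    rw [mem_range_rTensor_iff]
    intro h
    rw [map_sub, rc_tmul]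
    have h1 : rc h (CoalgebraStruct.comul (R := k) v) ∈ U := rc_mem_of_mem_range h (hU v hv)
    rw [hsup] at h1
    obtain ⟨w, hw, y, hy, hwy⟩ := Submodule.mem_sup.1 h1
    obtain ⟨c, rfl⟩ := Submodule.mem_span_singleton.1 hy
    have hc : h g = c := by
      rw [show h g = h (lc f (CoalgebraStruct.comul (R := k) v)) from rfl, apply_lc, ← hwy, map_add,
        hfU' w hw, map_smul, hfv1, zero_add, smul_eq_mul, mul_one]
    rw [hc, ← hwy, add_sub_cancel_right]
    exact hw
  obtain ⟨z, hz⟩ := hd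
  have hz' : CoalgebraStruct.comul (R := k) v = U'.subtype.rTensor A z + v ⊗ₜ[k] g := by
    rw [hz, sub_add_cancel]
  have hg : IsGroupLikeElem k g := by
    refine ⟨by rw [counit_cf, hfv1], ?_⟩
    have hzero : ∀ w : U' ⊗[k] A, (cf (A := A) f).rTensor A (U'.subtype.rTensor A w) = 0 := by
      intro w
      induction w with
      | zero => simp
      | tmul p q =>
        have : cf (A := A) f (p : A) = 0 := by
          obtain ⟨y, hy⟩ := hU' p p.2
          rw [cf_apply, ← hy]
          clear hy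
          induction y with
          | zero => simp
          | tmul s t => simp [hfU' s s.2]
          | add s t hs ht => simp only [map_add, hs, ht, add_zero]
        simp [this]
      | add p q hp hq => simp only [map_add, hp, hq, add_zero]
    rw [show g = cf (A := A) f v from rfl, comul_cf]
    show (cf (A := A) f).rTensor A (CoalgebraStruct.comul (R := k) v) = _
    rw [hz', map_add, hzero, zero_add, LinearMap.rTensor_tmul]
  have hPg : P g = 1 := by
    rw [← map_one (Ideal.Quotient.mkₐ k J)]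
    exact Ideal.Quotient.eq.2 (hJ g hg)
  have hlayer : ∀ y ∈ U.map P, CoalgebraStruct.comul (R := k) y - y ⊗ₜ[k] (1 : A ⧸ J) ∈
      LinearMap.range ((U'.map P).subtype.rTensor (A ⧸ J)) := by
    rintro _ ⟨y, hy, rfl⟩
    rw [hsup] at hy
    obtain ⟨w, hw, z₁, hz₁, rfl⟩ := Submodule.mem_sup.1 hy
    obtain ⟨c, rfl⟩ := Submodule.mem_span_singleton.1 hz₁
    have h1 : CoalgebraStruct.comul (R := k) (P w) - P w ⊗ₜ[k] (1 : A ⧸ J) ∈
        LinearMap.range ((U'.map P).subtype.rTensor (A ⧸ J)) :=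
      sub_mem (hsub U' hU' _ ⟨w, hw, rfl⟩) ⟨⟨P w, w, hw, rfl⟩ ⊗ₜ 1, by simp⟩
    have h2 : CoalgebraStruct.comul (R := k) (P v) - P v ⊗ₜ[k] (1 : A ⧸ J) ∈
        LinearMap.range ((U'.map P).subtype.rTensor (A ⧸ J)) := by
      rw [hP, hz', map_add, TensorProduct.map_tmul, hPg, add_sub_cancel_right]
      clear hz hz'
      induction z with
      | zero => simp
      | tmul p q => exact ⟨⟨P p, p, p.2, rfl⟩ ⊗ₜ P q, by simp⟩
      | add p q hp hq => simp only [map_add]; exact add_mem hp hq
    rw [map_add, map_smul, map_add, map_smul, add_tmul, add_sub_add_comm, Spec.smul_sub_tmul c]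
    exact add_mem h1 (Submodule.smul_mem _ c h2)
  rw [← sub_eq_zero]
  refine eq_of_rc fun h => ?_
  rw [map_zero]
  have h1 : CoalgebraStruct.comul (R := k) x - x ⊗ₜ[k] (1 : A ⧸ J) ∈ LinearMap.range (E.subtype.rTensor (A ⧸ J)) :=
    sub_mem (hE x hx) ⟨⟨x, hx⟩ ⊗ₜ 1, by simp⟩
  have : rc h (CoalgebraStruct.comul (R := k) x - x ⊗ₜ[k] (1 : A ⧸ J)) ∈ E ⊓ U'.map P :=
    ⟨rc_mem_of_mem_range h h1, rc_mem_of_mem_range h (hlayer x (hEU hx))⟩
  rwa [e, Submodule.mem_bot] at this

/-- backward direction -/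
theorem isTrigonalizable_of_extension [Algebra.FiniteType k A] {B : Type v} [CommRing B] [HopfAlgebra k B]
    (ψ : B →ₐc[k] A) (J : Ideal A) [J.IsHopfIdeal k] (hB : HopfRep.IsDiagonalizable k B)
    (hJ : J = Ideal.map (ψ : B →+* A) (RingHom.ker (Bialgebra.counitAlgHom k B)))
    (hU : HopfRep.IsUnipotent k (A ⧸ J)) : HopfRep.IsTrigonalizable k A := by
  classical
  haveI : IsNoetherianRing A := Algebra.FiniteType.isNoetherianRing k A
  let T : Set A := (ψ : B → A) '' {g | IsGroupLikeElem k g}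
  have hT : ∀ t ∈ T, IsGroupLikeElem k t := by
    rintro _ ⟨g, hg, rfl⟩
    refine ⟨(CoalgHomClass.counit_comp_apply ψ g).trans hg.counit_eq_one, ?_⟩
    rw [← CoalgHomClass.map_comp_comul_apply ψ g, hg.comul_eq_tmul_self]
    rfl
  have hJT : J = glIdeal T := by
    rw [hJ]
    refine le_antisymm (Ideal.map_le_iff_le_comap.2 fun b hb => ?_) (Ideal.span_le.2 ?_)
    · have key : ∀ y : B, ψ y - algebraMap k A (CoalgebraStruct.counit (R := k) y) ∈ glIdeal T := by
        intro y
        have hy : y ∈ Submodule.span k {g : B | IsGroupLikeElem k g} := by rw [hB]; trivial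
        induction hy using Submodule.span_induction with
        | mem g hg => rw [(hg : IsGroupLikeElem k g).counit_eq_one, map_one]; exact Ideal.subset_span ⟨_, ⟨g, hg, rfl⟩, rfl⟩
        | zero => simp
        | add x y _ _ hx hy => rw [map_add, map_add, map_add, add_sub_add_comm]; exact add_mem hx hy
        | smul c x _ hx =>
          rw [map_smul, map_smul, smul_eq_mul, map_mul, Algebra.smul_def, ← mul_sub]
          exact Ideal.mul_mem_left _ _ hx
      have h := key b
      rw [show CoalgebraStruct.counit (R := k) b = 0 from hb, map_zero, sub_zero] at h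
      exact h
    · rintro _ ⟨_, ⟨g, hg, rfl⟩, rfl⟩
      show ψ g - 1 ∈ Ideal.map (ψ : B →+* A) _
      rw [← map_one (ψ : B →+* A)]
      refine (map_sub (ψ : B →+* A) g 1) ▸ Ideal.mem_map_of_mem (ψ : B →+* A) ?_
      show Bialgebra.counitAlgHom k B (g - 1) = 0
      rw [map_sub, map_one, Bialgebra.counitAlgHom_apply, (hg : IsGroupLikeElem k g).counit_eq_one, sub_self]
  obtain ⟨s, hs, hspan⟩ := (Submodule.fg_span_iff_fg_span_finset_subset _).1
    (IsNoetherian.noetherian (glIdeal T) : (Submodule.span A ((fun t => t - 1) '' T)).FG)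
  let T₀ : Set A := {t | t ∈ T ∧ t - 1 ∈ s}
  have hT₀ : ∀ t ∈ T₀, IsGroupLikeElem k t := fun t ht => hT t ht.1
  have hJ₀ : J = glIdeal T₀ := by
    rw [hJT]
    refine le_antisymm ?_ (Ideal.span_mono (Set.image_mono fun t ht => ht.1))
    show Submodule.span A _ ≤ _
    rw [hspan]
    refine Submodule.span_le.2 fun y hy => ?_
    obtain ⟨t, ht, rfl⟩ := hs hy
    exact Ideal.subset_span ⟨t, ⟨ht, hy⟩, rfl⟩
  have hfin : T₀.Finite :=
    Set.Finite.of_finite_image (f := fun t => t - 1) (s.finite_toSet.subset (by rintro _ ⟨t, ht, rfl⟩; exact ht.2))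
      (sub_left_injective.injOn)
  set B₀ := glAlg (k := k) T₀
  have hB₀ := isSubHopf_glAlg hT₀
  letI := SubHopf.hopfAlgebra hB₀
  haveI : Algebra.FiniteType k B₀ := ⟨(Subalgebra.fg_top B₀).2
    ⟨(hfin.union (hfin.image (HopfAlgebraStruct.antipode (R := k) (A := A)))).toFinset, by simp [B₀, glAlg]⟩⟩
  let φ : B₀ →ₐc[k] A := SubHopf.incl hB₀
  obtain ⟨r, hr, hr1⟩ := Quot.exists_linear_retraction φ Subtype.val_injective
  let π := Bialgebra.Quotient.mkBialgHom (R := k) J
  have hker : RingHom.ker (π : A →ₐ[k] A ⧸ J) =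
      Ideal.map (φ : B₀ →ₐ[k] A) (RingHom.ker (Bialgebra.counitAlgHom k B₀)) :=
    (Ideal.mk_ker.trans hJ₀).trans (map_aug_glAlg hT₀).symm
  intro V _ _ cV hfinV hV
  haveI := hV.1
  letI cJ : HopfRep.Comod k (A ⧸ J) V := push (π : A →ₗc[k] A ⧸ J) cV
  haveI := hfinV
  obtain ⟨v, hv, hv0⟩ := exists_fixed_of_isUnipotent hU V
  let N : Submodule k V :=
    ⨅ φ' : V →ₗ[k] k, B₀.toSubmodule.comap (@cf k _ A _ _ V _ _ _ cV φ')
  have hvN : v ∈ N := by
    refine (Submodule.mem_iInf _).2 fun φ' => ?_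
    have h := Quot.mem_range_of_coinvariant φ r π hker hr hr1 Ideal.Quotient.mk_surjective
      (PrimUni.coeff_coinvariant π hv φ')
    show cf (A := A) φ' v ∈ B₀
    rw [cf_apply, ← h]
    exact (r _).2
  have hN : HopfRep.IsSubcomod (k := k) (A := A) N := by
    rw [isSubcomod_iff]
    intro f u hu
    refine (Submodule.mem_iInf _).2 fun φ' => ?_
    have h1 := IsComodHom.dact (isComodHom_cf (A := A) φ') f u
    show cf (A := A) φ' (dact f u) ∈ B₀
    rw [h1, dact_apply]
    obtain ⟨y, hy⟩ := hB₀.1 _ ((Submodule.mem_iInf _).1 hu φ' : cf (A := A) φ' u ∈ B₀)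
    show rc f (CoalgebraStruct.comul (R := k) (cf (A := A) φ' u)) ∈ B₀
    rw [← hy]
    clear hy
    induction y with
    | zero => simp
    | tmul p q => simp only [TensorProduct.map_tmul, rc_tmul]; exact B₀.smul_mem p.2 _
    | add p q hp hq => simp only [map_add]; exact add_mem hp hq
  have hNtop : N = ⊤ := (hV.2 N hN).resolve_left fun e => hv0 ((Submodule.mem_bot k).1 (e ▸ hvN))
  obtain ⟨j, hj, hinj, hsub, hne, hmin⟩ := Spec.exists_embedding hV
  have hjeq : ∀ u, j u = cf (A := A) ((CoalgebraStruct.counit (R := k) (A := A)) ∘ₗ j) u := by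
    intro u
    rw [← cf_comp hj, cf_apply]
    show j u = TensorProduct.lid k A ((CoalgebraStruct.counit (R := k) (A := A)).rTensor A
      (CoalgebraStruct.comul (R := k) (j u)))
    rw [Coalgebra.rTensor_counit_comul, TensorProduct.lid_tmul, one_smul]
  obtain ⟨x, hx, hx0⟩ := Submodule.exists_mem_ne_zero_of_ne_bot hne
  have hxspan : x ∈ Submodule.span k {a : A | IsGroupLikeElem k a} := by
    obtain ⟨u, rfl⟩ := hx
    rw [hjeq]
    refine Submodule.span_mono (fun a ha => ha.1) (glAlg_le_span hT₀ ?_)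
    exact (Submodule.mem_iInf _).1 (hNtop ▸ Submodule.mem_top : u ∈ N) _
  obtain ⟨c, hcs, hc⟩ := Submodule.mem_span_set.1 hxspan
  obtain ⟨g₀, hg₀⟩ : c.support.Nonempty := by
    rw [Finset.nonempty_iff_ne_empty]
    intro e
    exact hx0 (by rw [← hc, Finsupp.sum, e, Finset.sum_empty])
  have hGL : ∀ a ∈ c.support, IsGroupLikeElem k a := fun a ha => hcs ha
  have hli : LinearIndepOn k id (c.support : Set A) :=
    (linearIndepOn_isGroupLikeElem (R := k) (A := A)).mono fun a ha => hGL a ha
  obtain ⟨f, hf⟩ : ∃ f : A →ₗ[k] k, ∀ a ∈ c.support, f a = if a = g₀ then 1 else 0 := by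
    obtain ⟨f, hf⟩ := LinearMap.exists_extend ((Finsupp.lapply (⟨g₀, hg₀⟩ : (c.support : Set A))).comp
      (LinearIndependent.repr hli))
    refine ⟨f, fun a ha => ?_⟩
    have h1 := LinearMap.congr_fun hf ⟨a, Submodule.subset_span ⟨⟨a, ha⟩, rfl⟩⟩
    simp only [LinearMap.comp_apply, Submodule.subtype_apply] at h1
    rw [h1, LinearIndependent.repr_eq_single hli ⟨a, ha⟩ _ rfl, Finsupp.lapply_apply, Finsupp.single_apply]
    simp
  have hg₀E : g₀ ∈ LinearMap.range j := by
    have h1 := (isSubcomod_iff _).1 hsub f x hx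
    have h2 : dact (V := A) f x = c g₀ • g₀ := by
      rw [← hc, Finsupp.sum, map_sum, Finset.sum_eq_single g₀]
      · rw [map_smul, dact_apply, show HopfRep.Comod.coact (k := k) (A := A) g₀ = g₀ ⊗ₜ[k] g₀ from
          (hGL g₀ hg₀).comul_eq_tmul_self, rc_tmul, hf g₀ hg₀, if_pos rfl, one_smul]
      · intro a ha hne
        rw [map_smul, dact_apply, show HopfRep.Comod.coact (k := k) (A := A) a = a ⊗ₜ[k] a from
          (hGL a ha).comul_eq_tmul_self, rc_tmul, hf a ha, if_neg hne, zero_smul, smul_zero]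
      · exact fun h => absurd hg₀ h
    rw [h2] at h1
    exact (Submodule.smul_mem_iff _ (Finsupp.mem_support_iff.1 hg₀)).1 h1
  have hline : HopfRep.IsSubcomod (k := k) (A := A) (k ∙ g₀) := by
    intro y hy
    obtain ⟨d, rfl⟩ := Submodule.mem_span_singleton.1 hy
    rw [map_smul]
    refine Submodule.smul_mem _ d ⟨⟨g₀, Submodule.mem_span_singleton_self g₀⟩ ⊗ₜ g₀, ?_⟩
    show _ = CoalgebraStruct.comul (R := k) g₀
    rw [(hGL g₀ hg₀).comul_eq_tmul_self]
    rfl
  have hg₀0 : g₀ ≠ 0 := (hGL g₀ hg₀).ne_zero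
  rw [(LinearEquiv.ofInjective j hinj).finrank_eq,
    ← (hmin _ hline ((Submodule.span_singleton_le_iff_mem _ _).2 hg₀E)).resolve_left (by simpa using hg₀0),
    finrank_span_singleton hg₀0]

end Groth.Agent.Comod33.TrigStr
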