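import Groth.Agent.Comod33.CartierReduced
import Groth.Agent.ConstrTop58.Basic
import Mathlib.RingTheory.Spectrum.Prime.Chevalley
import Mathlib.RingTheory.Bialgebra.Hom
import Mathlib.RingTheory.Jacobson.Ring

/-!
Points lift along injective maps of finitely generated Hopf algebras over an algebraically closed field.
-/

universe u v w

open TensorProduct PrimeSpectrum

noncomputable section

namespace Groth.Agent.Comod33.HopfFlat

variable {k : Type u} [Field k] {A : Type v} [CommRing A] [HopfAlgebra k A]
variable {B : Type w} [CommRing B] [HopfAlgebra k B]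

/-- restriction of points -/
def restrPts (φ : A →ₐc[k] B) : WithConv (B →ₐ[k] k) →* WithConv (A →ₐ[k] k) where
  toFun h := WithConv.toConv (h.ofConv.comp (φ : A →ₐ[k] B))
  map_one' := by
    apply WithConv.ofConv_injective
    refine AlgHom.ext fun a => ?_
    simp [AlgHom.convOne_def]
  map_mul' h h' := by
    apply WithConv.ofConv_injective
    exact AlgHom.convMul_comp_bialgHom_distrib h h' φ

theorem comp_transl (u g : A →ₐ[k] k) :
    u.comp (Aug.transl g) = (WithConv.toConv u * WithConv.toConv g).ofConv := by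
  have e : u.comp ((Algebra.ofId k A).comp g) = g := AlgHom.ext fun x => by simp [Algebra.ofId_apply]
  rw [Aug.transl, AlgHom.comp_convMul_distrib, AlgHom.comp_id, e]

theorem eq_of_ker_le {u u' : A →ₐ[k] k} (h : RingHom.ker u ≤ RingHom.ker u') : u = u' := by
  refine AlgHom.ext fun a => ?_
  have hm : a - algebraMap k A (u a) ∈ RingHom.ker u := by simp [RingHom.mem_ker]
  have h2 := h hm
  simp [RingHom.mem_ker, sub_eq_zero] at h2
  exact h2.symm

theorem exists_point_lift_fg [IsAlgClosed k] [Algebra.FiniteType k A] [Algebra.FiniteType k B]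
    (φ : A →ₐc[k] B) (hφ : Function.Injective φ) (g : A →ₐ[k] k) :
    ∃ h : B →ₐ[k] k, h.comp (φ : A →ₐ[k] B) = g := by
  classical
  let f : A →+* B := (φ : A →ₐ[k] B).toRingHom
  have hf : Function.Injective f := hφ
  haveI : IsNoetherianRing A := Algebra.FiniteType.isNoetherianRing k A
  haveI : IsJacobsonRing A := isJacobsonRing_of_finiteType (A := k)
  letI := f.toAlgebra
  haveI : IsScalarTower k A B := IsScalarTower.of_algebraMap_eq fun r => ((φ : A →ₐ[k] B).commutes r).symm
  haveI : Algebra.FiniteType A B := Algebra.FiniteType.of_restrictScalars_finiteType k A B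
  have hfp : f.FinitePresentation :=
    RingHom.finitePresentation_algebraMap.2 (Algebra.FinitePresentation.of_finiteType.1 inferInstance)
  have hX : Topology.IsConstructible (Set.range (comap f)) := isConstructible_range_comap hfp
  -- points in the image lift
  have hlift : ∀ u : A →ₐ[k] k, (⟨RingHom.ker u, RingHom.ker_isPrime _⟩ : PrimeSpectrum A) ∈
      Set.range (comap f) → WithConv.toConv u ∈ (restrPts φ).range := by
    rintro u ⟨q, hq⟩
    obtain ⟨q', hq', hle⟩ := Ideal.exists_le_maximal q.asIdeal q.2.ne_top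
    obtain ⟨h, hh⟩ := Aug.exists_point_ker (k := k) q'
    refine ⟨WithConv.toConv h, WithConv.ofConv_injective (eq_of_ker_le ?_).symm⟩
    intro a ha
    have : f a ∈ q.asIdeal := by
      have e : (comap f q).asIdeal = RingHom.ker u := congrArg PrimeSpectrum.asIdeal hq
      exact (SetLike.ext_iff.1 e a).2 ha
    have := hle this
    rw [hh] at this
    exact this
  -- the interior of the image is dense
  set U := interior (Set.range (comap f)) with hU
  have hmin : ∀ P : PrimeSpectrum A, P.asIdeal ∈ minimalPrimes A → P ∈ U := by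
    intro P hP
    rw [hU, mem_interior_iff_mem_nhds, ConstrTop58.mem_nhds_iff_dense hX]
    intro Y hY hYi hPY
    obtain ⟨η, hη⟩ := QuasiSober.sober hYi hY
    have hle : η ≤ P := (le_iff_specializes η P).2 (hη.specializes hPY)
    have hPη : η = P := le_antisymm hle
      ((show P.asIdeal ≤ η.asIdeal from hP.2 ⟨η.2, bot_le⟩ hle))
    subst hPη
    have hin : η ∈ Set.range (comap f) :=
      ((denseRange_comap_iff_minimalPrimes f).1 ((denseRange_comap_iff_ker_le_nilRadical f).2
        (by rw [(RingHom.injective_iff_ker_eq_bot f).1 hf]; exact bot_le))) η.asIdeal hP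
    rw [← hη.def]
    exact closure_mono (Set.singleton_subset_iff.2 ⟨hin, subset_closure rfl⟩)
  have hopen : IsOpen U := isOpen_interior
  -- it meets each of its translates
  let T : A ≃ₐ[k] A := Aug.translEquiv g
  let W : Set (PrimeSpectrum A) := U ∩ comap (T : A →ₐ[k] A).toRingHom ⁻¹' U
  have hW : IsOpen W := hopen.inter (hopen.preimage (continuous_comap _))
  obtain ⟨z, hz⟩ : W.Nonempty := by
    haveI : (RingHom.ker g).IsPrime := RingHom.ker_isPrime _
    obtain ⟨P, hP, -⟩ := Ideal.exists_minimalPrimes_le (J := RingHom.ker g) (I := (⊥ : Ideal A)) bot_le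
    let P' : PrimeSpectrum A := ⟨P, hP.1.1⟩
    -- a prime in the translate of the open set
    let Q : PrimeSpectrum A := comap (T.symm : A →ₐ[k] A).toRingHom P'
    obtain ⟨R, hR, hRQ⟩ := Ideal.exists_minimalPrimes_le (J := Q.asIdeal) (I := (⊥ : Ideal A)) bot_le
    let R' : PrimeSpectrum A := ⟨R, hR.1.1⟩
    have hspec : R' ⤳ Q := (le_iff_specializes R' Q).1 hRQ
    have hQT : comap (T : A →ₐ[k] A).toRingHom Q = P' :=
      PrimeSpectrum.ext (Ideal.ext fun a => by simp [Q])
    exact ⟨R', hmin R' hR, hspec.mem_open (hopen.preimage (continuous_comap _))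
      (by rw [Set.mem_preimage, hQT]; exact hmin P' hP)⟩
  obtain ⟨_, ⟨a, rfl⟩, haz, haW⟩ :=
    isTopologicalBasis_basic_opens.exists_subset_of_mem_open hz hW
  obtain ⟨J, hJ, haJ⟩ : ∃ J : Ideal A, J.IsMaximal ∧ a ∉ J := by
    by_contra hno
    push Not at hno
    have hn : a ∈ nilradical A := by
      rw [nilradical, Ideal.radical_eq_jacobson, Ideal.jacobson, Ideal.mem_sInf]
      exact fun {J} hJ => hno J hJ.2
    exact haz (nilpotent_iff_mem_prime.1 (mem_nilradical.1 hn) z.asIdeal z.2)
  obtain ⟨u, hu⟩ := Aug.exists_point_ker (k := k) J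
  have huW : (⟨RingHom.ker u, RingHom.ker_isPrime _⟩ : PrimeSpectrum A) ∈ W := haW (by
    simp only [PrimeSpectrum.mem_basicOpen, SetLike.mem_coe]
    rwa [← hu])
  have h1 := hlift u (interior_subset huW.1)
  have h2 := hlift (u.comp (Aug.transl g)) (by
    convert interior_subset huW.2 using 2
    ext x; simp [T, Aug.translEquiv])
  rw [comp_transl, WithConv.toConv_ofConv] at h2
  have h3 : WithConv.toConv g ∈ (restrPts φ).range := by
    simpa using mul_mem (inv_mem h1) h2
  obtain ⟨h, hh⟩ := h3
  exact ⟨h.ofConv, congrArg WithConv.ofConv hh⟩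

end Groth.Agent.Comod33.HopfFlat
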