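import Groth.Agent.Comod33.Avg

/-!
Complements of subcomodules from a total integral with values in the base ring.
-/

universe u v w

open TensorProduct

noncomputable section

namespace Groth.Agent.Comod33.Avg

variable {k : Type u} [CommRing k] {A : Type v} [CommRing A] [HopfAlgebra k A] [Module.Free k A]

theorem exists_isCompl_of_integral (α : A →ₗ[k] k)
    (hα : @Hoch.IsComodHom k _ A _ _ _ A _ _ _ k _ _ (HopfRep.Comod.trivial k A k) α) (h1 : α 1 = 1)
    (V : Type w) [AddCommGroup V] [Module k V] [HopfRep.Comod k A V]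
    (W : Submodule k V) (hW : HopfRep.IsSubcomod (k := k) (A := A) W) (hsplit : ∃ W', IsCompl W W') :
    ∃ W'' : Submodule k V, HopfRep.IsSubcomod (k := k) (A := A) W'' ∧ IsCompl W W'' := by
  obtain ⟨W', hc⟩ := hsplit
  letI : HopfRep.Comod k A k := HopfRep.Comod.trivial k A k
  haveI : TameAct.IsHopfMod k A k V := ⟨fun b m => by
    show HopfRep.Comod.coact (k := k) (A := A) (b • m) = TameAct.hmSMul k A k V (b ⊗ₜ[k] (1 : A)) _
    rw [map_smul]
    generalize HopfRep.Comod.coact (k := k) (A := A) m = x
    induction x with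
    | zero => simp
    | tmul p q => simp [TensorProduct.smul_tmul']
    | add p q hp hq => simp only [map_add, smul_add, hp, hq]⟩
  let p : V →ₗ[k] V := W.subtype ∘ₗ Submodule.projectionOnto _ _ hc
  let p' : V →ₗ[k] V := avgMap (M := V) α p
  have hp' : Hoch.IsComodHom A p' := isComodHom_avgMap hα p
  have hfix : ∀ w ∈ W, p' w = w := by
    intro w hw
    obtain ⟨y, hy⟩ := hW w hw
    have : p.rTensor A (HopfRep.Comod.coact (k := k) (A := A) w) =
        HopfRep.Comod.coact (k := k) (A := A) w := by
      rw [← hy, ← LinearMap.comp_apply, ← LinearMap.rTensor_comp]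
      congr 2
      ext ⟨x, hx⟩
      simp [p, Submodule.projectionOnto_apply_left hc ⟨x, hx⟩]
    show avg α (p.rTensor A (HopfRep.Comod.coact (k := k) (A := A) w)) = w
    rw [this, avg_coact h1]
  have hmem : ∀ v, p' v ∈ W := by
    intro v
    show avg α (p.rTensor A (HopfRep.Comod.coact (k := k) (A := A) v)) ∈ W
    generalize HopfRep.Comod.coact (k := k) (A := A) v = x
    induction x with
    | zero => simp
    | tmul a b =>
      rw [LinearMap.rTensor_tmul]
      exact avg_mem (U := W) hW α (Submodule.projectionOnto _ _ hc a).2 b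
    | add a b ha hb => rw [map_add, map_add]; exact W.add_mem ha hb
  refine ⟨LinearMap.ker p', isSubcomod_ker hp', ?_⟩
  exact (LinearMap.IsProj.mk hmem hfix).isCompl

end Groth.Agent.Comod33.Avg
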