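import Groth.Agent.Comod33.Reductive
import Groth.Agent.S16471
import Groth.Prelude.Def_ComodTens
import Groth.Prelude.Def_ComodDual

/-!
The comodule of linear maps between two comodules, and exactness of invariants.
-/

universe u v w w'

open TensorProduct

noncomputable section

namespace Groth.Agent.Comod33

section Basic

variable {k : Type u} [Field k] {A : Type v} [CommRing A] [HopfAlgebra k A]

/-- multiply the two algebra components -/
def mulR (W : Type w) [AddCommGroup W] [Module k W] : (W ⊗[k] A) ⊗[k] A →ₗ[k] W ⊗[k] A :=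
  (LinearMap.mul' k A).lTensor W ∘ₗ (TensorProduct.assoc k W A A).toLinearMap

@[simp] theorem mulR_tmul {W : Type w} [AddCommGroup W] [Module k W] (w : W) (a b : A) :
    mulR (k := k) W ((w ⊗ₜ[k] a) ⊗ₜ[k] b) = w ⊗ₜ[k] (a * b) := by
  simp [mulR]

theorem mulR_rTensor {W X : Type w} [AddCommGroup W] [Module k W] [AddCommGroup X] [Module k X]
    (g : W →ₗ[k] X) (t : (W ⊗[k] A) ⊗[k] A) :
    mulR (k := k) X ((g.rTensor A).rTensor A t) = g.rTensor A (mulR (k := k) W t) := by
  induction t with
  | zero => simp
  | add x y hx hy => simp only [map_add, hx, hy]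
  | tmul x b =>
    induction x with
    | zero => simp
    | add x y hx hy => simp only [map_add, add_tmul, hx, hy]
    | tmul m a => simp

variable {V W U : Type w} [AddCommGroup V] [Module k V] [HopfRep.Comod k A V]
  [AddCommGroup W] [Module k W] [HopfRep.Comod k A W]
  [AddCommGroup U] [Module k U] [HopfRep.Comod k A U]

/-- read a tensor of maps and scalars as a map into the tensor product -/
abbrev homT : (V →ₗ[k] W) ⊗[k] A →ₗ[k] V →ₗ[k] W ⊗[k] A :=
  TensorProduct.rTensorHomToHomRTensor (RingHom.id k) V W A

open HopfRep in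
/-- `v ↦ Σ φ(v₀)₀ ⊗ φ(v₀)₁ S(v₁)` -/
def conjFun (φ : V →ₗ[k] W) : V →ₗ[k] W ⊗[k] A :=
  mulR W ∘ₗ TensorProduct.map (Comod.coact (k := k) (A := A) ∘ₗ φ)
    (HopfAlgebraStruct.antipode (R := k) (A := A)) ∘ₗ Comod.coact (k := k) (A := A)

omit [HopfRep.Comod k A V] [HopfRep.Comod k A W] in
theorem rTensorHom_injective :
    Function.Injective (homT (k := k) (A := A) (V := V) (W := W)) := by
  intro x y h
  refine eq_of_rc fun f => LinearMap.ext fun v => ?_
  have hv : ∀ z : (V →ₗ[k] W) ⊗[k] A, rc f z v = rc f (homT z v) := by
    intro z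
    induction z with
    | zero => simp
    | add p q hp hq => simp only [map_add, LinearMap.add_apply, hp, hq]
    | tmul φ a => simp
  rw [hv, hv, h]

open HopfRep in
theorem mulR_map_coact_antipode (v : V) :
    mulR V (TensorProduct.map (Comod.coact (k := k) (A := A))
      (HopfAlgebraStruct.antipode (R := k) (A := A)) (Comod.coact (k := k) (A := A) v)) =
      v ⊗ₜ[k] (1 : A) := by
  let μ := LinearMap.mul' k A ∘ₗ (HopfAlgebraStruct.antipode (R := k) (A := A)).lTensor A
  have h1 : ∀ t : V ⊗[k] A, mulR V (TensorProduct.map (Comod.coact (k := k) (A := A))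
      (HopfAlgebraStruct.antipode (R := k) (A := A)) t) =
      μ.lTensor V (TensorProduct.assoc k V A A ((Comod.coact (k := k) (A := A)).rTensor A t)) := by
    intro t
    induction t with
    | zero => simp
    | add x y hx hy => simp only [map_add, hx, hy]
    | tmul n b =>
      simp only [map_tmul, LinearMap.rTensor_tmul]
      generalize Comod.coact (k := k) (A := A) n = s
      induction s with
      | zero => simp
      | add x y hx hy => simp only [map_add, add_tmul, hx, hy]
      | tmul m a => simp [μ]
  rw [h1, coassoc_apply]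
  have hμ : μ ∘ₗ CoalgebraStruct.comul (R := k) (A := A) =
      Algebra.linearMap k A ∘ₗ CoalgebraStruct.counit := by
    ext a
    simp [μ, HopfAlgebra.mul_antipode_lTensor_comul_apply]
  rw [← LinearMap.comp_apply, ← LinearMap.lTensor_comp, hμ, LinearMap.lTensor_comp,
    LinearMap.comp_apply, counit_apply]
  simp

open HopfRep in
theorem conjFun_of_isComodHom {φ : V →ₗ[k] W} (hφ : Hoch.IsComodHom A φ) (v : V) :
    conjFun (A := A) φ v = φ v ⊗ₜ[k] (1 : A) := by
  simp only [conjFun, LinearMap.comp_apply]
  rw [show Comod.coact (k := k) (A := A) ∘ₗ φ = φ.rTensor A ∘ₗ Comod.coact (k := k) (A := A) from hφ,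
    ← LinearMap.comp_apply, ← LinearMap.comp_id (HopfAlgebraStruct.antipode (R := k) (A := A)),
    LinearMap.comp_apply]
  have : ∀ t : V ⊗[k] A, TensorProduct.map (φ.rTensor A ∘ₗ Comod.coact (k := k) (A := A))
      (HopfAlgebraStruct.antipode (R := k) (A := A)) t = (φ.rTensor A).rTensor A
        (TensorProduct.map (Comod.coact (k := k) (A := A))
          (HopfAlgebraStruct.antipode (R := k) (A := A)) t) := by
    intro t
    induction t with
    | zero => simp
    | add x y hx hy => simp only [map_add, hx, hy]
    | tmul n b => simp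
  rw [LinearMap.comp_id, this, mulR_rTensor, mulR_map_coact_antipode]
  simp

open HopfRep in
theorem isComodHom_of_conjFun {φ : V →ₗ[k] W}
    (h : ∀ v, conjFun (A := A) φ v = φ v ⊗ₜ[k] (1 : A)) : Hoch.IsComodHom A φ := by
  ext v
  simp only [LinearMap.comp_apply]
  let ν := LinearMap.mul' k A ∘ₗ (HopfAlgebraStruct.antipode (R := k) (A := A)).rTensor A
  let G : V ⊗[k] (A ⊗[k] A) →ₗ[k] W ⊗[k] A :=
    mulR W ∘ₗ TensorProduct.map (Comod.coact (k := k) (A := A) ∘ₗ φ) ν
  have h2 : mulR W ((conjFun (A := A) φ).rTensor A (Comod.coact (k := k) (A := A) v)) =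
      G (TensorProduct.assoc k V A A
        ((Comod.coact (k := k) (A := A)).rTensor A (Comod.coact (k := k) (A := A) v))) := by
    generalize Comod.coact (k := k) (A := A) v = t
    induction t with
    | zero => simp
    | add x y hx hy => simp only [map_add, hx, hy]
    | tmul n b =>
      simp only [LinearMap.rTensor_tmul, conjFun, LinearMap.comp_apply]
      generalize Comod.coact (k := k) (A := A) n = s
      induction s with
      | zero => simp
      | add x y hx hy => simp only [map_add, add_tmul, hx, hy]
      | tmul m a =>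
        simp only [G, ν, assoc_tmul, map_tmul, LinearMap.comp_apply, LinearMap.rTensor_tmul,
          LinearMap.mul'_apply]
        generalize Comod.coact (k := k) (A := A) (φ m) = r
        induction r with
        | zero => simp
        | add x y hx hy => simp only [map_add, add_tmul, hx, hy]
        | tmul p q => simp [mul_assoc]
  have h3 : mulR W ((conjFun (A := A) φ).rTensor A (Comod.coact (k := k) (A := A) v)) =
      φ.rTensor A (Comod.coact (k := k) (A := A) v) := by
    generalize Comod.coact (k := k) (A := A) v = t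
    induction t with
    | zero => simp
    | add x y hx hy => simp only [map_add, hx, hy]
    | tmul n b => simp [h]
  rw [← h3, h2, coassoc_apply]
  have h4 : ∀ t : V ⊗[k] A, G ((CoalgebraStruct.comul (R := k) (A := A)).lTensor V t) =
      Comod.coact (k := k) (A := A) (φ (TensorProduct.rid k V
        ((CoalgebraStruct.counit (R := k) (A := A)).lTensor V t))) := by
    intro t
    induction t with
    | zero => simp
    | add x y hx hy => simp only [map_add, hx, hy]
    | tmul n a =>
      simp only [G, ν, LinearMap.lTensor_tmul, LinearMap.comp_apply, map_tmul,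
        HopfAlgebra.mul_antipode_rTensor_comul_apply, rid_tmul, map_smul]
      generalize Comod.coact (k := k) (A := A) (φ n) = r
      induction r with
      | zero => simp
      | add x y hx hy => simp only [map_add, add_tmul, smul_add, hx, hy]
      | tmul p q => simp [Algebra.algebraMap_eq_smul_one, smul_tmul']
  rw [h4, counit_apply]
  simp

theorem isComodHom_iff_conjFun (φ : V →ₗ[k] W) :
    Hoch.IsComodHom A φ ↔ ∀ v, conjFun (A := A) φ v = φ v ⊗ₜ[k] (1 : A) :=
  ⟨conjFun_of_isComodHom, isComodHom_of_conjFun⟩

variable [Module.Finite k V] [Module.Finite k U]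

/-- the chosen structure on the dual -/
@[instance_reducible] def dualComod : HopfRep.Comod k A (Module.Dual k V) :=
  (Groth.Agent.S16471.result k A V inferInstance).choose

theorem isDual_dualComod :
    ComodTens.Comod.IsDual (inferInstance : HopfRep.Comod k A V) (dualComod (A := A)) :=
  (Groth.Agent.S16471.result k A V inferInstance).choose_spec

/-- the comodule of linear maps -/
@[reducible] def homComod : HopfRep.Comod k A (V →ₗ[k] W) :=
  ComodTens.Comod.ofEquiv (dualTensorHomEquiv (R := k) (M := V) (N := W))
    (ComodTens.Comod.tensor (dualComod (A := A)) (inferInstance : HopfRep.Comod k A W))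

open HopfRep in
theorem homComod_spec (φ : V →ₗ[k] W) (v : V) :
    homT ((homComod (A := A) (V := V) (W := W)).coact φ) v = conjFun (A := A) φ v := by
  obtain ⟨z, rfl⟩ := (dualTensorHomEquiv (R := k) (M := V) (N := W)).surjective φ
  rw [ComodTens.ofEquiv_coact_apply]
  induction z with
  | zero => simp [conjFun]
  | add x y hx hy =>
    simp only [map_add, LinearMap.add_apply, hx, hy, conjFun, LinearMap.comp_apply,
      LinearMap.comp_add, TensorProduct.map_add_left]
  | tmul f w =>
    rw [ComodTens.tensor_coact_tmul]
    have key : ∀ (x : Module.Dual k V ⊗[k] A) (y : W ⊗[k] A),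
        homT ((dualTensorHomEquiv (R := k) (M := V) (N := W)).toLinearMap.rTensor A
          (TensorProduct.map LinearMap.id (LinearMap.mul' k A)
            (AlgebraTensorModule.tensorTensorTensorComm k k k k (Module.Dual k V) A W A (x ⊗ₜ[k] y)))) v =
        mulR W (y ⊗ₜ[k] dualTensorHom k V A x v) := by
      intro x y
      induction x with
      | zero => simp
      | add x y hx hy => simp only [map_add, add_tmul, tmul_add, LinearMap.add_apply, hx, hy]
      | tmul g a =>
        induction y with
        | zero => simp
        | add x y hx hy => simp only [map_add, add_tmul, tmul_add, LinearMap.add_apply, hx, hy]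
        | tmul m b => simp [dualTensorHomEquiv, smul_tmul, tmul_smul, mul_comm]
    rw [key, isDual_dualComod (A := A) f, ComodTens.dualCoactFun_apply]
    simp only [conjFun, LinearMap.comp_apply]
    generalize Comod.coact (k := k) (A := A) v = t
    induction t with
    | zero => simp
    | add x y hx hy => simp only [map_add, tmul_add, hx, hy]
    | tmul n b => simp [dualTensorHomEquiv, smul_tmul', tmul_smul]

theorem coact_hom_eq_iff (φ : V →ₗ[k] W) :
    (homComod (A := A) (V := V) (W := W)).coact φ = φ ⊗ₜ[k] (1 : A) ↔ Hoch.IsComodHom A φ := by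
  rw [isComodHom_iff_conjFun, ← rTensorHom_injective.eq_iff, LinearMap.ext_iff]
  refine forall_congr' fun v => ?_
  rw [homComod_spec]
  simp

open HopfRep in
theorem isComodHom_lcomp {g : U →ₗ[k] V} (hg : Hoch.IsComodHom A g) :
    @Hoch.IsComodHom k _ A _ _ _ (V →ₗ[k] W) _ _ (homComod (A := A)) (U →ₗ[k] W) _ _
      (homComod (A := A)) (g.lcomp k W) := by
  refine LinearMap.ext fun φ => rTensorHom_injective (LinearMap.ext fun u => ?_)
  simp only [LinearMap.comp_apply]
  have hx : ∀ x : (V →ₗ[k] W) ⊗[k] A,
      homT ((g.lcomp k W).rTensor A x) u = homT x (g u) := by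
    intro x
    induction x with
    | zero => simp
    | add x y hx hy => simp only [map_add, LinearMap.add_apply, hx, hy]
    | tmul ψ a => simp
  rw [hx, homComod_spec, homComod_spec]
  simp only [conjFun, LinearMap.comp_apply]
  rw [show Comod.coact (k := k) (A := A) (g u) =
    g.rTensor A (Comod.coact (k := k) (A := A) u) from LinearMap.congr_fun hg u]
  congr 1
  generalize Comod.coact (k := k) (A := A) u = t
  induction t with
  | zero => simp
  | add x y hx hy => simp only [map_add, hx, hy]
  | tmul n b => simp

end Basic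

section Exact

variable {k : Type u} [Field k] {A : Type v} [CommRing A] [HopfAlgebra k A]

theorem isLinearlyReductive_of_exact
    (hex : ∀ (X Y : Type v) [AddCommGroup X] [Module k X] [HopfRep.Comod k A X]
      [AddCommGroup Y] [Module k Y] [HopfRep.Comod k A Y], Module.Finite k X → Module.Finite k Y →
      ∀ (φ : X →ₗ[k] Y), Hoch.IsComodHom A φ → Function.Surjective φ →
        ∀ y ∈ HopfRep.fixedPts k A Y, ∃ x ∈ HopfRep.fixedPts k A X, φ x = y) :
    HopfRep.IsLinearlyReductive k A := by
  intro V _ _ _ hfin U hU
  haveI := hfin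
  letI : HopfRep.Comod k A U := ComodSub.Comod.restr inferInstance U hU
  have hι : Hoch.IsComodHom A U.subtype := ComodSub.isComodHom_subtype inferInstance U hU
  letI i1 : HopfRep.Comod k A (V →ₗ[k] U) := homComod
  letI i2 : HopfRep.Comod k A (U →ₗ[k] U) := homComod
  obtain ⟨p, hp⟩ := U.subtype.exists_leftInverse_of_injective U.ker_subtype
  have hsurj : Function.Surjective (U.subtype.lcomp k U) := fun ψ => ⟨ψ ∘ₗ p, by
    ext u
    have := LinearMap.congr_fun hp u
    simp only [LinearMap.comp_apply, LinearMap.id_apply] at this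
    exact congrArg (fun x => ((ψ x : U) : V)) this⟩
  obtain ⟨r, hr, hr'⟩ := hex (V →ₗ[k] U) (U →ₗ[k] U) inferInstance inferInstance _
    (isComodHom_lcomp hι) hsurj LinearMap.id
    ((coact_hom_eq_iff _).2 isComodHom_id)
  refine ⟨LinearMap.ker r, isSubcomod_ker ((coact_hom_eq_iff r).1 hr), ?_⟩
  exact LinearMap.isCompl_of_proj fun u => LinearMap.congr_fun hr' u

end Exact

section Fixed

variable {k : Type u} [Field k] {A : Type v} [CommRing A] [Bialgebra k A]

theorem map_mem_fixedPts {V : Type w} {W : Type w'} [AddCommGroup V] [Module k V] [HopfRep.Comod k A V]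
    [AddCommGroup W] [Module k W] [HopfRep.Comod k A W] {φ : V →ₗ[k] W} (hφ : Hoch.IsComodHom A φ)
    {v : V} (hv : v ∈ HopfRep.fixedPts k A V) : φ v ∈ HopfRep.fixedPts k A W := by
  show HopfRep.Comod.coact (k := k) (A := A) (φ v) = φ v ⊗ₜ[k] (1 : A)
  rw [show HopfRep.Comod.coact (k := k) (A := A) (φ v) =
    φ.rTensor A (HopfRep.Comod.coact (k := k) (A := A) v) from LinearMap.congr_fun hφ v, hv]
  rfl

theorem exists_section (h : HopfRep.IsLinearlyReductive k A) {V : Type v} {W : Type w} [AddCommGroup V]
    [Module k V] [HopfRep.Comod k A V] [AddCommGroup W] [Module k W] [HopfRep.Comod k A W]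
    {f : V →ₗ[k] W} (hf : Hoch.IsComodHom A f) (hsurj : Function.Surjective f) :
    ∃ s : W →ₗ[k] V, Hoch.IsComodHom A s ∧ ∀ w, f (s w) = w := by
  have := isSemisimpleModule_of_isLinearlyReductive h V
  obtain ⟨g, hg⟩ := IsSemisimpleModule.lifting_property (M := V) (toDualLinear (k := k) (A := A) f hf) hsurj
    (LinearMap.id)
  exact ⟨g.restrictScalars k, isComodHom_restrictScalars g, fun w => LinearMap.congr_fun hg w⟩

theorem exact_fixedPts (h : HopfRep.IsLinearlyReductive k A) {V : Type v} {W : Type w} [AddCommGroup V]
    [Module k V] [HopfRep.Comod k A V] [AddCommGroup W] [Module k W] [HopfRep.Comod k A W]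
    {f : V →ₗ[k] W} (hf : Hoch.IsComodHom A f) (hsurj : Function.Surjective f) {w : W}
    (hw : w ∈ HopfRep.fixedPts k A W) : ∃ v ∈ HopfRep.fixedPts k A V, f v = w := by
  obtain ⟨s, hs, hs'⟩ := exists_section h hf hsurj
  exact ⟨s w, map_mem_fixedPts hs hw, hs' w⟩

end Fixed

end Groth.Agent.Comod33
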