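import Groth.Agent.Comod33.HopfProj
import Groth.Agent.Comod33.AvgSplit
import Groth.Agent.Comod33.HomComod
import Groth.Agent.Comod33.Push
import Groth.Agent.Comod33.Coeff
import Groth.Agent.Comod33.Points
import Groth.Agent.LinRed34.Basic
import Groth.Agent.Hopf35.Basic

/-!
Linear reductivity in exact sequences of affine groups.
-/

universe u v

open TensorProduct

noncomputable section

namespace Groth.Agent.Comod33.Quot

section Integral

variable {k : Type u} [Field k] {A : Type v} [CommRing A] [HopfAlgebra k A]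

theorem exists_invariant_functional (hG : HopfRep.IsLinearlyReductive k A) :
    ∃ J : A →ₗ[k] k, J 1 = 1 ∧ ∀ a, TensorProduct.lid k A (J.rTensor A (CoalgebraStruct.comul (R := k) a)) =
      J a • (1 : A) := by
  refine ⟨CoalgebraStruct.counit (R := k) ∘ₗ LinRed34.rey k A A hG, ?_, fun a => ?_⟩
  · have h1 : (1 : A) ∈ HopfRep.fixedPts k A A := by
      show CoalgebraStruct.comul (R := k) (1 : A) = (1 : A) ⊗ₜ[k] (1 : A)
      rw [Bialgebra.comul_one, Algebra.TensorProduct.one_def]
    rw [LinearMap.comp_apply, LinRed34.rey_of_fixed hG h1, Bialgebra.counit_one]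
  · refine Module.eval_apply_injective k (LinearMap.ext fun f => ?_)
    show f _ = f _
    have h2 : LinRed34.rey k A A hG (dact f a) = f 1 • LinRed34.rey k A A hG a := by
      rw [← (LinRed34.mem_fixedPts_iff _).1 (LinRed34.rey_mem hG a) f]
      exact map_smul (((LinRed34.fixedΛ k A A).subtype ∘ₗ
        Submodule.projectionOnto _ _ (LinRed34.isCompl_compl hG)) : A →ₗ[WithConv (A →ₗ[k] k)] A)
        (WithConv.toConv f) a
    have h3 : ∀ z : A ⊗[k] A, ∀ J : A →ₗ[k] k,
        f (TensorProduct.lid k A (J.rTensor A z)) = J (rc f z) := by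
      intro z J
      induction z with
      | zero => simp
      | add p q hp hq => simp only [map_add, hp, hq]
      | tmul p q => simp [mul_comm]
    rw [h3]
    show CoalgebraStruct.counit (R := k) (LinRed34.rey k A A hG (dact f a)) = _
    rw [h2, map_smul, map_smul, smul_eq_mul, smul_eq_mul, mul_comm]
    rfl

theorem isLinearlyReductive_of_functional (J : A →ₗ[k] k) (h1 : J 1 = 1)
    (hJ : ∀ a, TensorProduct.lid k A (J.rTensor A (CoalgebraStruct.comul (R := k) a)) = J a • (1 : A)) :
    HopfRep.IsLinearlyReductive k A := by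
  intro V _ _ _ _ W hW
  refine Avg.exists_isCompl_of_integral J ?_ h1 V W hW (Submodule.exists_isCompl W)
  refine LinearMap.ext fun a => (TensorProduct.lid k A).injective ?_
  show TensorProduct.lid k A (J a ⊗ₜ[k] (1 : A)) = TensorProduct.lid k A (J.rTensor A (CoalgebraStruct.comul (R := k) a))
  rw [hJ, TensorProduct.lid_tmul]

theorem antipode_antipode (a : A) :
    HopfAlgebraStruct.antipode (R := k) (HopfAlgebraStruct.antipode (R := k) a) = a := by
  let S := HopfAlgebra.antipodeAlgHom k A
  have h1 : WithConv.toConv (AlgHom.id k A) * WithConv.toConv S = 1 :=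
    mul_eq_one_comm.1 AlgHom.antipode_id_cancel
  have h2 : WithConv.toConv S * WithConv.toConv (S.comp S) = 1 := by
    apply WithConv.ofConv_injective
    have := AlgHom.comp_convMul_distrib S (WithConv.toConv (AlgHom.id k A)) (WithConv.toConv S)
    rw [h1] at this
    refine this.symm.trans (AlgHom.ext fun x => ?_)
    simp only [AlgHom.convOne_def, AlgHom.comp_apply]
    exact S.commutes _
  exact (DFunLike.congr_fun (congrArg WithConv.ofConv (left_inv_eq_right_inv h1 h2)) a).symm

theorem exists_left_invariant_functional (hG : HopfRep.IsLinearlyReductive k A) :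
    ∃ J : A →ₗ[k] k, J 1 = 1 ∧ ∀ a, TensorProduct.rid k A (J.lTensor A (CoalgebraStruct.comul (R := k) a)) =
      J a • (1 : A) := by
  obtain ⟨J, h1, hJ⟩ := exists_invariant_functional hG
  refine ⟨J ∘ₗ HopfAlgebraStruct.antipode (R := k), by rw [LinearMap.comp_apply, HopfAlgebra.antipode_one, h1],
    fun a => ?_⟩
  have h := hJ (HopfAlgebraStruct.antipode (R := k) a)
  rw [Hopf35.comul_antipode] at h
  have h' : HopfAlgebraStruct.antipode (R := k) (TensorProduct.rid k A
      ((J ∘ₗ HopfAlgebraStruct.antipode (R := k)).lTensor A (CoalgebraStruct.comul (R := k) a))) =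
      J (HopfAlgebraStruct.antipode (R := k) a) • (1 : A) := by
    rw [← h]
    generalize CoalgebraStruct.comul (R := k) a = z
    induction z with
    | zero => simp
    | add p q hp hq => simp only [map_add, hp, hq]
    | tmul p q => simp
  have h2 := congrArg (HopfAlgebraStruct.antipode (R := k)) h'
  rwa [antipode_antipode, map_smul, HopfAlgebra.antipode_one] at h2

end Integral

variable {k : Type u} [Field k] {AQ AG AK : Type v} [CommRing AQ] [HopfAlgebra k AQ]
  [Algebra.FiniteType k AQ] [CommRing AG] [HopfAlgebra k AG] [Algebra.FiniteType k AG]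
  [CommRing AK] [HopfAlgebra k AK]

theorem map_antipode (φ : AQ →ₐc[k] AG) (a : AQ) :
    φ (HopfAlgebraStruct.antipode (R := k) a) = HopfAlgebraStruct.antipode (R := k) (φ a) := by
  have h1 : WithConv.toConv ((φ : AQ →ₐ[k] AG).comp (HopfAlgebra.antipodeAlgHom k AQ)) *
      WithConv.toConv (φ : AQ →ₐ[k] AG) = 1 := by
    apply WithConv.ofConv_injective
    have := AlgHom.comp_convMul_distrib (φ : AQ →ₐ[k] AG)
      (WithConv.toConv (HopfAlgebra.antipodeAlgHom k AQ)) (WithConv.toConv (AlgHom.id k AQ))
    rw [show WithConv.toConv (HopfAlgebra.antipodeAlgHom k AQ) * WithConv.toConv (AlgHom.id k AQ) = 1 from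
      AlgHom.antipode_id_cancel] at this
    refine this.symm.trans (AlgHom.ext fun x => ?_)
    simp only [AlgHom.convOne_def, AlgHom.comp_apply]
    exact (φ : AQ →ₐ[k] AG).commutes _
  have h2 : WithConv.toConv (φ : AQ →ₐ[k] AG) *
      WithConv.toConv ((HopfAlgebra.antipodeAlgHom k AG).comp (φ : AQ →ₐ[k] AG)) = 1 := by
    apply WithConv.ofConv_injective
    have := AlgHom.convMul_comp_bialgHom_distrib (WithConv.toConv (AlgHom.id k AG))
      (WithConv.toConv (HopfAlgebra.antipodeAlgHom k AG)) φ
    rw [show WithConv.toConv (AlgHom.id k AG) * WithConv.toConv (HopfAlgebra.antipodeAlgHom k AG) = 1 from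
      mul_eq_one_comm.1 AlgHom.antipode_id_cancel] at this
    refine this.symm.trans (AlgHom.ext fun x => ?_)
    simp [AlgHom.convOne_def]
  exact DFunLike.congr_fun (congrArg WithConv.ofConv (left_inv_eq_right_inv h1 h2)) a

theorem exists_linear_retraction (φ : AQ →ₐc[k] AG) (hφ : Function.Injective φ) :
    ∃ r : AG →ₗ[k] AQ, (∀ a x, r (φ a * x) = a * r x) ∧ r 1 = 1 := by
  letI : Algebra AQ AG := (φ : AQ →+* AG).toAlgebra
  haveI : IsScalarTower k AQ AG := IsScalarTower.of_algebraMap_eq fun c => ((φ : AQ →ₐ[k] AG).commutes c).symm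
  haveI : IsNoetherianRing AQ := Algebra.FiniteType.isNoetherianRing k AQ
  obtain ⟨r, hr⟩ := HopfFlat.exists_retraction (k := k) (A := AQ) (B := AG)
    (fun a => (CoalgHomClass.map_comp_comul_apply φ a).symm)
    (fun a => CoalgHomClass.counit_comp_apply φ a) hφ
    (fun p hp => haveI := hp.isPrime; HopfFlat.exists_prime_over φ hφ p)
  refine ⟨r.restrictScalars k, fun a x => ?_, ?_⟩
  · have := r.map_smul a x
    rwa [Algebra.smul_def, smul_eq_mul] at this
  · have := hr 1
    rwa [map_one] at this

variable (φ : AQ →ₐc[k] AG) (r : AG →ₗ[k] AQ)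

/-- `c ⊗ y ↦ φ r (c S y₁) y₂` -/
def gam (c : AG) : AG →ₗ[k] AG :=
  LinearMap.mul' k AG ∘ₗ
    TensorProduct.map ((φ : AQ →ₐ[k] AG).toLinearMap ∘ₗ r ∘ₗ LinearMap.mulLeft k c ∘ₗ
      HopfAlgebraStruct.antipode (R := k) (A := AG)) LinearMap.id ∘ₗ CoalgebraStruct.comul

theorem gam_mul_map (hr : ∀ a x, r (φ a * x) = a * r x) (c y : AG) (q : AQ) :
    gam φ r c (y * φ q) = CoalgebraStruct.counit (R := k) q • gam φ r c y := by
  have hS : ∀ p : AQ, HopfAlgebraStruct.antipode (R := k) (φ p) = φ (HopfAlgebraStruct.antipode (R := k) p) :=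
    fun p => (map_antipode φ p).symm
  simp only [gam, LinearMap.comp_apply]
  rw [Bialgebra.comul_mul, ← CoalgHomClass.map_comp_comul_apply φ q]
  have key : ∀ (z : AQ ⊗[k] AQ) (w : AG ⊗[k] AG),
      LinearMap.mul' k AG (TensorProduct.map ((φ : AQ →ₐ[k] AG).toLinearMap ∘ₗ r ∘ₗ LinearMap.mulLeft k c ∘ₗ
        HopfAlgebraStruct.antipode (R := k) (A := AG)) LinearMap.id
          (w * TensorProduct.map (φ : AQ →ₗc[k] AG).toLinearMap (φ : AQ →ₗc[k] AG).toLinearMap z)) =
        φ (LinearMap.mul' k AQ ((HopfAlgebraStruct.antipode (R := k) (A := AQ)).rTensor AQ z)) *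
          LinearMap.mul' k AG (TensorProduct.map ((φ : AQ →ₐ[k] AG).toLinearMap ∘ₗ r ∘ₗ LinearMap.mulLeft k c ∘ₗ
            HopfAlgebraStruct.antipode (R := k) (A := AG)) LinearMap.id w) := by
    intro z w
    induction z with
    | zero => simp
    | add p q hp hq => simp only [map_add, mul_add, add_mul, hp, hq]
    | tmul p q =>
      induction w with
      | zero => simp
      | add s t hs ht => simp only [map_add, mul_add, add_mul, hs, ht]
      | tmul s t =>
        simp only [TensorProduct.map_tmul, Algebra.TensorProduct.tmul_mul_tmul, LinearMap.comp_apply,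
          LinearMap.mulLeft_apply, LinearMap.id_apply, LinearMap.mul'_apply, LinearMap.rTensor_tmul]
        show (φ : AQ →ₐ[k] AG) (r (c * HopfAlgebraStruct.antipode (R := k) (s * φ p))) * (t * φ q) =
          φ (HopfAlgebraStruct.antipode (R := k) p * q) *
            ((φ : AQ →ₐ[k] AG) (r (c * HopfAlgebraStruct.antipode (R := k) s)) * t)
        rw [HopfAlgebra.antipode_mul_distrib, hS,
          show c * (HopfAlgebraStruct.antipode (R := k) s * φ (HopfAlgebraStruct.antipode (R := k) p)) =
            φ (HopfAlgebraStruct.antipode (R := k) p) * (c * HopfAlgebraStruct.antipode (R := k) s) by ring,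
          hr, map_mul φ, map_mul (φ : AQ →ₐ[k] AG)]
        show φ _ * φ _ * _ = φ _ * φ _ * (φ _ * _)
        ring
  refine (key _ _).trans ?_
  rw [HopfAlgebra.mul_antipode_rTensor_comul_apply, Algebra.algebraMap_eq_smul_one, map_smul, map_one,
    smul_mul_assoc, one_mul]

variable (ψ : AG →ₐc[k] AK)
  (hker : RingHom.ker (ψ : AG →ₐ[k] AK) =
    Ideal.map (φ : AQ →ₐ[k] AG) (RingHom.ker (Bialgebra.counitAlgHom k AQ)))

include hker

theorem gam_ker (hr : ∀ a x, r (φ a * x) = a * r x) (c : AG) {z : AG} (hz : ψ z = 0) :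
    gam φ r c z = 0 := by
  have hz' : z ∈ Ideal.map (φ : AQ →ₐ[k] AG) (RingHom.ker (Bialgebra.counitAlgHom k AQ)) := hker ▸ hz
  suffices ∀ y, gam φ r c (y * z) = 0 by simpa using this 1
  rw [Ideal.map] at hz'
  clear hz
  induction hz' using Submodule.span_induction with
  | mem x hx =>
    obtain ⟨q, hq, rfl⟩ := hx
    intro y
    refine (gam_mul_map φ r hr c y q).trans ?_
    rw [show CoalgebraStruct.counit (R := k) q = 0 from hq, zero_smul]
  | zero => simp
  | add a b _ _ ha hb => intro y; rw [mul_add, map_add, ha, hb, add_zero]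
  | smul a x _ hx => intro y; rw [smul_eq_mul, ← mul_assoc]; exact hx (y * a)

theorem psi_phi (q : AQ) : ψ (φ q) = CoalgebraStruct.counit (R := k) q • (1 : AK) := by
  have h : φ (q - CoalgebraStruct.counit (R := k) q • (1 : AQ)) ∈ RingHom.ker (ψ : AG →ₐ[k] AK) := by
    rw [hker]
    exact Ideal.mem_map_of_mem _ (by simp [RingHom.mem_ker])
  have h' : ψ (φ (q - CoalgebraStruct.counit (R := k) q • (1 : AQ))) = 0 := h
  simpa [sub_eq_zero] using h'

/-- coinvariants are the quotient algebra -/
theorem mem_range_of_coinvariant (hr : ∀ a x, r (φ a * x) = a * r x) (hr1 : r 1 = 1)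
    (hψ : Function.Surjective ψ) {a : AG}
    (ha : (ψ : AG →ₐ[k] AK).toLinearMap.lTensor AG (CoalgebraStruct.comul (R := k) a) = a ⊗ₜ[k] (1 : AK)) :
    φ (r a) = a := by
  let Γ : AG ⊗[k] AG →ₗ[k] AG := TensorProduct.lift
    { toFun := fun c => gam φ r c
      map_add' := fun c c' => by
        ext y
        simp only [gam, LinearMap.comp_apply, LinearMap.add_apply]
        generalize CoalgebraStruct.comul (R := k) y = z
        induction z with
        | zero => simp
        | add p q hp hq => simp only [map_add, hp, hq]; abel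
        | tmul p q => simp [add_mul]
      map_smul' := fun c c' => by
        ext y
        simp only [gam, LinearMap.comp_apply, LinearMap.smul_apply, RingHom.id_apply]
        generalize CoalgebraStruct.comul (R := k) y = z
        induction z with
        | zero => simp
        | add p q hp hq => simp only [map_add, smul_add, hp, hq]
        | tmul p q => simp }
  obtain ⟨s, hs⟩ := (ψ : AG →ₐ[k] AK).toLinearMap.exists_rightInverse_of_surjective
    (LinearMap.range_eq_top.2 hψ)
  have hfac : ∀ z, Γ z = Γ (s.lTensor AG ((ψ : AG →ₐ[k] AK).toLinearMap.lTensor AG z)) := by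
    intro z
    induction z with
    | zero => simp
    | add p q hp hq => simp only [map_add] at hp hq ⊢; rw [← hp, ← hq]
    | tmul c y =>
      simp only [LinearMap.lTensor_tmul, Γ, TensorProduct.lift.tmul, LinearMap.coe_mk, AddHom.coe_mk]
      rw [← sub_eq_zero, ← map_sub]
      refine gam_ker φ r ψ hker hr c ?_
      rw [map_sub, sub_eq_zero]
      exact (LinearMap.congr_fun hs (ψ y)).symm
  have h1 : Γ (CoalgebraStruct.comul (R := k) a) = a := by
    let M : AG ⊗[k] (AG ⊗[k] AG) →ₗ[k] AG :=
      LinearMap.mul' k AG ∘ₗ TensorProduct.map ((φ : AQ →ₐ[k] AG).toLinearMap ∘ₗ r ∘ₗ LinearMap.mul' k AG ∘ₗ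
        (HopfAlgebraStruct.antipode (R := k) (A := AG)).lTensor AG) LinearMap.id ∘ₗ
        (TensorProduct.assoc k AG AG AG).symm.toLinearMap
    have e1 : ∀ w, Γ w = M ((CoalgebraStruct.comul (R := k) (A := AG)).lTensor AG w) := by
      intro w
      induction w with
      | zero => simp
      | add p q hp hq => simp only [map_add, hp, hq]
      | tmul c y =>
        simp only [Γ, gam, TensorProduct.lift.tmul, LinearMap.coe_mk, AddHom.coe_mk, LinearMap.lTensor_tmul,
          LinearMap.comp_apply]
        generalize CoalgebraStruct.comul (R := k) y = z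
        induction z with
        | zero => simp
        | add p q hp hq => simp only [map_add, tmul_add, hp, hq]
        | tmul p q => simp [M]
    rw [e1, ← Coalgebra.coassoc_apply]
    simp only [M, LinearMap.comp_apply, LinearEquiv.coe_coe, LinearEquiv.symm_apply_apply]
    rw [show ∀ w, TensorProduct.map ((φ : AQ →ₐ[k] AG).toLinearMap ∘ₗ r ∘ₗ LinearMap.mul' k AG ∘ₗ
        (HopfAlgebraStruct.antipode (R := k) (A := AG)).lTensor AG) LinearMap.id
          ((CoalgebraStruct.comul (R := k) (A := AG)).rTensor AG w) =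
        TensorProduct.map ((φ : AQ →ₐ[k] AG).toLinearMap ∘ₗ r ∘ₗ Algebra.linearMap k AG ∘ₗ
          CoalgebraStruct.counit) LinearMap.id w from fun w => by
      rw [LinearMap.map_rTensor, ← HopfAlgebra.mul_antipode_lTensor_comul]
      rfl]
    rw [show ∀ w, TensorProduct.map ((φ : AQ →ₐ[k] AG).toLinearMap ∘ₗ r ∘ₗ Algebra.linearMap k AG ∘ₗ
          CoalgebraStruct.counit) LinearMap.id w =
        TensorProduct.map ((φ : AQ →ₐ[k] AG).toLinearMap ∘ₗ r ∘ₗ Algebra.linearMap k AG) LinearMap.id
          ((CoalgebraStruct.counit (R := k) (A := AG)).rTensor AG w) from fun w => by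
      rw [LinearMap.map_rTensor]; rfl]
    rw [Coalgebra.rTensor_counit_comul]
    simp [hr1]
  have h2 : Γ (a ⊗ₜ[k] (1 : AG)) = φ (r a) := by
    simp [Γ, gam, Bialgebra.comul_one, Algebra.TensorProduct.one_def]
  rw [← h2, hfac, LinearMap.lTensor_tmul, AlgHom.toLinearMap_apply, map_one, ← ha, ← hfac, h1]

theorem isLinearlyReductive_kernel (hφ : Function.Injective φ) (hψ : Function.Surjective ψ)
    (hG : HopfRep.IsLinearlyReductive k AG) : HopfRep.IsLinearlyReductive k AK := by
  obtain ⟨r, hr, hr1⟩ := exists_linear_retraction φ hφ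
  obtain ⟨J, hJ1, hJ⟩ := exists_invariant_functional hG
  obtain ⟨s, hs⟩ := (ψ : AG →ₐ[k] AK).toLinearMap.exists_rightInverse_of_surjective
    (LinearMap.range_eq_top.2 hψ)
  have hsec : ∀ y, gam φ r 1 (s (ψ y)) = gam φ r 1 y := fun y => by
    rw [← sub_eq_zero, ← map_sub]
    refine gam_ker φ r ψ hker hr 1 ?_
    rw [map_sub, sub_eq_zero]
    exact LinearMap.congr_fun hs (ψ y)
  refine isLinearlyReductive_of_functional (J ∘ₗ gam φ r 1 ∘ₗ s) ?_ fun c => ?_
  · simp only [LinearMap.comp_apply]
    rw [show s 1 = s (ψ 1) by rw [map_one ψ], hsec]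
    simp [gam, Bialgebra.comul_one, Algebra.TensorProduct.one_def, hr1, hJ1]
  obtain ⟨y, rfl⟩ := hψ c
  -- the averaged map intertwines the right coactions
  have hcom : (ψ : AG →ₐ[k] AK).toLinearMap.lTensor AG (CoalgebraStruct.comul (R := k) (gam φ r 1 y)) =
      TensorProduct.map (gam φ r 1) (ψ : AG →ₐ[k] AK).toLinearMap (CoalgebraStruct.comul (R := k) y) := by
    let R : AG →ₗ[k] AG := (φ : AQ →ₐ[k] AG).toLinearMap ∘ₗ r ∘ₗ LinearMap.mulLeft k 1 ∘ₗ
      HopfAlgebraStruct.antipode (R := k) (A := AG)
    let T : AG ⊗[k] (AG ⊗[k] AG) →ₗ[k] AG ⊗[k] AK :=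
      TensorProduct.map (LinearMap.mul' k AG ∘ₗ R.rTensor AG) (ψ : AG →ₐ[k] AK).toLinearMap ∘ₗ
        (TensorProduct.assoc k AG AG AG).symm.toLinearMap
    have hq : ∀ q : AQ, (ψ : AG →ₐ[k] AK).toLinearMap.lTensor AG (CoalgebraStruct.comul (R := k) (φ q)) =
        φ q ⊗ₜ[k] (1 : AK) := by
      intro q
      rw [← CoalgHomClass.map_comp_comul_apply φ q, ← LinearMap.comp_apply, LinearMap.lTensor_comp_map]
      have hqq : q = TensorProduct.rid k AQ ((CoalgebraStruct.counit (R := k) (A := AQ)).lTensor AQ
          (CoalgebraStruct.comul (R := k) q)) := by rw [Coalgebra.lTensor_counit_comul, rid_tmul, one_smul]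
      conv_rhs => rw [hqq]
      generalize CoalgebraStruct.comul (R := k) q = z
      induction z with
      | zero => simp
      | add p p' hp hp' => simp only [map_add, add_tmul, hp, hp']
      | tmul p p' =>
        simp only [TensorProduct.map_tmul, LinearMap.comp_apply, LinearMap.lTensor_tmul, rid_tmul,
          map_smul, smul_tmul', AlgHom.toLinearMap_apply]
        show φ p ⊗ₜ[k] ψ (φ p') = _
        rw [psi_phi φ ψ hker, tmul_smul]
        rfl
    have e1 : ∀ w, (ψ : AG →ₐ[k] AK).toLinearMap.lTensor AG (CoalgebraStruct.comul (R := k)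
        (LinearMap.mul' k AG (R.rTensor AG w))) = T ((CoalgebraStruct.comul (R := k) (A := AG)).lTensor AG w) := by
      intro w
      induction w with
      | zero => simp
      | add p q hp hq => simp only [map_add, hp, hq]
      | tmul p q =>
        simp only [LinearMap.rTensor_tmul, LinearMap.mul'_apply, LinearMap.lTensor_tmul, Bialgebra.comul_mul]
        show Algebra.TensorProduct.map (AlgHom.id k AG) (ψ : AG →ₐ[k] AK) _ = _
        rw [map_mul]
        show (ψ : AG →ₐ[k] AK).toLinearMap.lTensor AG (CoalgebraStruct.comul (R := k) (R p)) *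
          (ψ : AG →ₐ[k] AK).toLinearMap.lTensor AG _ = _
        rw [show R p = φ (r (1 * HopfAlgebraStruct.antipode (R := k) p)) from rfl, hq]
        generalize CoalgebraStruct.comul (R := k) q = z
        induction z with
        | zero => simp
        | add a b ha hb => simp only [map_add, mul_add, tmul_add, ha, hb]
        | tmul a b => simp [T, R]
    have e2 : ∀ w, T (TensorProduct.assoc k AG AG AG ((CoalgebraStruct.comul (R := k) (A := AG)).rTensor AG w)) =
        TensorProduct.map (gam φ r 1) (ψ : AG →ₐ[k] AK).toLinearMap w := by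
      intro w
      induction w with
      | zero => simp
      | add p q hp hq => simp only [map_add, hp, hq]
      | tmul p q =>
        simp only [T, LinearMap.rTensor_tmul, LinearMap.comp_apply, LinearEquiv.coe_coe,
          LinearEquiv.symm_apply_apply, TensorProduct.map_tmul]
        rfl
    refine (e1 _).trans ?_
    rw [← Coalgebra.coassoc_apply]
    exact e2 _
  simp only [LinearMap.comp_apply]
  rw [hsec]
  have h5 := congrArg (ψ : AG →ₐ[k] AK) (hJ (gam φ r 1 y))
  rw [map_smul, map_one] at h5
  rw [← CoalgHomClass.map_comp_comul_apply ψ y, ← h5]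
  have e3 : ∀ w : AG ⊗[k] AG, TensorProduct.lid k AK ((J ∘ₗ gam φ r 1 ∘ₗ s).rTensor AK
      (TensorProduct.map (ψ : AG →ₗ[k] AK) (ψ : AG →ₗ[k] AK) w)) =
      TensorProduct.lid k AK (J.rTensor AK (TensorProduct.map (gam φ r 1) (ψ : AG →ₐ[k] AK).toLinearMap w)) := by
    intro w
    induction w with
    | zero => simp
    | add p q hp hq => simp only [map_add, hp, hq]
    | tmul p q =>
      simp only [TensorProduct.map_tmul, LinearMap.rTensor_tmul, LinearMap.comp_apply]
      show J (gam φ r 1 (s (ψ p))) • ψ q = _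
      rw [hsec]
      rfl
  rw [e3, ← hcom]
  generalize CoalgebraStruct.comul (R := k) (gam φ r 1 y) = w
  induction w with
  | zero => simp
  | add p q hp hq => simp only [map_add, hp, hq]
  | tmul p q => simp

omit hker in
theorem isLinearlyReductive_quotient (hG : HopfRep.IsLinearlyReductive k AG) (φ : AQ →ₐc[k] AG)
    (hφ : Function.Injective φ) : HopfRep.IsLinearlyReductive k AQ := by
  obtain ⟨J, hJ1, hJ⟩ := exists_invariant_functional hG
  refine isLinearlyReductive_of_functional (J ∘ₗ (φ : AQ →ₐ[k] AG).toLinearMap) (by simp [hJ1]) fun q => ?_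
  refine hφ ?_
  rw [map_smul, map_one]
  refine Eq.trans ?_ (hJ (φ q))
  rw [← CoalgHomClass.map_comp_comul_apply φ q]
  generalize CoalgebraStruct.comul (R := k) q = w
  induction w with
  | zero => simp
  | add p q hp hq => simp only [map_add, hp, hq]
  | tmul p q =>
    simp only [LinearMap.rTensor_tmul, LinearMap.comp_apply, TensorProduct.lid_tmul, map_smul,
      TensorProduct.map_tmul]
    rfl

theorem isLinearlyReductive_extension (hφ : Function.Injective φ) (hψ : Function.Surjective ψ)
    (hK : HopfRep.IsLinearlyReductive k AK) (hQ : HopfRep.IsLinearlyReductive k AQ) :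
    HopfRep.IsLinearlyReductive k AG := by
  obtain ⟨r, hr, hr1⟩ := exists_linear_retraction φ hφ
  obtain ⟨J, hJ1, hJ⟩ := exists_left_invariant_functional hQ
  refine isLinearlyReductive_of_exact fun X Y _ _ _ _ _ _ _ _ f hf hsurj y hy => ?_
  let cX : HopfRep.Comod k AG X := inferInstance
  let cY : HopfRep.Comod k AG Y := inferInstance
  obtain ⟨x, hx, hxy⟩ : ∃ x : X, (ψ : AG →ₐ[k] AK).toLinearMap.lTensor X
      (HopfRep.Comod.coact (k := k) (A := AG) x) = x ⊗ₜ[k] (1 : AK) ∧ f x = y := by
    have hy' : (ψ : AG →ₐ[k] AK).toLinearMap.lTensor Y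
        (HopfRep.Comod.coact (k := k) (A := AG) y) = y ⊗ₜ[k] (1 : AK) := by
      rw [show HopfRep.Comod.coact (k := k) (A := AG) y = y ⊗ₜ[k] (1 : AG) from hy]
      simp
    letI : HopfRep.Comod k AK X := push (ψ : AG →ₗc[k] AK) cX
    letI : HopfRep.Comod k AK Y := push (ψ : AG →ₗc[k] AK) cY
    exact LinRed34.exists_fixed_preimage hK (isComodHom_push (ψ : AG →ₗc[k] AK) cX cY hf) hy' (hsurj y)
  -- the coaction of a `K`-invariant vector has coefficients in `AQ`
  have hx' : HopfRep.Comod.coact (k := k) (A := AG) x =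
      ((φ : AQ →ₐ[k] AG).toLinearMap ∘ₗ r).lTensor X (HopfRep.Comod.coact (k := k) (A := AG) x) := by
    refine eq_of_lc fun g => ?_
    have hcoef : (ψ : AG →ₐ[k] AK).toLinearMap.lTensor AG (CoalgebraStruct.comul (R := k)
        (lc g (HopfRep.Comod.coact (k := k) (A := AG) x))) =
        lc g (HopfRep.Comod.coact (k := k) (A := AG) x) ⊗ₜ[k] (1 : AK) := by
      let P : X ⊗[k] (AG ⊗[k] AG) →ₗ[k] AG ⊗[k] AK :=
        (TensorProduct.lid k _).toLinearMap ∘ₗ TensorProduct.map g ((ψ : AG →ₐ[k] AK).toLinearMap.lTensor AG)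
      have e1 : ∀ w : X ⊗[k] AG, (ψ : AG →ₐ[k] AK).toLinearMap.lTensor AG (CoalgebraStruct.comul (R := k) (lc g w)) =
          P ((CoalgebraStruct.comul (R := k) (A := AG)).lTensor X w) := by
        intro w
        induction w with
        | zero => simp
        | add p q hp hq => simp only [map_add, hp, hq]
        | tmul p q => simp [P, lc_tmul]
      rw [e1, ← coassoc_apply]
      have e2 : ∀ w : X ⊗[k] AG, P (TensorProduct.assoc k X AG AG
          ((HopfRep.Comod.coact (k := k) (A := AG)).rTensor AG w)) =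
          (lc g ∘ₗ HopfRep.Comod.coact (k := k) (A := AG)).rTensor AK ((ψ : AG →ₐ[k] AK).toLinearMap.lTensor X w) := by
        intro w
        induction w with
        | zero => simp
        | add p q hp hq => simp only [map_add, hp, hq]
        | tmul p q =>
          simp only [LinearMap.rTensor_tmul, LinearMap.lTensor_tmul, LinearMap.comp_apply]
          generalize HopfRep.Comod.coact (k := k) (A := AG) p = s
          induction s with
          | zero => simp
          | add a b ha hb => simp only [map_add, add_tmul, ha, hb]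
          | tmul a b => simp [P, lc_tmul, smul_tmul']
      rw [e2, hx]
      simp
    have h0 := mem_range_of_coinvariant φ r ψ hker hr hr1 hψ hcoef
    refine h0.symm.trans ?_
    generalize HopfRep.Comod.coact (k := k) (A := AG) x = w
    induction w with
    | zero => simp
    | add p q hp hq => simp only [map_add, hp, hq]
    | tmul p q => simp [lc_tmul]
  let j : AG →ₗ[k] k := J ∘ₗ r
  refine ⟨dact j x, ?_, ?_⟩
  · show HopfRep.Comod.coact (k := k) (A := AG) (dact j x) = dact j x ⊗ₜ[k] (1 : AG)
    rw [coact_dact, dact_apply, hx']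
    generalize HopfRep.Comod.coact (k := k) (A := AG) x = w
    induction w with
    | zero => simp
    | add p q hp hq => simp only [map_add, add_tmul, hp, hq]
    | tmul p a =>
      simp only [LinearMap.lTensor_tmul, LinearMap.comp_apply, rc_tmul]
      have hrφ : ∀ q, r (φ q) = q := fun q => by simpa [hr1] using hr q 1
      have e : rc j (CoalgebraStruct.comul (R := k) ((φ : AQ →ₐ[k] AG).toLinearMap (r a))) =
          J (r a) • (1 : AG) := by
        show rc j (CoalgebraStruct.comul (R := k) (φ (r a))) = _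
        rw [← CoalgHomClass.map_comp_comul_apply φ (r a)]
        have h6 := congrArg (φ : AQ →ₐ[k] AG) (hJ (r a))
        rw [map_smul, map_one] at h6
        rw [← h6]
        generalize CoalgebraStruct.comul (R := k) (r a) = z
        induction z with
        | zero => simp
        | add b c hb hc => simp only [map_add, hb, hc]
        | tmul b c =>
          simp only [TensorProduct.map_tmul, rc_tmul, LinearMap.lTensor_tmul, TensorProduct.rid_tmul, map_smul]
          show j (φ c) • φ b = _
          rw [show j (φ c) = J c by simp [j, hrφ]]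
          rfl
      rw [e, show j ((φ : AQ →ₐ[k] AG).toLinearMap (r a)) = J (r a) by
        show J (r (φ (r a))) = _
        rw [hrφ], tmul_smul, smul_tmul']
  · rw [IsComodHom.dact hf j x, hxy, dact_apply, show HopfRep.Comod.coact (k := k) (A := AG) y = y ⊗ₜ[k] (1 : AG) from hy,
      rc_tmul]
    simp [j, hr1, hJ1]

end Groth.Agent.Comod33.Quot
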