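import Groth.Agent.Comod33.Lattice

/-!
Linearly reductive bialgebras: every comodule is semisimple.
-/

universe u v

open TensorProduct

noncomputable section

namespace Groth.Agent.Comod33

variable {k : Type u} [Field k] {A : Type v} [CommRing A] [Bialgebra k A]

local notation "Λ" => WithConv (A →ₗ[k] k)

theorem isSemisimpleModule_of_isLinearlyReductive (h : HopfRep.IsLinearlyReductive k A)
    (V : Type v) [AddCommGroup V] [Module k V] [HopfRep.Comod k A V] : IsSemisimpleModule Λ V := by
  refine isSemisimpleModule_of_forall_gen fun v => ?_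
  let S := toSub (gen (k := k) (A := A) v) (isSubcomod_gen v)
  letI := subComod S
  have hfin : Module.Finite k (S.restrictScalars k) := finite_gen v
  have h1 : IsSemisimpleModule Λ ↥(S.restrictScalars k) :=
    isSemisimpleComod_iff.1 (h ↥(S.restrictScalars k) hfin)
  exact IsSemisimpleModule.congr (M := ↥(S.restrictScalars k)) (N := ↥S) (subComodEquiv S).symm

theorem isSemisimpleComod_of_isLinearlyReductive (h : HopfRep.IsLinearlyReductive k A)
    (V : Type v) [AddCommGroup V] [Module k V] [HopfRep.Comod k A V] :
    HopfRep.IsSemisimpleComod k A V :=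
  isSemisimpleComod_iff.2 (isSemisimpleModule_of_isLinearlyReductive h V)

theorem exists_retraction (h : HopfRep.IsLinearlyReductive k A) {V W : Type v} [AddCommGroup V]
    [Module k V] [HopfRep.Comod k A V] [AddCommGroup W] [Module k W] [HopfRep.Comod k A W]
    {f : V →ₗ[k] W} (hf : Hoch.IsComodHom A f) (hinj : Function.Injective f) :
    ∃ r : W →ₗ[k] V, Hoch.IsComodHom A r ∧ r ∘ₗ f = LinearMap.id := by
  have := isSemisimpleModule_of_isLinearlyReductive h W
  obtain ⟨g, hg⟩ := IsSemisimpleModule.extension_property (R := Λ) (M := W)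
    (toDualLinear (A := A) f hf) hinj (LinearMap.id)
  exact ⟨g.restrictScalars k, isComodHom_restrictScalars g,
    LinearMap.ext fun v => LinearMap.congr_fun hg v⟩

end Groth.Agent.Comod33
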