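import Groth.Agent.Comod33.Coeff

/-!
The coefficient space of a simple comodule is its isotypic component in the regular comodule.
-/

universe u v w w'

open TensorProduct

noncomputable section

namespace Groth.Agent.Comod33

variable {k : Type u} [Field k] {A : Type v} [AddCommGroup A] [Module k A] [Coalgebra k A]
variable {E : Type w} [AddCommGroup E] [Module k E] [HopfRep.Comod k A E]

local notation "Λ" => WithConv (A →ₗ[k] k)

theorem isSubcomod_coeff : HopfRep.IsSubcomod (k := k) (A := A) (coeff k A E) :=
  IsSubcoalg.isSubcomod isSubcoalg_coeff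

theorem toSub_coeff_eq (hE : HopfRep.IsSimpleComod k A E) :
    toSub (coeff k A E) isSubcomod_coeff = isotypicComponent Λ A E := by
  have := isSimpleComod_iff.1 hE
  apply le_antisymm
  · intro x hx
    have hle : coeff k A E ≤ (isotypicComponent Λ A E).restrictScalars k := by
      refine iSup_le fun φ => ?_
      rintro _ ⟨e, rfl⟩
      let f := toDualLinear (A := A) _ (isComodHom_cf (A := A) φ)
      rcases LinearMap.injective_or_eq_zero f with h | h
      · have hm : LinearMap.range f ≤ isotypicComponent Λ A E :=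
          le_sSup ⟨(LinearEquiv.ofInjective f h).symm⟩
        exact hm (LinearMap.mem_range_self f e)
      · have : cf (A := A) φ e = 0 := LinearMap.congr_fun h e
        rw [this]; exact zero_mem _
    exact hle hx
  · refine sSup_le ?_
    rintro m ⟨e⟩ x hx
    have hc := isComodHom_restrictScalars (k := k) (A := A) ((Submodule.subtype m) ∘ₗ e.symm.toLinearMap)
    exact range_le_coeff hc ⟨e ⟨x, hx⟩, by simp⟩

theorem exists_sub_simple {M : Type w'} [AddCommGroup M] [Module k M] [HopfRep.Comod k A M]
    (U : Submodule Λ M) (hU : U ≠ ⊥) :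
    ∃ S : Submodule Λ M, IsSimpleModule Λ S ∧ S ≤ U := by
  have h0 : U.restrictScalars k ≠ ⊥ := fun e => hU (Submodule.restrictScalars_injective k Λ M (by simpa using e))
  obtain ⟨S, hle, hS0, hS, _, hmin⟩ := exists_minimal_subcomod _ h0 (isSubcomod_restrictScalars U)
  exact ⟨toSub S hS, (isSimpleModule_toSub_iff hS).2 ⟨hS0, fun W' h1 h2 => hmin W' h2 h1⟩, hle⟩

theorem nonempty_equiv_of_le_coeff (hE : HopfRep.IsSimpleComod k A E) (S : Submodule Λ A)
    [IsSimpleModule Λ S] (hle : S.restrictScalars k ≤ coeff k A E) : Nonempty (S ≃ₗ[Λ] E) := by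
  have := isSimpleComod_iff.1 hE
  refine isIsotypicOfType_submodule_iff.1 (IsIsotypicOfType.isotypicComponent Λ A E) S ?_
  rw [← toSub_coeff_eq hE]
  exact hle

theorem coeff_le_of_injective {B : Submodule k A} (hB : IsSubcoalg B) {f : E →ₗ[k] A}
    (hf : Hoch.IsComodHom A f) (hinj : Function.Injective f) (hle : LinearMap.range f ≤ B) :
    coeff k A E ≤ B := by
  refine iSup_le fun φ => ?_
  rintro _ ⟨u, rfl⟩
  obtain ⟨g, hg⟩ := f.exists_leftInverse_of_injective (LinearMap.ker_eq_bot.2 hinj)
  have h2 : cf (A := A) φ u = cf (A := A) (φ ∘ₗ g) (f u) := by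
    rw [cf_comp hf, LinearMap.comp_assoc, hg, LinearMap.comp_id]
  rw [h2, cf_apply]
  exact (mem_range_lTensor_iff B _).1
    (range_map_subtype_le_left B B (hB _ (hle ⟨u, rfl⟩))) _

theorem isSimple_coeff (hE : HopfRep.IsSimpleComod k A E) (B : Submodule k A) (hle : B ≤ coeff k A E)
    (hB : IsSubcoalg B) : B = ⊥ ∨ B = coeff k A E := by
  have := isSimpleComod_iff.1 hE
  by_cases h0 : B = ⊥
  · exact Or.inl h0
  refine Or.inr (le_antisymm hle ?_)
  have h0' : toSub B hB.isSubcomod ≠ ⊥ := fun e => h0 (by
    rw [← restrictScalars_toSub B hB.isSubcomod, e]; simp)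
  obtain ⟨S, hS, hSle⟩ := exists_sub_simple _ h0'
  obtain ⟨e⟩ := nonempty_equiv_of_le_coeff hE S (fun x hx => hle (hSle hx))
  refine coeff_le_of_injective hB
    (isComodHom_restrictScalars (S.subtype ∘ₗ e.symm.toLinearMap)) ?_ ?_
  · exact (Submodule.injective_subtype S).comp e.symm.injective
  · rintro _ ⟨x, rfl⟩
    exact hSle (e.symm x).2

section restr

variable {M : Type w'} [AddCommGroup M] [Module k M] [cM : HopfRep.Comod k A M]

/-- the restricted comodule on a submodule over the convolution algebra -/
@[reducible] def subComod (S : Submodule Λ M) : HopfRep.Comod k A (S.restrictScalars k) :=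
  ComodSub.Comod.restr cM _ (isSubcomod_restrictScalars S)

/-- the restricted comodule is the submodule -/
def subComodEquiv (S : Submodule Λ M) :
    letI := subComod S
    ↥(S.restrictScalars k) ≃ₗ[Λ] ↥S :=
  letI := subComod S
  { toFun := fun x => ⟨x.1, x.2⟩
    map_add' := fun _ _ => rfl
    map_smul' := fun f x => Subtype.ext (IsComodHom.dact
      (ComodSub.isComodHom_subtype cM _ (isSubcomod_restrictScalars S)) f.ofConv x)
    invFun := fun x => ⟨x.1, x.2⟩
    left_inv := fun _ => rfl
    right_inv := fun _ => rfl }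

theorem isSimpleComod_subComod (S : Submodule Λ M) [IsSimpleModule Λ S] :
    @HopfRep.IsSimpleComod k A _ _ _ _ (S.restrictScalars k) _ _ (subComod S) :=
  letI := subComod S
  isSimpleComod_iff.2 (IsSimpleModule.congr (N := S) (subComodEquiv S))

theorem coeff_subComod_eq (S : Submodule Λ A) [IsSimpleModule Λ S] :
    @coeff k _ A _ _ (S.restrictScalars k) _ _ _ (subComod S) =
      (isotypicComponent Λ A S).restrictScalars k := by
  letI := subComod S
  rw [← (subComodEquiv S).isotypicComponent_eq, ← toSub_coeff_eq (isSimpleComod_subComod S)]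
  rfl

end restr

end Groth.Agent.Comod33
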