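import Groth.Agent.Comod33.Act

/-!
Functoriality of the cochain complex of a comodule.
-/

universe u v

open TensorProduct

noncomputable section

namespace Groth.Agent.Comod33

variable {k : Type u} [CommRing k] {A : Type v} [CommRing A] [Bialgebra k A]
variable {V W : Type v} [AddCommGroup V] [Module k V] [HopfRep.Comod k A V]
  [AddCommGroup W] [Module k W] [HopfRep.Comod k A W]

variable (k A) in
/-- the map of cochains induced by a linear map -/
def cmap (f : V →ₗ[k] W) :
    (n : ℕ) → ((Hoch.cochain k A V n : Type v) →ₗ[k] (Hoch.cochain k A W n : Type v))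
  | 0 => f
  | n + 1 => (cmap f n).rTensor A

theorem tail_natural {M N : Type v} [AddCommGroup M] [Module k M] [AddCommGroup N] [Module k N]
    (f : M →ₗ[k] N) (x : M ⊗[k] A) :
    Hoch.tail k A N (f.rTensor A x) = (f.rTensor A).rTensor A (Hoch.tail k A M x) := by
  induction x with
  | zero => simp
  | tmul m a =>
    rw [LinearMap.rTensor_tmul, Hoch.tail_tmul, Hoch.tail_tmul]
    generalize CoalgebraStruct.comul (R := k) a - a ⊗ₜ[k] (1 : A) - (1 : A) ⊗ₜ[k] a = z
    induction z with
    | zero => simp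
    | tmul p q => simp
    | add p q hp hq => simp only [TensorProduct.tmul_add, map_add, hp, hq]
  | add p q hp hq => simp only [map_add, hp, hq]

theorem d_cmap {f : V →ₗ[k] W} (hf : Hoch.IsComodHom A f) : ∀ n x,
    Hoch.d k A W n (cmap k A f n x) = cmap k A f (n + 1) (Hoch.d k A V n x)
  | 0, x => by
    have h := LinearMap.congr_fun hf x
    simp only [LinearMap.comp_apply] at h
    show Hoch.d k A W 0 (f x) = f.rTensor A (Hoch.d k A V 0 x)
    rw [Hoch.d_zero_apply, Hoch.d_zero_apply, h, map_sub]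
    rfl
  | n + 1, x => by
    have ih := d_cmap hf n
    rw [Hoch.d_succ k A W n, Hoch.d_succ k A V n]
    rw [show cmap k A f (n + 1 + 1) = (LinearMap.rTensor A (cmap k A f n)).rTensor A from rfl,
      show cmap k A f (n + 1) = LinearMap.rTensor A (cmap k A f n) from rfl]
    simp only [LinearMap.add_apply, LinearMap.smul_apply, map_add, map_smul, tail_natural]
    congr 1
    have e : Hoch.d k A W n ∘ₗ cmap k A f n = cmap k A f (n + 1) ∘ₗ Hoch.d k A V n := LinearMap.ext ih
    have e2 := congrArg (fun l => LinearMap.rTensor A l x) e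
    simp only [LinearMap.rTensor_comp, LinearMap.comp_apply] at e2
    exact e2

theorem cmap_comp {U : Type v} [AddCommGroup U] [Module k U] [HopfRep.Comod k A U]
    (f : V →ₗ[k] W) (g : W →ₗ[k] U) : ∀ n x, cmap k A g n (cmap k A f n x) = cmap k A (g ∘ₗ f) n x
  | 0, _ => rfl
  | n + 1, x => by
    have e : cmap k A g n ∘ₗ cmap k A f n = cmap k A (g ∘ₗ f) n := LinearMap.ext (cmap_comp f g n)
    show (cmap k A g n).rTensor A ((cmap k A f n).rTensor A x) = (cmap k A (g ∘ₗ f) n).rTensor A x
    rw [← e, LinearMap.rTensor_comp]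
    rfl

theorem cmap_id : ∀ n x, cmap k A (LinearMap.id : V →ₗ[k] V) n x = x
  | 0, _ => rfl
  | n + 1, x => by
    have e : cmap k A (LinearMap.id : V →ₗ[k] V) n = LinearMap.id := LinearMap.ext (cmap_id n)
    show (cmap k A (LinearMap.id : V →ₗ[k] V) n).rTensor A x = x
    rw [e, LinearMap.rTensor_id]
    rfl

/-- cocycles are coboundaries for a retract of a module with that property -/
theorem cocycles_le_of_retract {f : V →ₗ[k] W} (hf : Hoch.IsComodHom A f) {r : W →ₗ[k] V}
    (hr : Hoch.IsComodHom A r) (hrf : r ∘ₗ f = LinearMap.id) {n : ℕ}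
    (h : Hoch.cocycles k A W (n + 1) ≤ Hoch.coboundaries k A W (n + 1)) :
    Hoch.cocycles k A V (n + 1) ≤ Hoch.coboundaries k A V (n + 1) := by
  intro z hz
  have hz0 : Hoch.d k A V (n + 1) z = 0 := hz
  have hw : cmap k A f (n + 1) z ∈ Hoch.cocycles k A W (n + 1) := by
    show Hoch.d k A W (n + 1) (cmap k A f (n + 1) z) = 0
    rw [d_cmap hf, hz0, map_zero]
  obtain ⟨b, hb⟩ := h hw
  refine ⟨cmap k A r n b, ?_⟩
  rw [d_cmap hr, hb, cmap_comp, hrf, cmap_id]

end Groth.Agent.Comod33
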