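import Groth.Agent.Comod33.HomComod
import Groth.Agent.Comod33.HochMap

/-!
Criteria for linear reductivity.
-/

universe u v w

open TensorProduct

noncomputable section

namespace Groth.Agent.Comod33

variable {k : Type u} [Field k] {A : Type v} [CommRing A] [HopfAlgebra k A]

theorem isLinearlyReductive_of_trivialQuotient
    (hex : ∀ (X : Type v) [AddCommGroup X] [Module k X] [HopfRep.Comod k A X], Module.Finite k X →
      ∀ π : X →ₗ[k] k, Function.Surjective π →
        LinearMap.rTensor A π ∘ₗ HopfRep.Comod.coact (k := k) (A := A) (V := X) =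
            (TensorProduct.mk k k A).flip (1 : A) ∘ₗ π →
          ∃ v ∈ HopfRep.fixedPts k A X, π v ≠ 0) :
    HopfRep.IsLinearlyReductive k A := by
  refine isLinearlyReductive_of_exact fun X Y _ _ _ _ _ _ hX _ φ hφ hsurj y hy => ?_
  haveI := hX
  by_cases hy0 : y = 0
  · exact ⟨0, zero_mem _, by rw [map_zero, hy0]⟩
  let L := Submodule.span k {y}
  have hL : HopfRep.IsSubcomod (k := k) (A := A) L := by
    intro x hx
    obtain ⟨c, rfl⟩ := Submodule.mem_span_singleton.1 hx
    refine ⟨(⟨c • y, hx⟩ : L) ⊗ₜ (1 : A), ?_⟩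
    rw [map_smul, show HopfRep.Comod.coact (k := k) (A := A) y = y ⊗ₜ[k] (1 : A) from hy,
      LinearMap.rTensor_tmul, smul_tmul']
    rfl
  have hX' := isSubcomod_comap hL hφ
  letI : HopfRep.Comod k A ↥(Submodule.comap φ L) := ComodSub.Comod.restr inferInstance _ hX'
  have hι : Hoch.IsComodHom A (Submodule.comap φ L).subtype :=
    ComodSub.isComodHom_subtype inferInstance _ hX'
  obtain ⟨ψ, hψ⟩ := (LinearMap.toSpanSingleton k Y y).exists_leftInverse_of_injective
    (LinearMap.ker_toSpanSingleton k hy0)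
  let π : ↥(Submodule.comap φ L) →ₗ[k] k := ψ ∘ₗ φ ∘ₗ (Submodule.comap φ L).subtype
  have hψc : ∀ c : k, ψ (c • y) = c := fun c => LinearMap.congr_fun hψ c
  have hπy : ∀ x, φ ((Submodule.comap φ L).subtype x) = π x • y := by
    intro x
    obtain ⟨c, hc⟩ := Submodule.mem_span_singleton.1 (show φ x.1 ∈ L from x.2)
    show φ x.1 = ψ (φ x.1) • y
    rw [← hc, hψc]
  have hπs : Function.Surjective π := by
    intro c
    obtain ⟨x, hx⟩ := hsurj (c • y)
    refine ⟨⟨x, by simpa [hx] using Submodule.smul_mem _ c (Submodule.mem_span_singleton_self y)⟩, ?_⟩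
    show ψ (φ x) = c
    rw [hx, hψc]
  have hπc : LinearMap.rTensor A π ∘ₗ HopfRep.Comod.coact (k := k) (A := A) =
      (TensorProduct.mk k k A).flip (1 : A) ∘ₗ π := by
    refine LinearMap.ext fun x => ?_
    simp only [π, LinearMap.comp_apply, LinearMap.rTensor_comp_apply, LinearMap.flip_apply,
      TensorProduct.mk_apply]
    rw [← show HopfRep.Comod.coact (k := k) (A := A) ((Submodule.comap φ L).subtype x) =
        (Submodule.comap φ L).subtype.rTensor A (HopfRep.Comod.coact (k := k) (A := A) x) from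
      LinearMap.congr_fun hι x,
      ← show HopfRep.Comod.coact (k := k) (A := A) (φ ((Submodule.comap φ L).subtype x)) =
        φ.rTensor A (HopfRep.Comod.coact (k := k) (A := A) ((Submodule.comap φ L).subtype x)) from
      LinearMap.congr_fun hφ _, hπy x, map_smul,
      show HopfRep.Comod.coact (k := k) (A := A) y = y ⊗ₜ[k] (1 : A) from hy]
    simp [hψc, smul_tmul']
  obtain ⟨v, hv, hv0⟩ := hex _ inferInstance π hπs hπc
  refine ⟨(π v)⁻¹ • (Submodule.comap φ L).subtype v,
    Submodule.smul_mem _ _ (map_mem_fixedPts hι hv), ?_⟩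
  rw [map_smul, hπy, smul_smul, inv_mul_cancel₀ hv0, one_smul]

omit [Field k] in
theorem d_one_d_zero {k : Type u} [CommRing k] {B : Type v} [CommRing B] [Bialgebra k B]
    {V : Type v} [AddCommGroup V] [Module k V] [HopfRep.Comod k B V] (v : V) :
    Hoch.d k B V 1 (Hoch.d k B V 0 v) = 0 := by
  rw [Hoch.d_succ, Hoch.d_zero]
  simp only [LinearMap.add_apply, LinearMap.smul_apply, LinearMap.sub_apply, map_sub,
    LinearMap.flip_apply, TensorProduct.mk_apply, pow_one, zero_add, neg_smul, one_smul,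
    LinearMap.rTensor_tmul]
  have h1 : ∀ t : V ⊗[k] B, LinearMap.rTensor B ((HopfRep.Comod.coact (k := k) (A := B) : V →ₗ[k] V ⊗[k] B) -
      (TensorProduct.mk k V B).flip 1) t - Hoch.tail k B V t =
      ((HopfRep.Comod.coact (k := k) (A := B)).rTensor B t -
        (TensorProduct.assoc k V B B).symm ((CoalgebraStruct.comul (R := k) (A := B)).lTensor V t)) +
      t ⊗ₜ[k] (1 : B) := by
    intro t
    induction t with
    | zero => simp
    | add x y hx hy => simp only [map_add, add_tmul] at hx hy ⊢; linear_combination (norm := module) hx + hy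
    | tmul n b =>
      simp only [LinearMap.rTensor_tmul, Hoch.tail_tmul, LinearMap.lTensor_tmul, LinearMap.sub_apply,
        LinearMap.flip_apply, TensorProduct.mk_apply, sub_tmul, tmul_sub, map_sub, assoc_symm_tmul]
      abel
  have h2 := h1 (HopfRep.Comod.coact (k := k) (A := B) v)
  rw [← coassoc_apply, LinearEquiv.symm_apply_apply, sub_self, zero_add] at h2
  have h3 := h1 (v ⊗ₜ[k] (1 : B))
  simp only [LinearMap.rTensor_tmul, LinearMap.lTensor_tmul, Bialgebra.comul_one,
    Algebra.TensorProduct.one_def, assoc_symm_tmul, LinearMap.sub_apply, LinearMap.flip_apply,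
    TensorProduct.mk_apply] at h2 h3 ⊢
  linear_combination (norm := module) h2 - h3

theorem isLinearlyReductive_of_H1
    (hH : ∀ (X : Type v) [AddCommGroup X] [Module k X] [HopfRep.Comod k A X], Module.Finite k X →
      Hoch.cocycles k A X 1 ≤ Hoch.coboundaries k A X 1) :
    HopfRep.IsLinearlyReductive k A := by
  refine isLinearlyReductive_of_exact fun X Y _ _ _ _ _ _ hX _ φ hφ hsurj y hy => ?_
  haveI := hX
  obtain ⟨x, rfl⟩ := hsurj y
  have hK := isSubcomod_ker hφ
  letI : HopfRep.Comod k A ↥(LinearMap.ker φ) := ComodSub.Comod.restr inferInstance _ hK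
  have hι : Hoch.IsComodHom A (LinearMap.ker φ).subtype :=
    ComodSub.isComodHom_subtype inferInstance _ hK
  have hz0 : φ.rTensor A (Hoch.d k A X 0 x) = 0 := by
    show cmap k A φ 1 (Hoch.d k A X 0 x) = 0
    rw [← d_cmap hφ]
    show Hoch.d k A Y 0 (φ x) = 0
    rw [Hoch.d_zero_apply]
    exact sub_eq_zero.2 hy
  obtain ⟨z, hz⟩ := (mem_range_rTensor_iff (LinearMap.ker φ) (Hoch.d k A X 0 x)).2 fun f => by
    rw [LinearMap.mem_ker, ← rc_rTensor, hz0, map_zero]
  have hzc : z ∈ Hoch.cocycles k A ↥(LinearMap.ker φ) 1 := by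
    show Hoch.d k A ↥(LinearMap.ker φ) 1 z = 0
    have h := d_cmap hι 1 z
    have hinj : Function.Injective (cmap k A (LinearMap.ker φ).subtype 2) :=
      Module.Flat.rTensor_preserves_injective_linearMap _
        (Module.Flat.rTensor_preserves_injective_linearMap _ (LinearMap.ker φ).injective_subtype)
    refine hinj ?_
    rw [← h, map_zero]
    show Hoch.d k A X 1 ((LinearMap.ker φ).subtype.rTensor A z) = 0
    rw [hz]
    exact d_one_d_zero x
  obtain ⟨b, hb⟩ := hH _ inferInstance hzc
  refine ⟨x - b.1, ?_, by rw [map_sub, LinearMap.mem_ker.1 b.2, sub_zero]⟩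
  show HopfRep.Comod.coact (k := k) (A := A) (x - b.1) = (x - b.1) ⊗ₜ[k] (1 : A)
  have e : Hoch.d k A X 0 b.1 = Hoch.d k A X 0 x := by
    rw [← hz, ← hb]
    exact d_cmap hι 0 b
  rw [Hoch.d_zero_apply, Hoch.d_zero_apply, sub_eq_sub_iff_sub_eq_sub] at e
  rw [map_sub, sub_tmul]
  rw [← neg_inj, neg_sub, neg_sub]
  exact e

end Groth.Agent.Comod33
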