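import Groth.Agent.Comod33.InfStructure
import Groth.Agent.Comod33.CartierReduced
import Mathlib.RingTheory.HopfAlgebra.Quotient
import Mathlib.RingTheory.Idempotents
import Mathlib.FieldTheory.IsAlgClosed.Basic
import Mathlib.RingTheory.Artinian.Module
import Mathlib.LinearAlgebra.Dimension.Finrank

/-!
A finite group scheme over an algebraically closed field is killed by its order.
-/

universe u v

open TensorProduct WithConv

noncomputable section

namespace Groth.Agent.Comod33.FinGrp

section Alg

variable {k : Type u} [Field k] [IsAlgClosed k] {B : Type v} [CommRing B] [Algebra k B]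
  [Module.Finite k B]

theorem finite_points : Finite (B →ₐ[k] k) :=
  (linearIndependent_algHom_toLinearMap k B k).finite

theorem isNilpotent_of_forall {x : B} (h : ∀ γ : B →ₐ[k] k, γ x = 0) : IsNilpotent x := by
  haveI : IsArtinianRing B := IsArtinianRing.of_finite k B
  rw [← mem_nilradical, nilradical_eq_sInf, Ideal.mem_sInf]
  intro J hJ
  have : J.IsPrime := hJ
  have : J.IsMaximal := IsArtinianRing.isMaximal_of_isPrime J
  letI : Field (B ⧸ J) := Ideal.Quotient.field J
  let e := AlgEquiv.ofBijective (Algebra.ofId k (B ⧸ J))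
    IsAlgClosed.algebraMap_bijective_of_isIntegral
  have h1 := h ((e.symm : (B ⧸ J) →ₐ[k] k).comp (Ideal.Quotient.mkₐ k J))
  simpa [Ideal.Quotient.eq_zero_iff_mem] using h1

theorem eq_zero_of_idem {x : B} (hx : IsIdempotentElem x) (h : ∀ γ : B →ₐ[k] k, γ x = 0) :
    x = 0 := hx.eq_zero_of_isNilpotent (isNilpotent_of_forall h)

theorem idem_ext {e f : B} (he : IsIdempotentElem e) (hf : IsIdempotentElem f)
    (h : ∀ γ : B →ₐ[k] k, γ e = γ f) : e = f := by
  have hpt : ∀ γ : B →ₐ[k] k, IsIdempotentElem (γ e) := fun γ => he.map γ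
  have h1 : e * (1 - f) = 0 := eq_zero_of_idem (k := k) (he.mul hf.one_sub) fun γ => by
    rw [map_mul, map_sub, map_one, ← h γ, mul_sub, mul_one, (hpt γ).eq, sub_self]
  have h2 : f * (1 - e) = 0 := eq_zero_of_idem (k := k) (hf.mul he.one_sub) fun γ => by
    rw [map_mul, map_sub, map_one, ← h γ, mul_sub, mul_one, (hpt γ).eq, sub_self]
  linear_combination h1 - h2

theorem pow_finrank_eq_bot {I : Ideal B} (hI : IsNilpotent I) :
    I ^ Module.finrank k B = ⊥ := by
  obtain ⟨M, hM⟩ := hI
  have key : ∀ j, I ^ j = ⊥ ∨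
      Module.finrank k ((I ^ j).restrictScalars k) + j ≤ Module.finrank k B := by
    intro j
    induction j with
    | zero => exact Or.inr (Submodule.finrank_le _)
    | succ j ih =>
      rcases eq_or_ne (I ^ (j + 1)) ⊥ with h | h
      · exact Or.inl h
      refine Or.inr ?_
      rcases ih with h0 | hle
      · exact absurd (by rw [pow_succ, h0, Submodule.bot_mul]) h
      have hlt : (I ^ (j + 1)).restrictScalars k < (I ^ j).restrictScalars k := by
        refine lt_of_le_of_ne (Ideal.pow_le_pow_right j.le_succ) fun heq => h ?_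
        have heq' : I ^ (j + 1) = I ^ j := Submodule.restrictScalars_injective k B B heq
        have hall : ∀ t, I ^ (j + t) = I ^ j := by
          intro t
          induction t with
          | zero => simp
          | succ t iht => rw [← add_assoc, pow_succ, iht, ← pow_succ, heq']
        rw [heq', ← hall M, pow_add, hM, mul_zero, Ideal.zero_eq_bot]
      have := Submodule.finrank_lt_finrank_of_lt hlt
      omega
  rcases key (Module.finrank k B) with h | h
  · exact h
  · have h0 : Module.finrank k ((I ^ Module.finrank k B).restrictScalars k) = 0 := by omega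
    rw [Submodule.finrank_eq_zero] at h0
    exact Submodule.restrictScalars_injective k B B (h0.trans (Submodule.restrictScalars_bot k B B).symm)

end Alg

variable {k : Type u} [Field k] [IsAlgClosed k] {A : Type v} [CommRing A] [HopfAlgebra k A]
  [Module.Finite k A]

variable (k A) in
theorem exists_identity_idempotent :
    ∃ e : A, IsIdempotentElem e ∧
      CoalgebraStruct.counit (R := k) e = 1 ∧
      ∀ γ : A →ₐ[k] k, toConv γ ≠ 1 → γ e = 0 := by
  classical
  haveI := finite_points (k := k) (B := A)
  haveI := Fintype.ofFinite (A →ₐ[k] k)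
  let ev : A →ₐ[k] ((A →ₐ[k] k) → k) := AlgHom.pi fun γ => γ
  have hev : Function.Surjective ev.toLinearMap := by
    rw [← LinearMap.dualMap_injective_iff, injective_iff_map_eq_zero]
    intro φ hφ
    have hli := Fintype.linearIndependent_iff.1 (linearIndependent_algHom_toLinearMap k A k)
      (fun γ => φ (Pi.single γ 1)) (by
        refine LinearMap.ext fun a => ?_
        have h1 : φ (ev a) = 0 := LinearMap.congr_fun hφ a
        have h2 : ev a = ∑ γ : A →ₐ[k] k, γ a • Pi.single (M := fun _ => k) γ (1 : k) := by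
          funext δ
          simp [ev, Finset.sum_apply, Pi.single_apply]
        rw [h2, map_sum] at h1
        simpa [mul_comm] using h1)
    refine LinearMap.pi_ext' fun γ => LinearMap.ext_ring ?_
    simpa using hli γ
  have hker : ∀ x ∈ RingHom.ker (ev : A →+* ((A →ₐ[k] k) → k)), IsNilpotent x := fun x hx =>
    isNilpotent_of_forall (k := k) fun γ => congrFun hx γ
  obtain ⟨e, he, hee⟩ := exists_isIdempotentElem_eq_of_ker_isNilpotent _ hker
    (fun γ => if toConv γ = 1 then 1 else 0) (by obtain ⟨a, ha⟩ := hev _; exact ⟨a, ha⟩)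
    (funext fun γ => by by_cases hγ : toConv γ = 1 <;> simp [hγ])
  refine ⟨e, he, ?_, fun γ hγ => ?_⟩
  · have h1 : Bialgebra.counitAlgHom k A e = _ := congrFun hee (Bialgebra.counitAlgHom k A)
    rw [if_pos (show toConv (Bialgebra.counitAlgHom k A) = 1 from WithConv.ofConv_injective (AlgHom.ext fun x => rfl)),
      Bialgebra.counitAlgHom_apply] at h1
    exact h1
  · have h1 : γ e = _ := congrFun hee γ
    rwa [if_neg hγ] at h1

variable {e : A} (he : IsIdempotentElem e) (hε : CoalgebraStruct.counit (R := k) e = 1)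
  (hoff : ∀ γ : A →ₐ[k] k, toConv γ ≠ 1 → γ e = 0)

variable (e) in
/-- the ideal of the identity component -/
abbrev comp0 : Ideal A := Ideal.span {1 - e}

omit [IsAlgClosed k] [Module.Finite k A] [HopfAlgebra k A] in
include he in
theorem mul_eq_zero_of_mem {a : A} (ha : a ∈ comp0 e) : a * e = 0 := by
  obtain ⟨c, rfl⟩ := Ideal.mem_span_singleton'.1 ha
  rw [mul_assoc, sub_mul, one_mul, he.eq, sub_self, mul_zero]

omit [IsAlgClosed k] [Module.Finite k A] [HopfAlgebra k A] in
include he in
theorem mk_e : Ideal.Quotient.mk (comp0 e) e = 1 := by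
  rw [← map_one (Ideal.Quotient.mk (comp0 e)), eq_comm, Ideal.Quotient.eq]
  exact Ideal.subset_span rfl

include he hε hoff in
theorem eq_counit_of_mk (γ : (A ⧸ comp0 e) →ₐ[k] k) (a : A) :
    γ (Ideal.Quotient.mk _ a) = CoalgebraStruct.counit (R := k) a := by
  have h1 : toConv (γ.comp (Ideal.Quotient.mkₐ k (comp0 e))) = 1 := by
    by_contra h
    have h2 := hoff _ h
    rw [AlgHom.comp_apply, Ideal.Quotient.mkₐ_eq_mk, mk_e he, map_one] at h2
    exact one_ne_zero h2
  have := congrArg (fun t : WithConv (A →ₐ[k] k) => t a) h1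
  simpa [AlgHom.convOne_apply] using this

include he hε hoff in
theorem isHopfIdeal : (comp0 e).IsHopfIdeal k := by
  let π := Ideal.Quotient.mkₐ k (comp0 e)
  have hπe : π e = 1 := mk_e he
  have hc : ∀ x ∈ comp0 e, CoalgebraStruct.counit (R := k) x = 0 := by
    intro x hx
    have := congrArg (Bialgebra.counitAlgHom k A) (mul_eq_zero_of_mem he hx)
    rwa [map_mul, Bialgebra.counitAlgHom_apply, Bialgebra.counitAlgHom_apply, hε, mul_one, map_zero] at this
  haveI : ((comp0 e).restrictScalars k).IsCoideal := by
    refine ⟨hc, fun x hx => ?_⟩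
    have hΔ : Algebra.TensorProduct.map π π (Bialgebra.comulAlgHom k A e) = 1 := by
      refine idem_ext (k := k) ((he.map (Bialgebra.comulAlgHom k A)).map _) IsIdempotentElem.one
        fun γ => ?_
      have h1 : ∀ z : A ⊗[k] A, γ (Algebra.TensorProduct.map π π z) =
          LinearMap.mul' k k (TensorProduct.map (CoalgebraStruct.counit (R := k))
            (CoalgebraStruct.counit (R := k)) z) := by
        intro z
        induction z with
        | zero => simp
        | add p q hp hq => simp only [map_add, hp, hq]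
        | tmul p q =>
          rw [Algebra.TensorProduct.map_tmul, show (π p ⊗ₜ[k] π q : (A ⧸ comp0 e) ⊗[k] (A ⧸ comp0 e)) =
            Algebra.TensorProduct.includeLeft (R := k) (S := k) (B := A ⧸ comp0 e) (π p) *
              Algebra.TensorProduct.includeRight (π q) by simp,
            map_mul]
          exact congrArg₂ (· * ·)
            (eq_counit_of_mk he hε hoff (γ.comp (Algebra.TensorProduct.includeLeft (R := k) (S := k))) p)
            (eq_counit_of_mk he hε hoff (γ.comp Algebra.TensorProduct.includeRight) q)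
      rw [h1, map_one, Bialgebra.comulAlgHom_apply,
        ← LinearMap.lTensor_comp_rTensor, LinearMap.comp_apply, Coalgebra.rTensor_counit_comul]
      simp [hε]
    obtain ⟨c, rfl⟩ := Ideal.mem_span_singleton'.1 hx
    show Algebra.TensorProduct.map π π (Bialgebra.comulAlgHom k A (c * (1 - e))) = 0
    rw [map_mul, map_mul, map_sub, map_sub, map_one, map_one, hΔ, sub_self, mul_zero]
  refine Ideal.IsHopfIdeal.mk fun x hx => ?_
  have hS : π (HopfAlgebra.antipodeAlgHom k A e) = 1 := by
    refine idem_ext (k := k) ((he.map (HopfAlgebra.antipodeAlgHom k A)).map π) IsIdempotentElem.one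
      fun γ => ?_
    rw [map_one]
    refine (eq_counit_of_mk he hε hoff γ _).trans ?_
    show CoalgebraStruct.counit (R := k) (HopfAlgebraStruct.antipode (R := k) e) = 1
    rw [HopfAlgebra.counit_antipode, hε]
  obtain ⟨c, rfl⟩ := Ideal.mem_span_singleton'.1 hx
  rw [← Ideal.Quotient.eq_zero_iff_mem]
  show π (HopfAlgebra.antipodeAlgHom k A (c * (1 - e))) = 0
  rw [map_mul, map_mul, map_sub, map_sub, map_one, map_one, hS, sub_self, mul_zero]

include he hε hoff in
theorem isLocalRing_comp0 : IsLocalRing (A ⧸ comp0 e) := by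
  haveI := isHopfIdeal he hε hoff
  haveI : Nontrivial (A ⧸ comp0 e) := Bialgebra.nontrivial (R := k) (A := A ⧸ comp0 e)
  refine IsLocalRing.of_isUnit_or_isUnit_one_sub_self fun a => ?_
  obtain ⟨b, rfl⟩ := Ideal.Quotient.mk_surjective a
  have hu : ∀ c : A, CoalgebraStruct.counit (R := k) c ≠ 0 → IsUnit (Ideal.Quotient.mk (comp0 e) c) := by
    intro c hc
    have hn : IsNilpotent (Ideal.Quotient.mk (comp0 e) c -
        algebraMap k (A ⧸ comp0 e) (CoalgebraStruct.counit (R := k) c)) :=
      isNilpotent_of_forall (k := k) fun γ => by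
        rw [map_sub, eq_counit_of_mk he hε hoff γ c, AlgHom.commutes, Algebra.algebraMap_self,
          RingHom.id_apply, sub_self]
    simpa using hn.isUnit_add_left_of_commute ((Ne.isUnit hc).map (algebraMap k (A ⧸ comp0 e)))
      (Commute.all _ _)
  by_cases hb : CoalgebraStruct.counit (R := k) b = 0
  · right
    rw [← map_one (Ideal.Quotient.mk (comp0 e)), ← map_sub]
    exact hu _ (by rw [map_sub, Bialgebra.counit_one, hb, sub_zero]; exact one_ne_zero)
  · exact Or.inl (hu b hb)

include he hε hoff in
theorem finrank_eq :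
    Module.finrank k A = Nat.card (WithConv (A →ₐ[k] k)) * Module.finrank k (A ⧸ comp0 e) := by
  classical
  haveI := finite_points (k := k) (B := A)
  haveI : Finite (WithConv (A →ₐ[k] k)) := Finite.of_injective _ WithConv.ofConv_injective
  haveI := Fintype.ofFinite (WithConv (A →ₐ[k] k))
  let T : WithConv (A →ₐ[k] k) → A ≃ₐ[k] A := fun γ => Aug.translEquiv γ.ofConv
  let E : WithConv (A →ₐ[k] k) → A := fun γ => (T γ).symm e
  have hpt : ∀ γ' γ : WithConv (A →ₐ[k] k), γ'.ofConv (E γ) = if γ' = γ then 1 else 0 := by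
    intro γ' γ
    rw [← Aug.counit_transl γ'.ofConv (E γ)]
    show CoalgebraStruct.counit (R := k) (((Aug.transl γ'.ofConv).comp (Aug.transl _)) e) = _
    rw [Aug.transl_comp, Aug.counit_transl]
    simp only [WithConv.toConv_ofConv]
    split_ifs with h
    · subst h
      rw [mul_inv_cancel]
      simpa [AlgHom.convOne_apply] using hε
    · exact hoff _ (by simpa [mul_inv_eq_one] using h)
  have hEid : ∀ γ, IsIdempotentElem (E γ) := fun γ => he.map _
  have hEsum : ∑ γ, E γ = 1 := by
    have horth : ∀ γ γ', γ ≠ γ' → E γ * E γ' = 0 := fun γ γ' hne =>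
      eq_zero_of_idem (k := k) ((hEid γ).mul (hEid γ')) fun δ => by
        have h1 := hpt (toConv δ) γ
        have h2 := hpt (toConv δ) γ'
        rw [WithConv.ofConv_toConv] at h1 h2
        rw [map_mul, h1, h2]
        split_ifs with a b <;> simp_all
    refine idem_ext (k := k) ?_ IsIdempotentElem.one fun δ => ?_
    · rw [IsIdempotentElem, Finset.sum_mul_sum]
      refine Finset.sum_congr rfl fun γ _ => ?_
      rw [Finset.sum_eq_single γ (fun γ' _ h => horth γ γ' (Ne.symm h)) (by simp)]
      exact hEid γ
    · have h1 := fun γ => hpt (toConv δ) γ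
      simp only [WithConv.ofConv_toConv] at h1
      rw [map_sum, map_one, Finset.sum_congr rfl fun γ _ => h1 γ]
      simp
  let ψ : A →ₗ[k] (WithConv (A →ₐ[k] k) → A ⧸ comp0 e) :=
    LinearMap.pi fun γ => ((Ideal.Quotient.mkₐ k (comp0 e)).comp (T γ : A →ₐ[k] A)).toLinearMap
  have hψ : Function.Bijective ψ := by
    refine ⟨?_, fun f => ?_⟩
    · rw [injective_iff_map_eq_zero]
      intro a ha
      have h1 : ∀ γ, a * E γ = 0 := fun γ => by
        apply (T γ).injective
        rw [map_mul, map_zero, AlgEquiv.apply_symm_apply]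
        exact mul_eq_zero_of_mem he (Ideal.Quotient.eq_zero_iff_mem.1 (congrFun ha γ))
      rw [← mul_one a, ← hEsum, Finset.mul_sum, Finset.sum_eq_zero fun γ _ => h1 γ]
    · choose b hb using fun γ => Ideal.Quotient.mk_surjective (f γ)
      refine ⟨∑ γ, E γ * (T γ).symm (b γ), funext fun δ => ?_⟩
      show Ideal.Quotient.mk (comp0 e) (T δ (∑ γ, E γ * (T γ).symm (b γ))) = f δ
      rw [map_sum, map_sum, Finset.sum_eq_single δ]
      · rw [map_mul, AlgEquiv.apply_symm_apply, AlgEquiv.apply_symm_apply, map_mul, mk_e he,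
          one_mul, hb]
      · intro γ _ hne
        have h0 : Ideal.Quotient.mk (comp0 e) (T δ (E γ)) = 0 := by
          refine eq_zero_of_idem (k := k) (((hEid γ).map (T δ)).map (Ideal.Quotient.mk (comp0 e))) fun η => ?_
          rw [eq_counit_of_mk he hε hoff η]
          show CoalgebraStruct.counit (R := k) (Aug.transl δ.ofConv (E γ)) = 0
          rw [Aug.counit_transl, hpt δ γ, if_neg hne.symm]
        rw [map_mul, map_mul, h0, zero_mul]
      · simp
  rw [(LinearEquiv.ofBijective ψ hψ).finrank_eq, Module.finrank_pi_fintype]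
  simp [Nat.card_eq_fintype_card]

omit [IsAlgClosed k] [Module.Finite k A] in
/-- convolution powers as linear maps -/
theorem toLinearMap_pow (g : WithConv (A →ₐ[k] A)) :
    ∀ n : ℕ, toConv (g ^ n).ofConv.toLinearMap = toConv g.ofConv.toLinearMap ^ n
  | 0 => by rw [pow_zero, pow_zero]; rfl
  | n + 1 => by
    rw [pow_succ, pow_succ, ← toLinearMap_pow g n]
    apply WithConv.ext
    ext a
    simp only [LinearMap.convMul_def, AlgHom.convMul_def, WithConv.ofConv_toConv,
      AlgHom.toLinearMap_apply, AlgHom.comp_apply, Bialgebra.comulAlgHom_apply, LinearMap.comp_apply]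
    generalize CoalgebraStruct.comul (R := k) a = z
    induction z with
    | zero => simp
    | add p q hp hq => simp only [map_add, hp, hq]
    | tmul p q => simp

omit [IsAlgClosed k] [Module.Finite k A] in
theorem conv_pow_mem {f : A →ₗ[k] A} {J : Ideal A} (hf : ∀ a, f a ∈ J) :
    ∀ (n : ℕ) (a : A), (toConv f ^ n).ofConv a ∈ J ^ n
  | 0, a => by simp
  | n + 1, a => by
    rw [pow_succ, pow_succ, LinearMap.convMul_def]
    simp only [LinearMap.comp_apply, WithConv.ofConv_toConv]
    generalize CoalgebraStruct.comul (R := k) a = z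
    induction z with
    | zero => simp
    | add p q hp hq => simp only [map_add]; exact Ideal.add_mem _ hp hq
    | tmul p q => simpa using Ideal.mul_mem_mul (conv_pow_mem hf n p) (hf q)

variable (k A) in
theorem pow_finrank_eq_one :
    toConv (AlgHom.id k A) ^ Module.finrank k A = 1 := by
  classical
  obtain ⟨e, he, hε, hoff⟩ := exists_identity_idempotent k A
  haveI := isHopfIdeal he hε hoff
  haveI := isLocalRing_comp0 he hε hoff
  haveI := finite_points (k := k) (B := A)
  haveI : Finite (WithConv (A →ₐ[k] k)) := Finite.of_injective _ WithConv.ofConv_injective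
  haveI : Nontrivial A := Bialgebra.nontrivial (R := k) (A := A)
  rw [finrank_eq he hε hoff, pow_mul]
  set N := Nat.card (WithConv (A →ₐ[k] k)) with hN
  set h := toConv (AlgHom.id k A) ^ N with hh
  set q := Module.finrank k (A ⧸ comp0 e) with hq
  have he1 : h.ofConv e = 1 := by
    refine idem_ext (k := k) (he.map _) IsIdempotentElem.one fun γ => ?_
    have hγ : ∀ m : ℕ, toConv (γ.comp (toConv (AlgHom.id k A) ^ m).ofConv) = toConv γ ^ m := by
      intro m
      induction m with
      | zero => rw [pow_zero, pow_zero]; apply WithConv.ext; ext a; simp [AlgHom.convOne_apply]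
      | succ m ih => rw [pow_succ, pow_succ, ← ih, AlgHom.comp_convMul_distrib]; rfl
    have h1 := congrArg (fun t : WithConv (A →ₐ[k] k) => t e) (hγ N)
    rw [hN, pow_card_eq_one'] at h1
    simp only [AlgHom.convOne_apply, hε, map_one] at h1
    rw [map_one]
    exact h1
  have hzero : ∀ a ∈ Aug.aug k A ^ q, h.ofConv a = 0 := by
    intro a ha
    have hm : Ideal.Quotient.mk (comp0 e) a = 0 := by
      have h1 := Ideal.mem_map_of_mem (Ideal.Quotient.mk (comp0 e)) ha
      rw [Ideal.map_pow] at h1
      have hnil : IsNilpotent (Aug.aug k (A ⧸ comp0 e)) := Infinitesimal.isNilpotent_aug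
      have h2 : (Aug.aug k A).map (Ideal.Quotient.mk (comp0 e)) ≤ Aug.aug k (A ⧸ comp0 e) := by
        rw [Ideal.map_le_iff_le_comap]
        intro x hx
        rw [Ideal.mem_comap, Aug.mem_aug_iff]
        exact (Aug.mem_aug_iff.1 hx)
      have h3 := Ideal.pow_right_mono h2 q h1
      rwa [hq, pow_finrank_eq_bot hnil, Ideal.mem_bot] at h3
    have h4 := congrArg h.ofConv (mul_eq_zero_of_mem he (Ideal.Quotient.eq_zero_iff_mem.1 hm))
    rwa [map_mul, he1, mul_one, map_zero] at h4
  let f : A →ₗ[k] A := h.ofConv.toLinearMap - (1 : WithConv (A →ₗ[k] A)).ofConv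
  have hf : ∀ a, f a ∈ (Aug.aug k A).map h.ofConv := by
    intro a
    have h1 : f a = h.ofConv (a - algebraMap k A (CoalgebraStruct.counit (R := k) a)) := by
      rw [map_sub, AlgHom.commutes]
      simp [f, LinearMap.convOne_apply]
    rw [h1]
    exact Ideal.mem_map_of_mem _ (Aug.sub_mem_aug a)
  have hfq : toConv f ^ q = 0 := by
    apply WithConv.ext
    ext a
    have h1 := conv_pow_mem hf q a
    rw [← Ideal.map_pow] at h1
    have h2 : (Aug.aug k A ^ q).map h.ofConv = ⊥ := by
      rw [eq_bot_iff, Ideal.map_le_iff_le_comap]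
      exact fun x hx => Ideal.mem_comap.2 ((Submodule.mem_bot A).2 (hzero x hx))
    rw [h2, Ideal.mem_bot] at h1
    exact h1
  have hlin : toConv h.ofConv.toLinearMap ^ q = 1 := by
    have hfe : toConv f = toConv h.ofConv.toLinearMap - 1 := rfl
    rw [hfe] at hfq
    obtain ⟨p, hp⟩ := ExpChar.exists k
    cases hp with
    | zero =>
      have : q = 1 := Hopf35.Loc.charZero_eq_one k
      rw [this, pow_one] at hfq ⊢
      exact sub_eq_zero.1 hfq
    | prime hp =>
      haveI := Fact.mk hp
      obtain ⟨r, ee, -, ⟨E⟩⟩ := Infinitesimal.exists_truncated (k := k) p _ (A ⧸ comp0 e) rfl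
      have hqp : q = p ^ ∑ i, ee i := by
        rw [hq, E.toLinearEquiv.finrank_eq, TruncPoly.finrank_quotient, Finset.prod_pow_eq_pow_sum]
      haveI : Nontrivial (WithConv (A →ₗ[k] A)) := ⟨1, 0, fun h0 => by
        have h1 := congrArg (fun t : WithConv (A →ₗ[k] A) => t.ofConv 1) h0
        simp [LinearMap.convOne_apply] at h1⟩
      haveI : CharP (WithConv (A →ₗ[k] A)) p := by
        refine (CharP.charP_iff_prime_eq_zero hp).2 ?_
        rw [← nsmul_one p, ← Nat.cast_smul_eq_nsmul k, CharP.cast_eq_zero, zero_smul]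
      haveI : ExpChar (WithConv (A →ₗ[k] A)) p := ExpChar.prime hp
      rw [hqp, sub_pow_expChar_pow_of_commute p _ (Commute.one_right _), one_pow, sub_eq_zero] at hfq
      rw [hqp]
      exact hfq
  rw [← toLinearMap_pow] at hlin
  apply WithConv.ext
  ext a
  exact congrArg (fun t : WithConv (A →ₗ[k] A) => t.ofConv a) hlin

end Groth.Agent.Comod33.FinGrp
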