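import Mathlib.RingTheory.MvPolynomial.Ideal
import Mathlib.RingTheory.MvPolynomial.Basic
import Mathlib.LinearAlgebra.Dimension.Finrank
import Mathlib.LinearAlgebra.FiniteDimensional.Basic

/-!
Truncated polynomial algebras.
-/

universe u

open MvPolynomial

noncomputable section

namespace Groth.Agent.Comod33.TruncPoly

variable {k : Type u} [Field k] {r : ℕ} (q : Fin r → ℕ)

/-- the ideal of truncation -/
abbrev rel : Ideal (MvPolynomial (Fin r) k) :=
  Ideal.span (Set.range fun i : Fin r => (X i : MvPolynomial (Fin r) k) ^ q i)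

theorem rel_eq : rel (k := k) q = Ideal.span
    ((fun s => monomial s (1 : k)) '' Set.range fun i => Finsupp.single i (q i)) := by
  rw [← Set.range_comp]
  exact congrArg (fun f : Fin r → MvPolynomial (Fin r) k => Ideal.span (Set.range f))
    (funext fun i => X_pow_eq_monomial)

theorem mem_rel_iff (P : MvPolynomial (Fin r) k) :
    P ∈ rel q ↔ ∀ d ∈ P.support, ∃ i, q i ≤ d i := by
  rw [rel_eq, mem_ideal_span_monomial_image]
  simp only [Set.exists_range_iff, Finsupp.single_le_iff]

/-- polynomials with small exponents -/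
abbrev small : Set (Fin r →₀ ℕ) := {d | ∀ i, d i < q i}

theorem exists_small (P : MvPolynomial (Fin r) k) :
    ∃ P' : MvPolynomial (Fin r) k, P - P' ∈ rel q ∧ ∀ d ∈ P'.support, d ∈ small q := by
  classical
  refine ⟨∑ d ∈ P.support.filter (fun d => ∀ i, d i < q i), monomial d (coeff d P), ?_, ?_⟩
  · nth_rewrite 1 [P.as_sum]
    rw [← Finset.sum_filter_add_sum_filter_not P.support (fun d => ∀ i, d i < q i), add_sub_cancel_left]
    refine Ideal.sum_mem _ fun d hd => ?_
    obtain ⟨-, hd⟩ := Finset.mem_filter.1 hd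
    push Not at hd
    rw [mem_rel_iff]
    intro e he
    rw [Finset.mem_singleton.1 (support_monomial_subset he)]
    exact hd
  · intro d hd
    obtain ⟨e, he, hde⟩ := Finset.mem_biUnion.1 (support_sum hd)
    rw [Finset.mem_singleton.1 (support_monomial_subset hde)]
    exact (Finset.mem_filter.1 he).2

theorem eq_zero_of_mem_rel {P : MvPolynomial (Fin r) k} (hP : ∀ d ∈ P.support, d ∈ small q)
    (h : P ∈ rel q) : P = 0 := by
  rw [← support_eq_empty, Finset.eq_empty_iff_forall_notMem]
  intro d hd
  obtain ⟨i, hi⟩ := (mem_rel_iff q P).1 h d hd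
  exact absurd (hP d hd i) (not_lt.2 hi)

theorem finrank_quotient :
    Module.finrank k (MvPolynomial (Fin r) k ⧸ rel (k := k) q) = ∏ i, q i := by
  classical
  let e : (∀ i, Fin (q i)) ≃ small q :=
    { toFun := fun f => ⟨Finsupp.equivFunOnFinite.symm fun i => (f i : ℕ), fun i => by simp⟩
      invFun := fun d i => ⟨(d : Fin r →₀ ℕ) i, d.2 i⟩
      left_inv := fun f => by funext i; simp
      right_inv := fun d => by ext i; simp }
  let ψ : restrictSupport k (small q) →ₗ[k] MvPolynomial (Fin r) k ⧸ rel (k := k) q :=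
    (Ideal.Quotient.mkₐ k (rel (k := k) q)).toLinearMap ∘ₗ (restrictSupport k (small q)).subtype
  have hψ : Function.Bijective ψ := by
    refine ⟨?_, fun y => ?_⟩
    · rw [← LinearMap.ker_eq_bot, LinearMap.ker_eq_bot']
      rintro ⟨P, hP⟩ h
      exact Subtype.ext (eq_zero_of_mem_rel q (fun d hd => (mem_restrictSupport_iff k).1 hP hd)
        (Ideal.Quotient.eq_zero_iff_mem.1 h))
    · obtain ⟨P, rfl⟩ := Ideal.Quotient.mk_surjective y
      obtain ⟨P', h1, h2⟩ := exists_small q P
      exact ⟨⟨P', (mem_restrictSupport_iff k).2 fun d hd => h2 d hd⟩, (Ideal.Quotient.eq.2 h1).symm⟩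
  rw [← (LinearEquiv.ofBijective ψ hψ).finrank_eq]
  let b := (MvPolynomial.basisRestrictSupport k (small q)).reindex e.symm
  rw [Module.finrank_eq_card_basis b]
  simp

end Groth.Agent.Comod33.TruncPoly
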