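import Groth.Agent.Comod33.Truncated
import Groth.Agent.Comod33.TruncPoly
import Groth.Agent.Comod33.SubHopf
import Mathlib.LinearAlgebra.Basis.VectorSpace
import Mathlib.FieldTheory.Perfect
import Mathlib.RingTheory.FiniteType

/-!
Infinitesimal group schemes: the kernel of Frobenius and the truncated polynomial description.
-/

universe u v

open MvPolynomial TensorProduct Groth.Agent.Hopf35

noncomputable section

namespace Groth.Agent.Comod33.Infinitesimal

open Comod33.Aug

variable {k : Type u} [Field k]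

theorem surjective_aeval {A : Type v} [CommRing A] [HopfAlgebra k A] (hnil : IsNilpotent (aug k A))
    {r : ℕ} (x : Fin r → A) (h : aug k A ≤ Ideal.span (Set.range x) ⊔ aug k A ^ 2)
    (hx : ∀ i, x i ∈ aug k A) : Function.Surjective (aeval (R := k) x) := by
  have hlin : ∀ a ∈ aug k A, ∃ s ∈ (aeval (R := k) x).range, s ∈ aug k A ∧ a - s ∈ aug k A ^ 2 := by
    intro a ha
    obtain ⟨s, hs, z, hz, rfl⟩ := Submodule.mem_sup.1 (h ha)
    obtain ⟨f, rfl⟩ := (Submodule.mem_span_range_iff_exists_fun A).1 hs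
    refine ⟨∑ i, algebraMap k A (CoalgebraStruct.counit (R := k) (f i)) * x i,
      Subalgebra.sum_mem _ fun i _ => Subalgebra.mul_mem _ (Subalgebra.algebraMap_mem _ _) ⟨X i, aeval_X _ _⟩,
      Ideal.sum_mem _ fun i _ => Ideal.mul_mem_left _ _ (hx i), ?_⟩
    simp only [smul_eq_mul]
    rw [add_sub_right_comm, ← Finset.sum_sub_distrib]
    refine Ideal.add_mem _ (Ideal.sum_mem _ fun i _ => ?_) hz
    rw [← sub_mul, pow_two]
    exact Ideal.mul_mem_mul (sub_mem_aug _) (hx i)
  have hpow : ∀ j, ∀ a ∈ aug k A ^ j, ∃ s ∈ (aeval (R := k) x).range, s ∈ aug k A ^ j ∧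
      a - s ∈ aug k A ^ (j + 1) := by
    intro j
    induction j with
    | zero =>
      intro a _
      exact ⟨_, Subalgebra.algebraMap_mem _ (CoalgebraStruct.counit (R := k) a), by simp,
        by simpa using sub_mem_aug a⟩
    | succ j ih =>
      intro a ha
      rw [pow_succ] at ha
      induction ha using Submodule.mul_induction_on' with
      | mem_mul_mem b hb d hd =>
        obtain ⟨s, hs, hs1, hs2⟩ := ih b hb
        obtain ⟨t, ht, ht1, ht2⟩ := hlin d hd
        refine ⟨s * t, Subalgebra.mul_mem _ hs ht, by rw [pow_succ]; exact Ideal.mul_mem_mul hs1 ht1, ?_⟩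
        rw [show b * d - s * t = b * (d - t) + (b - s) * t by ring]
        refine Ideal.add_mem _ ?_ ?_
        · rw [show j + 1 + 1 = j + 2 by ring, pow_add]; exact Ideal.mul_mem_mul hb ht2
        · rw [pow_succ]
          exact Ideal.mul_mem_mul hs2 ht1
      | add a _ b _ ha hb =>
        obtain ⟨s, hs, hs1, hs2⟩ := ha
        obtain ⟨t, ht, ht1, ht2⟩ := hb
        exact ⟨s + t, Subalgebra.add_mem _ hs ht, Ideal.add_mem _ hs1 ht1,
          by rw [add_sub_add_comm]; exact Ideal.add_mem _ hs2 ht2⟩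
  have hall : ∀ j, ∀ a : A, ∃ s ∈ (aeval (R := k) x).range, a - s ∈ aug k A ^ j := by
    intro j
    induction j with
    | zero => exact fun a => ⟨0, Subalgebra.zero_mem _, by simp⟩
    | succ j ih =>
      intro a
      obtain ⟨s, hs, hs2⟩ := ih a
      obtain ⟨t, ht, -, ht2⟩ := hpow j _ hs2
      exact ⟨s + t, Subalgebra.add_mem _ hs ht, by rw [← sub_sub]; exact ht2⟩
  obtain ⟨N, hN⟩ := hnil
  intro a
  obtain ⟨s, ⟨P, hP⟩, hs⟩ := hall N a
  rw [hN, Ideal.zero_eq_bot, Ideal.mem_bot, sub_eq_zero] at hs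
  exact ⟨P, hP.trans hs.symm⟩

variable {A : Type v} [CommRing A] [HopfAlgebra k A]

/-- derivations dual to a family independent in the cotangent space -/
theorem exists_dual {r : ℕ} (x : Fin r → aug k A)
    (hx : LinearIndependent k fun i => (aug k A).toCotangent (x i)) :
    ∃ D : Fin r → Derivation k A A,
      ∀ i j, D i (x j : A) - (if j = i then 1 else 0) ∈ aug k A := by
  classical
  obtain ⟨L, hL⟩ := LinearMap.exists_leftInverse_of_injective
    (Fintype.linearCombination k fun i => (aug k A).toCotangent (x i))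
    (LinearMap.ker_eq_bot.2 hx.fintypeLinearCombination_injective)
  let p : A →ₗ[k] aug k A :=
    LinearMap.codRestrict ((aug k A).restrictScalars k)
      (LinearMap.id - Algebra.linearMap k A ∘ₗ CoalgebraStruct.counit) fun a => sub_mem_aug a
  have hp : ∀ a : A, ∀ ha : a ∈ aug k A, p a = ⟨a, ha⟩ := fun a ha => Subtype.ext
    (show a - algebraMap k A (CoalgebraStruct.counit (R := k) a) = a by
      rw [mem_aug_iff.1 ha, map_zero, sub_zero])
  let q : A →ₗ[k] (aug k A).Cotangent := ((aug k A).toCotangent.restrictScalars k) ∘ₗ p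
  have hq2 : ∀ a ∈ aug k A ^ 2, q a = 0 := fun a ha => by
    show (aug k A).toCotangent (p a) = 0
    rw [hp a (Ideal.pow_le_self two_ne_zero ha), Ideal.toCotangent_eq_zero]
    exact ha
  have hξ : ∀ i, Loc.IsPtDer k (LinearMap.proj i ∘ₗ L ∘ₗ q) := by
    intro i a c
    have hm : (a - algebraMap k A (CoalgebraStruct.counit (R := k) a)) *
        (c - algebraMap k A (CoalgebraStruct.counit (R := k) c)) ∈ aug k A ^ 2 := by
      rw [pow_two]; exact Ideal.mul_mem_mul (sub_mem_aug a) (sub_mem_aug c)
    have h1 : q 1 = 0 := by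
      show (aug k A).toCotangent (p 1) = 0
      rw [show p 1 = 0 from Subtype.ext
        (show (1 : A) - algebraMap k A (CoalgebraStruct.counit (R := k) 1) = 0 by simp), map_zero]
    have h := congrArg (LinearMap.proj i ∘ₗ L) (hq2 _ hm)
    simp only [Algebra.algebraMap_eq_smul_one, sub_mul, mul_sub, smul_mul_assoc, mul_smul_comm,
      one_mul, mul_one, map_sub, map_smul, map_zero, h1, smul_zero, sub_zero, smul_eq_mul,
      LinearMap.comp_apply] at h
    simp only [LinearMap.comp_apply]
    linear_combination h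
  refine ⟨fun i => Loc.der (hξ i), fun i j => ?_⟩
  have e : L ((aug k A).toCotangent (x j)) i = if j = i then 1 else 0 := by
    have := congrFun (LinearMap.congr_fun hL (Pi.single j 1)) i
    simpa [Fintype.linearCombination_apply_single, Pi.single_apply, eq_comm] using this
  have hij : (LinearMap.proj i ∘ₗ L ∘ₗ q) (x j : A) = if j = i then 1 else 0 := by
    simpa [q, hp _ (x j).2] using e
  rw [mem_aug_iff, map_sub, Loc.der_apply, Loc.counit_op, hij]
  split_ifs <;> simp

section Local

variable (p : ℕ) [hp : Fact p.Prime] [CharP k p] [Module.Finite k A] [IsLocalRing A]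

omit hp [CharP k p] in
theorem aug_eq_maximal : aug k A = IsLocalRing.maximalIdeal A :=
  (Loc.maximalIdeal_eq_ker k).symm

omit hp [CharP k p] in
theorem isNilpotent_aug : IsNilpotent (aug k A) := by
  rw [aug_eq_maximal]; exact Loc.isNilpotent_maximalIdeal k

omit hp [CharP k p] in
theorem aug_le_jacobson : aug k A ≤ Ideal.jacobson ⊥ := by
  rw [aug_eq_maximal, IsLocalRing.jacobson_eq_maximalIdeal _ bot_ne_top]

omit hp [CharP k p] [Module.Finite k A] [IsLocalRing A] in
theorem aug_ne_top : aug k A ≠ ⊤ := RingHom.ker_ne_top _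

omit hp [Module.Finite k A] [IsLocalRing A] in
theorem derivation_pow_char (D : Derivation k A A) (a : A) : D (a ^ p) = 0 := by
  haveI : CharP A p := by
    haveI : Nontrivial A := Bialgebra.nontrivial (R := k) (A := A)
    exact charP_of_injective_algebraMap (algebraMap k A).injective p
  rw [Derivation.leibniz_pow]
  simp [nsmul_eq_mul, CharP.cast_eq_zero]

include p hp in
/-- the kernel of Frobenius -/
theorem nonempty_algEquiv_frobeniusKernel (d : ℕ) (hd : Module.finrank k (aug k A).Cotangent = d) :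
    Nonempty ((A ⧸ Ideal.span ((fun a : A => a ^ p) '' (aug k A : Set A))) ≃ₐ[k]
      (MvPolynomial (Fin d) k ⧸ TruncPoly.rel (k := k) fun _ : Fin d => p)) := by
  subst hd
  haveI : Module.Finite k (aug k A).Cotangent := finite_cotangent
  obtain ⟨c⟩ := nonempty_coords (k := k) (A := A)
  rw [← c.finrank_eq]
  set J := Ideal.span ((fun a : A => a ^ p) '' (aug k A : Set A))
  have hxJ : ∀ i, c.x i ^ p ∈ J := fun i => Ideal.subset_span ⟨_, c.mem i, rfl⟩
  have hDJ : ∀ i, ∀ z ∈ J, c.D i z ∈ J := by
    intro i z hz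
    induction hz using Submodule.span_induction with
    | mem y hy => obtain ⟨b, -, rfl⟩ := hy; rw [derivation_pow_char]; exact J.zero_mem
    | zero => rw [map_zero]; exact J.zero_mem
    | add a b _ _ ha hb => rw [map_add]; exact J.add_mem ha hb
    | smul a y hy hy' =>
      rw [smul_eq_mul, Derivation.leibniz]
      exact J.add_mem (J.mul_mem_left _ hy') (J.mul_mem_right _ hy)
  have hJm : J ≤ aug k A := by
    rw [Ideal.span_le]
    rintro _ ⟨b, hb, rfl⟩
    exact Ideal.pow_mem_of_mem _ hb _ hp.out.pos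
  let φ : MvPolynomial (Fin c.r) k →ₐ[k] A ⧸ J := (Ideal.Quotient.mkₐ k J).comp (aeval c.x)
  have hker : ∀ P ∈ TruncPoly.rel (k := k) (fun _ : Fin c.r => p), φ P = 0 := by
    intro P hP
    refine (Ideal.span_le (I := RingHom.ker φ)).2 ?_ hP
    rintro _ ⟨i, rfl⟩
    rw [SetLike.mem_coe, RingHom.mem_ker, AlgHom.comp_apply, map_pow, aeval_X]
    exact Ideal.Quotient.eq_zero_iff_mem.2 (hxJ i)
  have hsurj : Function.Surjective φ :=
    (Ideal.Quotient.mk_surjective).comp (surjective_aeval isNilpotent_aug c.x c.le_span c.mem)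
  refine ⟨(AlgEquiv.ofBijective (Ideal.Quotient.liftₐ _ φ hker) ⟨?_, ?_⟩).symm⟩
  · rw [injective_iff_map_eq_zero]
    intro y hy
    obtain ⟨P, rfl⟩ := Ideal.Quotient.mk_surjective y
    obtain ⟨P', h1, h2⟩ := TruncPoly.exists_small (fun _ : Fin c.r => p) P
    rw [Ideal.Quotient.eq.2 h1] at hy ⊢
    change φ P' = 0 at hy
    suffices P' = 0 by rw [this, map_zero]
    rw [AlgHom.comp_apply, Ideal.Quotient.mkₐ_eq_mk, Ideal.Quotient.eq_zero_iff_mem] at hy
    have hsum : ∑ a ∈ P'.support, algebraMap k A (coeff a P') * aeval c.x (monomial a (1 : k)) ∈ J := by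
      convert hy using 1
      conv_rhs => rw [P'.as_sum, map_sum]
      exact Finset.sum_congr rfl fun a _ => by simp [aeval_monomial]
    have h3 := Trunc.mem_of_sum_mem c.D c.mem c.delta p aug_le_jacobson aug_ne_top J hDJ P'.support
      (fun a ha => h2 a ha) _ (fun a _ i => Derivation.map_algebraMap _ _) hsum
    rw [← support_eq_empty, Finset.eq_empty_iff_forall_notMem]
    intro a ha
    have h4 := hJm (h3 a ha)
    rw [mem_aug_iff, Bialgebra.counit_algebraMap] at h4
    exact mem_support_iff.1 ha h4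
  · exact fun y => let ⟨P, hP⟩ := hsurj y; ⟨Ideal.Quotient.mk _ P, hP⟩

end Local

end Groth.Agent.Comod33.Infinitesimal
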