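import Groth.Agent.Comod33.FrobImage
import Mathlib.RingTheory.MvPolynomial.Ideal

/-!
Infinitesimal group schemes over a perfect field have truncated polynomial coordinate rings.
-/

universe u v

open MvPolynomial TensorProduct Groth.Agent.Hopf35

noncomputable section

namespace Groth.Agent.Comod33.Infinitesimal

open Comod33.Aug

variable {k : Type u} [Field k] [PerfectField k] (p : ℕ) [hp : Fact p.Prime] [CharP k p]

omit [PerfectField k] hp [CharP k p] in
theorem mem_idealOfVars_iff {s : ℕ} (P : MvPolynomial (Fin s) k) :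
    P ∈ idealOfVars (Fin s) k ↔ coeff 0 P = 0 := by
  rw [← pow_one (idealOfVars (Fin s) k), mem_pow_idealOfVars_iff']
  refine ⟨fun h => h 0 (by simp), fun h d hd => ?_⟩
  rw [show d = 0 from (Finsupp.degree_eq_zero_iff d).1 (by omega)]
  exact h

section Step

variable {A : Type v} [CommRing A] [HopfAlgebra k A] {s : ℕ} {e : Fin s → ℕ}
  (he : ∀ i, 1 ≤ e i) (y : Fin s → A)
  (hker : ∀ P : MvPolynomial (Fin s) k, aeval y P = 0 ↔ P ∈ TruncPoly.rel (k := k) fun i => p ^ e i)

omit [PerfectField k] in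
include he hker in
theorem counit_y (i : Fin s) : CoalgebraStruct.counit (R := k) (y i) = 0 := by
  have h : aeval y (X i ^ p ^ e i : MvPolynomial (Fin s) k) = 0 :=
    (hker _).2 (Ideal.subset_span ⟨i, rfl⟩)
  rw [map_pow, aeval_X] at h
  have h2 := congrArg (Bialgebra.counitAlgHom k A) h
  rw [map_pow, map_zero, Bialgebra.counitAlgHom_apply] at h2
  exact eq_zero_of_pow_eq_zero h2

omit [PerfectField k] in
include he hker in
theorem counit_aeval (P : MvPolynomial (Fin s) k) :
    CoalgebraStruct.counit (R := k) (aeval y P) = coeff 0 P := by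
  have h : (Bialgebra.counitAlgHom k A).comp (aeval y) = aeval fun _ : Fin s => (0 : k) :=
    algHom_ext fun i => by simp [counit_y p he y hker i]
  have h2 := congrArg (fun f : MvPolynomial (Fin s) k →ₐ[k] k => f P) h
  simp only [AlgHom.comp_apply, Bialgebra.counitAlgHom_apply] at h2
  rw [h2]
  simp [aeval_def, eval₂_zero'_apply, constantCoeff_eq]

variable [CharP A p] (hsurj : ∀ a : A, ∃ P : MvPolynomial (Fin s) k, aeval y P = a ^ p)
  (x : Fin s → A) (hxy : ∀ i, x i ^ p = y i)

include hxy in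
omit [PerfectField k] [CharP k p] in
theorem aeval_pow (Q : MvPolynomial (Fin s) k) [ExpChar k p] :
    aeval x Q ^ p = aeval y (MvPolynomial.map (frobenius k p) Q) := by
  haveI : ExpChar A p := ExpChar.prime hp.out
  induction Q using MvPolynomial.induction_on with
  | C a => simp [frobenius_def, map_pow]
  | add a b ha hb => simp only [map_add, add_pow_expChar, ha, hb]
  | mul_X a i ha => simp only [map_mul, MvPolynomial.map_X, aeval_X, mul_pow, ha, hxy]

include he hker hsurj in
omit [PerfectField k] in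
theorem exists_sq {a : A} (ha : a ∈ aug k A ^ 2) :
    ∃ P : MvPolynomial (Fin s) k, P ∈ idealOfVars (Fin s) k ^ 2 ∧ aeval y P = a ^ p := by
  haveI : ExpChar A p := ExpChar.prime hp.out
  rw [pow_two] at ha
  induction ha using Submodule.mul_induction_on' with
  | mem_mul_mem b hb c hc =>
    obtain ⟨P, hP⟩ := hsurj b
    obtain ⟨Q, hQ⟩ := hsurj c
    have h : ∀ {d : A} {R : MvPolynomial (Fin s) k}, d ∈ aug k A → aeval y R = d ^ p →
        R ∈ idealOfVars (Fin s) k := by
      intro d R hd hR
      rw [mem_idealOfVars_iff, ← counit_aeval p he y hker, hR, ← Bialgebra.counitAlgHom_apply,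
        map_pow, Bialgebra.counitAlgHom_apply, mem_aug_iff.1 hd, zero_pow hp.out.ne_zero]
    exact ⟨P * Q, by rw [pow_two]; exact Ideal.mul_mem_mul (h hb hP) (h hc hQ),
      by rw [map_mul, hP, hQ, mul_pow]⟩
  | add a _ b _ ha hb =>
    obtain ⟨P, hP, hP'⟩ := ha
    obtain ⟨Q, hQ, hQ'⟩ := hb
    exact ⟨P + Q, Ideal.add_mem _ hP hQ, by rw [map_add, hP', hQ', add_pow_expChar]⟩

include he hker hsurj hxy in
omit [PerfectField k] in
theorem coeff_eq_zero (c : Fin s → k) {z : A} (hz : z ^ p = 0)
    (h : ∑ i, c i • x i + z ∈ aug k A ^ 2) (i : Fin s) : c i = 0 := by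
  haveI : ExpChar A p := ExpChar.prime hp.out
  obtain ⟨P, hP, hP'⟩ := exists_sq p he y hker hsurj h
  rw [add_pow_expChar, hz, add_zero, sum_pow_char] at hP'
  have h2 : P - ∑ j, C (c j ^ p) * X j ∈ TruncPoly.rel (k := k) fun i => p ^ e i := by
    rw [← hker, map_sub, hP', map_sum, sub_eq_zero]
    exact Finset.sum_congr rfl fun j _ => by
      rw [_root_.smul_pow, hxy, map_mul, aeval_C, aeval_X, Algebra.smul_def]
  have h3 : coeff (Finsupp.single i 1) (P - ∑ j, C (c j ^ p) * X j) = 0 := by
    by_contra h0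
    obtain ⟨l, hl⟩ := (TruncPoly.mem_rel_iff _ _).1 h2 _ (mem_support_iff.2 h0)
    have hpl : 2 ≤ p ^ e l := le_trans hp.out.two_le (Nat.le_self_pow (by have := he l; omega) p)
    have : Finsupp.single i 1 l ≤ 1 := by rw [Finsupp.single_apply]; split_ifs <;> omega
    omega
  have h4 : coeff (Finsupp.single i 1) P = 0 :=
    (mem_pow_idealOfVars_iff' _ _).1 hP _ (by simp)
  classical
  rw [coeff_sub, h4, zero_sub, neg_eq_zero, coeff_sum] at h3
  simp only [coeff_C_mul, coeff_X', Finsupp.single_left_inj one_ne_zero, mul_ite, mul_one, mul_zero,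
    Finset.sum_ite_eq', Finset.mem_univ, if_true] at h3
  exact eq_zero_of_pow_eq_zero h3

end Step

theorem fin_append_apply {α : Type*} {s t : ℕ} (f : Fin s → α) (g : Fin t → α) :
    (∀ j, Fin.append f g (Fin.castAdd t j) = f j) ∧ ∀ j, Fin.append f g (Fin.natAdd s j) = g j :=
  ⟨Fin.append_left f g, Fin.append_right f g⟩

include hp in
/-- the structure theorem -/
theorem exists_truncated : ∀ (n : ℕ) (A : Type v) [CommRing A] [HopfAlgebra k A] [Module.Finite k A]
    [IsLocalRing A], Module.finrank k A = n →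
    ∃ (r : ℕ) (e : Fin r → ℕ), (∀ i, 1 ≤ e i) ∧
      Nonempty (A ≃ₐ[k] (MvPolynomial (Fin r) k ⧸ TruncPoly.rel (k := k) fun i => p ^ e i)) := by
  intro n
  induction n using Nat.strong_induction_on with
  | _ n ih => ?_
  intro A _ _ _ _ hn
  classical
  by_cases hI : aug k A = ⊥
  · refine ⟨0, Fin.elim0, fun i => i.elim0, ?_⟩
    rw [show (fun i : Fin 0 => p ^ (Fin.elim0 i : ℕ)) = fun _ => p from funext fun i => i.elim0]
    exact aug_zero_case (k := k) p hI
  haveI : Nontrivial A := Bialgebra.nontrivial (R := k) (A := A)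
  haveI := charP_algebra (k := k) p A
  haveI : ExpChar A p := ExpChar.prime hp.out
  haveI : ExpChar k p := ExpChar.prime hp.out
  haveI : PerfectRing k p := PerfectField.toPerfectRing p
  obtain ⟨B, hBset, hB⟩ := exists_frobImage (k := k) p A 1
  have hmem : ∀ a, a ∈ B ↔ ∃ b : A, b ^ p = a := fun a => by
    rw [← SetLike.mem_coe, hBset]; simp
  letI : HopfAlgebra k B := SubHopf.hopfAlgebra hB
  haveI : IsLocalRing B := by
    refine IsLocalRing.of_surjective' ((frobenius A p).codRestrict B fun a => (hmem _).2 ⟨a, rfl⟩) ?_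
    rintro ⟨b, hb⟩
    obtain ⟨a, ha⟩ := (hmem b).1 hb
    exact ⟨a, Subtype.ext ha⟩
  have hlt : Module.finrank k B < n := by
    subst hn
    show Module.finrank k B.toSubmodule < _
    refine Submodule.finrank_lt fun htop => hI ?_
    obtain ⟨N, hN⟩ := isNilpotent_aug (k := k) (A := A)
    have hle : aug k A ≤ aug k A ^ 2 := fun a ha => by
      obtain ⟨b, rfl⟩ := (hmem a).1 (show a ∈ B.toSubmodule from htop ▸ Submodule.mem_top)
      rw [mem_aug_iff, ← Bialgebra.counitAlgHom_apply, map_pow, Bialgebra.counitAlgHom_apply] at ha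
      exact Ideal.pow_le_pow_right hp.out.two_le
        (Ideal.pow_mem_pow (mem_aug_iff.2 (eq_zero_of_pow_eq_zero ha)) p)
    have hpow : ∀ m, aug k A ≤ aug k A ^ (m + 1) := by
      intro m
      induction m with
      | zero => simp
      | succ m ih =>
        calc aug k A ≤ aug k A * aug k A := by rw [← pow_two]; exact hle
          _ ≤ aug k A ^ (m + 1) * aug k A := Ideal.mul_mono_left ih
          _ = _ := (pow_succ _ _).symm
    exact le_bot_iff.1 ((hpow N).trans (by rw [pow_succ, hN]; simp))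
  obtain ⟨s, e, he, ⟨eB⟩⟩ := ih _ hlt B rfl
  let χ : MvPolynomial (Fin s) k →ₐ[k] B := eB.symm.toAlgHom.comp (Ideal.Quotient.mkₐ k _)
  let y : Fin s → A := fun i => χ (X i)
  have hχ : ∀ P, aeval y P = (χ P : A) := fun P => by
    have : aeval y = B.val.comp χ := algHom_ext fun i => by rw [aeval_X]; rfl
    rw [this]; rfl
  have hker : ∀ P : MvPolynomial (Fin s) k,
      aeval y P = 0 ↔ P ∈ TruncPoly.rel (k := k) fun i => p ^ e i := by
    intro P
    rw [hχ, ← Subalgebra.coe_zero B, Subtype.coe_inj, AlgHom.comp_apply, AlgEquiv.coe_toAlgHom,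
      map_eq_zero_iff _ eB.symm.injective, Ideal.Quotient.mkₐ_eq_mk, Ideal.Quotient.eq_zero_iff_mem]
  have hsurj : ∀ a : A, ∃ P : MvPolynomial (Fin s) k, aeval y P = a ^ p := fun a => by
    obtain ⟨P, hP⟩ := Ideal.Quotient.mk_surjective (eB ⟨a ^ p, (hmem _).2 ⟨a, rfl⟩⟩)
    refine ⟨P, ?_⟩
    rw [hχ]
    show ((eB.symm (Ideal.Quotient.mk _ P) : B) : A) = _
    rw [hP, AlgEquiv.symm_apply_apply]
  choose x hxy using fun i => (hmem (y i)).1 (χ (X i)).2
  have hcy := counit_y p he y hker
  have hxI : ∀ i, x i ∈ aug k A := fun i => by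
    rw [mem_aug_iff]
    refine eq_zero_of_pow_eq_zero (n := p) ?_
    rw [← Bialgebra.counitAlgHom_apply, ← map_pow, hxy, Bialgebra.counitAlgHom_apply, hcy]
  let Z : Submodule k (aug k A) :=
    { carrier := {a | (a : A) ^ p = 0}
      add_mem' := fun {a b} ha hb => by
        show ((a + b : aug k A) : A) ^ p = 0
        rw [Submodule.coe_add, add_pow_expChar, ha, hb, add_zero]
      zero_mem' := zero_pow hp.out.ne_zero
      smul_mem' := fun c a ha => by
        show ((c • a : aug k A) : A) ^ p = 0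
        rw [Submodule.coe_smul_of_tower, _root_.smul_pow, ha, smul_zero] }
  haveI : Module.Finite k (aug k A).Cotangent := finite_cotangent
  let W : Submodule k (aug k A).Cotangent := Z.map ((aug k A).toCotangent.restrictScalars k)
  let bw := Module.finBasis k W
  let t := Module.finrank k W
  have hz' : ∀ j : Fin t, ∃ z ∈ Z, (aug k A).toCotangent z = (bw j : (aug k A).Cotangent) := fun j =>
    (bw j).2
  choose z hzZ hzw using hz'
  let v : Fin (s + t) → aug k A := Fin.append (fun i => ⟨x i, hxI i⟩) z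
  have hv1 : ∀ j, v (Fin.castAdd t j) = ⟨x j, hxI j⟩ := (fin_append_apply _ _).1
  have hv2 : ∀ j, v (Fin.natAdd s j) = z j := (fin_append_apply _ _).2
  have hli : LinearIndependent k fun i => (aug k A).toCotangent (v i) := by
    rw [Fintype.linearIndependent_iff]
    intro g hg
    have hc : ∀ i : Fin s, g (Fin.castAdd t i) = 0 := by
      have hsum : (aug k A).toCotangent (∑ i, g i • v i) = 0 := by
        rw [map_sum]; simpa only [LinearMap.map_smul_of_tower] using hg
      rw [Ideal.toCotangent_eq_zero, Submodule.coe_sum, Fin.sum_univ_add] at hsum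
      simp only [hv1, hv2, Submodule.coe_smul_of_tower] at hsum
      refine coeff_eq_zero p he y hker hsurj x hxy _ ?_ hsum
      rw [sum_pow_char]
      exact Finset.sum_eq_zero fun j _ => by
        rw [_root_.smul_pow, show ((z j : aug k A) : A) ^ p = 0 from hzZ j, smul_zero]
    rw [Fin.sum_univ_add] at hg
    simp only [hc, zero_smul, Finset.sum_const_zero, zero_add, hv2, hzw] at hg
    have hd := Fintype.linearIndependent_iff.1 bw.linearIndependent
      (fun j => g (Fin.natAdd s j)) (Subtype.ext (by simpa using hg))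
    intro i
    induction i using Fin.addCases with
    | left i => exact hc i
    | right i => exact hd i
  obtain ⟨D, hD⟩ := exists_dual v hli
  let V : Fin (s + t) → A := fun i => v i
  have hgen : aug k A ≤ Ideal.span (Set.range V) ⊔ aug k A ^ 2 := by
    intro a ha
    obtain ⟨P, hP⟩ := hsurj a
    obtain ⟨Q, rfl⟩ := MvPolynomial.map_surjective (frobenius k p)
      (bijective_frobenius k p).2 P
    have hP0 : coeff 0 Q = 0 := by
      have h := counit_aeval p he y hker (MvPolynomial.map (frobenius k p) Q)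
      rw [hP, ← Bialgebra.counitAlgHom_apply, map_pow, Bialgebra.counitAlgHom_apply,
        mem_aug_iff.1 ha, zero_pow hp.out.ne_zero, coeff_map, frobenius_def] at h
      exact eq_zero_of_pow_eq_zero h.symm
    have hg : aeval x Q ∈ Ideal.span (Set.range x) := by
      have := Ideal.mem_map_of_mem (aeval (R := k) x) ((mem_idealOfVars_iff Q).2 hP0)
      rw [idealOfVars, Ideal.map_span, ← Set.range_comp] at this
      simpa [Function.comp_def] using this
    have hgI : aeval x Q ∈ aug k A := (Ideal.span_le.2 (Set.range_subset_iff.2 hxI)) hg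
    have hzm : (⟨a - aeval x Q, Ideal.sub_mem _ ha hgI⟩ : aug k A) ∈ Z := by
      show (a - aeval x Q) ^ p = 0
      rw [sub_pow_expChar, aeval_pow p y x hxy, hP, sub_self]
    have hW : (aug k A).toCotangent ⟨a - aeval x Q, Ideal.sub_mem _ ha hgI⟩ ∈ W := ⟨_, hzm, rfl⟩
    have hrep := congrArg Subtype.val (bw.sum_repr ⟨_, hW⟩)
    simp only [Submodule.coe_sum, Submodule.coe_smul, ← hzw, ← LinearMap.map_smul_of_tower] at hrep
    rw [← map_sum, Ideal.toCotangent_eq, Submodule.coe_sum] at hrep
    simp only [Submodule.coe_smul_of_tower] at hrep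
    have hxs : Ideal.span (Set.range x) ≤ Ideal.span (Set.range V) :=
      Ideal.span_le.2 (Set.range_subset_iff.2 fun i =>
        Ideal.subset_span ⟨Fin.castAdd t i, by show (v _ : A) = _; rw [hv1]⟩)
    refine Submodule.mem_sup.2 ⟨aeval x Q + ∑ i, bw.repr ⟨_, hW⟩ i • (z i : A),
      Ideal.add_mem _ (hxs hg) (Ideal.sum_mem _ fun i _ => Submodule.smul_of_tower_mem _ _
        (Ideal.subset_span ⟨Fin.natAdd s i, by show (v _ : A) = _; rw [hv2]⟩)),
      _, neg_mem hrep, by ring⟩
  let E : Fin (s + t) → ℕ := Fin.append (fun i => e i + 1) (fun _ => 1)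
  have hE1 : ∀ j, E (Fin.castAdd t j) = e j + 1 := (fin_append_apply _ _).1
  have hE2 : ∀ j, E (Fin.natAdd s j) = 1 := (fin_append_apply _ _).2
  have hVp : ∀ i, V (Fin.castAdd t i) ^ p = y i := fun i => by
    show (v _ : A) ^ p = _; rw [hv1]; exact hxy i
  refine ⟨s + t, E, fun i => ?_, ?_⟩
  · induction i using Fin.addCases with
    | left i => rw [hE1]; omega
    | right i => rw [hE2]
  let q : Fin (s + t) → ℕ := fun i => p ^ E i
  have hφker : ∀ P ∈ TruncPoly.rel (k := k) q, aeval V P = 0 := by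
    intro P hP
    refine (Ideal.span_le (I := RingHom.ker (aeval (R := k) V))).2 ?_ hP
    rintro _ ⟨i, rfl⟩
    rw [SetLike.mem_coe, RingHom.mem_ker, map_pow, aeval_X]
    induction i using Fin.addCases with
    | left i =>
      show V (Fin.castAdd t i) ^ p ^ E (Fin.castAdd t i) = 0
      rw [hE1, pow_succ', pow_mul, hVp]
      have h : aeval y (X i ^ p ^ e i : MvPolynomial (Fin s) k) = 0 :=
        (hker _).2 (Ideal.subset_span ⟨i, rfl⟩)
      simpa using h
    | right i =>
      show V (Fin.natAdd s i) ^ p ^ E (Fin.natAdd s i) = 0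
      rw [hE2, pow_one]
      show (v _ : A) ^ p = 0
      rw [hv2]; exact hzZ i
  refine ⟨(AlgEquiv.ofBijective (Ideal.Quotient.liftₐ _ (aeval V) hφker) ⟨?_, ?_⟩).symm⟩
  swap
  · exact fun a => let ⟨P, hP⟩ := surjective_aeval isNilpotent_aug V hgen (fun i => (v i).2) a
      ⟨Ideal.Quotient.mk _ P, hP⟩
  rw [injective_iff_map_eq_zero]
  intro w hw
  obtain ⟨P, rfl⟩ := Ideal.Quotient.mk_surjective w
  obtain ⟨P', h1, h2⟩ := TruncPoly.exists_small q P
  rw [Ideal.Quotient.eq.2 h1] at hw ⊢
  change aeval V P' = 0 at hw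
  suffices P' = 0 by rw [this, map_zero]
  let lo : (Fin (s + t) →₀ ℕ) → (Fin (s + t) →₀ ℕ) :=
    fun a => Finsupp.equivFunOnFinite.symm fun i => a i % p
  let hi : (Fin (s + t) →₀ ℕ) → (Fin s →₀ ℕ) :=
    fun a => Finsupp.equivFunOnFinite.symm fun j => a (Fin.castAdd t j) / p
  let Q : (Fin (s + t) →₀ ℕ) → MvPolynomial (Fin s) k := fun b =>
    ∑ a ∈ P'.support.filter (fun a => lo a = b), monomial (hi a) (coeff a P')
  have hsplit : ∀ a ∈ P'.support,
      aeval V (monomial a (1 : k)) = aeval V (monomial (lo a) (1 : k)) * aeval y (monomial (hi a) (1 : k)) := by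
    intro a ha
    simp only [aeval_monomial, map_one, one_mul, Finsupp.prod_fintype, pow_zero, implies_true]
    rw [Fin.prod_univ_add, Fin.prod_univ_add, mul_right_comm, ← Finset.prod_mul_distrib]
    congr 1
    · refine Finset.prod_congr rfl fun j _ => ?_
      rw [show (lo a) (Fin.castAdd t j) = a (Fin.castAdd t j) % p from rfl,
        show (hi a) j = a (Fin.castAdd t j) / p from rfl, ← hVp, ← pow_mul, ← pow_add,
        Nat.mod_add_div]
    · refine Finset.prod_congr rfl fun j _ => ?_
      rw [show (lo a) (Fin.natAdd s j) = a (Fin.natAdd s j) % p from rfl, Nat.mod_eq_of_lt]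
      have h3 := h2 a ha (Fin.natAdd s j)
      rwa [show q (Fin.natAdd s j) = p by simp [q, hE2]] at h3
  have hsum : ∑ b ∈ P'.support.image lo, aeval y (Q b) * aeval V (monomial b (1 : k)) ∈ (⊥ : Ideal A) := by
    rw [Ideal.mem_bot, ← hw]
    conv_rhs => rw [P'.as_sum, map_sum, ← Finset.sum_fiberwise_of_maps_to
      (g := lo) (t := P'.support.image lo) (fun a ha => Finset.mem_image_of_mem lo ha)]
    refine Finset.sum_congr rfl fun b _ => ?_
    rw [map_sum, Finset.sum_mul]
    refine Finset.sum_congr rfl fun a ha => ?_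
    have ha1 := Finset.mem_filter.1 ha
    have ha2 : lo a = b := ha1.2
    subst ha2
    have h3 : ∀ {m : ℕ} (f : Fin m → A) (d : Fin m →₀ ℕ) (c : k),
        aeval f (monomial d c) = algebraMap k A c * aeval f (monomial d (1 : k)) := fun f d c => by
      simp [aeval_monomial]
    rw [h3 V a, hsplit a ha1.1, h3 y (hi a)]
    ring
  have hconst : ∀ (b : Fin (s + t) →₀ ℕ) i, D i (aeval y (Q b)) = 0 := by
    intro b i
    obtain ⟨c, hc⟩ := (hmem _).1 (χ (Q b)).2
    rw [hχ, ← hc, derivation_pow_char]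
  have hz0 := Trunc.mem_of_sum_mem D (x := V) (m := aug k A) (fun i => (v i).2) hD p aug_le_jacobson
    aug_ne_top ⊥ (fun i w hw => by rw [Ideal.mem_bot] at hw; rw [hw, map_zero]; exact Submodule.zero_mem _)
    (P'.support.image lo)
    (fun b hb i => by
      obtain ⟨a, -, rfl⟩ := Finset.mem_image.1 hb
      exact Nat.mod_lt _ hp.out.pos)
    (fun b => aeval y (Q b)) (fun b _ => hconst b) hsum
  rw [← support_eq_empty, Finset.eq_empty_iff_forall_notMem]
  intro a ha
  have hQ : Q (lo a) = 0 := by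
    refine TruncPoly.eq_zero_of_mem_rel (fun i => p ^ e i) (fun d hd => ?_)
      ((hker _).1 ((Submodule.mem_bot A).1 (hz0 _ (Finset.mem_image_of_mem lo ha))))
    obtain ⟨a', ha', hd'⟩ := Finset.mem_biUnion.1 (support_sum hd)
    rw [Finset.mem_singleton.1 (support_monomial_subset hd')]
    intro j
    show a' (Fin.castAdd t j) / p < p ^ e j
    have h3 := h2 a' (Finset.mem_filter.1 ha').1 (Fin.castAdd t j)
    rw [show q (Fin.castAdd t j) = p ^ e j * p by simp [q, hE1, pow_succ]] at h3
    exact (Nat.div_lt_iff_lt_mul hp.out.pos).2 h3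
  have h4 := congrArg (coeff (hi a)) hQ
  simp only [Q, coeff_sum, coeff_monomial, coeff_zero] at h4
  rw [Finset.sum_eq_single a] at h4
  · rw [if_pos rfl] at h4
    exact mem_support_iff.1 ha h4
  · intro a' ha' hne
    rw [if_neg]
    intro hh
    obtain ⟨ha'', hlo⟩ := Finset.mem_filter.1 ha'
    refine hne (Finsupp.ext fun i => ?_)
    induction i using Fin.addCases with
    | left j =>
      have e1 : a' (Fin.castAdd t j) % p = a (Fin.castAdd t j) % p := DFunLike.congr_fun hlo _
      have e2 : a' (Fin.castAdd t j) / p = a (Fin.castAdd t j) / p := DFunLike.congr_fun hh _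
      rw [← Nat.mod_add_div (a' _) p, e1, e2, Nat.mod_add_div]
    | right j =>
      have e1 : a' (Fin.natAdd s j) % p = a (Fin.natAdd s j) % p := DFunLike.congr_fun hlo _
      have hs : q (Fin.natAdd s j) = p := by simp [q, hE2]
      rwa [Nat.mod_eq_of_lt (hs ▸ h2 a' ha'' _), Nat.mod_eq_of_lt (hs ▸ h2 a ha _)] at e1
  · intro hh
    refine absurd ?_ hh
    rw [Finset.mem_filter]
    exact ⟨ha, rfl⟩

end Groth.Agent.Comod33.Infinitesimal
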