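import Groth.Agent.Comod33.Act
import Groth.Prelude.Def_GLin
import Groth.Prelude.Def_W4c1tameactTame
import Mathlib.RingTheory.HopfAlgebra.Convolution

/-!
Averaging by a total integral.
-/

universe u v w w' w''

open TensorProduct

noncomputable section

namespace Groth.Agent.Comod33.Avg

variable {k : Type u} [CommRing k] {A : Type v} [CommRing A] [HopfAlgebra k A]

open WithConv in
/-- `Δ(S b₂) (1 ⊗ b₁) = S b ⊗ 1`. -/
theorem comul_antipode_key (b : A) :
    LinearMap.mul' k (A ⊗[k] A) (TensorProduct.map
      (Algebra.TensorProduct.includeRight : A →ₐ[k] A ⊗[k] A).toLinearMap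
      ((Bialgebra.comulAlgHom k A).toLinearMap ∘ₗ HopfAlgebraStruct.antipode (R := k) (A := A))
      (CoalgebraStruct.comul (R := k) b)) =
      HopfAlgebraStruct.antipode (R := k) b ⊗ₜ[k] (1 : A) := by
  let iL : A →ₐ[k] A ⊗[k] A := Algebra.TensorProduct.includeLeft
  let iR : A →ₐ[k] A ⊗[k] A := Algebra.TensorProduct.includeRight
  have hu : toConv iL * toConv iR = toConv (Bialgebra.comulAlgHom k A) := by
    refine WithConv.ofConv_injective (AlgHom.ext fun a => ?_)
    simp only [AlgHom.convMul_apply, WithConv.ofConv_toConv]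
    show _ = CoalgebraStruct.comul (R := k) a
    generalize CoalgebraStruct.comul (R := k) a = z
    induction z with
    | zero => simp
    | tmul p q => simp [iL, iR]
    | add p q hp hq => simp only [map_add, hp, hq]
  have hinv : toConv iR * (toConv (Bialgebra.comulAlgHom k A))⁻¹ = (toConv iL)⁻¹ := by
    refine (mul_inv_eq_iff_eq_mul (G := WithConv (A →ₐ[k] A ⊗[k] A))).2 ?_
    rw [← hu]
    exact (inv_mul_cancel_left (G := WithConv (A →ₐ[k] A ⊗[k] A)) _ _).symm
  have h2 := congrArg (fun f : WithConv (A →ₐ[k] A ⊗[k] A) => f.ofConv b) hinv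
  have hidef : ∀ f : A →ₐ[k] A ⊗[k] A, (toConv f)⁻¹.ofConv = f.comp (HopfAlgebra.antipodeAlgHom k A) :=
    fun f => rfl
  simp only [AlgHom.convMul_apply, hidef] at h2
  refine Eq.trans ?_ (h2.trans ?_)
  case refine_2 => simp [iL]
  generalize CoalgebraStruct.comul (R := k) b = z
  induction z with
  | zero => simp
  | tmul p q => simp [iR]
  | add p q hp hq => simp only [map_add, hp, hq]

variable {B : Type w} [CommRing B] [Algebra k B] [HopfRep.Comod k A B]
variable {M : Type w'} [AddCommGroup M] [Module k M] [Module B M] [IsScalarTower k B M]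
  [HopfRep.Comod k A M]

/-- the action map `n ⊗ b ↦ α(S b * a) • n` -/
def act (α : A →ₗ[k] B) (a : A) : M ⊗[k] A →ₗ[k] M :=
  TensorProduct.lift
    ((Algebra.lsmul k k M : B →ₐ[k] Module.End k M).toLinearMap ∘ₗ α ∘ₗ LinearMap.mulRight k a ∘ₗ
      HopfAlgebraStruct.antipode (R := k) (A := A)).flip

@[simp] theorem act_tmul (α : A →ₗ[k] B) (a : A) (n : M) (b : A) :
    act α a (n ⊗ₜ[k] b) = α (HopfAlgebraStruct.antipode (R := k) b * a) • n := by
  simp [act]

/-- the averaging map `m ⊗ a ↦ α(S m₁ * a) • m₀` -/
def avg (α : A →ₗ[k] B) : M ⊗[k] A →ₗ[k] M :=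
  TensorProduct.lift
    { toFun := fun m =>
        { toFun := fun a => act α a (HopfRep.Comod.coact (k := k) (A := A) m)
          map_add' := fun a a' => by
            generalize HopfRep.Comod.coact (k := k) (A := A) m = y
            induction y with
            | zero => simp
            | tmul p q => simp [mul_add, add_smul]
            | add p q hp hq => simp only [map_add, hp, hq]; abel
          map_smul' := fun c a => by
            generalize HopfRep.Comod.coact (k := k) (A := A) m = y
            induction y with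
            | zero => simp
            | tmul p q => simp [mul_smul_comm]
            | add p q hp hq => simp only [map_add, hp, hq, RingHom.id_apply, smul_add] }
      map_add' := fun m m' => by ext a; simp
      map_smul' := fun c m => by ext a; simp }

theorem avg_tmul (α : A →ₗ[k] B) (m : M) (a : A) :
    avg α (m ⊗ₜ[k] a) = act α a (HopfRep.Comod.coact (k := k) (A := A) m) := rfl

/-- `n ⊗ z ↦ ((α ⊗ id) z) (n ⊗ 1)` -/
def phi (α : A →ₗ[k] B) : M ⊗[k] (A ⊗[k] A) →ₗ[k] M ⊗[k] A :=
  (TensorProduct.assoc k M A A).symm.toLinearMap |>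
    fun e => (TensorProduct.lift
      ((Algebra.lsmul k k M : B →ₐ[k] Module.End k M).toLinearMap ∘ₗ α).flip).rTensor A ∘ₗ e

@[simp] theorem phi_tmul (α : A →ₗ[k] B) (n : M) (p q : A) :
    phi α (n ⊗ₜ[k] (p ⊗ₜ[k] q)) = (α p • n) ⊗ₜ[k] q := by
  simp [phi]

variable [TameAct.IsHopfMod k A B M]

theorem coact_avg {α : A →ₗ[k] B} (hα : Hoch.IsComodHom A α) (m : M) (a : A) :
    HopfRep.Comod.coact (k := k) (A := A) (avg α (m ⊗ₜ[k] a)) =
      (avg α).rTensor A ((TensorProduct.assoc k M A A).symm (m ⊗ₜ[k] CoalgebraStruct.comul (R := k) a)) := by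
  let u : A →ₗ[k] A ⊗[k] A :=
    (Bialgebra.comulAlgHom k A).toLinearMap ∘ₗ HopfAlgebraStruct.antipode (R := k) (A := A)
  let E : A ⊗[k] A →ₗ[k] A ⊗[k] A :=
    LinearMap.mulRight k (CoalgebraStruct.comul (R := k) a) ∘ₗ LinearMap.mul' k (A ⊗[k] A) ∘ₗ
      TensorProduct.map (Algebra.TensorProduct.includeRight : A →ₐ[k] A ⊗[k] A).toLinearMap u
  have h1 : ∀ x : M ⊗[k] A, HopfRep.Comod.coact (k := k) (A := A) (act α a x) =
      phi α (E.lTensor M (TensorProduct.assoc k M A A
        ((HopfRep.Comod.coact (k := k) (A := A)).rTensor A x))) := by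
    intro x
    induction x with
    | zero => simp
    | tmul n b =>
      have hh := LinearMap.congr_fun hα (HopfAlgebraStruct.antipode (R := k) b * a)
      simp only [LinearMap.comp_apply] at hh
      rw [act_tmul, TameAct.IsHopfMod.coact_smul (k := k) (A := A) (B := B)]
      rw [hh, show HopfRep.Comod.coact (k := k) (A := A) (HopfAlgebraStruct.antipode (R := k) b * a) =
        CoalgebraStruct.comul (R := k) (HopfAlgebraStruct.antipode (R := k) b * a) from rfl,
        Bialgebra.comul_mul]
      simp only [LinearMap.rTensor_tmul]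
      generalize HopfRep.Comod.coact (k := k) (A := A) n = y
      induction y with
      | zero => simp
      | tmul n' c =>
        simp only [TensorProduct.assoc_tmul, LinearMap.lTensor_tmul, E, u, LinearMap.comp_apply,
          TensorProduct.map_tmul, LinearMap.mul'_apply, LinearMap.mulRight_apply,
          AlgHom.toLinearMap_apply, Algebra.TensorProduct.includeRight_apply, Bialgebra.comulAlgHom_apply]
        rw [mul_assoc]
        generalize CoalgebraStruct.comul (R := k) (HopfAlgebraStruct.antipode (R := k) b) *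
          CoalgebraStruct.comul (R := k) a = z
        induction z with
        | zero => simp
        | tmul p q => simp [mul_comm]
        | add p q hp hq => simp only [map_add, mul_add, TensorProduct.tmul_add, LinearMap.add_apply, hp, hq]
      | add p q hp hq => simp only [map_add, TensorProduct.add_tmul, hp, hq]
    | add p q hp hq => simp only [map_add, hp, hq]
  rw [avg_tmul, h1, coassoc_apply, ← LinearMap.comp_apply (E.lTensor M), ← LinearMap.lTensor_comp]
  have hE : E ∘ₗ CoalgebraStruct.comul = LinearMap.mulRight k (CoalgebraStruct.comul (R := k) a) ∘ₗ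
      (TensorProduct.mk k A A).flip 1 ∘ₗ HopfAlgebraStruct.antipode (R := k) (A := A) := by
    ext b
    simp only [E, u, LinearMap.comp_apply, LinearMap.flip_apply, TensorProduct.mk_apply]
    rw [comul_antipode_key]
  rw [hE]
  generalize CoalgebraStruct.comul (R := k) a = z
  induction z with
  | zero => simp [LinearMap.lTensor_zero]
  | tmul p q =>
    simp only [TensorProduct.assoc_symm_tmul, LinearMap.rTensor_tmul, avg_tmul]
    generalize HopfRep.Comod.coact (k := k) (A := A) m = y
    induction y with
    | zero => simp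
    | tmul n b => simp
    | add p' q' hp hq => simp only [map_add, TensorProduct.add_tmul, hp, hq]
  | add p q hp hq =>
    have hadd : LinearMap.mulRight k (p + q) = LinearMap.mulRight k p + LinearMap.mulRight k q := by
      ext x; simp [mul_add]
    simp only [hadd, LinearMap.add_comp, LinearMap.lTensor_add, LinearMap.add_apply, map_add,
      TensorProduct.tmul_add, hp, hq]

/-- the averaging map as a map out of the induced comodule -/
def avgInd (α : A →ₗ[k] B) : Hoch.Ind k A M →ₗ[k] M :=
  avg α ∘ₗ (Hoch.Ind.equiv k A M).symm.toLinearMap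

theorem isComodHom_avgInd {α : A →ₗ[k] B} (hα : Hoch.IsComodHom A α) :
    Hoch.IsComodHom A (avgInd (M := M) α) := by
  unfold Hoch.IsComodHom
  rw [Hoch.Ind.coact_eq]
  refine TensorProduct.ext' fun m a => ?_
  exact coact_avg hα m a

omit [TameAct.IsHopfMod k A B M] in
theorem avg_coact {α : A →ₗ[k] B} (hα1 : α 1 = 1) (m : M) :
    avg α (HopfRep.Comod.coact (k := k) (A := A) m) = m := by
  let h : A ⊗[k] A →ₗ[k] B := α ∘ₗ LinearMap.mul' k A ∘ₗ
    (HopfAlgebraStruct.antipode (R := k) (A := A)).rTensor A
  let Ψ : M ⊗[k] (A ⊗[k] A) →ₗ[k] M :=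
    TensorProduct.lift ((Algebra.lsmul k k M : B →ₐ[k] Module.End k M).toLinearMap ∘ₗ h).flip
  have h1 : ∀ x : M ⊗[k] A, avg α x = Ψ (TensorProduct.assoc k M A A
      ((HopfRep.Comod.coact (k := k) (A := A)).rTensor A x)) := by
    intro x
    induction x with
    | zero => simp
    | tmul n a =>
      simp only [avg_tmul, LinearMap.rTensor_tmul]
      generalize HopfRep.Comod.coact (k := k) (A := A) n = y
      induction y with
      | zero => simp
      | tmul n' b => simp [Ψ, h]
      | add p q hp hq => simp only [map_add, TensorProduct.add_tmul, hp, hq]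
    | add p q hp hq => simp only [map_add, hp, hq]
  rw [h1, coassoc_apply]
  have h2 : ∀ x : M ⊗[k] A, Ψ ((CoalgebraStruct.comul (R := k) (A := A)).lTensor M x) =
      TensorProduct.rid k M ((CoalgebraStruct.counit (R := k) (A := A)).lTensor M x) := by
    intro x
    induction x with
    | zero => simp
    | tmul n a =>
      simp only [LinearMap.lTensor_tmul, Ψ, TensorProduct.lift.tmul, LinearMap.flip_apply,
        LinearMap.comp_apply, h, HopfAlgebra.mul_antipode_rTensor_comul_apply]
      simp [Algebra.algebraMap_eq_smul_one, hα1]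
    | add p q hp hq => simp only [map_add, hp, hq]
  rw [h2, counit_apply]
  simp

omit [TameAct.IsHopfMod k A B M] in
theorem avg_mem {U : Submodule B M} (hU : HopfRep.IsSubcomod (k := k) (A := A) (U.restrictScalars k))
    (α : A →ₗ[k] B) {m : M} (hm : m ∈ U) (a : A) : avg α (m ⊗ₜ[k] a) ∈ U := by
  obtain ⟨y, hy⟩ := hU m hm
  rw [avg_tmul, ← hy]
  clear hy
  induction y with
  | zero => simp
  | tmul n b => simp only [LinearMap.rTensor_tmul, act_tmul]; exact U.smul_mem _ n.2
  | add p q hp hq => simp only [map_add]; exact U.add_mem hp hq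

/-- averaging a linear map -/
def avgMap {N : Type w''} [AddCommGroup N] [Module k N] [HopfRep.Comod k A N] (α : A →ₗ[k] B)
    (p : N →ₗ[k] M) : N →ₗ[k] M :=
  avg α ∘ₗ p.rTensor A ∘ₗ HopfRep.Comod.coact (k := k) (A := A)

theorem isComodHom_avgMap {N : Type w''} [AddCommGroup N] [Module k N] [HopfRep.Comod k A N]
    {α : A →ₗ[k] B} (hα : Hoch.IsComodHom A α) (p : N →ₗ[k] M) :
    Hoch.IsComodHom A (avgMap α p) := by
  ext n
  simp only [LinearMap.comp_apply, avgMap, LinearMap.rTensor_comp]
  have h1 : ∀ x : M ⊗[k] A, HopfRep.Comod.coact (k := k) (A := A) (avg α x) =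
      (avg α).rTensor A ((TensorProduct.assoc k M A A).symm
        ((CoalgebraStruct.comul (R := k) (A := A)).lTensor M x)) := by
    intro x
    induction x with
    | zero => simp
    | tmul m a => simpa using coact_avg hα m a
    | add p q hp hq => simp only [map_add, hp, hq]
  rw [h1]
  congr 1
  apply (TensorProduct.assoc k M A A).injective
  rw [LinearEquiv.apply_symm_apply, ComodTens.lTensor_rTensor_comm, ← coassoc_apply,
    ← ComodTens.assoc_rTensor_rTensor]

end Groth.Agent.Comod33.Avg
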