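import Groth.Agent.Comod33.Avg

/-!
The Reynolds operator of a total integral.
-/

universe u v w w' w''

open TensorProduct

noncomputable section

namespace Groth.Agent.Comod33.Avg

variable {k : Type u} [CommRing k] {A : Type v} [CommRing A] [HopfAlgebra k A]
variable {B : Type w} [CommRing B] [Algebra k B] [HopfRep.Comod k A B]

theorem isHopfMod_self [GLin.IsCoactAlg k A B] : TameAct.IsHopfMod k A B B := by
  refine ⟨fun b m => ?_⟩
  rw [smul_eq_mul, GLin.IsCoactAlg.coact_mul]
  generalize HopfRep.Comod.coact (k := k) (A := A) b = x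
  generalize HopfRep.Comod.coact (k := k) (A := A) m = y
  induction x with
  | zero => simp
  | tmul p q =>
    induction y with
    | zero => simp
    | tmul r s => simp
    | add u v hu hv => simp only [map_add, mul_add, hu, hv]
  | add u v hu hv => simp only [map_add, LinearMap.add_apply, add_mul, hu, hv]

variable {M : Type w'} [AddCommGroup M] [Module k M] [Module B M] [IsScalarTower k B M]
  [HopfRep.Comod k A M]

theorem reynolds_eq (α : A →ₗ[k] B) (m : M) : TameAct.reynolds k A B M α m = avg α (m ⊗ₜ[k] 1) := by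
  rw [avg_tmul]
  simp only [TameAct.reynolds, LinearMap.comp_apply]
  generalize HopfRep.Comod.coact (k := k) (A := A) m = x
  induction x with
  | zero => simp
  | tmul p q => simp
  | add u v hu hv => simp only [map_add, hu, hv]

theorem avg_eq_self_of_fixed {α : A →ₗ[k] B} (hα1 : α 1 = 1) {m : M}
    (hm : m ∈ HopfRep.fixedPts k A M) : avg α (m ⊗ₜ[k] 1) = m := by
  rw [avg_tmul, show HopfRep.Comod.coact (k := k) (A := A) m = m ⊗ₜ[k] (1 : A) from hm, act_tmul,
    HopfAlgebra.antipode_one, mul_one, hα1, one_smul]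

theorem avg_fixed [TameAct.IsHopfMod k A B M] {α : A →ₗ[k] B} (hα : Hoch.IsComodHom A α) (m : M) :
    avg α (m ⊗ₜ[k] 1) ∈ HopfRep.fixedPts k A M := by
  show HopfRep.Comod.coact (k := k) (A := A) (avg α (m ⊗ₜ[k] 1)) = avg α (m ⊗ₜ[k] 1) ⊗ₜ[k] 1
  rw [coact_avg hα, Bialgebra.comul_one, Algebra.TensorProduct.one_def]
  simp

theorem map_avg {N : Type w''} [AddCommGroup N] [Module k N] [Module B N] [IsScalarTower k B N]
    [HopfRep.Comod k A N] (α : A →ₗ[k] B) (f : M →ₗ[B] N)
    (hf : Hoch.IsComodHom A (f.restrictScalars k)) (m : M) (a : A) :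
    f (avg α (m ⊗ₜ[k] a)) = avg α (f m ⊗ₜ[k] a) := by
  have h := LinearMap.congr_fun hf m
  simp only [LinearMap.comp_apply, LinearMap.restrictScalars_apply] at h
  rw [avg_tmul, avg_tmul, h]
  generalize HopfRep.Comod.coact (k := k) (A := A) m = x
  induction x with
  | zero => simp
  | tmul p q => simp
  | add u v hu hv => simp only [map_add, hu, hv]

theorem avg_invariant_mul [GLin.IsCoactAlg k A B] (α : A →ₗ[k] B) (i : GLin.invariants k A B) (b : B) :
    avg α (((i : B) * b) ⊗ₜ[k] (1 : A)) = (i : B) * avg α (b ⊗ₜ[k] 1) := by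
  rw [avg_tmul, avg_tmul, GLin.IsCoactAlg.coact_mul, show HopfRep.Comod.coact (k := k) (A := A) (i : B) =
    (i : B) ⊗ₜ[k] (1 : A) from i.2]
  generalize HopfRep.Comod.coact (k := k) (A := A) b = x
  induction x with
  | zero => simp
  | tmul p q =>
    simp only [Algebra.TensorProduct.tmul_mul_tmul, one_mul, act_tmul, smul_eq_mul]
    ring
  | add u v hu hv => simp only [map_add, mul_add, hu, hv]

/-- the Reynolds operator on the ring, with values in the invariants -/
def retract [GLin.IsCoactAlg k A B] (α : A →ₗ[k] B) (hα : Hoch.IsComodHom A α) :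
    B →ₗ[GLin.invariants k A B] GLin.invariants k A B :=
  haveI := isHopfMod_self (k := k) (A := A) (B := B)
  { toFun := fun b => ⟨avg α (b ⊗ₜ[k] 1), avg_fixed hα b⟩
    map_add' := fun x y => Subtype.ext (by
      show avg α ((x + y) ⊗ₜ[k] (1 : A)) = avg α (x ⊗ₜ[k] 1) + avg α (y ⊗ₜ[k] 1)
      rw [TensorProduct.add_tmul, map_add])
    map_smul' := fun i b => Subtype.ext (by
      show avg α (((i : B) * b) ⊗ₜ[k] (1 : A)) = (i : B) * avg α (b ⊗ₜ[k] 1)
      exact avg_invariant_mul α i b) }

theorem retract_algebraMap [GLin.IsCoactAlg k A B] {α : A →ₗ[k] B} (hα : Hoch.IsComodHom A α)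
    (hα1 : α 1 = 1) (i : GLin.invariants k A B) : retract α hα (i : B) = i :=
  Subtype.ext (avg_eq_self_of_fixed hα1 i.2)

theorem comap_map_eq [GLin.IsCoactAlg k A B] {α : A →ₗ[k] B} (hα : Hoch.IsComodHom A α) (hα1 : α 1 = 1)
    (b : Ideal B) (c : Ideal (GLin.invariants k A B))
    (hb : ∀ x ∈ b, retract α hα x ∈ c) :
    (c.map (algebraMap (GLin.invariants k A B) B) ⊔ b).comap (algebraMap (GLin.invariants k A B) B) ≤ c := by
  intro x hx
  rw [Ideal.mem_comap, Submodule.mem_sup] at hx
  obtain ⟨y, hy, z, hz, hyz⟩ := hx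
  have hyc : retract α hα y ∈ c := by
    have hy' : y ∈ c • (⊤ : Submodule (GLin.invariants k A B) B) := by
      rw [Ideal.smul_top_eq_map]
      exact hy
    refine Submodule.smul_induction_on (p := fun y => retract α hα y ∈ c) hy' (fun r hr n _ => ?_)
      (fun p q hp hq => by rw [map_add]; exact c.add_mem hp hq)
    rw [map_smul]
    exact c.mul_mem_right _ hr
  have : x = retract α hα y + retract α hα z := by
    rw [← map_add, hyz]
    exact (retract_algebraMap hα hα1 x).symm
  rw [this]
  exact c.add_mem hyc (hb z hz)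

end Groth.Agent.Comod33.Avg
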