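import Mathlib.AlgebraicGeometry.AffineScheme
import Mathlib.AlgebraicGeometry.Gluing
import Mathlib.AlgebraicGeometry.Cover.Open
import Groth.Agent.Comod33.Reynolds

/-!
Affine categorical quotients.
-/

universe u

open CategoryTheory CategoryTheory.Limits AlgebraicGeometry TensorProduct

noncomputable section

namespace Groth.Agent.Comod33.CatQuot

/-- the spectrum of an injective ring map which is surjective on primes is an epimorphism of schemes -/
theorem hom_ext_of_injective {R S : Type u} [CommRing R] [CommRing S] (φ : R →+* S)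
    (hinj : Function.Injective φ) (hsurj : Function.Surjective (PrimeSpectrum.comap φ))
    {Z : Scheme.{u}} (g₁ g₂ : Spec (CommRingCat.of R) ⟶ Z)
    (h : Spec.map (CommRingCat.ofHom φ) ≫ g₁ = Spec.map (CommRingCat.ofHom φ) ≫ g₂) : g₁ = g₂ := by
  have hpts : ∀ x : PrimeSpectrum R, g₁ x = g₂ x := fun x => by
    obtain ⟨y, rfl⟩ := hsurj x
    exact congrArg (fun f : Spec (CommRingCat.of S) ⟶ Z => f y) h
  let ι := {e : R // ∃ U : Z.affineOpens, ∀ x : PrimeSpectrum R, e ∉ x.asIdeal → g₁ x ∈ (U : Z.Opens)}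
  have hs : Ideal.span (Set.range (fun i : ι => i.1)) = ⊤ := by
    by_contra hne
    obtain ⟨m, hm, hle⟩ := Ideal.exists_le_maximal _ hne
    let x : PrimeSpectrum R := ⟨m, hm.isPrime⟩
    obtain ⟨U, hU, hxU, -⟩ := Z.isBasis_affineOpens.exists_subset_of_mem_open
      (Set.mem_univ (g₁ x)) isOpen_univ
    obtain ⟨U', hU', rfl⟩ := hU
    obtain ⟨_, ⟨e, rfl⟩, hxe, hsub⟩ :=
      PrimeSpectrum.isTopologicalBasis_basic_opens.exists_subset_of_mem_open
        (show x ∈ (fun y : PrimeSpectrum R => g₁ y) ⁻¹' (U' : Set Z) from hxU)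
        (U'.isOpen.preimage g₁.continuous)
    exact hxe (hle (Ideal.subset_span ⟨⟨e, ⟨U', hU'⟩, fun y hy => hsub hy⟩, rfl⟩))
  refine (Scheme.affineOpenCoverOfSpanRangeEqTop (R := CommRingCat.of R) _ hs).openCover.hom_ext _ _ ?_
  rintro ⟨e, ⟨U, hU⟩, hsub⟩
  show Spec.map (CommRingCat.ofHom (algebraMap R (Localization.Away e))) ≫ g₁ =
    Spec.map (CommRingCat.ofHom (algebraMap R (Localization.Away e))) ≫ g₂
  let Se := Localization.Away (φ e)
  let φe : Localization.Away e →+* Se := Localization.awayMap φ e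
  have hφe : Function.Injective φe := Localization.awayMap_injective_iff.2 fun a ha =>
    ⟨0, by rw [hinj (ha.trans (map_zero φ).symm), mul_zero]⟩
  have hmem : ∀ y : PrimeSpectrum (Localization.Away e),
      g₁ (PrimeSpectrum.comap (algebraMap R (Localization.Away e)) y) ∈ U := fun y => by
    refine hsub _ fun he => y.2.ne_top (Ideal.eq_top_of_isUnit_mem _ he ?_)
    exact IsLocalization.Away.algebraMap_isUnit e
  let j := Spec.map (CommRingCat.ofHom (algebraMap R (Localization.Away e)))
  have h1 : Set.range (j ≫ g₁) ⊆ Set.range hU.fromSpec := by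
    rw [hU.range_fromSpec]
    rintro _ ⟨y, rfl⟩
    exact hmem y
  have h2 : Set.range (j ≫ g₂) ⊆ Set.range hU.fromSpec := by
    rw [hU.range_fromSpec]
    rintro _ ⟨y, rfl⟩
    show g₂ (PrimeSpectrum.comap (algebraMap R (Localization.Away e)) y) ∈ U
    rw [← hpts]
    exact hmem y
  obtain ⟨m₁, hm₁⟩ : ∃ m, Spec.map m = IsOpenImmersion.lift hU.fromSpec (j ≫ g₁) h1 :=
    ⟨_, Spec.map_preimage _⟩
  obtain ⟨m₂, hm₂⟩ : ∃ m, Spec.map m = IsOpenImmersion.lift hU.fromSpec (j ≫ g₂) h2 :=
    ⟨_, Spec.map_preimage _⟩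
  have hl₁ : Spec.map m₁ ≫ hU.fromSpec = j ≫ g₁ := by rw [hm₁, IsOpenImmersion.lift_fac]
  have hl₂ : Spec.map m₂ ≫ hU.fromSpec = j ≫ g₂ := by rw [hm₂, IsOpenImmersion.lift_fac]
  have hcomm : Spec.map (CommRingCat.ofHom φe) ≫ j =
      Spec.map (CommRingCat.ofHom (algebraMap S Se)) ≫ Spec.map (CommRingCat.ofHom φ) := by
    rw [← Spec.map_comp, ← Spec.map_comp, ← CommRingCat.ofHom_comp, ← CommRingCat.ofHom_comp]
    exact congrArg (fun f => Spec.map (CommRingCat.ofHom f)) (IsLocalization.map_comp _)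
  have h3 : m₁ ≫ CommRingCat.ofHom φe = m₂ ≫ CommRingCat.ofHom φe := by
    apply Spec.map_injective
    rw [Spec.map_comp, Spec.map_comp, ← cancel_mono hU.fromSpec, Category.assoc, Category.assoc, hl₁, hl₂,
      reassoc_of% hcomm, reassoc_of% hcomm, h]
  have h4 : m₁ = m₂ := CommRingCat.hom_ext (RingHom.ext fun a => hφe
    (congrArg (fun f => f.hom a) h3))
  show j ≫ g₁ = j ≫ g₂
  rw [← hl₁, ← hl₂, h4]

theorem awayMap_comp {R S : Type*} [CommRing R] [CommRing S] (f : R →+* S) (r : R) :
    (Localization.awayMap f r).comp (algebraMap R (Localization.Away r)) =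
      (algebraMap S (Localization.Away (f r))).comp f :=
  IsLocalization.map_comp _

theorem awayMap_algebraMap {R S : Type*} [CommRing R] [CommRing S] (f : R →+* S) (r a : R) :
    Localization.awayMap f r (algebraMap R _ a) = algebraMap S (Localization.Away (f r)) (f a) :=
  IsLocalization.map_eq _ _

variable {k : Type u} [CommRing k] {A : Type u} [CommRing A] [HopfAlgebra k A]
  {B : Type u} [CommRing B] [Algebra k B] [HopfRep.Comod k A B] [GLin.IsCoactAlg k A B]

/-- an invariant morphism sends the fibres over a neighbourhood into an affine open -/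
theorem exists_saturated {α : A →ₗ[k] B} (hα : Hoch.IsComodHom A α) (hα1 : α 1 = 1) {Z : Scheme.{u}}
    (ψ : Spec (CommRingCat.of B) ⟶ Z)
    (hψ : Spec.map (CommRingCat.ofHom (GLin.coactAlgHom k A B).toRingHom) ≫ ψ =
      Spec.map (CommRingCat.ofHom
        (Algebra.TensorProduct.includeLeftRingHom : B →+* TensorProduct k B A)) ≫ ψ)
    (p : PrimeSpectrum (GLin.invariants k A B)) :
    ∃ c : GLin.invariants k A B, c ∉ p.asIdeal ∧ ∃ U : Z.affineOpens,
      ∀ q : PrimeSpectrum B, (c : B) ∉ q.asIdeal → ψ q ∈ (U : Z.Opens) := by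
  classical
  let W : Z.affineOpens → Set (PrimeSpectrum B) := fun U =>
    ((fun q : PrimeSpectrum B => ψ q) ⁻¹' ((U : Z.Opens) : Set Z))ᶜ
  let I : Z.affineOpens → Ideal B := fun U => PrimeSpectrum.vanishingIdeal (W U)
  let ρ' : ∀ U : Z.affineOpens, B →ₐ[k] (B ⧸ I U) ⊗[k] A := fun U =>
    (Algebra.TensorProduct.map (Ideal.Quotient.mkₐ k (I U)) (AlgHom.id k A)).comp (GLin.coactAlgHom k A B)
  let b : Z.affineOpens → Ideal B := fun U => RingHom.ker (ρ' U)
  have hWI : ∀ U, PrimeSpectrum.zeroLocus (I U : Set B) = W U := fun U => by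
    rw [PrimeSpectrum.zeroLocus_vanishingIdeal_eq_closure, IsClosed.closure_eq]
    exact ((U : Z.Opens).isOpen.preimage ψ.continuous).isClosed_compl
  have hpow : ∀ U, ∀ x ∈ I U, ∃ n : ℕ, x ^ n ∈ b U := by
    intro U x hx
    obtain ⟨n, hn⟩ : IsNilpotent (ρ' U x) := by
      rw [nilpotent_iff_mem_prime]
      intro Q hQ
      let π := Algebra.TensorProduct.map (Ideal.Quotient.mkₐ k (I U)) (AlgHom.id k A)
      let Q' : PrimeSpectrum (B ⊗[k] A) := PrimeSpectrum.comap π.toRingHom ⟨Q, hQ⟩
      let q₁ : PrimeSpectrum B := PrimeSpectrum.comap Algebra.TensorProduct.includeLeftRingHom Q'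
      let q₂ : PrimeSpectrum B := PrimeSpectrum.comap (GLin.coactAlgHom k A B).toRingHom Q'
      have h1 : q₁ ∈ W U := by
        rw [← hWI, PrimeSpectrum.mem_zeroLocus]
        intro y hy
        show π (y ⊗ₜ[k] (1 : A)) ∈ Q
        rw [Algebra.TensorProduct.map_tmul, Ideal.Quotient.mkₐ_eq_mk,
          Ideal.Quotient.eq_zero_iff_mem.2 hy, TensorProduct.zero_tmul]
        exact Q.zero_mem
      have h2 : ψ q₂ = ψ q₁ := congrArg (fun f : Spec (CommRingCat.of (B ⊗[k] A)) ⟶ Z => f Q') hψ
      have h3 : q₂ ∈ W U := fun hq => h1 (by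
        show ψ q₁ ∈ (U : Z.Opens)
        rw [← h2]
        exact hq)
      rw [← hWI, PrimeSpectrum.mem_zeroLocus] at h3
      exact h3 hx
    exact ⟨n, by rw [RingHom.mem_ker, map_pow, hn]⟩
  have htop : ⨆ U, b U = ⊤ := by
    by_contra hne
    obtain ⟨m, hm, hle⟩ := Ideal.exists_le_maximal _ hne
    let q : PrimeSpectrum B := ⟨m, hm.isPrime⟩
    obtain ⟨_, ⟨U, hU, rfl⟩, hqU, -⟩ := Z.isBasis_affineOpens.exists_subset_of_mem_open
      (Set.mem_univ (ψ q)) isOpen_univ
    have hq : q ∉ W ⟨U, hU⟩ := fun h => h hqU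
    rw [← hWI, PrimeSpectrum.mem_zeroLocus, Set.not_subset] at hq
    obtain ⟨x, hx, hxq⟩ := hq
    obtain ⟨n, hn⟩ := hpow _ x hx
    exact hxq (hm.isPrime.mem_of_pow_mem n (hle (le_iSup b _ hn)))
  have hret : ∀ U, ∀ x ∈ b U, (Avg.retract α hα x : B) ∈ I U := by
    intro U x hx
    show Avg.avg α (x ⊗ₜ[k] (1 : A)) ∈ I U
    rw [Avg.avg_tmul, ← Ideal.Quotient.eq_zero_iff_mem]
    let L : (B ⧸ I U) ⊗[k] A →ₗ[k] B ⧸ I U := LinearMap.mul' k (B ⧸ I U) ∘ₗ
      TensorProduct.map LinearMap.id
        ((Ideal.Quotient.mkₐ k (I U)).toLinearMap ∘ₗ α ∘ₗ HopfAlgebraStruct.antipode (R := k) (A := A))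
    have key : ∀ z : B ⊗[k] A, Ideal.Quotient.mk (I U) (Avg.act α 1 z) =
        L (Algebra.TensorProduct.map (Ideal.Quotient.mkₐ k (I U)) (AlgHom.id k A) z) := by
      intro z
      induction z with
      | zero => simp
      | add u v hu hv => simp only [map_add, hu, hv]
      | tmul u v => simp [L, mul_comm]
    rw [key]
    exact (congrArg L (show ρ' U x = 0 from hx)).trans (map_zero L)
  have hone : (1 : GLin.invariants k A B) ∈
      ⨆ U, (I U).comap (algebraMap (GLin.invariants k A B) B) := by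
    rw [show (1 : GLin.invariants k A B) = Avg.retract α hα (1 : B) from
      (Avg.retract_algebraMap hα hα1 1).symm]
    refine Submodule.iSup_induction b (motive := fun x => Avg.retract α hα x ∈
      ⨆ U, (I U).comap (algebraMap (GLin.invariants k A B) B)) (htop ▸ Submodule.mem_top)
      (fun U x hx => Submodule.mem_iSup_of_mem U (hret U x hx)) (by rw [map_zero]; exact zero_mem _)
      (fun x y hx hy => by rw [map_add]; exact add_mem hx hy)
  obtain ⟨U, hU⟩ : ∃ U, ¬ (I U).comap (algebraMap (GLin.invariants k A B) B) ≤ p.asIdeal := by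
    by_contra h
    push_neg at h
    exact p.2.ne_top ((Ideal.eq_top_iff_one _).2 (iSup_le h hone))
  obtain ⟨c, hc, hcp⟩ := SetLike.not_le_iff_exists.1 hU
  refine ⟨c, hcp, U, fun q hq => ?_⟩
  by_contra hqU
  have : q ∈ W U := hqU
  rw [← hWI, PrimeSpectrum.mem_zeroLocus] at this
  exact hq (this hc)

variable (k A B) in
/-- the ring of invariants maps to the ring -/
abbrev incl : GLin.invariants k A B →+* B := algebraMap (GLin.invariants k A B) B

/-- invariants of a localisation at an invariant -/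
theorem exists_loc_preimage (c : GLin.invariants k A B)
    (y : Localization.Away (incl k A B c))
    (hy : ∀ n : ℕ, ∀ b : B, algebraMap B (Localization.Away (incl k A B c)) b =
        y * algebraMap B (Localization.Away (incl k A B c)) ((incl k A B c) ^ n) →
      ∃ m : ℕ, ((incl k A B c ^ m) ⊗ₜ[k] (1 : A)) * GLin.coactAlgHom k A B b =
        ((incl k A B c ^ m) ⊗ₜ[k] (1 : A)) * (b ⊗ₜ[k] 1)) :
    ∃ x, Localization.awayMap (incl k A B) c x = y := by
  obtain ⟨n, b, hb⟩ := IsLocalization.Away.surj (incl k A B c) y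
  rw [← map_pow] at hb
  obtain ⟨m, hm⟩ := hy n b hb.symm
  let e : GLin.invariants k A B := ⟨incl k A B c ^ m * b, by
    show HopfRep.Comod.coact (k := k) (A := A) (incl k A B c ^ m * b) = (incl k A B c ^ m * b) ⊗ₜ[k] (1 : A)
    have hc : HopfRep.Comod.coact (k := k) (A := A) (incl k A B c ^ m) = (incl k A B c ^ m) ⊗ₜ[k] (1 : A) := by
      rw [← map_pow]
      exact (c ^ m).2
    rw [GLin.IsCoactAlg.coact_mul, hc, ← GLin.coactAlgHom_apply, hm, Algebra.TensorProduct.tmul_mul_tmul,
      mul_one]⟩
  have hu : IsUnit (algebraMap B (Localization.Away (incl k A B c)) (incl k A B c ^ (n + m))) := by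
    rw [map_pow]
    exact (IsLocalization.Away.algebraMap_isUnit _).pow _
  refine ⟨IsLocalization.mk' _ e (⟨c ^ (n + m), pow_mem (Submonoid.mem_powers c) _⟩ : Submonoid.powers c),
    hu.mul_right_cancel ?_⟩
  have h1 : Localization.awayMap (incl k A B) c (algebraMap _ _ (c ^ (n + m))) =
      algebraMap B (Localization.Away (incl k A B c)) (incl k A B c ^ (n + m)) := by
    rw [awayMap_algebraMap, map_pow (incl k A B)]
  have h2 : Localization.awayMap (incl k A B) c (algebraMap _ _ e) =
      algebraMap B (Localization.Away (incl k A B c)) (incl k A B c ^ m * b) := by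
    rw [awayMap_algebraMap]
    rfl
  rw [← h1, ← map_mul, IsLocalization.mk'_spec_mk, h2, h1, map_mul, ← hb, pow_add, map_mul]
  ring

/-- the ring of invariants gives a categorical quotient -/
theorem existsUnique_desc {α : A →ₗ[k] B} (hα : Hoch.IsComodHom A α) (hα1 : α 1 = 1)
    (hsurj : Function.Surjective (PrimeSpectrum.comap (incl k A B))) {Z : Scheme.{u}}
    (ψ : Spec (CommRingCat.of B) ⟶ Z)
    (hψ : Spec.map (CommRingCat.ofHom (GLin.coactAlgHom k A B).toRingHom) ≫ ψ =
      Spec.map (CommRingCat.ofHom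
        (Algebra.TensorProduct.includeLeftRingHom : B →+* TensorProduct k B A)) ≫ ψ) :
    ∃! χ : Spec (CommRingCat.of (GLin.invariants k A B)) ⟶ Z,
      Spec.map (CommRingCat.ofHom (incl k A B)) ≫ χ = ψ := by
  let C := GLin.invariants k A B
  let f := Spec.map (CommRingCat.ofHom (incl k A B))
  have hinj : Function.Injective (incl k A B) := Subtype.val_injective
  let ι := {c : C // ∃ U : Z.affineOpens, ∀ q : PrimeSpectrum B, (c : B) ∉ q.asIdeal → ψ q ∈ (U : Z.Opens)}
  have hs : Ideal.span (Set.range (fun i : ι => i.1)) = ⊤ := by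
    by_contra hne
    obtain ⟨m, hm, hle⟩ := Ideal.exists_le_maximal _ hne
    obtain ⟨c, hc, hU⟩ := exists_saturated hα hα1 ψ hψ ⟨m, hm.isPrime⟩
    exact hc (hle (Ideal.subset_span ⟨⟨c, hU⟩, rfl⟩))
  -- the descent on a basic open
  have hloc : ∀ i : ι, ∃ χ : Spec (CommRingCat.of (Localization.Away i.1)) ⟶ Z,
      Spec.map (CommRingCat.ofHom (Localization.awayMap (incl k A B) i.1)) ≫ χ =
        Spec.map (CommRingCat.ofHom (algebraMap B (Localization.Away (incl k A B i.1)))) ≫ ψ := by
    rintro ⟨c, ⟨U, hU⟩, hcU⟩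
    let Bc := Localization.Away (incl k A B c)
    let j := Spec.map (CommRingCat.ofHom (algebraMap B Bc))
    have h1 : Set.range (j ≫ ψ) ⊆ Set.range hU.fromSpec := by
      rw [hU.range_fromSpec]
      rintro _ ⟨y, rfl⟩
      refine hcU (PrimeSpectrum.comap (algebraMap B Bc) y) fun he => y.2.ne_top
        (Ideal.eq_top_of_isUnit_mem _ he ?_)
      exact IsLocalization.Away.algebraMap_isUnit (incl k A B c)
    obtain ⟨m, hm⟩ : ∃ m, Spec.map m = IsOpenImmersion.lift hU.fromSpec (j ≫ ψ) h1 := ⟨_, Spec.map_preimage _⟩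
    have hl : Spec.map m ≫ hU.fromSpec = j ≫ ψ := by rw [hm, IsOpenImmersion.lift_fac]
    let c' : B ⊗[k] A := incl k A B c ⊗ₜ[k] 1
    let Tc := Localization.Away c'
    let g₁ : B →+* Tc := (algebraMap (B ⊗[k] A) Tc).comp (GLin.coactAlgHom k A B).toRingHom
    let g₂ : B →+* Tc := (algebraMap (B ⊗[k] A) Tc).comp Algebra.TensorProduct.includeLeftRingHom
    have hu₁ : IsUnit (g₁ (incl k A B c)) := by
      show IsUnit (algebraMap (B ⊗[k] A) Tc (HopfRep.Comod.coact (k := k) (A := A) (incl k A B c)))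
      rw [show HopfRep.Comod.coact (k := k) (A := A) (incl k A B c) = c' from c.2]
      exact IsLocalization.Away.algebraMap_isUnit c'
    have hu₂ : IsUnit (g₂ (incl k A B c)) := IsLocalization.Away.algebraMap_isUnit c'
    let ρc : Bc →+* Tc := IsLocalization.Away.lift (incl k A B c) hu₁
    let ic : Bc →+* Tc := IsLocalization.Away.lift (incl k A B c) hu₂
    have h2 : m ≫ CommRingCat.ofHom ρc = m ≫ CommRingCat.ofHom ic := by
      apply Spec.map_injective
      rw [Spec.map_comp, Spec.map_comp, ← cancel_mono hU.fromSpec, Category.assoc, Category.assoc, hl]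
      simp only [j, ← Spec.map_comp_assoc, ← CommRingCat.ofHom_comp, ρc, ic, IsLocalization.Away.lift_comp]
      simp only [g₁, g₂, CommRingCat.ofHom_comp, Spec.map_comp_assoc, hψ]
    have h3 : ∀ a, ∃ x, Localization.awayMap (incl k A B) c x = m.hom a := fun a =>
      exists_loc_preimage c _ fun n b hb => by
        have h4 := congrArg (fun g => g.hom a) h2
        have h5 : ρc (algebraMap B Bc b) = ic (algebraMap B Bc b) := by
          rw [hb, map_mul, map_mul, show ρc (m.hom a) = ic (m.hom a) from h4]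
          congr 1
          show IsLocalization.Away.lift _ _ (algebraMap B Bc _) = IsLocalization.Away.lift _ _ (algebraMap B Bc _)
          rw [IsLocalization.Away.lift_eq, IsLocalization.Away.lift_eq]
          show algebraMap (B ⊗[k] A) Tc (GLin.coactAlgHom k A B (incl k A B c ^ n)) =
            algebraMap (B ⊗[k] A) Tc ((incl k A B c ^ n) ⊗ₜ[k] 1)
          rw [← map_pow, show GLin.coactAlgHom k A B (incl k A B (c ^ n)) =
            incl k A B (c ^ n) ⊗ₜ[k] (1 : A) from (c ^ n).2]
        rw [IsLocalization.Away.lift_eq, IsLocalization.Away.lift_eq] at h5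
        obtain ⟨⟨_, l, rfl⟩, hl'⟩ := (IsLocalization.eq_iff_exists (Submonoid.powers c') Tc).1 h5
        refine ⟨l, ?_⟩
        simpa [c', Algebra.TensorProduct.tmul_pow] using hl'
    choose r hr using h3
    have hinjc : Function.Injective (Localization.awayMap (incl k A B) c) :=
      Localization.awayMap_injective_iff.2 fun a ha =>
        ⟨0, by rw [hinj (ha.trans (map_zero (incl k A B)).symm), mul_zero]⟩
    let r' : Γ(Z, U) ⟶ CommRingCat.of (Localization.Away c) := CommRingCat.ofHom
      { toFun := r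
        map_one' := hinjc (by rw [hr, map_one, map_one])
        map_mul' := fun x y => hinjc (by rw [hr, map_mul, map_mul, hr, hr])
        map_zero' := hinjc (by rw [hr, map_zero, map_zero])
        map_add' := fun x y => hinjc (by rw [hr, map_add, map_add, hr, hr]) }
    refine ⟨Spec.map r' ≫ hU.fromSpec, ?_⟩
    rw [← Category.assoc, ← Spec.map_comp,
      show r' ≫ CommRingCat.ofHom (Localization.awayMap (incl k A B) c) = m from
        CommRingCat.hom_ext (RingHom.ext hr)]
    exact hl
  choose χ hχ using hloc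
  let 𝒰 := (Scheme.affineOpenCoverOfSpanRangeEqTop (R := CommRingCat.of C) _ hs).openCover
  -- compatibility
  have key : ∀ (i : ι) (e : C) (r : Localization.Away i.1 →+* Localization.Away e),
      r.comp (algebraMap C _) = algebraMap C _ →
      Spec.map (CommRingCat.ofHom (Localization.awayMap (incl k A B) e)) ≫
        Spec.map (CommRingCat.ofHom r) ≫ χ i =
      Spec.map (CommRingCat.ofHom (algebraMap B (Localization.Away (incl k A B e)))) ≫ ψ := by
    intro i e r hr
    have hu : IsUnit (algebraMap B (Localization.Away (incl k A B e)) (incl k A B i.1)) := by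
      have h1 : IsUnit (r (algebraMap C _ i.1)) := (IsLocalization.Away.algebraMap_isUnit i.1).map r
      have h2 := h1.map (Localization.awayMap (incl k A B) e)
      rw [← RingHom.comp_apply r, hr, awayMap_algebraMap] at h2
      exact h2
    let r' := IsLocalization.Away.lift (S := Localization.Away (incl k A B i.1)) (incl k A B i.1) hu
    have h3 : (Localization.awayMap (incl k A B) e).comp r =
        r'.comp (Localization.awayMap (incl k A B) i.1) := by
      refine IsLocalization.ringHom_ext (Submonoid.powers i.1) ?_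
      rw [RingHom.comp_assoc, RingHom.comp_assoc, hr, awayMap_comp, awayMap_comp, ← RingHom.comp_assoc,
        IsLocalization.Away.lift_comp]
    rw [← Spec.map_comp_assoc, ← CommRingCat.ofHom_comp, h3, CommRingCat.ofHom_comp, Spec.map_comp_assoc, hχ,
      ← Spec.map_comp_assoc, ← CommRingCat.ofHom_comp, IsLocalization.Away.lift_comp]
  have hcompat : ∀ x y, pullback.fst (𝒰.f x) (𝒰.f y) ≫ χ x = pullback.snd _ _ ≫ χ y := by
    intro x y
    let h : pullback (𝒰.f x) (𝒰.f y) ⟶ Spec (CommRingCat.of C) := pullback.fst _ _ ≫ 𝒰.f x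
    refine Scheme.hom_ext_of_forall _ _ fun v => ?_
    obtain ⟨_, ⟨e, rfl⟩, hve, hsub⟩ :=
      PrimeSpectrum.isTopologicalBasis_basic_opens.exists_subset_of_mem_open
        (show h v ∈ Set.range h from ⟨v, rfl⟩) h.isOpenEmbedding.isOpen_range
    let je := Spec.map (CommRingCat.ofHom (algebraMap C (Localization.Away e)))
    have hje : Set.range je = (PrimeSpectrum.basicOpen e : Set (PrimeSpectrum C)) :=
      PrimeSpectrum.localization_away_comap_range (Localization.Away e) e
    let l := IsOpenImmersion.lift h je (hje.le.trans hsub)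
    have hl : l ≫ h = je := IsOpenImmersion.lift_fac _ _ _
    haveI : IsOpenImmersion je := IsOpenImmersion.of_isLocalization e
    haveI : IsOpenImmersion (l ≫ h) := hl ▸ inferInstance
    haveI : IsOpenImmersion l := IsOpenImmersion.of_comp l h
    refine ⟨l.opensRange, ?_, ?_⟩
    · obtain ⟨w, hw⟩ := (hje.symm ▸ hve : h v ∈ Set.range je)
      refine ⟨w, h.isOpenEmbedding.injective ?_⟩
      rw [← hw, ← hl]
      rfl
    rw [← cancel_epi l.isoOpensRange.hom]
    simp only [← Category.assoc, Scheme.Hom.isoOpensRange_hom_ι]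
    simp only [Category.assoc]
    refine hom_ext_of_injective (Localization.awayMap (incl k A B) e)
      (Localization.awayMap_injective_iff.2 fun a ha =>
        ⟨0, by rw [hinj (ha.trans (map_zero (incl k A B)).symm), mul_zero]⟩) ?_ _ _ ?_
    · intro P
      obtain ⟨q, hq⟩ := hsurj (PrimeSpectrum.comap (algebraMap C _) P)
      have hqe : q ∈ Set.range (PrimeSpectrum.comap (algebraMap B (Localization.Away (incl k A B e)))) := by
        rw [PrimeSpectrum.localization_away_comap_range (Localization.Away (incl k A B e)) (incl k A B e)]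
        intro he
        have : P ∈ PrimeSpectrum.comap (algebraMap C (Localization.Away e)) ⁻¹'
            (PrimeSpectrum.basicOpen e : Set (PrimeSpectrum C)) := by
          rw [← PrimeSpectrum.localization_away_comap_range (Localization.Away e) e]
          exact ⟨P, rfl⟩
        exact this (hq ▸ he)
      obtain ⟨Q, hQ⟩ := hqe
      refine ⟨Q, PrimeSpectrum.localization_comap_injective _ (Submonoid.powers e) ?_⟩
      rw [← hq, ← hQ, ← PrimeSpectrum.comap_comp_apply, ← PrimeSpectrum.comap_comp_apply,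
        awayMap_comp]
    · obtain ⟨m₁, hm₁⟩ : ∃ m, Spec.map m = l ≫ pullback.fst (𝒰.f x) (𝒰.f y) := ⟨_, Spec.map_preimage _⟩
      obtain ⟨m₂, hm₂⟩ : ∃ m, Spec.map m = l ≫ pullback.snd (𝒰.f x) (𝒰.f y) := ⟨_, Spec.map_preimage _⟩
      have e₁ : Spec.map (CommRingCat.ofHom (algebraMap C (Localization.Away x.1)) ≫ m₁) = je := by
        show Spec.map (CommRingCat.ofHom (algebraMap C _) ≫ m₁) = _
        rw [Spec.map_comp]
        erw [hm₁]
        exact (Category.assoc _ _ _).trans hl
      have e₂ : Spec.map (CommRingCat.ofHom (algebraMap C (Localization.Away y.1)) ≫ m₂) = je := by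
        show Spec.map (CommRingCat.ofHom (algebraMap C _) ≫ m₂) = _
        rw [Spec.map_comp]
        erw [hm₂]
        exact (Category.assoc _ _ _).trans ((congrArg (l ≫ ·) pullback.condition.symm).trans hl)
      have k₁ := key x e m₁.hom (congrArg CommRingCat.Hom.hom (Spec.map_injective e₁))
      have k₂ := key y e m₂.hom (congrArg CommRingCat.Hom.hom (Spec.map_injective e₂))
      change _ ≫ Spec.map m₁ ≫ _ = _ at k₁
      rw [hm₁] at k₁
      change _ ≫ Spec.map m₂ ≫ _ = _ at k₂
      rw [hm₂] at k₂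
      exact ((congrArg (_ ≫ ·) (Category.assoc _ _ _)).symm.trans k₁).trans
        ((congrArg (_ ≫ ·) (Category.assoc _ _ _)).symm.trans k₂).symm
  refine ⟨𝒰.glueMorphisms χ hcompat, ?_, fun χ' hχ' => ?_⟩
  · have hs' : Ideal.span (Set.range (fun i : ι => incl k A B i.1)) = ⊤ := by
      rw [show (fun i : ι => incl k A B i.1) = incl k A B ∘ (fun i : ι => i.1) from rfl, Set.range_comp,
        ← Ideal.map_span, hs, Ideal.map_top]
    refine (Scheme.affineOpenCoverOfSpanRangeEqTop (R := CommRingCat.of B) _ hs').openCover.hom_ext _ _ ?_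
    intro i
    show Spec.map (CommRingCat.ofHom (algebraMap B (Localization.Away (incl k A B i.1)))) ≫ f ≫ _ = _ ≫ ψ
    have hcomm : Spec.map (CommRingCat.ofHom (algebraMap B (Localization.Away (incl k A B i.1)))) ≫ f =
        Spec.map (CommRingCat.ofHom (Localization.awayMap (incl k A B) i.1)) ≫ 𝒰.f i := by
      show _ = _ ≫ Spec.map (CommRingCat.ofHom (algebraMap C _))
      rw [← Spec.map_comp, ← Spec.map_comp, ← CommRingCat.ofHom_comp, ← CommRingCat.ofHom_comp]
      exact congrArg (fun g => Spec.map (CommRingCat.ofHom g)) (IsLocalization.map_comp _).symm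
    refine (Category.assoc _ _ _).symm.trans ((congrArg (· ≫ _) hcomm).trans ?_)
    exact (Category.assoc _ _ _).trans ((congrArg (_ ≫ ·) (𝒰.ι_glueMorphisms χ hcompat i)).trans (hχ i))
  · refine 𝒰.hom_ext _ _ fun i => ?_
    rw [𝒰.ι_glueMorphisms χ hcompat i]
    refine hom_ext_of_injective (Localization.awayMap (incl k A B) i.1)
      (Localization.awayMap_injective_iff.2 fun a ha =>
        ⟨0, by rw [hinj (ha.trans (map_zero (incl k A B)).symm), mul_zero]⟩) ?_ _ _ ?_
    · intro P
      obtain ⟨q, hq⟩ := hsurj (PrimeSpectrum.comap (algebraMap C _) P)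
      have hqe : q ∈ Set.range (PrimeSpectrum.comap
          (algebraMap B (Localization.Away (incl k A B i.1)))) := by
        rw [PrimeSpectrum.localization_away_comap_range (Localization.Away (incl k A B i.1)) (incl k A B i.1)]
        intro he
        have : P ∈ PrimeSpectrum.comap (algebraMap C (Localization.Away i.1)) ⁻¹'
            (PrimeSpectrum.basicOpen i.1 : Set (PrimeSpectrum C)) := by
          rw [← PrimeSpectrum.localization_away_comap_range (Localization.Away i.1) i.1]
          exact ⟨P, rfl⟩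
        exact this (hq ▸ he)
      obtain ⟨Q, hQ⟩ := hqe
      refine ⟨Q, PrimeSpectrum.localization_comap_injective _ (Submonoid.powers i.1) ?_⟩
      rw [← hq, ← hQ, ← PrimeSpectrum.comap_comp_apply, ← PrimeSpectrum.comap_comp_apply,
        awayMap_comp]
    · refine Eq.trans ?_ ((congrArg (_ ≫ ·) hχ').trans (hχ i).symm)
      show Spec.map _ ≫ Spec.map (CommRingCat.ofHom (algebraMap C _)) ≫ χ' = _
      rw [← Spec.map_comp_assoc, ← Spec.map_comp_assoc, ← CommRingCat.ofHom_comp, ← CommRingCat.ofHom_comp,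
        awayMap_comp]

end Groth.Agent.Comod33.CatQuot
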