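import Groth.Agent.Comod33.LieKolchin
import Groth.Agent.Comod33.Faithful
import Mathlib.RingTheory.ZariskisMainTheorem
import Mathlib.LinearAlgebra.Eigenspace.Semisimple
import Mathlib.LinearAlgebra.Matrix.Charpoly.Coeff

/-!
Class functions and commutativity criteria for connected groups.
-/

universe u v w
set_option maxHeartbeats 1000000
set_option synthInstance.maxHeartbeats 200000

open TensorProduct WithConv

noncomputable section

namespace Groth.Agent.Comod33.ClassFun

open Conn

variable {k : Type u} [Field k] {A : Type v} [CommRing A] [HopfAlgebra k A]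

section Charpoly

variable {V : Type w} [AddCommGroup V] [Module k V] [HopfRep.Comod k A V]
variable {ι : Type} [Fintype ι] [DecidableEq ι] (b : Module.Basis ι k V)

/-- the generic matrix of a comodule -/
def genMat : Matrix ι ι A := Matrix.of fun i j => cf (A := A) (b.coord i) (b j)

theorem genMat_map (g : Pt k A) :
    (genMat (A := A) b).map g.ofConv = LinearMap.toMatrix b b (actHom k A V g) := by
  ext i j
  rw [Matrix.map_apply, LinearMap.toMatrix_apply, genMat, Matrix.of_apply, apply_cf]
  rfl

theorem charpoly_map (g : Pt k A) :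
    (genMat (A := A) b).charpoly.map (g.ofConv : A →+* k) =
      (LinearMap.toMatrix b b (actHom k A V g)).charpoly := by
  rw [← Matrix.charpoly_map]
  exact congrArg Matrix.charpoly (genMat_map b g)

theorem charpoly_conj (x g : Pt k A) :
    (LinearMap.toMatrix b b (actHom k A V (x * g * x⁻¹))).charpoly =
      (LinearMap.toMatrix b b (actHom k A V g)).charpoly := by
  rw [map_mul, LinearMap.toMatrix_mul, Matrix.charpoly_mul_comm, ← LinearMap.toMatrix_mul, ← map_mul,
    ← mul_assoc, inv_mul_cancel, one_mul]

/-- the algebra of class functions given by the characteristic polynomial -/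
def charAlg : Subalgebra k A := Algebra.adjoin k (Set.range (genMat (A := A) b).charpoly.coeff)

theorem eq_on_charAlg {g g' : Pt k A}
    (h : (LinearMap.toMatrix b b (actHom k A V g)).charpoly =
      (LinearMap.toMatrix b b (actHom k A V g')).charpoly) :
    ∀ c ∈ charAlg (A := A) b, g.ofConv c = g'.ofConv c := by
  intro c hc
  refine AlgHom.eqOn_adjoin_iff.2 ?_ hc
  rintro _ ⟨n, rfl⟩
  have h1 := congrArg (fun p : Polynomial k => p.coeff n)
    (((charpoly_map b g).trans h).trans (charpoly_map b g').symm)
  simp only [Polynomial.coeff_map] at h1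
  exact h1

theorem charpoly_eq_of_eq_on {g g' : Pt k A} (h : ∀ c ∈ charAlg (A := A) b, g.ofConv c = g'.ofConv c) :
    (LinearMap.toMatrix b b (actHom k A V g)).charpoly =
      (LinearMap.toMatrix b b (actHom k A V g')).charpoly := by
  rw [← charpoly_map, ← charpoly_map]
  ext n
  rw [Polynomial.coeff_map, Polynomial.coeff_map]
  exact h _ (Algebra.subset_adjoin ⟨n, rfl⟩)

/-- a point with trivial class functions acts unipotently -/
theorem isNilpotent_of_charpoly {g : Pt k A}
    (h : (LinearMap.toMatrix b b (actHom k A V g)).charpoly =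
      (LinearMap.toMatrix b b (actHom k A V (1 : Pt k A))).charpoly) :
    IsNilpotent (actHom k A V g - 1) := by
  have h1 := Matrix.aeval_self_charpoly (LinearMap.toMatrix b b (actHom k A V g))
  rw [h, map_one, LinearMap.toMatrix_one, Matrix.charpoly_one, map_pow, map_sub, Polynomial.aeval_X,
    map_one] at h1
  refine ⟨Fintype.card ι, (LinearMap.toMatrixAlgEquiv b).injective ?_⟩
  rw [map_pow, map_sub, map_one, map_zero]
  exact h1

end Charpoly

/-- values of a root of a monic polynomial with fixed coefficients are finite in number -/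
theorem finite_values_of_isIntegral (C : Subalgebra k A) {a : A} (ha : IsIntegral C a) (S : Set (Pt k A))
    (g : Pt k A) (hS : ∀ x ∈ S, ∀ c ∈ C, x.ofConv c = g.ofConv c) :
    ((fun x : Pt k A => x.ofConv a) '' S).Finite := by
  obtain ⟨p, hp, hpa⟩ := ha
  let φ : C →+* k := (g.ofConv : A →+* k).comp C.val.toRingHom
  refine ((hp.map φ).ne_zero |> fun h0 => Polynomial.finite_setOf_isRoot h0).subset ?_
  rintro _ ⟨x, hx, rfl⟩
  show Polynomial.IsRoot (p.map φ) (x.ofConv a)
  rw [Polynomial.IsRoot, Polynomial.eval_map, show φ = (x.ofConv : A →+* k).comp (algebraMap C A) from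
    RingHom.ext fun c => (hS x hx c c.2).symm]
  refine (Polynomial.hom_eval₂ p (algebraMap C A) (x.ofConv : A →+* k) a).symm.trans ?_
  rw [hpa, map_zero]

/-- the conjugacy class of a point -/
def conjSet (g : Pt k A) : Set (Pt k A) := Set.range fun x : Pt k A => x * g * x⁻¹

variable [IsAlgClosed k] [Algebra.FiniteType k A] [IsReduced A]

/-- if every regular function has finitely many values on generic conjugacy classes, the points commute -/
theorem comm_of_finite_values (hconn : ∀ e : A, IsIdempotentElem e → e = 0 ∨ e = 1)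
    (h : ∀ a : A, ∃ c : A, c ≠ 0 ∧ ∀ g : Pt k A, g.ofConv c ≠ 0 →
      ((fun x : Pt k A => x.ofConv a) '' conjSet g).Finite) (x y : Pt k A) :
    x * y = y * x := by
  haveI : IsDomain A := Units.isDomain k hconn
  suffices hxy : x * y * x⁻¹ = y by
    conv_rhs => rw [← hxy, inv_mul_cancel_right]
  apply WithConv.ofConv_injective
  refine AlgHom.ext fun a => ?_
  obtain ⟨c, hc, hca⟩ := h a
  let w : GA k A := const x * Conn.gen k A * const x⁻¹
  have hw : ∀ g : Pt k A, Conn.push g w = x * g * x⁻¹ := fun g => by
    rw [map_mul, map_mul, push_const, push_const, Conn.push_gen]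
  have h0 : (w.ofConv a - a) * c = 0 := eq_zero_of_forall_point (k := k) fun g => by
    by_cases hg : g.ofConv c = 0
    · rw [map_mul, hg, mul_zero]
    have e : ∀ z : Pt k A, Conn.push z (Conn.gen k A * const g * (Conn.gen k A)⁻¹) = z * g * z⁻¹ :=
      fun z => by rw [map_mul, map_mul, map_inv, push_const, Conn.push_gen]
    have h2 := (isConn_univ (k := k) hconn).word (Conn.gen k A * const g * (Conn.gen k A)⁻¹) a
      ((hca g hg).subset (by
        rintro _ ⟨z, -, rfl⟩
        exact ⟨_, ⟨z, rfl⟩, by simp only [e]⟩)) (Set.mem_univ x)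
    rw [e, e, one_mul, inv_one, mul_one] at h2
    rw [map_mul, map_sub, ← Conn.push_apply, hw, h2, sub_self, zero_mul]
  have h1 := congrArg y.ofConv (sub_eq_zero.1 ((mul_eq_zero.1 h0).resolve_right hc))
  rw [← Conn.push_apply, hw] at h1
  exact h1

/-- the points commute if the class functions are quasi-finite at the identity -/
theorem comm_of_quasiFiniteAt (hconn : ∀ e : A, IsIdempotentElem e → e = 0 ∨ e = 1)
    {V : Type w} [AddCommGroup V] [Module k V] [HopfRep.Comod k A V]
    {ι : Type} [Fintype ι] [DecidableEq ι] (b : Module.Basis ι k V) (C : Subalgebra k A)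
    (hC : C ≤ charAlg (A := A) b) (q : Ideal A) [q.IsPrime] [Algebra.FiniteType C A]
    [Algebra.QuasiFiniteAt C q] (x y : Pt k A) : x * y = y * x := by
  haveI : IsDomain A := Units.isDomain k hconn
  obtain ⟨S', hfg, r, hr, hbij⟩ :=
    Algebra.ZariskisMainProperty.exists_fg_and_exists_notMem_and_awayMap_bijective q
      (Algebra.ZariskisMainProperty.of_finiteType (R := ↥C) q)
  have hint : ∀ s ∈ S', IsIntegral C s := fun s hs => IsIntegral.of_mem_of_fg S' hfg s hs
  have hr0 : (r : A) ≠ 0 := fun e => hr (e ▸ Ideal.zero_mem _)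
  refine comm_of_finite_values hconn (fun a => ⟨r, hr0, fun g hg => ?_⟩) x y
  obtain ⟨z, hz⟩ := hbij.2 (algebraMap A (Localization.Away (S'.val.toRingHom r)) a)
  obtain ⟨⟨s, ⟨_, n, rfl⟩⟩, hs⟩ := IsLocalization.surj (Submonoid.powers r) z
  have h2 := congrArg (Localization.awayMap S'.val.toRingHom r) hs
  rw [map_mul, hz] at h2
  simp only [Localization.awayMap, IsLocalization.Away.map, IsLocalization.map_eq, map_pow] at h2
  rw [← map_pow, ← map_mul] at h2
  have h3 : a * (r : A) ^ n = (s : A) := by
    exact IsLocalization.injective (M := Submonoid.powers (S'.val.toRingHom r))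
      (Localization.Away (S'.val.toRingHom r))
      (powers_le_nonZeroDivisors_of_noZeroDivisors hr0) h2
  have hS : ∀ z ∈ conjSet g, ∀ c ∈ C, z.ofConv c = g.ofConv c := by
    rintro _ ⟨z, rfl⟩
    exact fun c hc => eq_on_charAlg b (charpoly_conj b z g) c (hC hc)
  have hrconst : ∀ z : Pt k A, (z * g * z⁻¹).ofConv (r : A) = g.ofConv (r : A) := by
    intro z
    have e : ∀ z : Pt k A, Conn.push z (Conn.gen k A * const g * (Conn.gen k A)⁻¹) = z * g * z⁻¹ :=
      fun z => by rw [map_mul, map_mul, map_inv, push_const, Conn.push_gen]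
    have h4 := (isConn_univ (k := k) hconn).word (Conn.gen k A * const g * (Conn.gen k A)⁻¹) (r : A)
      ((finite_values_of_isIntegral C (hint _ r.2) _ g hS).subset (by
        rintro _ ⟨z, -, rfl⟩
        exact ⟨_, ⟨z, rfl⟩, by simp only [e]⟩)) (Set.mem_univ z)
    rwa [e, e, one_mul, inv_one, mul_one] at h4
  refine ((finite_values_of_isIntegral C (hint _ s.2) _ g hS).image
    fun c => c * (g.ofConv (r : A) ^ n)⁻¹).subset ?_
  rintro _ ⟨_, ⟨z, rfl⟩, rfl⟩
  refine ⟨_, ⟨_, ⟨z, rfl⟩, rfl⟩, ?_⟩
  show (z * g * z⁻¹).ofConv (s : A) * _ = _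
  rw [← h3, map_mul, map_pow, hrconst, mul_inv_cancel_right₀ (pow_ne_zero n hg)]


/-- a connected group all of whose points are semisimple is commutative -/
theorem comm_of_semisimple (hconn : ∀ e : A, IsIdempotentElem e → e = 0 ∨ e = 1)
    (hss : ∀ (g : A →ₐ[k] k) (V : Type v) [AddCommGroup V] [Module k V] [HopfRep.Comod k A V],
      Module.Finite k V → Module.End.IsSemisimple (HopfRep.Comod.act k A V g)) (x y : Pt k A) :
    x * y = y * x := by
  classical
  haveI : IsDomain A := Units.isDomain k hconn
  haveI : IsJacobsonRing A := isJacobsonRing_of_finiteType (A := k)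
  obtain ⟨W, hW, hfin, hinj⟩ := exists_faithful (k := k) (A := A)
  letI := ComodSub.Comod.restr (HopfRep.Comod.regular k A) W hW
  let b := Module.finBasis k W
  let C := charAlg (A := A) b
  have hfib : ∀ g : Pt k A, (∀ c ∈ C, g.ofConv c = (1 : Pt k A).ofConv c) → g = 1 := by
    intro g hg
    refine hinj ?_
    rw [map_one]
    refine sub_eq_zero.1 (Module.End.eq_zero_of_isNilpotent_isSemisimple
      (isNilpotent_of_charpoly b (charpoly_eq_of_eq_on b hg)) ?_)
    have h1 := hss g.ofConv W hfin
    rw [← actHom_apply] at h1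
    simpa using (Module.End.isSemisimple_sub_algebraMap_iff (μ := (1 : k))).2 h1
  let q : PrimeSpectrum A := ⟨RingHom.ker (Bialgebra.counitAlgHom k A), RingHom.ker_isPrime _⟩
  haveI : q.asIdeal.IsPrime := q.isPrime
  haveI : Algebra.FiniteType C A := Algebra.FiniteType.of_restrictScalars_finiteType k C A
  have hsub : Subsingleton ↥(PrimeSpectrum.comap (algebraMap C A) ⁻¹' {q.comap (algebraMap C A)}) := by
    have key : ∀ Q : PrimeSpectrum A, Q.comap (algebraMap C A) = q.comap (algebraMap C A) → Q = q := by
      intro Q hQ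
      have hQ' : ∀ c : C, (c : A) ∈ Q.asIdeal ↔ (c : A) ∈ q.asIdeal := fun c =>
        SetLike.ext_iff.1 (congrArg PrimeSpectrum.asIdeal hQ) c
      have hmax : ∀ J : Ideal A, J.IsMaximal → Q.asIdeal ≤ J → J = q.asIdeal := by
        intro J hJ hle
        obtain ⟨γ, hγ⟩ := Aug.exists_point_ker (k := k) J
        have : toConv γ = (1 : Pt k A) := by
          refine hfib _ fun c hc => ?_
          let ε := Bialgebra.counitAlgHom k A
          have h0 : c - algebraMap k A (ε c) ∈ q.asIdeal := by
            show ε (c - algebraMap k A (ε c)) = 0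
            rw [map_sub, AlgHom.commutes]
            exact sub_self _
          have h1 := hle ((hQ' ⟨c - algebraMap k A (ε c), sub_mem hc (C.algebraMap_mem _)⟩).2 h0)
          rw [hγ, RingHom.mem_ker] at h1
          rw [map_sub, AlgHom.commutes, sub_eq_zero] at h1
          exact h1
        rw [hγ]
        have e : γ = (1 : Pt k A).ofConv := congrArg WithConv.ofConv this
        rw [e]
        rfl
      apply PrimeSpectrum.ext
      refine le_antisymm ?_ ?_
      · obtain ⟨J, hJ, hle⟩ := Ideal.exists_le_maximal Q.asIdeal Q.isPrime.ne_top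
        exact hle.trans (hmax J hJ hle).le
      · rw [← IsJacobsonRing.out' Q.asIdeal Q.isPrime.isRadical]
        refine le_sInf ?_
        rintro J ⟨hle, hJ⟩
        exact (hmax J hJ hle).ge
    exact ⟨fun a b => Subtype.ext ((key _ a.2).trans (key _ b.2).symm)⟩
  haveI : Algebra.QuasiFiniteAt C q.asIdeal :=
    Algebra.QuasiFiniteAt.of_isOpen_singleton_fiber q (isOpen_discrete _)
  exact comm_of_quasiFiniteAt hconn b C le_rfl q.asIdeal x y

end Groth.Agent.Comod33.ClassFun
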