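import Mathlib.Order.CompactlyGenerated.Basic

/-!
Complements made of a given generating family of atoms.
-/

namespace Groth.Agent.Comod33

theorem exists_isCompl_iSup_atoms {α : Type*} [CompleteLattice α] [IsModularLattice α]
    [IsCompactlyGenerated α] {ι : Type*} (f : ι → α) (hf : ∀ i, IsAtom (f i)) (htop : ⨆ i, f i = ⊤)
    (b : α) : ∃ J : Set ι, iSupIndep (fun j : J => f j) ∧ IsCompl b (⨆ j : J, f j) := by
  classical
  have zorn := zorn_subset
    (S := {s : Set α | sSupIndep s ∧ Disjoint b (sSup s) ∧ s ⊆ Set.range f})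
    fun c hc1 hc2 =>
      ⟨⋃₀ c,
        ⟨iSupIndep_sUnion_of_directed hc2.directedOn fun s hs => (hc1 hs).1, ?_,
          fun a ⟨s, sc, as⟩ => (hc1 sc).2.2 as⟩,
        fun _ => Set.subset_sUnion_of_mem⟩
  swap
  · rw [sSup_sUnion, ← sSup_image, DirectedOn.disjoint_sSup_right]
    · rintro _ ⟨s, hs, rfl⟩
      exact (hc1 hs).2.1
    · rw [directedOn_image]
      exact hc2.directedOn.mono @fun s t => sSup_le_sSup
  simp_rw [maximal_subset_iff] at zorn
  obtain ⟨s, ⟨s_ind, b_inf, s_sub⟩, s_max⟩ := zorn
  have hsup : b ⊔ sSup s = ⊤ := by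
    rw [eq_top_iff, ← htop, iSup_le_iff]
    intro i
    rcases (hf i).le_iff.mp (inf_le_left : f i ⊓ (b ⊔ sSup s) ≤ f i) with h | h
    swap
    · exact inf_eq_left.1 h
    exfalso
    have hd : Disjoint (f i) (b ⊔ sSup s) := disjoint_iff.2 h
    have hmem : f i ∈ s ∪ {f i} := Set.mem_union_right _ rfl
    rw [← s_max ⟨?_, ?_, ?_⟩ Set.subset_union_left] at hmem
    · exact (hf i).1 (disjoint_self.1 (hd.mono_right ((le_sSup hmem).trans le_sup_right)))
    · intro x hx
      rw [Set.mem_union, Set.mem_singleton_iff] at hx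
      obtain rfl | xa := eq_or_ne x (f i)
      · simp only [Set.mem_singleton, Set.insert_sdiff_of_mem, Set.union_singleton]
        exact hd.mono_right ((sSup_le_sSup Set.sdiff_subset).trans le_sup_right)
      · have hx' := hx.resolve_right xa
        have he : (s ∪ {f i}) \ {x} = s \ {x} ∪ {f i} := by
          simp only [Set.union_singleton]
          rw [Set.insert_sdiff_of_notMem]
          rw [Set.mem_singleton_iff]
          exact Ne.symm xa
        rw [he, sSup_union, sSup_singleton]
        apply (s_ind hx').disjoint_sup_right_of_disjoint_sup_left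
          ((hd.mono_right le_sup_right).mono_right _).symm
        rw [← sSup_insert, Set.insert_sdiff_singleton, Set.insert_eq_of_mem hx']
    · rw [sSup_union, sSup_singleton]
      exact b_inf.disjoint_sup_right_of_disjoint_sup_left hd.symm
    · rintro x (hx | rfl)
      · exact s_sub hx
      · exact ⟨i, rfl⟩
  choose g hg using fun a : s => s_sub a.2
  refine ⟨Set.range g, ?_, ?_⟩
  · have h1 := (sSupIndep_iff s).1 s_ind
    have h2 := iSupIndep.comp h1 (f := fun j : Set.range g => (⟨f j, by
      obtain ⟨j, a, rfl⟩ := j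
      rw [hg a]; exact a.2⟩ : s)) ?_
    · exact h2
    · rintro ⟨j, a, rfl⟩ ⟨j', a', rfl⟩ h
      have : f (g a) = f (g a') := congrArg Subtype.val h
      rw [hg, hg] at this
      obtain rfl := Subtype.ext this
      rfl
  · have : (⨆ j : Set.range g, f j) = sSup s := by
      rw [iSup_range', sSup_eq_iSup']
      exact iSup_congr hg
    rw [this]
    exact ⟨b_inf, codisjoint_iff.2 hsup⟩

end Groth.Agent.Comod33
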