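import Groth.Agent.Comod33.DiagBC
import Mathlib.RingTheory.PolynomialAlgebra
import Mathlib.FieldTheory.IsSepClosed
import Mathlib.RingTheory.Flat.Basic

/-!
Groups of multiplicative type are split over a separably closed field.
-/

universe u v w

open TensorProduct Polynomial

noncomputable section

namespace Groth.Agent.Comod33.Diag

variable {k : Type u} [Field k] {K : Type w} [Field K] [Algebra k K]
variable {A : Type v} [CommRing A] [Bialgebra k A]

/-- extension of a functional to the bigger field -/
def extFun (f : A →ₗ[k] k) : K ⊗[k] A →ₗ[K] K :=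
  (AlgebraTensorModule.rid k K K).toLinearMap ∘ₗ f.baseChange K

theorem extFun_tmul (f : A →ₗ[k] k) (c : K) (a : A) : extFun f (c ⊗ₜ[k] a) = f a • c := by
  simp [extFun]

theorem rc_extFun (f : A →ₗ[k] k) (t : (K ⊗[k] A) ⊗[K] (K ⊗[k] A)) :
    rc (extFun f) t = (rc f).lTensor K (collapse t) := by
  induction t with
  | zero => simp
  | add x y hx hy => simp only [map_add, hx, hy]
  | tmul p q =>
    induction p with
    | zero => simp
    | add x y hx hy => simp only [add_tmul, map_add, hx, hy]
    | tmul c a =>
      induction q with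
      | zero => simp
      | add x y hx hy => simp only [tmul_add, map_add, hx, hy]
      | tmul d b =>
        simp [rc_tmul, extFun_tmul, smul_tmul', TensorProduct.smul_tmul', ← TensorProduct.smul_tmul,
          mul_comm]

theorem baseChange_eigen (f : A →ₗ[k] k) {g : K ⊗[k] A} (hg : IsGroupLikeElem K g) :
    (dact f : A →ₗ[k] A).baseChange K g = extFun f g • g := by
  have h1 : rc (extFun f) (CoalgebraStruct.comul (R := K) g) = extFun f g • g := by
    rw [hg.comul_eq_tmul_self, rc_tmul]
  rw [← h1, rc_extFun, collapse_comul, ← LinearMap.comp_apply, ← LinearMap.lTensor_comp,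
    LinearMap.baseChange_eq_ltensor]
  rfl

theorem baseChange_pow_tmul (T : Module.End k A) (n : ℕ) (a : A) :
    ((T.baseChange K : Module.End K (K ⊗[k] A)) ^ n) ((1 : K) ⊗ₜ[k] a) = (1 : K) ⊗ₜ[k] (T ^ n) a := by
  induction n with
  | zero => simp
  | succ n ih => rw [pow_succ', Module.End.mul_apply, ih, LinearMap.baseChange_tmul, pow_succ', Module.End.mul_apply]

theorem exists_separable_annihilator (T : Module.End k A) (a : A)
    (hp : ∃ P : k[X], P ≠ 0 ∧ aeval T P a = 0) {q : K[X]} (hq : q.Separable)
    (hqa : aeval (T.baseChange K : Module.End K (K ⊗[k] A)) q ((1 : K) ⊗ₜ[k] a) = 0) :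
    ∃ P : k[X], P.Separable ∧ aeval T P a = 0 := by
  let e : k[X] →ₗ[k] A := LinearMap.applyₗ a ∘ₗ (aeval T).toLinearMap
  have he : ∀ p, e p = aeval T p a := fun p => rfl
  let I : Ideal k[X] :=
    { carrier := {p | e p = 0}
      add_mem' := fun {x y} hx hy => by simp only [Set.mem_setOf_eq] at *; rw [map_add, hx, hy, add_zero]
      zero_mem' := map_zero e
      smul_mem' := fun c x hx => by
        simp only [Set.mem_setOf_eq, he] at *
        rw [smul_eq_mul, map_mul, Module.End.mul_apply, hx, map_zero] }
  let p := Submodule.IsPrincipal.generator I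
  have hex : Function.Exact (LinearMap.mulLeft k p) e := by
    intro x
    show x ∈ I ↔ _
    rw [Submodule.IsPrincipal.mem_iff_generator_dvd I]
    exact ⟨fun ⟨c, hc⟩ => ⟨c, hc.symm⟩, fun ⟨c, hc⟩ => ⟨c, hc.symm⟩⟩
  have hev : ∀ r : K[X], aeval (T.baseChange K : Module.End K (K ⊗[k] A)) r ((1 : K) ⊗ₜ[k] a) =
      e.lTensor K (polyEquivTensor k K r) := by
    intro r
    induction r using Polynomial.induction_on' with
    | add x y hx hy => simp only [map_add, LinearMap.add_apply, hx, hy]
    | monomial n c =>
      have : polyEquivTensor k K (monomial n c) = c ⊗ₜ[k] ((X : k[X]) ^ n) := by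
        rw [← (polyEquivTensor k K).symm.injective.eq_iff, AlgEquiv.symm_apply_apply,
          polyEquivTensor_symm_apply_tmul_eq_smul, Polynomial.map_pow, Polynomial.map_X,
          ← C_mul_X_pow_eq_monomial, smul_eq_C_mul]
      rw [this, LinearMap.lTensor_tmul, aeval_monomial, Module.End.mul_apply, baseChange_pow_tmul,
        Module.algebraMap_end_apply, smul_tmul', smul_eq_mul, mul_one, he, map_pow, aeval_X]
  obtain ⟨R, hR⟩ := (Module.Flat.lTensor_exact (M := K) hex _).1 ((hev q).symm.trans hqa)
  have hdvd : p.map (algebraMap k K) ∣ q := by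
    have : ∀ R : K ⊗[k] k[X], (polyEquivTensor k K).symm ((LinearMap.mulLeft k p).lTensor K R) =
        p.map (algebraMap k K) * (polyEquivTensor k K).symm R := by
      intro R
      induction R with
      | zero => simp
      | add x y hx hy => simp only [map_add, hx, hy, mul_add]
      | tmul c r =>
        rw [LinearMap.lTensor_tmul, polyEquivTensor_symm_apply_tmul_eq_smul,
          polyEquivTensor_symm_apply_tmul_eq_smul, LinearMap.mulLeft_apply, Polynomial.map_mul,
          mul_smul_comm]
    exact ⟨(polyEquivTensor k K).symm R, by rw [← this, hR, AlgEquiv.symm_apply_apply]⟩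
  have hsep : p.Separable := (Polynomial.separable_map _).1 (hq.of_dvd hdvd)
  exact ⟨p, hsep,
    (Submodule.IsPrincipal.generator_mem I : p ∈ I)⟩

/-- the action of a functional is killed by separable polynomials -/
theorem exists_separable_dact (hD : HopfRep.IsDiagonalizable K (K ⊗[k] A)) (f : A →ₗ[k] k) (a : A) :
    ∃ P : k[X], P.Separable ∧ aeval (dact f : Module.End k A) P a = 0 := by
  classical
  obtain ⟨n, c, g, hcg⟩ := Submodule.mem_span_set'.1
    (hD.ge (Submodule.mem_top (x := (1 : K) ⊗ₜ[k] a)))
  let M : Finset K := Finset.univ.image fun i => extFun f (g i : K ⊗[k] A)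
  let U := gen (k := k) (A := A) a
  let T : Module.End k U := (dact f).restrict ((isSubcomod_iff U).1 (isSubcomod_gen a) f)
  refine exists_separable_annihilator (K := K) (dact f) a ⟨minpoly k T,
    minpoly.ne_zero (Algebra.IsIntegral.isIntegral T),
    (aeval_restrict_apply _ _ _ _).symm.trans
      (congrArg Subtype.val (LinearMap.congr_fun (minpoly.aeval k T) ⟨a, mem_gen a⟩))⟩
    (q := ∏ m ∈ M, (X - C m)) (separable_prod_X_sub_C_iff'.2 fun x _ y _ h => h) ?_
  rw [← hcg, map_sum]
  refine Finset.sum_eq_zero fun i _ => ?_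
  have hm : extFun f (g i : K ⊗[k] A) ∈ M := Finset.mem_image_of_mem _ (Finset.mem_univ i)
  rw [map_smul, ← Finset.prod_erase_mul _ _ hm, map_mul, Module.End.mul_apply, map_sub, aeval_X,
    aeval_C, LinearMap.sub_apply, Module.algebraMap_end_apply, baseChange_eigen f (g i).2, sub_self,
    map_zero, smul_zero]

theorem hasSplitActions_of_baseChange [IsSepClosed k]
    (hD : HopfRep.IsDiagonalizable K (K ⊗[k] A)) : HasSplitActions k A A := fun f a => by
  obtain ⟨P, hP, hPa⟩ := exists_separable_dact hD f a
  exact ⟨P, hP.ne_zero, IsSepClosed.splits_of_separable P hP, hPa⟩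

end Groth.Agent.Comod33.Diag
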