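import Groth.Agent.Comod33.Coeff
import Groth.Agent.Comod33.Socle
import Groth.Agent.Comod33.Diag
import Groth.Agent.Comod33.CartierReduced
import Groth.Agent.Comod33.DimOne
import Mathlib.RingTheory.Nilpotent.Exp
import Mathlib.RingTheory.Coalgebra.Convolution
import Mathlib.RingTheory.Filtration
import Mathlib.Algebra.MvPolynomial.PDeriv

/-!
Primitive generators of commutative unipotent groups in characteristic zero.
-/

universe u v w

set_option maxHeartbeats 1000000
set_option synthInstance.maxHeartbeats 200000

open TensorProduct WithConv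

noncomputable section

namespace Groth.Agent.Comod33.PrimGen

section Exp

variable {R : Type w} [CommRing R] [Algebra ℚ R]

theorem map_exp {S : Type*} [CommRing S] [Algebra ℚ S] (φ : R →+* S) {a : R} (ha : IsNilpotent a) :
    φ (IsNilpotent.exp a) = IsNilpotent.exp (φ a) := by
  obtain ⟨n, hn⟩ := ha
  rw [IsNilpotent.exp_eq_sum hn, IsNilpotent.exp_eq_sum (k := n) (by rw [← map_pow, hn, map_zero]), map_sum]
  refine Finset.sum_congr rfl fun i _ => ?_
  rw [Algebra.smul_def, Algebra.smul_def, map_mul, map_pow, ← RingHom.comp_apply φ (algebraMap ℚ R),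
    Subsingleton.elim (φ.comp (algebraMap ℚ R)) (algebraMap ℚ S)]

theorem exists_exp_eq {t : R} (ht : IsNilpotent t) : ∃ r : R, IsNilpotent.exp t = 1 + t + t ^ 2 * r := by
  obtain ⟨n, hn⟩ := ht
  refine ⟨∑ i ∈ Finset.range n, ((i + 2).factorial : ℚ)⁻¹ • t ^ i, ?_⟩
  rw [IsNilpotent.exp_eq_sum (k := n + 2) (by rw [pow_add, hn, zero_mul]), Finset.sum_range_succ',
    Finset.sum_range_succ', Finset.mul_sum]
  simp only [zero_add, pow_zero, pow_one, Nat.factorial_zero, Nat.factorial_one, Nat.cast_one, inv_one, one_smul]
  rw [Finset.sum_congr rfl (g := fun i => t ^ 2 * (((i + 2).factorial : ℚ)⁻¹ • t ^ i)) fun i _ => by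
    rw [mul_smul_comm, ← pow_add, add_comm 2 i]]
  ring

theorem eq_of_exp_eq {y z : R} (hy : IsNilpotent y) (hz : IsNilpotent z)
    (h : IsNilpotent.exp y = IsNilpotent.exp z) : y = z := by
  have hd : IsNilpotent (y - z) := Commute.isNilpotent_sub (Commute.all y z) hy hz
  obtain ⟨r, hr⟩ := exists_exp_eq hd
  have h1 : IsNilpotent.exp (y - z) = 1 := by
    rw [sub_eq_add_neg, IsNilpotent.exp_add_of_commute (Commute.all _ _) hy hz.neg, h,
      IsNilpotent.exp_mul_exp_neg_self hz]
  rw [h1] at hr
  have h2 : (y - z) * (1 + (y - z) * r) = 0 := by linear_combination -hr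
  have hu : IsUnit (1 + (y - z) * r) :=
    (Commute.isNilpotent_mul_right (Commute.all _ _) hd).isUnit_one_add
  exact sub_eq_zero.1 (hu.mul_left_eq_zero.1 h2)

theorem exists_log {x : R} (hx : IsNilpotent x) : ∃ y, IsNilpotent y ∧ IsNilpotent.exp y = 1 + x := by
  have hnil : ∀ y ∈ Ideal.span {x}, IsNilpotent y := by
    intro y hy
    obtain ⟨c, rfl⟩ := Ideal.mem_span_singleton.1 hy
    exact Commute.isNilpotent_mul_right (Commute.all _ _) hx
  have key : ∀ j, ∃ y ∈ Ideal.span {x}, IsNilpotent.exp y - (1 + x) ∈ Ideal.span {x} ^ (j + 1) := by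
    intro j
    induction j with
    | zero =>
      refine ⟨0, zero_mem _, ?_⟩
      rw [IsNilpotent.exp_zero, sub_add_cancel_left, pow_one]
      exact neg_mem (Ideal.mem_span_singleton_self x)
    | succ j ih =>
      obtain ⟨y, hy, hd⟩ := ih
      set d := IsNilpotent.exp y - (1 + x) with hdd
      have hdN : d ∈ Ideal.span {x} := Ideal.pow_le_self (by omega) hd
      refine ⟨y - d, sub_mem hy hdN, ?_⟩
      obtain ⟨r, hr⟩ := exists_exp_eq (hnil y hy)
      obtain ⟨r', hr'⟩ := exists_exp_eq (hnil d hdN).neg
      rw [sub_eq_add_neg y d, IsNilpotent.exp_add_of_commute (Commute.all _ _) (hnil y hy) (hnil d hdN).neg, hr']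
      have e : IsNilpotent.exp y * (1 + -d + (-d) ^ 2 * r') - (1 + x) =
          d * (-(y + y ^ 2 * r)) + d * d * (IsNilpotent.exp y * r') := by
        have h3 : IsNilpotent.exp y = d + (1 + x) := by rw [hdd]; ring
        linear_combination (1 : R) * h3 + (-d) * hr
      rw [e]
      refine add_mem ?_ (Ideal.mul_mem_right _ _ ?_)
      · rw [pow_succ]
        refine Ideal.mul_mem_mul hd (neg_mem (add_mem hy (Ideal.mul_mem_right _ _ ?_)))
        exact Ideal.pow_mem_of_mem _ hy 2 (by omega)
      · rw [pow_succ]
        exact Ideal.mul_mem_mul hd hdN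
  obtain ⟨n, hn⟩ := hx
  obtain ⟨y, hy, hd⟩ := key n
  refine ⟨y, hnil y hy, ?_⟩
  rw [Ideal.span_singleton_pow, pow_succ, hn, zero_mul, Ideal.mem_span_singleton, zero_dvd_iff, sub_eq_zero] at hd
  exact hd

end Exp

variable {k : Type u} [Field k] {A : Type v} [CommRing A] [HopfAlgebra k A] [Coalgebra.IsCocomm k A]

theorem comul_mem_left {n : ℕ} {a : A} (ha : a ∈ soc k A A n) :
    CoalgebraStruct.comul (R := k) a ∈ LinearMap.range ((soc k A A n).subtype.rTensor A) :=
  isSubcomod_soc n a ha

theorem comul_mem_right {n : ℕ} {a : A} (ha : a ∈ soc k A A n) :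
    CoalgebraStruct.comul (R := k) a ∈ LinearMap.range ((soc k A A n).subtype.lTensor A) := by
  obtain ⟨y, hy⟩ := comul_mem_left ha
  refine ⟨TensorProduct.comm k _ _ y, ?_⟩
  rw [← Coalgebra.comm_comul k a, ← hy]
  clear hy
  induction y with
  | zero => simp
  | tmul p q => simp
  | add p q hp hq => simp only [map_add, hp, hq]

section Conv

variable (B : Type w) [CommRing B] [Algebra k B]

/-- the convolution algebra -/
abbrev E := WithConv (A →ₗ[k] B)

variable (k A) in
/-- functionals vanishing on a step of the socle series -/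
def vanish (n : ℕ) : Ideal (WithConv (A →ₗ[k] B)) where
  carrier := {f | ∀ a ∈ soc k A A n, f.ofConv a = 0}
  zero_mem' := fun a _ => rfl
  add_mem' := fun {f g} hf hg a ha => by
    show f.ofConv a + g.ofConv a = 0
    rw [hf a ha, hg a ha, add_zero]
  smul_mem' := fun g f hf a ha => by
    show (g * f).ofConv a = 0
    rw [LinearMap.convMul_apply]
    obtain ⟨y, hy⟩ := comul_mem_right ha
    rw [← hy]
    clear hy
    induction y with
    | zero => simp
    | tmul p q => simp [hf q q.2]
    | add p q hp hq => simp only [map_add, hp, hq, add_zero]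

theorem mem_vanish {n : ℕ} {f : WithConv (A →ₗ[k] B)} :
    f ∈ vanish k A B n ↔ ∀ a ∈ soc k A A n, f.ofConv a = 0 := Iff.rfl

theorem mul_apply_one (f g : WithConv (A →ₗ[k] B)) : (f * g).ofConv 1 = f.ofConv 1 * g.ofConv 1 := by
  rw [LinearMap.convMul_apply, Bialgebra.comul_one, Algebra.TensorProduct.one_def]
  simp

theorem sub_one_pow_vanish (h : A →ₐ[k] B) :
    ∀ n, (toConv h.toLinearMap - 1 : WithConv (A →ₗ[k] B)) ^ n ∈ vanish k A B n
  | 0 => fun a ha => by
    rw [show a = 0 from (Submodule.mem_bot k).1 ha, map_zero]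
  | n + 1 => fun a ha => by
    have ih := sub_one_pow_vanish h n
    obtain ⟨y, hy⟩ := mem_soc_succ.1 ha
    have e : CoalgebraStruct.comul (R := k) a = (soc k A A n).subtype.rTensor A y + a ⊗ₜ[k] (1 : A) := by
      rw [hy]; exact (sub_add_cancel _ _).symm
    rw [pow_succ, LinearMap.convMul_apply, e, map_add, map_add]
    have h1 : (toConv h.toLinearMap - 1 : WithConv (A →ₗ[k] B)).ofConv (1 : A) = 0 := by
      show h 1 - (1 : WithConv (A →ₗ[k] B)).ofConv (1 : A) = 0
      rw [map_one, show (1 : WithConv (A →ₗ[k] B)).ofConv (1 : A) =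
        algebraMap k B (CoalgebraStruct.counit (R := k) (1 : A)) from rfl, Bialgebra.counit_one, map_one,
        sub_self]
    rw [TensorProduct.map_tmul, LinearMap.mul'_apply, h1, mul_zero, add_zero]
    clear e hy
    induction y with
    | zero => simp
    | tmul p q => simp [ih p p.2]
    | add p q hp hq => simp only [map_add, hp, hq, add_zero]

variable (k A) in
/-- the truncated convolution ring -/
abbrev Trunc (n : ℕ) := WithConv (A →ₗ[k] B) ⧸ vanish k A B n

/-- the class of an algebra map minus one is nilpotent -/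
theorem isNilpotent_sub_one (h : A →ₐ[k] B) (n : ℕ) :
    IsNilpotent (Ideal.Quotient.mk (vanish k A B n) (toConv h.toLinearMap) - 1) := by
  refine ⟨n, ?_⟩
  rw [← map_one (Ideal.Quotient.mk (vanish k A B n)), ← map_sub, ← map_pow, Ideal.Quotient.eq_zero_iff_mem]
  exact sub_one_pow_vanish B h n

instance [CharZero k] (n : ℕ) : Algebra ℚ (Trunc k A B n) :=
  ((algebraMap k (Trunc k A B n)).comp (algebraMap ℚ k)).toAlgebra

end Conv

section Post

variable {B : Type*} [CommRing B] [Algebra k B] {C : Type*} [CommRing C] [Algebra k C]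

/-- postcomposition with an algebra map -/
def post (h : B →ₐ[k] C) : WithConv (A →ₗ[k] B) →+* WithConv (A →ₗ[k] C) where
  toFun f := toConv (h.toLinearMap.comp f.ofConv)
  map_one' := by
    apply WithConv.ofConv_injective
    refine LinearMap.ext fun a => ?_
    exact h.commutes _
  map_mul' f g := by
    apply WithConv.ofConv_injective
    exact LinearMap.algHom_comp_convMul_distrib h f g
  map_zero' := by
    apply WithConv.ofConv_injective
    exact LinearMap.comp_zero _
  map_add' f g := by
    apply WithConv.ofConv_injective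
    exact LinearMap.comp_add _ _ _

theorem post_apply (h : B →ₐ[k] C) (f : WithConv (A →ₗ[k] B)) (a : A) :
    (post h f).ofConv a = h (f.ofConv a) := rfl

/-- postcomposition on the truncated rings -/
def postT (h : B →ₐ[k] C) (n : ℕ) : Trunc k A B n →+* Trunc k A C n :=
  Ideal.quotientMap (vanish k A C n) (post h) fun f hf => by
    rw [Ideal.mem_comap, mem_vanish]
    intro a ha
    rw [post_apply, hf a ha, map_zero]

theorem postT_mk (h : B →ₐ[k] C) (n : ℕ) (f : WithConv (A →ₗ[k] B)) :
    postT h n (Ideal.Quotient.mk _ f) = Ideal.Quotient.mk _ (post h f) := rfl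

end Post

variable (k A) in
/-- the primitive elements -/
def prims : Submodule k A where
  carrier := {p | Diag.IsPrim (k := k) p}
  zero_mem' := by simp [Diag.IsPrim]
  add_mem' := fun {p q} hp hq => by
    show CoalgebraStruct.comul (R := k) (p + q) = _
    rw [map_add, show CoalgebraStruct.comul (R := k) p = _ from hp,
      show CoalgebraStruct.comul (R := k) q = _ from hq, add_tmul, tmul_add]
    abel
  smul_mem' := fun c p hp => by
    show CoalgebraStruct.comul (R := k) (c • p) = _
    rw [map_smul, show CoalgebraStruct.comul (R := k) p = _ from hp, smul_add, smul_tmul', tmul_smul]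

theorem soc_le_adjoin [CharZero k] (n : ℕ) :
    soc k A A n ≤ (Algebra.adjoin k (prims k A : Set A)).toSubmodule := by
  intro a ha
  let mk := Ideal.Quotient.mk (vanish k A A n)
  let one' := toConv (AlgHom.id k A).toLinearMap
  obtain ⟨Y, hY, hYe⟩ := exists_log (isNilpotent_sub_one A (AlgHom.id k A) n)
  rw [add_sub_cancel] at hYe
  obtain ⟨e, rfl⟩ := Ideal.Quotient.mk_surjective Y
  -- the logarithm takes primitive values
  let iL : A →ₐ[k] A ⊗[k] A := Algebra.TensorProduct.includeLeft
  let iR : A →ₐ[k] A ⊗[k] A := Algebra.TensorProduct.includeRight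
  let dl : A →ₐ[k] A ⊗[k] A := Bialgebra.comulAlgHom k A
  have hprod : post iL one' * post iR one' = post dl one' := by
    apply WithConv.ofConv_injective
    refine LinearMap.ext fun b => ?_
    rw [LinearMap.convMul_apply]
    show _ = CoalgebraStruct.comul (R := k) b
    generalize CoalgebraStruct.comul (R := k) b = z
    induction z with
    | zero => simp
    | tmul p q => simp [one', iL, iR, post]
    | add p q hp hq => simp only [map_add, hp, hq]
  have hlog : postT dl n (mk e) = postT iL n (mk e) + postT iR n (mk e) := by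
    refine eq_of_exp_eq (hY.map _) (Commute.isNilpotent_add (Commute.all _ _) (hY.map _) (hY.map _)) ?_
    rw [IsNilpotent.exp_add_of_commute (Commute.all _ _) (hY.map _) (hY.map _), ← map_exp _ hY,
      ← map_exp _ hY, ← map_exp _ hY, hYe, postT_mk, postT_mk, postT_mk, ← map_mul, hprod]
  have hprim : ∀ b ∈ soc k A A n, e.ofConv b ∈ prims k A := by
    intro b hb
    rw [postT_mk, postT_mk, postT_mk, ← map_add, Ideal.Quotient.eq] at hlog
    have := hlog b hb
    exact sub_eq_zero.1 this
  let D := Algebra.adjoin k (prims k A : Set A)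
  -- convolution powers stay in the algebra of primitives
  have hpow : ∀ i : ℕ, ∀ b ∈ soc k A A n, (e ^ i).ofConv b ∈ D := by
    intro i
    induction i with
    | zero => intro b _; rw [pow_zero]; exact D.algebraMap_mem _
    | succ i ih =>
      intro b hb
      rw [pow_succ, LinearMap.convMul_apply]
      obtain ⟨z, hz⟩ := mem_range_map_subtype (k := k) (V := A) (A := A) (U := soc k A A n) (D := soc k A A n)
        (x := CoalgebraStruct.comul (R := k) b) (comul_mem_left hb) (comul_mem_right hb)
      rw [← hz]
      clear hz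
      induction z with
      | zero => simp
      | tmul p q =>
        simp only [TensorProduct.map_tmul, LinearMap.mul'_apply]
        exact mul_mem (ih p p.2) (Algebra.subset_adjoin (hprim q q.2))
      | add p q hp hq => simp only [map_add]; exact add_mem hp hq
  obtain ⟨m, hm⟩ := hY
  rw [IsNilpotent.exp_eq_sum hm] at hYe
  have hsum : mk one' = mk (∑ i ∈ Finset.range m, algebraMap ℚ k ((i.factorial : ℚ)⁻¹) • e ^ i) := by
    rw [map_sum]
    refine hYe.symm.trans (Finset.sum_congr rfl fun i _ => ?_)
    rw [Algebra.smul_def, Algebra.smul_def, map_mul, map_pow]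
    rfl
  rw [Ideal.Quotient.eq] at hsum
  have h2 := hsum a ha
  rw [WithConv.ofConv_sub, LinearMap.sub_apply, sub_eq_zero] at h2
  show a ∈ D
  rw [show a = one'.ofConv a from rfl, h2, WithConv.ofConv_sum, LinearMap.sum_apply]
  exact sum_mem fun i _ => D.smul_mem (hpow i a ha) _

theorem adjoin_prims_eq_top [CharZero k] (hU : HopfRep.IsUnipotent k A) :
    Algebra.adjoin k (prims k A : Set A) = ⊤ := by
  refine eq_top_iff.2 fun a _ => ?_
  have h : a ∈ ⨆ i, soc k A A i := by rw [iSup_soc_eq_top hU]; trivial
  exact (Submodule.mem_iSup_of_directed _ (soc_mono.directed_le)).1 h |>.elim fun i hi => soc_le_adjoin i hi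

omit [Coalgebra.IsCocomm k A] in
/-- primitive elements do not lie in the square of the augmentation ideal -/
theorem eq_zero_of_mem_sq [CharZero k] [IsDomain A] [IsNoetherianRing A] {p : A}
    (hp : Diag.IsPrim (k := k) p) (h2 : p ∈ RingHom.ker (Bialgebra.counitAlgHom k A) ^ 2) : p = 0 := by
  classical
  let m := RingHom.ker (Bialgebra.counitAlgHom k A)
  -- the doubling map
  let D : A →ₐ[k] A := (Algebra.TensorProduct.lmul' k).comp (Bialgebra.comulAlgHom k A)
  have hD1 : ∀ a ∈ m, D a - 2 * a ∈ m ^ 2 := by
    intro a ha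
    have hφ : ∀ z : A ⊗[k] A, Algebra.TensorProduct.lmul' k z
        - (TensorProduct.rid k A ((CoalgebraStruct.counit (R := k) (A := A)).lTensor A z))
        - (TensorProduct.lid k A ((CoalgebraStruct.counit (R := k) (A := A)).rTensor A z))
        + algebraMap k A (Algebra.TensorProduct.lmul' k
          (Algebra.TensorProduct.map (Bialgebra.counitAlgHom k A) (Bialgebra.counitAlgHom k A) z)) ∈ m ^ 2 := by
      intro z
      induction z with
      | zero => simp
      | add x y hx hy =>
        simp only [map_add]
        convert add_mem hx hy using 1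
        abel
      | tmul x y =>
        have e : (x - algebraMap k A (CoalgebraStruct.counit (R := k) x)) *
            (y - algebraMap k A (CoalgebraStruct.counit (R := k) y)) ∈ m ^ 2 := by
          rw [pow_two]
          refine Ideal.mul_mem_mul ?_ ?_ <;>
          · show Bialgebra.counitAlgHom k A _ = 0
            rw [map_sub, AlgHom.commutes]
            exact sub_self _
        convert e using 1
        simp only [LinearMap.lTensor_tmul, LinearMap.rTensor_tmul, TensorProduct.rid_tmul,
          TensorProduct.lid_tmul, Algebra.TensorProduct.lmul'_apply_tmul, Algebra.TensorProduct.map_tmul,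
          Bialgebra.counitAlgHom_apply, map_mul, Algebra.smul_def]
        ring
    have h3 := hφ (CoalgebraStruct.comul (R := k) a)
    rw [Coalgebra.lTensor_counit_comul, Coalgebra.rTensor_counit_comul, TensorProduct.rid_tmul,
      TensorProduct.lid_tmul, one_smul] at h3
    have h4 : Algebra.TensorProduct.lmul' k
        (Algebra.TensorProduct.map (Bialgebra.counitAlgHom k A) (Bialgebra.counitAlgHom k A)
          (CoalgebraStruct.comul (R := k) a)) = CoalgebraStruct.counit (R := k) a := by
      conv_rhs => rw [← one_smul k a, ← TensorProduct.lid_tmul a (1 : k),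
        ← Coalgebra.rTensor_counit_comul (R := k) a]
      generalize CoalgebraStruct.comul (R := k) a = z
      induction z with
      | zero => simp
      | tmul x y => simp
      | add x y hx hy => simp only [map_add, hx, hy]
    rw [h4, show CoalgebraStruct.counit (R := k) a = 0 from ha, map_zero, add_zero] at h3
    rw [two_mul]
    rw [sub_sub] at h3
    exact h3
  have hDm : ∀ a ∈ m, D a ∈ m := fun a ha => by
    have := add_mem (Ideal.pow_le_self two_ne_zero (hD1 a ha)) (m.mul_mem_left 2 ha)
    rwa [sub_add_cancel] at this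
  have hDj : ∀ j, ∀ a ∈ m ^ j, D a - (2 : A) ^ j * a ∈ m ^ (j + 1) := by
    intro j
    induction j with
    | zero =>
      intro a _
      rw [pow_zero, one_mul, zero_add, pow_one]
      show Bialgebra.counitAlgHom k A (D a - a) = 0
      have h5 : a - algebraMap k A (CoalgebraStruct.counit (R := k) a) ∈ m := by
        show Bialgebra.counitAlgHom k A _ = 0
        rw [map_sub, AlgHom.commutes]; exact sub_self _
      have h6 := hDm _ h5
      rw [map_sub, AlgHom.commutes] at h6
      have h7 : Bialgebra.counitAlgHom k A (D a - algebraMap k A (CoalgebraStruct.counit (R := k) a)) = 0 := h6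
      rw [map_sub, AlgHom.commutes, sub_eq_zero] at h7
      rw [map_sub, h7]
      exact sub_self _
    | succ j ih =>
      intro a ha
      rw [pow_succ] at ha
      induction ha using Submodule.mul_induction_on' with
      | mem_mul_mem x hx y hy =>
        have e : D (x * y) - 2 ^ (j + 1) * (x * y) =
            (D x - 2 ^ j * x) * D y + 2 ^ j * (x * (D y - 2 * y)) := by
          rw [map_mul]; ring
        rw [e]
        refine add_mem ?_ (Ideal.mul_mem_left _ _ ?_)
        · rw [pow_succ]; exact Ideal.mul_mem_mul (ih x hx) (hDm y hy)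
        · rw [show j + 1 + 1 = j + 2 by rfl, pow_add]
          exact Ideal.mul_mem_mul hx (hD1 y hy)
      | add x hx y hy hx' hy' =>
        convert add_mem hx' hy' using 1
        rw [map_add]; ring
  have hmem : ∀ j, p ∈ m ^ j := by
    intro j
    induction j with
    | zero => simp
    | succ j ih =>
      rcases Nat.lt_or_ge j 2 with hj | hj
      · exact Ideal.pow_le_pow_right (by omega) h2
      · have h5 := hDj j p ih
        have hDp : D p = 2 * p := by
          show Algebra.TensorProduct.lmul' k (CoalgebraStruct.comul (R := k) p) = _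
          rw [show CoalgebraStruct.comul (R := k) p = _ from hp, map_add]
          simp [two_mul]
        rw [hDp, show (2 : A) * p - 2 ^ j * p = algebraMap k A (2 - 2 ^ j) * p by
          rw [map_sub, map_pow, map_ofNat]; ring] at h5
        have hne : (2 : k) - 2 ^ j ≠ 0 := by
          rw [sub_ne_zero]
          intro e
          have e' : (2 : ℕ) = 2 ^ j := by exact_mod_cast e
          have := Nat.pow_le_pow_right (n := 2) (by norm_num) hj
          omega
        have h6 := Ideal.mul_mem_left _ (algebraMap k A (2 - 2 ^ j)⁻¹) h5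
        rwa [← mul_assoc, ← map_mul, inv_mul_cancel₀ hne, map_one, one_mul] at h6
  have h7 : p ∈ ⨅ i : ℕ, m ^ i := Submodule.mem_iInf _ |>.2 hmem
  rwa [Ideal.iInf_pow_eq_bot_of_isDomain m (RingHom.ker_ne_top _), Ideal.mem_bot] at h7

omit [Coalgebra.IsCocomm k A] in
/-- linearly independent primitives are algebraically independent -/
theorem algebraicIndependent [CharZero k] [IsDomain A] [IsNoetherianRing A] {n : ℕ} {x : Fin n → A}
    (hx : ∀ i, Diag.IsPrim (k := k) (x i)) (hli : LinearIndependent k x) : AlgebraicIndependent k x := by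
  classical
  let m := RingHom.ker (Bialgebra.counitAlgHom k A)
  have hxm : ∀ i, x i ∈ m := fun i => Diag.counit_prim (hx i)
  let M : Submodule k A := (m ^ 2).restrictScalars k ⊔ (k ∙ (1 : A))
  have hmM : ∀ p : A, Diag.IsPrim (k := k) p → p ∈ M → p = 0 := by
    intro p hp hpM
    obtain ⟨u, hu, v, hv, rfl⟩ := Submodule.mem_sup.1 hpM
    obtain ⟨c, rfl⟩ := Submodule.mem_span_singleton.1 hv
    have h0 : CoalgebraStruct.counit (R := k) (u + c • (1 : A)) = 0 := Diag.counit_prim hp
    have hu0 : CoalgebraStruct.counit (R := k) u = 0 := Ideal.pow_le_self (I := m) two_ne_zero hu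
    rw [map_add, map_smul, Bialgebra.counit_one, hu0, zero_add, smul_eq_mul, mul_one] at h0
    subst h0
    rw [zero_smul, add_zero] at hp ⊢
    exact eq_zero_of_mem_sq hp hu
  have hli' : LinearIndependent k (M.mkQ ∘ x) := by
    refine hli.map ?_
    rw [Submodule.ker_mkQ, Submodule.disjoint_def]
    intro p hp hpM
    refine hmM p ?_ hpM
    exact (Submodule.span_le (p := prims k A)).2 (by rintro _ ⟨i, rfl⟩; exact hx i) hp
  have hl : ∀ j, ∃ l : A →ₗ[k] k, (∀ a ∈ M, l a = 0) ∧ ∀ i, l (x i) = if i = j then 1 else 0 := by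
    intro j
    obtain ⟨g, hg⟩ := LinearMap.exists_extend ((Finsupp.lapply j).comp (hli'.repr))
    refine ⟨g.comp M.mkQ, fun a ha => ?_, fun i => ?_⟩
    · rw [LinearMap.comp_apply, Submodule.mkQ_apply, (Submodule.Quotient.mk_eq_zero M).2 ha, map_zero]
    · have h1 := LinearMap.congr_fun hg ⟨M.mkQ (x i), Submodule.subset_span ⟨i, rfl⟩⟩
      simp only [LinearMap.comp_apply, Submodule.subtype_apply] at h1
      rw [LinearMap.comp_apply, h1]
      rw [show hli'.repr ⟨M.mkQ (x i), Submodule.subset_span ⟨i, rfl⟩⟩ = Finsupp.single i 1 from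
        hli'.repr_eq_single i _ rfl, Finsupp.lapply_apply, Finsupp.single_apply]
  choose l hlM hlx using hl
  -- the invariant derivations
  have hder : ∀ j (a b : A), l j (a * b) =
      CoalgebraStruct.counit (R := k) a * l j b + CoalgebraStruct.counit (R := k) b * l j a := by
    intro j a b
    have e : a * b - CoalgebraStruct.counit (R := k) a • b - CoalgebraStruct.counit (R := k) b • a ∈ M := by
      have e1 : (a - algebraMap k A (CoalgebraStruct.counit (R := k) a)) *
          (b - algebraMap k A (CoalgebraStruct.counit (R := k) b)) ∈ m ^ 2 := by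
        rw [pow_two]
        refine Ideal.mul_mem_mul ?_ ?_ <;>
        · show Bialgebra.counitAlgHom k A _ = 0
          rw [map_sub, AlgHom.commutes]; exact sub_self _
      refine Submodule.mem_sup.2 ⟨_, e1, _, Submodule.smul_mem _
        (-(CoalgebraStruct.counit (R := k) a * CoalgebraStruct.counit (R := k) b))
        (Submodule.mem_span_singleton_self _), ?_⟩
      rw [Algebra.smul_def, Algebra.smul_def, Algebra.smul_def, map_neg, map_mul, mul_one]
      ring
    have h1 := hlM j _ e
    rw [map_sub, map_sub, map_smul, map_smul, sub_sub, sub_eq_zero] at h1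
    simpa [smul_eq_mul] using h1
  let D : Fin n → A →ₗ[k] A := fun j => rc (l j) ∘ₗ CoalgebraStruct.comul
  have hrc : ∀ j (z w : A ⊗[k] A), rc (l j) (z * w) =
      rc (CoalgebraStruct.counit (R := k)) z * rc (l j) w + rc (CoalgebraStruct.counit (R := k)) w * rc (l j) z := by
    intro j z w
    induction z with
    | zero => simp
    | add p q hp hq => simp only [add_mul, map_add, hp, hq, mul_add]; ring
    | tmul p q =>
      induction w with
      | zero => simp
      | add r s hr hs => simp only [mul_add, map_add, hr, hs, add_mul]; ring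
      | tmul r s =>
        simp only [Algebra.TensorProduct.tmul_mul_tmul, rc_tmul, hder, Algebra.smul_def, map_add, map_mul]
        ring
  have hεc : ∀ a : A, rc (CoalgebraStruct.counit (R := k)) (CoalgebraStruct.comul (R := k) a) = a := by
    intro a
    show TensorProduct.rid k A ((CoalgebraStruct.counit (R := k) (A := A)).lTensor A _) = a
    rw [Coalgebra.lTensor_counit_comul, TensorProduct.rid_tmul, one_smul]
  have hD : ∀ j (a b : A), D j (a * b) = a * D j b + b * D j a := by
    intro j a b
    simp only [D, LinearMap.comp_apply]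
    rw [Bialgebra.comul_mul, hrc, hεc, hεc]
  have hD1 : ∀ j, D j 1 = 0 := by
    intro j
    simp only [D, LinearMap.comp_apply, Bialgebra.comul_one, Algebra.TensorProduct.one_def, rc_tmul]
    rw [hlM j 1 (Submodule.mem_sup_right (Submodule.mem_span_singleton_self _)), zero_smul]
  have hDx : ∀ i j, D j (x i) = if i = j then 1 else 0 := by
    intro i j
    simp only [D, LinearMap.comp_apply]
    rw [show CoalgebraStruct.comul (R := k) (x i) = _ from hx i, map_add, rc_tmul, rc_tmul, hlx,
      hlM j 1 (Submodule.mem_sup_right (Submodule.mem_span_singleton_self _)), zero_smul, zero_add, ite_smul,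
      one_smul, zero_smul]
  have hchain : ∀ (F : MvPolynomial (Fin n) k) j,
      D j (MvPolynomial.aeval x F) = MvPolynomial.aeval x (MvPolynomial.pderiv j F) := by
    intro F j
    induction F using MvPolynomial.induction_on with
    | C c =>
      rw [MvPolynomial.aeval_C, Algebra.algebraMap_eq_smul_one, map_smul, hD1, smul_zero, MvPolynomial.pderiv_C,
        map_zero]
    | add p q hp hq => simp only [map_add, hp, hq]
    | mul_X p i hp =>
      rw [map_mul, MvPolynomial.aeval_X, hD, hp, hDx, MvPolynomial.pderiv_mul, map_add, map_mul, map_mul,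
        MvPolynomial.aeval_X, MvPolynomial.pderiv_X, Pi.single_apply]
      by_cases hij : j = i
      · subst hij; simp; ring
      · rw [if_neg (fun e => hij e.symm), if_neg (fun e : i = j => hij e.symm)]; simp; ring
  rw [algebraicIndependent_iff]
  intro F hF
  induction hd : F.totalDegree using Nat.strong_induction_on generalizing F with
  | _ d ih =>
  have hC : F.totalDegree = 0 := by
    by_contra hne
    obtain ⟨s, hs, hsd⟩ : ∃ s ∈ F.support, (s.sum fun _ e => e) = F.totalDegree := by
      have hF0 : F.support.Nonempty := by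
        rw [Finset.nonempty_iff_ne_empty]
        intro e
        rw [MvPolynomial.support_eq_empty] at e
        rw [e, MvPolynomial.totalDegree_zero] at hne
        exact hne rfl
      obtain ⟨s, hs, h⟩ := Finset.exists_mem_eq_sup F.support hF0 fun s => s.sum fun _ e => e
      exact ⟨s, hs, h.symm⟩
    obtain ⟨j, hj⟩ : ∃ j, s j ≠ 0 := by
      by_contra h
      push Not at h
      exact hne (by rw [← hsd]; exact Finset.sum_eq_zero fun i _ => h i)
    have hle : (MvPolynomial.pderiv j F).totalDegree < F.totalDegree := by
      rw [MvPolynomial.totalDegree, Finset.sup_lt_iff (Nat.pos_of_ne_zero hne)]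
      intro t ht
      rw [MvPolynomial.mem_support_iff, MvPolynomial.coeff_pderiv] at ht
      have h1 := MvPolynomial.le_totalDegree (p := F) (s := t + Finsupp.single j 1)
        (MvPolynomial.mem_support_iff.2 (left_ne_zero_of_mul ht))
      rw [Finsupp.sum_add_index' (fun _ => rfl) (fun _ _ _ => rfl), Finsupp.sum_single_index rfl] at h1
      omega
    have h0 := ih _ (hd ▸ hle) (MvPolynomial.pderiv j F) (by rw [← hchain, hF, map_zero]) rfl
    have hsj : s = (s - Finsupp.single j 1) + Finsupp.single j 1 := by
      ext i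
      by_cases hi : i = j
      · subst hi
        simp only [Finsupp.coe_add, Finsupp.coe_tsub, Pi.add_apply, Pi.sub_apply, Finsupp.single_eq_same]
        omega
      · simp [hi]
    have h1 := congrArg (MvPolynomial.coeff (s - Finsupp.single j 1)) h0
    rw [MvPolynomial.coeff_pderiv, MvPolynomial.coeff_zero, ← hsj] at h1
    refine (mul_eq_zero.1 h1).elim (MvPolynomial.mem_support_iff.1 hs) ?_
    exact Nat.cast_add_one_ne_zero _
  rw [MvPolynomial.totalDegree_eq_zero_iff_eq_C] at hC
  rw [hC, MvPolynomial.aeval_C, map_eq_zero_iff _ (algebraMap k A).injective] at hF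
  rw [hC, hF, map_zero]

/-- a commutative unipotent group in characteristic zero is a vector group -/
theorem exists_generators [CharZero k] [Algebra.FiniteType k A] [IsDomain A] (hU : HopfRep.IsUnipotent k A) :
    ∃ (n : ℕ) (x : Fin n → A), AlgebraicIndependent k x ∧ Algebra.adjoin k (Set.range x) = ⊤ ∧
      ∀ i, Diag.IsPrim (k := k) (x i) := by
  classical
  haveI : IsNoetherianRing A := Algebra.FiniteType.isNoetherianRing k A
  obtain ⟨s, hs⟩ := ‹Algebra.FiniteType k A›.out
  have h : ∀ a ∈ s, ∃ t : Finset A, (↑t ⊆ (prims k A : Set A)) ∧ a ∈ Algebra.adjoin k (t : Set A) := by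
    intro a has
    have ha : a ∈ Algebra.adjoin k (prims k A : Set A) := by rw [adjoin_prims_eq_top hU]; trivial
    clear has
    induction ha using Algebra.adjoin_induction with
    | mem x hx => exact ⟨{x}, by simpa using hx, Algebra.subset_adjoin (by simp)⟩
    | algebraMap c => exact ⟨∅, by simp, Subalgebra.algebraMap_mem _ c⟩
    | add x y _ _ hx hy =>
      obtain ⟨t, ht, hxt⟩ := hx
      obtain ⟨t', ht', hyt⟩ := hy
      exact ⟨t ∪ t', by simp [Set.union_subset_iff, ht, ht'],
        add_mem (Algebra.adjoin_mono (by simp) hxt) (Algebra.adjoin_mono (by simp) hyt)⟩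
    | mul x y _ _ hx hy =>
      obtain ⟨t, ht, hxt⟩ := hx
      obtain ⟨t', ht', hyt⟩ := hy
      exact ⟨t ∪ t', by simp [Set.union_subset_iff, ht, ht'],
        mul_mem (Algebra.adjoin_mono (by simp) hxt) (Algebra.adjoin_mono (by simp) hyt)⟩
  choose! t ht hat using h
  let W := Submodule.span k ((s.biUnion t : Finset A) : Set A)
  haveI : Module.Finite k W := Module.Finite.span_of_finite k (Finset.finite_toSet _)
  let b := Module.finBasis k W
  have hW : W ≤ prims k A := Submodule.span_le.2 fun z hz => by
    obtain ⟨a, ha, hza⟩ := Finset.mem_biUnion.1 hz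
    exact ht a ha hza
  refine ⟨_, fun i => (b i : A), algebraicIndependent (fun i => hW (b i).2)
    (b.linearIndependent.map' W.subtype W.ker_subtype), ?_, fun i => hW (b i).2⟩
  rw [eq_top_iff, ← hs, Algebra.adjoin_le_iff]
  intro a ha
  refine Algebra.adjoin_le ?_ (hat a ha)
  intro z hz
  have hzW : z ∈ W := Submodule.subset_span (Finset.mem_biUnion.2 ⟨a, ha, hz⟩)
  rw [show z = (W.subtype ⟨z, hzW⟩) from rfl, ← b.sum_repr ⟨z, hzW⟩, map_sum]
  exact sum_mem fun i _ => Subalgebra.smul_mem _ (Algebra.subset_adjoin (Set.mem_range_self (f := fun i => (b i : A)) i)) _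

end Groth.Agent.Comod33.PrimGen
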