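import Groth.Agent.Comod33.Diag
import Groth.Agent.Comod33.PrimGen
import Groth.Agent.Comod33.Socle
import Groth.Prelude.Def_SGA3b
import Mathlib.Data.Finset.Sym
import Mathlib.FieldTheory.IsAlgClosed.Basic
import Mathlib.RingTheory.Bialgebra.Convolution

/-!
Unipotent commutative groups killed by the characteristic are generated by primitive functions.
-/

universe u v

set_option maxHeartbeats 1000000
set_option synthInstance.maxHeartbeats 100000

open TensorProduct WithConv

noncomputable section

namespace Groth.Agent.Comod33.UniFilt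

variable {k : Type u} [Field k] {A : Type u} [CommRing A] [HopfAlgebra k A]

/-- sums of powers in a ring where `p` vanishes -/
theorem sum_pow_char_of_zero {p : ℕ} (hp : p.Prime) {S : Type*} [CommRing S] (hS : (p : S) = 0)
    {ι : Type*} (s : Finset ι) (f : ι → S) : (∑ i ∈ s, f i) ^ p = ∑ i ∈ s, f i ^ p := by
  haveI : Fact p.Prime := ⟨hp⟩
  rcases subsingleton_or_nontrivial S with h | h
  · exact Subsingleton.elim _ _
  · haveI : CharP S p := (CharP.charP_iff_prime_eq_zero hp).2 hS
    exact sum_pow_char p s f

/-- the functionals -/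
abbrev D (k A : Type u) [Field k] [CommRing A] [HopfAlgebra k A] := WithConv (A →ₗ[k] k)

/-- contraction by a functional -/
def T (f : D k A) : A →ₗ[k] A := rc f.ofConv ∘ₗ CoalgebraStruct.comul

theorem apply_T (g f : D k A) (a : A) : g.ofConv (T f a) = (g * f).ofConv a := by
  simp only [T, LinearMap.comp_apply, LinearMap.convMul_apply]
  generalize CoalgebraStruct.comul (R := k) a = z
  induction z with
  | zero => simp
  | add p q hp hq => simp only [map_add, hp, hq]
  | tmul p q => simp [mul_comm]

theorem T_one (f : D k A) : T f (1 : A) = f.ofConv 1 • (1 : A) := by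
  simp [T, Algebra.TensorProduct.one_def]

theorem T_mem {V : Submodule k A} (hV : HopfRep.IsSubcomod (k := k) (A := A) V) (f : D k A) {v : A}
    (hv : v ∈ V) : T f v ∈ V := by
  obtain ⟨z, hz⟩ := hV v hv
  show rc f.ofConv (CoalgebraStruct.comul (R := k) v) ∈ V
  rw [← show _ = CoalgebraStruct.comul (R := k) v from hz]
  clear hz
  induction z with
  | zero => simp
  | add p q hp hq => simp only [map_add]; exact add_mem hp hq
  | tmul p q => simpa using V.smul_mem _ p.2

theorem eq_zero_of_forall {a : A} (h : ∀ g : D k A, g.ofConv a = 0) : a = 0 :=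
  (Module.forall_dual_apply_eq_zero_iff k a).1 fun g => h (toConv g)

/-- multiplying the argument by a primitive -/
theorem T_mul_prim {e : A} (he : Diag.IsPrim (k := k) e) (f : D k A) (y : A) :
    T f (e * y) = e * T f y + T (toConv (f.ofConv ∘ₗ LinearMap.mulLeft k e)) y := by
  simp only [T, LinearMap.comp_apply, WithConv.ofConv_toConv, Bialgebra.comul_mul]
  rw [show CoalgebraStruct.comul (R := k) e = _ from he]
  generalize CoalgebraStruct.comul (R := k) y = z
  induction z with
  | zero => simp
  | add p q hp hq => simp only [map_add, mul_add, hp, hq]; abel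
  | tmul p q => simp [add_mul, Algebra.TensorProduct.tmul_mul_tmul]

variable [Coalgebra.IsCocomm k A]

variable (k A) in
/-- evaluation at one -/
def evOne : D k A →+* k where
  toFun f := f.ofConv 1
  map_one' := by
    show algebraMap k k (CoalgebraStruct.counit (R := k) (1 : A)) = 1
    simp
  map_mul' f g := PrimGen.mul_apply_one k f g
  map_zero' := rfl
  map_add' _ _ := rfl

variable (k A) in
/-- functionals vanishing at one -/
def M : Ideal (D k A) := RingHom.ker (evOne k A)

theorem mem_M {f : D k A} : f ∈ M k A ↔ f.ofConv 1 = 0 := Iff.rfl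

theorem one_apply (a : A) : (1 : D k A).ofConv a = CoalgebraStruct.counit (R := k) a := rfl

theorem sub_mem_M (f : D k A) : f - f.ofConv 1 • (1 : D k A) ∈ M k A := by
  show f.ofConv 1 - f.ofConv 1 • CoalgebraStruct.counit (R := k) (1 : A) = 0
  simp

variable (k A) in
/-- the filtration dual to the powers of the augmentation ideal of the functionals -/
def K (n : ℕ) : Submodule k A where
  carrier := {a | ∀ g ∈ M k A ^ n, g.ofConv a = 0}
  zero_mem' := fun g _ => map_zero _
  add_mem' := fun {a b} ha hb g hg => by rw [map_add, ha g hg, hb g hg, add_zero]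
  smul_mem' := fun c a ha g hg => by rw [map_smul, ha g hg, smul_zero]

theorem mem_K {n : ℕ} {a : A} : a ∈ K k A n ↔ ∀ g ∈ M k A ^ n, g.ofConv a = 0 := Iff.rfl

theorem mul_mem_pow {i j : ℕ} {a b : D k A} (ha : a ∈ M k A ^ i) (hb : b ∈ M k A ^ j) :
    a * b ∈ M k A ^ (i + j) := by
  induction j generalizing b with
  | zero => exact Ideal.mul_mem_right _ _ ha
  | succ j ih =>
    rw [Submodule.pow_succ] at hb
    refine Submodule.mul_induction_on hb (fun x hx f hf => ?_) fun x y hx hy => ?_
    · rw [← add_assoc, Submodule.pow_succ, ← mul_assoc]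
      exact Ideal.mul_mem_mul (ih hx) hf
    · rw [mul_add]
      exact add_mem hx hy

theorem K_mono {m n : ℕ} (h : m ≤ n) : K k A m ≤ K k A n :=
  fun _ ha g hg => ha g (Ideal.pow_le_pow_right h hg)

theorem eq_zero_of_mem_K_zero {a : A} (ha : a ∈ K k A 0) : a = 0 :=
  eq_zero_of_forall fun g => ha g (by rw [Submodule.pow_zero, Ideal.one_eq_top]; trivial)

theorem T_mem_K {n : ℕ} (f : D k A) {a : A} (ha : a ∈ K k A n) : T f a ∈ K k A n := fun g hg => by
  rw [apply_T]
  exact ha _ (Ideal.mul_mem_right _ _ hg)

theorem T_mem_K_pred {n : ℕ} {f : D k A} (hf : f ∈ M k A) {a : A} (ha : a ∈ K k A (n + 1)) :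
    T f a ∈ K k A n := fun g hg => by
  rw [apply_T]
  exact ha _ (by rw [Submodule.pow_succ]; exact Ideal.mul_mem_mul hg hf)

theorem mem_K_succ {n : ℕ} {a : A} (h : ∀ f ∈ M k A, T f a ∈ K k A n) : a ∈ K k A (n + 1) := by
  intro g hg
  rw [Submodule.pow_succ] at hg
  refine Submodule.mul_induction_on hg (fun x hx f hf => ?_) fun x y hx hy => ?_
  · rw [← apply_T]
    exact h f hf x hx
  · show x.ofConv a + y.ofConv a = 0
    rw [hx, hy, add_zero]

theorem one_mem_K {n : ℕ} : (1 : A) ∈ K k A (n + 1) :=
  K_mono (Nat.le_add_left 1 n) (mem_K_succ fun f hf => by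
    rw [T_one, mem_M.1 hf, zero_smul]
    exact zero_mem _)

theorem eq_smul_one_of_mem_K_one {a : A} (ha : a ∈ K k A 1) :
    a = CoalgebraStruct.counit (R := k) a • (1 : A) := by
  refine sub_eq_zero.1 (eq_zero_of_forall (k := k) fun g => ?_)
  have h := ha (g - g.ofConv 1 • (1 : D k A)) (by rw [Submodule.pow_one]; exact sub_mem_M g)
  have h' : g.ofConv a - g.ofConv 1 • CoalgebraStruct.counit (R := k) a = 0 := h
  rw [map_sub, map_smul]
  rw [smul_eq_mul] at h' ⊢
  linear_combination h'

theorem T_sub (f g : D k A) (a : A) : T (f - g) a = T f a - T g a :=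
  sub_eq_zero.1 (eq_zero_of_forall (k := k) fun x => by
    show x.ofConv _ = 0
    simp [apply_T, mul_sub])

theorem T_smul (c : k) (f : D k A) (a : A) : T (c • f) a = c • T f a :=
  sub_eq_zero.1 (eq_zero_of_forall (k := k) fun x => by
    show x.ofConv _ = 0
    simp [apply_T, mul_smul_comm])

theorem T_oneD (a : A) : T (1 : D k A) a = a :=
  sub_eq_zero.1 (eq_zero_of_forall (k := k) fun x => by
    show x.ofConv _ = 0
    simp [apply_T])

theorem isPrim_of_mem_K_two {a : A} (ha : a ∈ K k A 2) :
    Diag.IsPrim (k := k) (a - CoalgebraStruct.counit (R := k) a • (1 : A)) := by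
  refine eq_of_rc fun f => ?_
  let g : D k A := toConv f
  have h := eq_smul_one_of_mem_K_one (T_mem_K_pred (n := 1) (sub_mem_M g) ha)
  have hε : CoalgebraStruct.counit (R := k) (T (g - g.ofConv 1 • (1 : D k A)) a) =
      f a - f 1 * CoalgebraStruct.counit (R := k) a := by
    rw [← one_apply, apply_T, one_mul]
    rfl
  rw [hε, T_sub, T_smul, T_oneD] at h
  have h' : rc f (CoalgebraStruct.comul (R := k) a) - f 1 • a =
      (f a - f 1 * CoalgebraStruct.counit (R := k) a) • (1 : A) := h
  rw [sub_eq_iff_eq_add] at h'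
  simp only [map_sub, map_smul, map_add, Bialgebra.comul_one, Algebra.TensorProduct.one_def, rc_tmul, h', smul_eq_mul]
  simp only [sub_smul, smul_sub, smul_smul, mul_comm]
  abel

theorem mem_K_two_of_isPrim {e : A} (he : Diag.IsPrim (k := k) e) : e ∈ K k A 2 := by
  refine mem_K_succ fun f hf => ?_
  have : T f e = f.ofConv e • (1 : A) := by
    show rc f.ofConv (CoalgebraStruct.comul (R := k) e) = _
    rw [he, map_add, rc_tmul, rc_tmul, mem_M.1 hf, zero_smul, zero_add]
  rw [this]
  exact Submodule.smul_mem _ _ one_mem_K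

theorem mul_prim_mem {e : A} (he : Diag.IsPrim (k := k) e) :
    ∀ (n : ℕ) {y : A}, y ∈ K k A n → e * y ∈ K k A (n + 1)
  | 0, y, hy => by rw [eq_zero_of_mem_K_zero hy, mul_zero]; exact zero_mem _
  | n + 1, y, hy => mem_K_succ fun f hf => by
    rw [T_mul_prim he]
    exact add_mem (mul_prim_mem he n (T_mem_K_pred hf hy)) (T_mem_K _ hy)

/-- every function of a unipotent group lies in the filtration -/
theorem exists_mem_K (hU : HopfRep.IsUnipotent k A) (a : A) : ∃ n, a ∈ K k A n := by
  have key : ∀ n, soc k A A n ≤ K k A n := by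
    intro n
    induction n with
    | zero => intro x hx; rw [show x = 0 from (Submodule.mem_bot k).1 hx]; exact zero_mem _
    | succ n ih =>
      intro x hx
      refine mem_K_succ fun f hf => ?_
      obtain ⟨y, hy⟩ := mem_soc_succ.1 hx
      have e : CoalgebraStruct.comul (R := k) x = (soc k A A n).subtype.rTensor A y + x ⊗ₜ[k] (1 : A) := by
        rw [hy]; exact (sub_add_cancel _ _).symm
      show rc f.ofConv (CoalgebraStruct.comul (R := k) x) ∈ _
      rw [e, map_add, rc_tmul, mem_M.1 hf, zero_smul, add_zero]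
      clear e hy
      induction y with
      | zero => simp
      | add p q hp hq => simp only [map_add]; exact add_mem hp hq
      | tmul p q => simpa using (K k A n).smul_mem _ (ih p.2)
  have h : a ∈ ⨆ n, soc k A A n := by rw [iSup_soc_eq_top hU A]; trivial
  obtain ⟨n, hn⟩ := (Submodule.mem_iSup_of_directed _ soc_mono.directed_le).1 h
  exact ⟨n, key n hn⟩

section Monomial

variable {ι : Type*} [DecidableEq ι] (e : ι → A) (φ : ι → D k A)

/-- monomials in the chosen functions -/
def E (s : Multiset ι) : A := (s.map e).prod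

/-- monomials in the chosen functionals -/
def χ (s : Multiset ι) : D k A := (s.map φ).prod

omit [DecidableEq ι] [Coalgebra.IsCocomm k A] in
theorem E_cons (i : ι) (s : Multiset ι) : E e (i ::ₘ s) = e i * E e s := by simp [E]

omit [DecidableEq ι] in
theorem χ_cons (i : ι) (s : Multiset ι) : χ φ (i ::ₘ s) = φ i * χ φ s := by simp [χ]

omit [DecidableEq ι] in
theorem χ_mem (hφ : ∀ i, φ i ∈ M k A) (s : Multiset ι) : χ φ s ∈ M k A ^ s.card := by
  induction s using Multiset.induction with
  | empty => rw [Multiset.card_zero, Submodule.pow_zero, Ideal.one_eq_top]; trivial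
  | cons i s ih =>
    rw [χ_cons, Multiset.card_cons, Submodule.pow_succ, mul_comm (φ i)]
    exact Ideal.mul_mem_mul ih (hφ i)

omit [DecidableEq ι] in
theorem E_mem (he : ∀ i, Diag.IsPrim (k := k) (e i)) (s : Multiset ι) : E e s ∈ K k A (s.card + 1) := by
  induction s using Multiset.induction with
  | empty => simpa [E] using one_mem_K (k := k) (A := A) (n := 0)
  | cons i s ih =>
    rw [E_cons, Multiset.card_cons]
    exact mul_prim_mem (he i) _ ih

/-- the contraction of a monomial -/
theorem T_E (he : ∀ i, Diag.IsPrim (k := k) (e i)) (hφ : ∀ i, φ i ∈ M k A)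
    (hδ : ∀ i j, (φ j).ofConv (e i) = if i = j then 1 else 0) (j : ι) (t : Multiset ι) :
    T (φ j) (E e t) - t.count j • E e (t.erase j) ∈ K k A (t.card - 1) := by
  induction t using Multiset.induction with
  | empty => simp [E, T_one, mem_M.1 (hφ j)]
  | cons i t ih =>
    rw [E_cons, T_mul_prim (he i), Multiset.card_cons, Nat.add_sub_cancel]
    let f' : D k A := toConv ((φ j).ofConv ∘ₗ LinearMap.mulLeft k (e i))
    show e i * T (φ j) (E e t) + T f' (E e t) - _ ∈ _
    have hf1 : f'.ofConv 1 = if i = j then 1 else 0 := by simp [f', hδ]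
    have hf : T f' (E e t) = T (f' - f'.ofConv 1 • (1 : D k A)) (E e t) + f'.ofConv 1 • E e t := by
      rw [T_sub, T_smul, T_oneD, sub_add_cancel]
    have h1 : e i * (T (φ j) (E e t) - t.count j • E e (t.erase j)) ∈ K k A t.card := by
      rcases Nat.eq_zero_or_pos t.card with h | h
      · rw [h] at ih
        rw [eq_zero_of_mem_K_zero ih, mul_zero]
        exact zero_mem _
      · have := mul_prim_mem (he i) _ ih
        rwa [Nat.sub_add_cancel h] at this
    have h2 := T_mem_K_pred (sub_mem_M f') (E_mem e he t)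
    have key : (i ::ₘ t).count j • E e ((i ::ₘ t).erase j) =
        e i * (t.count j • E e (t.erase j)) + f'.ofConv 1 • E e t := by
      rw [hf1, mul_smul_comm]
      rcases eq_or_ne i j with rfl | hij
      · rw [if_pos rfl, one_smul, Multiset.count_cons_self, Multiset.erase_cons_head, add_smul, one_smul]
        congr 1
        rcases Nat.eq_zero_or_pos (t.count i) with h | h
        · simp [h]
        · rw [← E_cons, Multiset.cons_erase (Multiset.count_pos.1 h)]
      · rw [if_neg hij, zero_smul, add_zero, Multiset.count_cons_of_ne hij.symm, Multiset.erase_cons_tail _ hij,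
          E_cons]
    rw [key, hf]
    convert add_mem h1 h2 using 1
    rw [mul_sub]
    abel

/-- monomials of equal degree are dual -/
theorem χ_E_cons (he : ∀ i, Diag.IsPrim (k := k) (e i)) (hφ : ∀ i, φ i ∈ M k A)
    (hδ : ∀ i j, (φ j).ofConv (e i) = if i = j then 1 else 0) (j : ι) (s t : Multiset ι)
    (hst : (j ::ₘ s).card = t.card) :
    (χ φ (j ::ₘ s)).ofConv (E e t) = (t.count j : k) * (χ φ s).ofConv (E e (t.erase j)) := by
  rw [χ_cons, mul_comm, ← apply_T]
  have h := T_E e φ he hφ hδ j t
  have h0 := h (χ φ s) (by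
    rw [← hst, Multiset.card_cons, Nat.add_sub_cancel]
    exact χ_mem φ hφ s)
  rw [map_sub, sub_eq_zero] at h0
  rw [h0, map_nsmul, nsmul_eq_mul]

theorem χ_E_ne (he : ∀ i, Diag.IsPrim (k := k) (e i)) (hφ : ∀ i, φ i ∈ M k A)
    (hδ : ∀ i j, (φ j).ofConv (e i) = if i = j then 1 else 0) :
    ∀ (s t : Multiset ι), s.card = t.card → s ≠ t → (χ φ s).ofConv (E e t) = 0 := by
  intro s
  induction s using Multiset.induction with
  | empty => intro t h hne; exact absurd (Multiset.card_eq_zero.1 h.symm).symm hne
  | cons j s ih =>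
    intro t h hne
    rw [χ_E_cons e φ he hφ hδ j s t h]
    by_cases hj : j ∈ t
    · rw [ih (t.erase j) ?_ ?_, mul_zero]
      · rw [Multiset.card_erase_of_mem hj, ← h, Multiset.card_cons]; rfl
      · intro e'
        exact hne (by rw [e', Multiset.cons_erase hj])
    · rw [Multiset.count_eq_zero.2 hj, Nat.cast_zero, zero_mul]

theorem χ_E_self {p : ℕ} [CharP k p] (he : ∀ i, Diag.IsPrim (k := k) (e i)) (hφ : ∀ i, φ i ∈ M k A)
    (hδ : ∀ i j, (φ j).ofConv (e i) = if i = j then 1 else 0) :
    ∀ s : Multiset ι, (∀ i, s.count i < p) → (χ φ s).ofConv (E e s) ≠ 0 := by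
  intro s
  induction s using Multiset.induction with
  | empty => intro _; simp [χ, E, one_apply]
  | cons j s ih =>
    intro hs
    rw [χ_E_cons e φ he hφ hδ j s _ rfl, Multiset.erase_cons_head]
    refine mul_ne_zero ?_ (ih fun i => (Multiset.count_le_count_cons _ _ _).trans_lt (hs i))
    rw [Ne, CharP.cast_eq_zero_iff k p]
    intro hdvd
    exact Nat.not_le.2 (hs j) (Nat.le_of_dvd (by rw [Multiset.count_cons_self]; omega) hdvd)

end Monomial

section Independence

/-- dual functionals of an independent family of primitives -/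
theorem exists_dual {ι : Type*} [DecidableEq ι] {e : ι → A} (he : ∀ i, Diag.IsPrim (k := k) (e i))
    (hli : LinearIndependent k e) :
    ∃ φ : ι → D k A, (∀ i, φ i ∈ M k A) ∧ ∀ i j, (φ j).ofConv (e i) = if i = j then 1 else 0 := by
  obtain ⟨G, hG⟩ := (Finsupp.linearCombination k e).exists_leftInverse_of_injective (LinearMap.ker_eq_bot.2 hli)
  refine ⟨fun j => toConv (Finsupp.lapply j ∘ₗ G ∘ₗ (LinearMap.id -
    Algebra.linearMap k A ∘ₗ CoalgebraStruct.counit (R := k))), fun j => ?_, fun i j => ?_⟩
  · rw [mem_M]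
    simp
  · have h := LinearMap.congr_fun hG (Finsupp.single i 1)
    simp only [LinearMap.comp_apply, Finsupp.linearCombination_single, one_smul, LinearMap.id_apply] at h
    simp [Diag.counit_prim (he i), h, Finsupp.single_apply]

/-- restricted monomials in independent primitives are independent -/
theorem linearIndependent_monomials {p : ℕ} [CharP k p] {ι : Type*} {e : ι → A}
    (he : ∀ i, Diag.IsPrim (k := k) (e i)) (hli : LinearIndependent k e) {J : Type*}
    {d : J → Multiset ι} (hd : Function.Injective d) (hlt : ∀ x i, (open Classical in (d x).count i) < p) :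
    LinearIndependent k fun x => E e (d x) := by
  classical
  obtain ⟨φ, hφ, hδ⟩ := exists_dual he hli
  rw [linearIndependent_iff']
  intro S c hsum
  by_contra hne
  push Not at hne
  obtain ⟨x₁, hx₁, hc₁⟩ := hne
  obtain ⟨x, hx, hmax⟩ := Finset.exists_max_image (S.filter fun y => c y ≠ 0) (fun y => (d y).card)
    ⟨x₁, Finset.mem_filter.2 ⟨hx₁, hc₁⟩⟩
  rw [Finset.mem_filter] at hx
  have h := congrArg (χ φ (d x)).ofConv hsum
  rw [map_sum, map_zero, Finset.sum_eq_single x] at h
  · rw [map_smul, smul_eq_mul] at h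
    exact χ_E_self e φ (p := p) he hφ hδ (d x) (fun i => by convert hlt x i) ((mul_eq_zero.1 h).resolve_left hx.2)
  · intro y hy hne
    by_cases hcy : c y = 0
    · rw [hcy, zero_smul, map_zero]
    · have hle := hmax y (Finset.mem_filter.2 ⟨hy, hcy⟩)
      rw [map_smul]
      rcases hle.lt_or_eq with h' | h'
      · rw [K_mono (Nat.succ_le_of_lt h') (E_mem e he (d y)) _ (χ_mem φ hφ (d x)), smul_zero]
      · rw [χ_E_ne e φ he hφ hδ _ _ h'.symm (fun e' => hne (hd e'.symm)), smul_zero]
  · exact fun h' => absurd hx.1 h'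

end Independence

section Killed

variable (k) in
/-- maps vanishing on a stable subspace -/
def van {B : Type u} [CommRing B] [Algebra k B] (V : Submodule k A) (hV : HopfRep.IsSubcomod (k := k) (A := A) V) :
    Ideal (WithConv (A →ₗ[k] B)) where
  carrier := {f | ∀ v ∈ V, f.ofConv v = 0}
  zero_mem' := fun _ _ => rfl
  add_mem' := fun {f g} hf hg v hv => by
    show f.ofConv v + g.ofConv v = 0
    rw [hf v hv, hg v hv, add_zero]
  smul_mem' := fun g f hf v hv => by
    show (g * f).ofConv v = 0
    rw [mul_comm, LinearMap.convMul_apply]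
    obtain ⟨y, hy⟩ := hV v hv
    rw [← show _ = CoalgebraStruct.comul (R := k) v from hy]
    clear hy
    induction y with
    | zero => simp
    | tmul p q => simp [hf p p.2]
    | add p q hp hq => simp only [map_add, hp, hq, add_zero]

variable {p : ℕ} [CharP k p] [IsAlgClosed k] [IsReduced A]

/-- the `p`-th power of a functional vanishing at one is zero -/
theorem pow_char_eq_zero (hp : p.Prime)
    (hkill : ∀ a, SGA3b.powConv k A p a = algebraMap k A (CoalgebraStruct.counit (R := k) a))
    {f : D k A} (hf : f ∈ M k A) : f ^ p = 0 := by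
  classical
  refine WithConv.ofConv_injective (LinearMap.ext fun a => ?_)
  show (f ^ p).ofConv a = 0
  obtain ⟨V, hfin, ha, hV⟩ := exists_finite_subcomod_mem (k := k) (A := A) a
  let b := Module.finBasis k V
  obtain ⟨π, hπ⟩ := V.subtype.exists_leftInverse_of_injective V.ker_subtype
  let β : Fin (Module.finrank k V) → D k A := fun i => toConv (b.coord i ∘ₗ π)
  have hβ : ∀ v : V, ∀ i, (β i).ofConv (v : A) = b.coord i v := fun v i =>
    congrArg (b.coord i) (LinearMap.congr_fun hπ v)
  let ιA : D k A →+* WithConv (A →ₗ[k] A) := PrimGen.post (Algebra.ofId k A)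
  have hpA : (p : WithConv (A →ₗ[k] A)) = 0 := by
    rw [← map_natCast (algebraMap k (WithConv (A →ₗ[k] A))), CharP.cast_eq_zero, map_zero]
  have hpD : (p : D k A) = 0 := by
    rw [← map_natCast (algebraMap k (D k A)), CharP.cast_eq_zero, map_zero]
  have h1 : toConv (LinearMap.id : A →ₗ[k] A) - ∑ i, (b i : A) • ιA (β i) ∈ van k V hV := by
    intro v hv
    have := congrArg (fun w : V => (w : A)) (b.sum_repr ⟨v, hv⟩)
    simp only [Submodule.coe_sum, Submodule.coe_smul] at this
    simp only [WithConv.ofConv_sub, WithConv.ofConv_sum, WithConv.ofConv_smul, LinearMap.sub_apply, LinearMap.sum_apply,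
      LinearMap.smul_apply, WithConv.ofConv_toConv, LinearMap.id_apply, sub_eq_zero]
    refine this.symm.trans (Finset.sum_congr rfl fun i _ => ?_)
    show _ = (b i : A) • algebraMap k A ((β i).ofConv v)
    rw [hβ ⟨v, hv⟩, Module.Basis.coord_apply, smul_eq_mul, mul_comm, ← Algebra.smul_def]
  have h2 : f - ∑ i, f.ofConv (b i) • β i ∈ van k V hV := by
    intro v hv
    have := congrArg (fun w : V => f.ofConv (w : A)) (b.sum_repr ⟨v, hv⟩)
    simp only [Submodule.coe_sum, Submodule.coe_smul, map_sum, map_smul] at this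
    simp only [WithConv.ofConv_sub, WithConv.ofConv_sum, WithConv.ofConv_smul, LinearMap.sub_apply, LinearMap.sum_apply,
      LinearMap.smul_apply, sub_eq_zero]
    refine this.symm.trans (Finset.sum_congr rfl fun i _ => ?_)
    rw [hβ ⟨v, hv⟩, Module.Basis.coord_apply, smul_eq_mul, smul_eq_mul, mul_comm]
  have key : ∀ (B : Type u) [CommRing B] [Algebra k B] (x : WithConv (A →ₗ[k] B)) (n : Fin (Module.finrank k V) → B)
      (y : Fin (Module.finrank k V) → WithConv (A →ₗ[k] B)), (p : WithConv (A →ₗ[k] B)) = 0 →
      x - ∑ i, n i • y i ∈ van k V hV → (x ^ p).ofConv a = ∑ i, n i ^ p * (y i ^ p).ofConv a := by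
    intro B _ _ x n y hpB hmem
    have h3 : x ^ p - (∑ i, n i • y i) ^ p ∈ van k V hV := by
      obtain ⟨c, hc⟩ := sub_dvd_pow_sub_pow x (∑ i, n i • y i) p
      rw [hc]
      exact Ideal.mul_mem_right _ _ hmem
    have h4 := h3 a ha
    rw [WithConv.ofConv_sub, LinearMap.sub_apply, sub_eq_zero, sum_pow_char_of_zero hp hpB] at h4
    rw [h4, WithConv.ofConv_sum, LinearMap.sum_apply]
    exact Finset.sum_congr rfl fun i _ => by rw [smul_pow, WithConv.ofConv_smul, LinearMap.smul_apply, smul_eq_mul]
  have e1 := key A _ _ _ hpA h1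
  have e2 := key k _ _ _ hpD h2
  have hid : ((toConv (LinearMap.id : A →ₗ[k] A)) ^ p).ofConv a = SGA3b.powConv k A p a := by
    have := AlgHom.toLinearMap_convPow (toConv (AlgHom.id k A)) p
    exact (congrArg (fun g : WithConv (A →ₗ[k] A) => g.ofConv a) this).symm
  rw [hid, hkill] at e1
  have e3 : ∀ i, ((ιA (β i)) ^ p).ofConv a = algebraMap k A ((β i ^ p).ofConv a) := fun i => by
    rw [← map_pow]
    rfl
  simp only [e3] at e1
  choose c hc using fun i => IsAlgClosed.exists_pow_nat_eq ((β i ^ p).ofConv a) hp.pos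
  obtain ⟨d, hd⟩ := IsAlgClosed.exists_pow_nat_eq (CoalgebraStruct.counit (R := k) a) hp.pos
  have hpA' : (p : A) = 0 := by rw [← map_natCast (algebraMap k A), CharP.cast_eq_zero, map_zero]
  have hpk : (p : k) = 0 := CharP.cast_eq_zero _ _
  have hs : ∑ i, algebraMap k A (c i) * (b i : A) = algebraMap k A d := by
    rcases subsingleton_or_nontrivial A with hA | hA
    · exact Subsingleton.elim _ _
    haveI : Fact p.Prime := ⟨hp⟩
    haveI : CharP A p := (CharP.charP_iff_prime_eq_zero hp).2 hpA'
    refine frobenius_inj A p ?_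
    simp only [frobenius_def, sum_pow_char_of_zero hp hpA', mul_pow, ← map_pow, hc, hd]
    rw [e1]
    exact Finset.sum_congr rfl fun i _ => mul_comm _ _
  have hf0 := congrArg f.ofConv hs
  rw [map_sum, Algebra.algebraMap_eq_smul_one d, map_smul, mem_M.1 hf, smul_zero] at hf0
  simp only [← Algebra.smul_def, map_smul, smul_eq_mul] at hf0
  rw [e2]
  simp only [← hc, ← mul_pow]
  rw [← sum_pow_char_of_zero hp hpk]
  simp only [mul_comm (f.ofConv _), hf0, zero_pow hp.ne_zero]

/-- functions are polynomials in primitive functions -/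
theorem adjoin_prims_eq_top (hp : p.Prime)
    (hkill : ∀ a, SGA3b.powConv k A p a = algebraMap k A (CoalgebraStruct.counit (R := k) a))
    (hU : HopfRep.IsUnipotent k A) : Algebra.adjoin k (PrimGen.prims k A : Set A) = ⊤ := by
  classical
  let P := PrimGen.prims k A
  let B := Module.Basis.ofVectorSpace k P
  obtain ⟨π, hπ⟩ := P.subtype.exists_leftInverse_of_injective P.ker_subtype
  let Pr : A →ₗ[k] P := π ∘ₗ (LinearMap.id - Algebra.linearMap k A ∘ₗ CoalgebraStruct.counit (R := k))
  let e : _ → A := fun j => (B j : A)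
  let φ : _ → D k A := fun j => toConv (B.coord j ∘ₗ Pr)
  have he : ∀ j, Diag.IsPrim (k := k) (e j) := fun j => (B j).2
  have hφ : ∀ j, φ j ∈ M k A := fun j => by
    rw [mem_M]
    simp [φ, Pr]
  have hφP : ∀ (q : P) j, (φ j).ofConv (q : A) = B.repr q j := fun q j => by
    have h1 : π (q : A) = q := LinearMap.congr_fun hπ q
    simp [φ, Pr, Diag.counit_prim q.2, h1]
  have hδ : ∀ i j, (φ j).ofConv (e i) = if i = j then 1 else 0 := fun i j => by
    rw [hφP, B.repr_self, Finsupp.single_apply]
  suffices key : ∀ n, ∀ a ∈ K k A n, a ∈ Algebra.adjoin k (P : Set A) by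
    refine eq_top_iff.2 fun a _ => ?_
    obtain ⟨n, hn⟩ := exists_mem_K hU a
    exact key n a hn
  intro n
  induction n with
  | zero => intro a ha; rw [eq_zero_of_mem_K_zero ha]; exact zero_mem _
  | succ n ih =>
    intro a ha
    obtain ⟨V, hfin, haV, hV⟩ := exists_finite_subcomod_mem (k := k) (A := A) a
    let bV := Module.finBasis k V
    let S := Finset.univ.biUnion fun i => (B.repr (Pr (bV i : A))).support
    have hS : ∀ j, j ∉ S → ∀ v ∈ V, (φ j).ofConv v = 0 := by
      intro j hj v hv
      have h0 : ∀ i, (φ j).ofConv (bV i : A) = 0 := fun i => by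
        by_contra h
        exact hj (Finset.mem_biUnion.2 ⟨i, Finset.mem_univ i, Finsupp.mem_support_iff.2 h⟩)
      have := congrArg (fun w : V => (φ j).ofConv (w : A)) (bV.sum_repr ⟨v, hv⟩)
      simp only [Submodule.coe_sum, Submodule.coe_smul, map_sum, map_smul, h0, smul_zero,
        Finset.sum_const_zero] at this
      exact this.symm
    let Z := ((S.sym n).image Sym.toMultiset).filter fun s => ∀ i ∈ s, s.count i < p
    have hZcard : ∀ s ∈ Z, s.card = n := fun s hs => by
      obtain ⟨z, -, rfl⟩ := Finset.mem_image.1 (Finset.mem_filter.1 hs).1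
      exact z.2
    have hZne : ∀ s ∈ Z, (χ φ s).ofConv (E e s) ≠ 0 := fun s hs => by
      refine χ_E_self e φ (p := p) he hφ hδ s fun i => ?_
      by_cases hi : i ∈ s
      · exact (Finset.mem_filter.1 hs).2 i hi
      · rw [Multiset.count_eq_zero.2 hi]; exact hp.pos
    let f : A := ∑ s ∈ Z, ((χ φ s).ofConv a / (χ φ s).ofConv (E e s)) • E e s
    have hfA : f ∈ Algebra.adjoin k (P : Set A) := sum_mem fun s _ => Subalgebra.smul_mem _
      ((Algebra.adjoin k (P : Set A)).toSubmonoid.multiset_prod_mem _ fun x hx => by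
        obtain ⟨j, -, rfl⟩ := Multiset.mem_map.1 hx
        exact Algebra.subset_adjoin (B j).2) _
    have hfK : f ∈ K k A (n + 1) := sum_mem fun s hs => Submodule.smul_mem _ _ (hZcard s hs ▸ E_mem e he s)
    let g := a - f
    have hg : g ∈ K k A (n + 1) := sub_mem ha hfK
    have hχ : ∀ t : Multiset _, t.card = n → (χ φ t).ofConv g = 0 := by
      intro t ht
      have hf : (χ φ t).ofConv f = if t ∈ Z then (χ φ t).ofConv a else 0 := by
        rw [map_sum]
        split_ifs with htZ
        · rw [Finset.sum_eq_single t, map_smul, smul_eq_mul, div_mul_cancel₀ _ (hZne t htZ)]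
          · intro s hs hne
            rw [map_smul, χ_E_ne e φ he hφ hδ t s (ht.trans (hZcard s hs).symm) hne.symm, smul_zero]
          · exact fun h => absurd htZ h
        · refine Finset.sum_eq_zero fun s hs => ?_
          rw [map_smul, χ_E_ne e φ he hφ hδ t s (ht.trans (hZcard s hs).symm) (fun h => htZ (h ▸ hs)), smul_zero]
      rw [map_sub, hf]
      split_ifs with htZ
      · exact sub_self _
      rw [sub_zero]
      by_cases hbig : ∃ i ∈ t, p ≤ t.count i
      · obtain ⟨i, -, hi⟩ := hbig
        obtain ⟨r, hr⟩ := Multiset.le_iff_exists_add.1 (Multiset.le_count_iff_replicate_le.1 hi)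
        rw [hr, χ, Multiset.map_add, Multiset.prod_add, Multiset.map_replicate, Multiset.prod_replicate,
          pow_char_eq_zero hp hkill (hφ i), zero_mul]
        rfl
      · push Not at hbig
        obtain ⟨j, hjt, hjS⟩ : ∃ j ∈ t, j ∉ S := by
          by_contra hall
          push Not at hall
          exact htZ (Finset.mem_filter.2 ⟨Finset.mem_image.2 ⟨⟨t, ht⟩, Finset.mem_sym_iff.2 hall, rfl⟩, hbig⟩)
        rw [← Multiset.cons_erase hjt, χ_cons, ← apply_T]
        exact hS j hjS _ (T_mem hV _ haV)
    -- all products of n functionals kill g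
    have Q : ∀ l, ∀ t : Multiset _, t.card + l = n → ∀ h ∈ M k A ^ l, (h * χ φ t).ofConv g = 0 := by
      intro l
      induction l with
      | zero =>
        intro t ht h _
        rw [add_zero] at ht
        have e' : h * χ φ t = (h - h.ofConv 1 • (1 : D k A)) * χ φ t + h.ofConv 1 • χ φ t := by
          rw [sub_mul, smul_mul_assoc, one_mul, sub_add_cancel]
        rw [e', WithConv.ofConv_add, LinearMap.add_apply, WithConv.ofConv_smul, LinearMap.smul_apply, hχ t ht,
          smul_zero, add_zero]
        refine hg _ ?_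
        rw [Submodule.pow_succ, mul_comm (h - _)]
        exact Ideal.mul_mem_mul (ht ▸ χ_mem φ hφ t) (sub_mem_M h)
      | succ l ihl =>
        intro t ht h hh
        rw [Submodule.pow_succ] at hh
        refine Submodule.mul_induction_on hh (fun x hx f hf => ?_) fun x y hx hy => ?_
        · let w := x * χ φ t
          have hw : T w g ∈ K k A 2 := by
            intro y hy
            rw [apply_T]
            refine hg _ ?_
            rw [show n + 1 = 2 + (l + t.card) by omega]
            exact mul_mem_pow hy (mul_mem_pow hx (χ_mem φ hφ t))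
          let q : P := ⟨_, isPrim_of_mem_K_two hw⟩
          have hqf : ∀ y ∈ M k A, y.ofConv (q : A) = y.ofConv (T w g) := fun y hy => by
            simp [q, mem_M.1 hy]
          have hq : q = 0 := B.repr.injective (by
            rw [map_zero]
            ext j
            rw [← hφP, hqf _ (hφ j), apply_T, Finsupp.zero_apply]
            have := ihl (j ::ₘ t) (by rw [Multiset.card_cons]; omega) x hx
            rw [χ_cons] at this
            rw [show φ j * w = x * (φ j * χ φ t) by simp only [w]; ring]
            exact this)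
          rw [show x * f * χ φ t = f * w by simp only [w]; ring, ← apply_T, ← hqf f hf, hq]
          exact map_zero _
        · show ((x + y) * χ φ t).ofConv g = 0
          rw [add_mul, WithConv.ofConv_add, LinearMap.add_apply, hx, hy, add_zero]
    have hgn : g ∈ K k A n := fun h hh => by
      have := Q n 0 (by simp) h hh
      rwa [show χ φ (0 : Multiset _) = 1 by simp [χ], mul_one] at this
    have := add_mem (ih g hgn) hfA
    rwa [sub_add_cancel] at this

end Killed

end Groth.Agent.Comod33.UniFilt
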