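import Groth.Agent.Comod33.DimOneMult
import Groth.Agent.Comod33.UniFilt
import Mathlib.RingTheory.Bialgebra.SymmetricAlgebra
import Mathlib.LinearAlgebra.SymmetricAlgebra.Basis
import Mathlib.Algebra.CharP.Lemmas

/-!
Unipotent connected curves are additive groups.
-/

universe u

set_option maxHeartbeats 1000000
set_option synthInstance.maxHeartbeats 100000

open TensorProduct WithConv

noncomputable section

namespace Groth.Agent.Comod33.DimOneClass

variable {k A : Type u} [Field k] [CommRing A] [HopfAlgebra k A]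

/-- the p-th power of a primitive is primitive -/
theorem isPrim_pow_char {p : ℕ} [CharP k p] (hp : p.Prime) {x : A} (hx : Diag.IsPrim (k := k) x) :
    Diag.IsPrim (k := k) (x ^ p) := by
  have h0 : (p : A ⊗[k] A) = 0 := by
    rw [← map_natCast (algebraMap k (A ⊗[k] A)), CharP.cast_eq_zero, map_zero]
  have := UniFilt.sum_pow_char_of_zero hp h0 (Finset.univ : Finset (Fin 2)) ![x ⊗ₜ[k] (1 : A), (1 : A) ⊗ₜ[k] x]
  show CoalgebraStruct.comul (R := k) (x ^ p) = _
  rw [Bialgebra.comul_pow, show CoalgebraStruct.comul (R := k) x = _ from hx]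
  simpa [Fin.sum_univ_two, Algebra.TensorProduct.tmul_pow] using this

theorem isPrim_pow_pow {p : ℕ} [CharP k p] (hp : p.Prime) {x : A} (hx : Diag.IsPrim (k := k) x) (i : ℕ) :
    Diag.IsPrim (k := k) (x ^ p ^ i) := by
  induction i with
  | zero => simpa using hx
  | succ i ih => rw [pow_succ, pow_mul]; exact isPrim_pow_char hp ih

variable [IsAlgClosed k] [IsDomain A]

/-- a constant primitive vanishes -/
theorem prim_eq_zero_of_aeval {x : A} (hx : Diag.IsPrim (k := k) x) {P : Polynomial k} (hP : P ≠ 0)
    (h : Polynomial.aeval x P = 0) : x = 0 := by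
  obtain ⟨c, hc⟩ := mem_bot_of_aeval_eq_zero hP h
  have := Diag.counit_prim hx
  rw [← hc, Bialgebra.counit_algebraMap] at this
  rw [← hc, this, map_zero]

variable [Algebra.FiniteType k A] [Coalgebra.IsCocomm k A]

/-- two primitives satisfy an additive relation -/
theorem exists_relation {p : ℕ} [CharP k p] (hp : p.Prime) (hdim : ringKrullDim A = 1) {x y : A}
    (hx : Diag.IsPrim (k := k) x) (hy : Diag.IsPrim (k := k) y) :
    ∃ (N : ℕ) (a b : ℕ → k), ((∃ i ∈ Finset.range N, a i ≠ 0) ∨ ∃ i ∈ Finset.range N, b i ≠ 0) ∧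
      (∑ i ∈ Finset.range N, a i • x ^ p ^ i) + ∑ i ∈ Finset.range N, b i • y ^ p ^ i = 0 := by
  classical
  obtain ⟨P, hP0, hP⟩ : ∃ P : MvPolynomial (Fin 2) k, MvPolynomial.aeval ![x, y] P = 0 ∧ P ≠ 0 := by
    have h := not_algebraicIndependent (k := k) hdim ![x, y]
    rw [algebraicIndependent_iff] at h
    push Not at h
    exact h
  let N := P.totalDegree + 1
  let e : Fin 2 × Fin N → A := fun c => ![x, y] c.1 ^ p ^ (c.2 : ℕ)
  have he : ∀ c, Diag.IsPrim (k := k) (e c) := fun c => by
    refine isPrim_pow_pow hp ?_ _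
    rcases c with ⟨i, j⟩
    fin_cases i <;> assumption
  have hnli : ¬ LinearIndependent k e := by
    intro hli
    let d : (Fin 2 → Fin N → Fin p) → Multiset (Fin 2 × Fin N) := fun δ =>
      ∑ c : Fin 2 × Fin N, Multiset.replicate (δ c.1 c.2 : ℕ) c
    have hcount : ∀ δ c, (d δ).count c = (δ c.1 c.2 : ℕ) := fun δ c => by
      simp [d, Multiset.count_sum', Multiset.count_replicate]
    have hd : Function.Injective d := fun δ δ' h => by
      funext i j
      apply Fin.ext
      rw [← hcount δ (i, j), h, hcount]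
    have hind := UniFilt.linearIndependent_monomials (p := p) he hli hd (fun δ c => by
      convert (hcount δ c).trans_lt (δ c.1 c.2).2)
    let B : (Fin 2 → Fin (p ^ N)) → A := fun n => x ^ (n 0 : ℕ) * y ^ (n 1 : ℕ)
    let F : (Fin 2 → Fin N → Fin p) ≃ (Fin 2 → Fin (p ^ N)) := Equiv.arrowCongr (Equiv.refl _) finFunctionFinEquiv
    have hBF : ∀ δ, B (F δ) = UniFilt.E e (d δ) := by
      intro δ
      have h1 : UniFilt.E e (d δ) = ∏ c : Fin 2 × Fin N, e c ^ (δ c.1 c.2 : ℕ) := by
        simp only [UniFilt.E, d, ← Multiset.coe_mapAddMonoidHom, map_sum, Multiset.prod_sum]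
        simp [Multiset.map_replicate]
      rw [h1, Fintype.prod_prod_type, Fin.prod_univ_two]
      simp [B, F, e, ← pow_mul, Finset.prod_pow_eq_pow_sum, finFunctionFinEquiv_apply, mul_comm]
    have hB : LinearIndependent k B := by
      rw [← linearIndependent_equiv F]
      convert hind using 1
      exact funext hBF
    have hPe : MvPolynomial.aeval ![x, y] P = ∑ s ∈ P.support, P.coeff s • (x ^ s 0 * y ^ s 1) := by
      rw [MvPolynomial.aeval_def, MvPolynomial.eval₂_eq']
      refine Finset.sum_congr rfl fun s _ => ?_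
      simp [Algebra.smul_def, Fin.prod_univ_two]
    have hlt : ∀ s ∈ P.support, ∀ i, s i < p ^ N := fun s hs i => by
      have h1 := MvPolynomial.le_totalDegree hs
      have h2 : s i ≤ s.sum fun _ e => e := by
        rcases eq_or_ne (s i) 0 with h | h
        · omega
        · exact Finset.single_le_sum (fun j _ => Nat.zero_le (s j)) (Finsupp.mem_support_iff.2 h)
      have h3 : N < p ^ N := Nat.lt_pow_self hp.one_lt
      omega
    refine hP ?_
    ext s
    by_cases hs : s ∈ P.support
    · let m : P.support → (Fin 2 → Fin (p ^ N)) := fun t i => ⟨t.1 i, hlt t.1 t.2 i⟩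
      have hm : Function.Injective m := fun t t' h => Subtype.ext (Finsupp.ext fun i =>
        congrArg Fin.val (congrFun h i))
      have h5 := Fintype.linearIndependent_iff.1 (hB.comp m hm) (fun t => P.coeff t.1) (by
        rw [← hP0, hPe, ← Finset.sum_coe_sort P.support]
        rfl) ⟨s, hs⟩
      simpa using h5
    · simpa using MvPolynomial.notMem_support_iff.1 hs
  rw [Fintype.linearIndependent_iff] at hnli
  push Not at hnli
  obtain ⟨g, hg, ⟨i₀, j₀⟩, hne⟩ := hnli
  refine ⟨N, fun i => if h : i < N then g (0, ⟨i, h⟩) else 0, fun i => if h : i < N then g (1, ⟨i, h⟩) else 0, ?_, ?_⟩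
  · fin_cases i₀
    · exact Or.inl ⟨j₀, Finset.mem_range.2 j₀.2, by simpa using hne⟩
    · exact Or.inr ⟨j₀, Finset.mem_range.2 j₀.2, by simpa using hne⟩
  · rw [← hg, Fintype.sum_prod_type, Fin.sum_univ_two, Finset.sum_range, Finset.sum_range]
    simp [e]

omit [Algebra.FiniteType k A] [Coalgebra.IsCocomm k A] in
/-- two related primitives have a common source -/
theorem exists_common_aux {p : ℕ} [CharP k p] (hp : p.Prime) :
    ∀ (s m l : ℕ), m + l ≤ s → ∀ (x y : A), Diag.IsPrim (k := k) x → Diag.IsPrim (k := k) y → ∀ a b : ℕ → k,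
      ((∃ i ∈ Finset.range m, a i ≠ 0) ∨ ∃ i ∈ Finset.range l, b i ≠ 0) →
      (∑ i ∈ Finset.range m, a i • x ^ p ^ i) + ∑ i ∈ Finset.range l, b i • y ^ p ^ i = 0 →
      ∃ z, Diag.IsPrim (k := k) z ∧ x ∈ Algebra.adjoin k ({z} : Set A) ∧ y ∈ Algebra.adjoin k ({z} : Set A) := by
  intro s
  induction s with
  | zero =>
    intro m l h x y _ _ a b hne _
    obtain ⟨i, hi, -⟩ | ⟨i, hi, -⟩ := hne <;> rw [Finset.mem_range] at hi <;> omega
  | succ s ih =>
    intro m l h x y hx hy a b hne heq
    have hzero : ∀ (m : ℕ) (a : ℕ → k) (x : A), Diag.IsPrim (k := k) x → (∃ i ∈ Finset.range m, a i ≠ 0) →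
        ∑ i ∈ Finset.range m, a i • x ^ p ^ i = 0 → x = 0 := by
      intro m a x hx hne heq
      obtain ⟨i, hi, hai⟩ := hne
      refine prim_eq_zero_of_aeval hx (P := ∑ j ∈ Finset.range m, Polynomial.C (a j) * Polynomial.X ^ p ^ j) ?_ ?_
      · intro h0
        have := congrArg (fun P : Polynomial k => P.coeff (p ^ i)) h0
        simp only [Polynomial.finsetSum_coeff, Polynomial.coeff_C_mul_X_pow, Polynomial.coeff_zero] at this
        rw [Finset.sum_eq_single i (fun j _ hji => if_neg fun h => hji (Nat.pow_right_injective hp.two_le h).symm)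
          (fun h => absurd hi h), if_pos rfl] at this
        exact hai this
      · rw [← heq, map_sum]
        simp [Algebra.smul_def]
    have step : ∀ (m l : ℕ), m + l ≤ s + 1 → l ≤ m → ∀ (x y : A), Diag.IsPrim (k := k) x → Diag.IsPrim (k := k) y →
        ∀ a b : ℕ → k, (∃ i ∈ Finset.range l, b i ≠ 0) →
        (∑ i ∈ Finset.range m, a i • x ^ p ^ i) + ∑ i ∈ Finset.range l, b i • y ^ p ^ i = 0 →
        ∃ z, Diag.IsPrim (k := k) z ∧ x ∈ Algebra.adjoin k ({z} : Set A) ∧ y ∈ Algebra.adjoin k ({z} : Set A) := by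
      intro m l h hlm x y hx hy a b hb heq
      obtain ⟨l, rfl⟩ : ∃ l', l = l' + 1 := ⟨l - 1, by
        obtain ⟨i, hi, -⟩ := hb
        rw [Finset.mem_range] at hi
        omega⟩
      by_cases hbl : b l = 0
      · rw [Finset.sum_range_succ _ l, hbl, zero_smul, add_zero] at heq
        obtain ⟨i, hi, hbi⟩ := hb
        have hil : i ≠ l := fun e => hbi (e ▸ hbl)
        exact ih m l (by omega) x y hx hy a b
          (Or.inr ⟨i, Finset.mem_range.2 (by rw [Finset.mem_range] at hi; omega), hbi⟩) heq
      obtain ⟨r, rfl⟩ : ∃ r, m = r + (l + 1) := ⟨m - (l + 1), by omega⟩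
      obtain ⟨c, hc⟩ := IsAlgClosed.exists_pow_nat_eq (a (r + l) / b l) (pow_pos hp.pos l)
      let y' := y + c • x ^ p ^ r
      have hy' : Diag.IsPrim (k := k) y' :=
        (PrimGen.prims k A).add_mem hy ((PrimGen.prims k A).smul_mem c (isPrim_pow_pow hp hx r))
      have hpow : ∀ i, y' ^ p ^ i = y ^ p ^ i + c ^ p ^ i • x ^ p ^ (r + i) := by
        intro i
        haveI : Fact p.Prime := ⟨hp⟩
        haveI : CharP A p := charP_of_injective_algebraMap (algebraMap k A).injective p
        rw [add_pow_char_pow, smul_pow, ← pow_mul, ← pow_add]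
      let a' : ℕ → k := fun i => a i - if r ≤ i then b (i - r) * c ^ p ^ (i - r) else 0
      have ha' : a' (r + l) = 0 := by
        simp only [a', if_pos (Nat.le_add_right r l), Nat.add_sub_cancel_left, hc]
        rw [mul_div_cancel₀ _ hbl, sub_self]
      have heq' : (∑ i ∈ Finset.range (r + l), a' i • x ^ p ^ i) +
          ∑ i ∈ Finset.range (l + 1), b i • y' ^ p ^ i = 0 := by
        rw [← heq]
        have e1 : ∑ i ∈ Finset.range (r + l), a' i • x ^ p ^ i =
            ∑ i ∈ Finset.range (r + (l + 1)), a' i • x ^ p ^ i := by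
          rw [← add_assoc r l 1, Finset.sum_range_succ, ha', zero_smul, add_zero]
        have e2 : ∑ i ∈ Finset.range (r + (l + 1)), (if r ≤ i then b (i - r) * c ^ p ^ (i - r) else 0) • x ^ p ^ i =
            ∑ i ∈ Finset.range (l + 1), (b i * c ^ p ^ i) • x ^ p ^ (r + i) := by
          rw [Finset.sum_range_add]
          rw [Finset.sum_eq_zero (s := Finset.range r) fun i hi => by
            rw [if_neg (by rw [Finset.mem_range] at hi; omega), zero_smul], zero_add]
          exact Finset.sum_congr rfl fun i _ => by rw [if_pos (Nat.le_add_right r i), Nat.add_sub_cancel_left]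
        rw [e1]
        simp only [a', sub_smul, Finset.sum_sub_distrib, e2, hpow, smul_add, Finset.sum_add_distrib, smul_smul]
        abel
      obtain ⟨z, hz, hxz, hyz⟩ := ih (r + l) (l + 1) (by omega) x y' hx hy' a' b
        (Or.inr ⟨l, Finset.self_mem_range_succ l, hbl⟩) heq'
      refine ⟨z, hz, hxz, ?_⟩
      rw [show y = y' - c • x ^ p ^ r from (add_sub_cancel_right _ _).symm]
      exact sub_mem hyz (Subalgebra.smul_mem _ (pow_mem hxz _) _)
    by_cases hb : ∃ i ∈ Finset.range l, b i ≠ 0
    · by_cases ha : ∃ i ∈ Finset.range m, a i ≠ 0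
      · rcases le_total l m with hlm | hlm
        · exact step m l h hlm x y hx hy a b hb heq
        · obtain ⟨z, hz, h1, h2⟩ := step l m (by omega) hlm y x hy hx b a ha (by rw [add_comm]; exact heq)
          exact ⟨z, hz, h2, h1⟩
      · push Not at ha
        rw [Finset.sum_eq_zero fun i hi => by rw [ha i hi, zero_smul], zero_add] at heq
        exact ⟨x, hx, Algebra.self_mem_adjoin_singleton k x, hzero l b y hy hb heq ▸ zero_mem _⟩
    · have ha := hne.resolve_right hb
      push Not at hb
      rw [Finset.sum_eq_zero (s := Finset.range l) fun i hi => by rw [hb i hi, zero_smul], add_zero] at heq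
      exact ⟨y, hy, hzero m a x hx ha heq ▸ zero_mem _, Algebra.self_mem_adjoin_singleton k y⟩

/-- the power endomorphism by the characteristic is trivial -/
theorem powConv_char {p : ℕ} [CharP k p] (hp : p.Prime) (hdim : ringKrullDim A = 1)
    (hU : HopfRep.IsUnipotent k A) (a : A) :
    SGA3b.powConv k A p a = algebraMap k A (CoalgebraStruct.counit (R := k) a) := by
  by_contra hne
  let φ := SGA3b.powConv k A p
  have hε : ∀ b, CoalgebraStruct.counit (R := k) (φ b) = CoalgebraStruct.counit (R := k) b := fun b =>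
    AlgHom.congr_fun (counitAlgHom_powConv (k := k) (A := A) p) b
  have hinj : Function.Injective φ := injective_of_nonconst hdim.le φ (a := a) fun c hc => hne (by
    have := hε a
    rw [hc, Bialgebra.counit_algebraMap] at this
    rw [show SGA3b.powConv k A p a = algebraMap k A c from hc, this])
  have hinj' : ∀ m, Function.Injective (SGA3b.powConv k A (p ^ m)) := by
    intro m
    induction m with
    | zero =>
      have : SGA3b.powConv k A 1 = AlgHom.id k A := by simp [SGA3b.powConv]
      rw [pow_zero, this]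
      exact Function.injective_id
    | succ m ih =>
      have : SGA3b.powConv k A (p ^ (m + 1)) = φ.comp (SGA3b.powConv k A (p ^ m)) := by
        apply WithConv.toConv_injective
        rw [comp_powConv, pow_succ', show toConv φ = toConv (AlgHom.id k A) ^ p from rfl, ← pow_mul]
        rfl
      rw [this]
      exact hinj.comp ih
  have hconst : ∀ b : A, b = algebraMap k A (CoalgebraStruct.counit (R := k) b) := by
    intro b
    have hb : b ∈ ⨆ n, soc k A A n := by rw [iSup_soc_eq_top hU A]; trivial
    obtain ⟨n, hn⟩ := (Submodule.mem_iSup_of_directed _ soc_mono.directed_le).1 hb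
    have hv := PrimGen.sub_one_pow_vanish A (AlgHom.id k A) n
    have hlt : n < p ^ n := Nat.lt_pow_self hp.one_lt
    have hv2 : (toConv (AlgHom.id k A).toLinearMap - 1 : WithConv (A →ₗ[k] A)) ^ p ^ n ∈
        PrimGen.vanish k A A n := by
      rw [← Nat.add_sub_cancel' hlt.le, pow_add]
      exact Ideal.mul_mem_right _ _ hv
    have hpA : (p : WithConv (A →ₗ[k] A)) = 0 := by
      rw [← map_natCast (algebraMap k (WithConv (A →ₗ[k] A))), CharP.cast_eq_zero, map_zero]
    have hsub : (toConv (AlgHom.id k A).toLinearMap - 1 : WithConv (A →ₗ[k] A)) ^ p ^ n =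
        toConv (AlgHom.id k A).toLinearMap ^ p ^ n - 1 := by
      rcases subsingleton_or_nontrivial (WithConv (A →ₗ[k] A)) with hS | hS
      · exact Subsingleton.elim _ _
      haveI : Fact p.Prime := ⟨hp⟩
      haveI : CharP (WithConv (A →ₗ[k] A)) p := (CharP.charP_iff_prime_eq_zero hp).2 hpA
      rw [sub_pow_char_pow, one_pow]
    rw [hsub] at hv2
    have h := hv2 b hn
    rw [WithConv.ofConv_sub, LinearMap.sub_apply, sub_eq_zero] at h
    have e := congrArg (fun g : WithConv (A →ₗ[k] A) => g.ofConv b)
      (AlgHom.toLinearMap_convPow (toConv (AlgHom.id k A)) (p ^ n))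
    refine hinj' n ?_
    rw [AlgHom.commutes]
    exact e.trans h
  have hb : Function.Bijective (algebraMap k A) :=
    ⟨(algebraMap k A).injective, fun b => ⟨_, (hconst b).symm⟩⟩
  have := ringKrullDim_eq_of_ringEquiv (RingEquiv.ofBijective (algebraMap k A) hb)
  rw [hdim, ringKrullDim_eq_zero_of_field] at this
  exact zero_ne_one this

omit [Coalgebra.IsCocomm k A] in
/-- a curve generated by one primitive is the additive group -/
theorem nonempty_equiv_Ga {z : A} (hz : Diag.IsPrim (k := k) z) (hgen : Algebra.adjoin k ({z} : Set A) = ⊤)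
    (hdim : ringKrullDim A = 1) : Nonempty (A ≃ₐc[k] SymmetricAlgebra k k) := by
  let f : SymmetricAlgebra k k →ₐ[k] A := SymmetricAlgebra.lift (LinearMap.toSpanSingleton k A z)
  have hf : f (SymmetricAlgebra.ι k k 1) = z := by simp [f]
  have hε : (Bialgebra.counitAlgHom k A).comp f = Bialgebra.counitAlgHom k (SymmetricAlgebra k k) := by
    ext
    simp [f, Diag.counit_prim hz, SymmetricAlgebra.algebraMapInv_ι]
  have hΔ : (Algebra.TensorProduct.map f f).comp (Bialgebra.comulAlgHom k (SymmetricAlgebra k k)) =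
      (Bialgebra.comulAlgHom k A).comp f := by
    ext
    simp [f, show CoalgebraStruct.comul (R := k) z = _ from hz]
  let φ := BialgHom.ofAlgHom f hε hΔ
  have hsurj : Function.Surjective f := by
    rw [← AlgHom.range_eq_top, eq_top_iff, ← hgen]
    exact Algebra.adjoin_le (by simpa using ⟨_, hf⟩)
  have hinj : Function.Injective f := by
    have htr : ∀ P : Polynomial k, Polynomial.aeval z P = 0 → P = 0 := by
      intro P hP
      by_contra hP0
      have hz0 := prim_eq_zero_of_aeval hz hP0 hP
      have hbot : (⊥ : Subalgebra k A) = ⊤ := by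
        rw [← hgen, hz0, eq_comm, eq_bot_iff, Algebra.adjoin_le_iff]
        simp
      have hb : Function.Bijective (algebraMap k A) :=
        ⟨(algebraMap k A).injective, fun b => Algebra.mem_bot.1 (hbot ▸ Algebra.mem_top)⟩
      have := ringKrullDim_eq_of_ringEquiv (RingEquiv.ofBijective (algebraMap k A) hb)
      rw [hdim, ringKrullDim_eq_zero_of_field] at this
      exact zero_ne_one this
    let g : Polynomial k →ₐ[k] SymmetricAlgebra k k := Polynomial.aeval (SymmetricAlgebra.ι k k 1)
    have hg : Function.Surjective g := by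
      let g' : SymmetricAlgebra k k →ₐ[k] Polynomial k :=
        SymmetricAlgebra.lift (LinearMap.toSpanSingleton k (Polynomial k) Polynomial.X)
      have : g.comp g' = AlgHom.id k _ := by
        ext
        simp [g, g']
      exact fun w => ⟨g' w, AlgHom.congr_fun this w⟩
    rw [injective_iff_map_eq_zero]
    intro w hw
    obtain ⟨P, rfl⟩ := hg w
    rw [htr P (by rw [← hf, Polynomial.aeval_algHom_apply]; exact hw), map_zero]
  exact ⟨(BialgEquiv.ofBijective φ ⟨hinj, hsurj⟩).symm⟩

/-- connected unipotent curves in positive characteristic -/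
theorem exists_generator_char [IsReduced A] {p : ℕ} [CharP k p] (hp : p.Prime) (hdim : ringKrullDim A = 1)
    (hU : HopfRep.IsUnipotent k A) : ∃ z : A, Diag.IsPrim (k := k) z ∧ Algebra.adjoin k ({z} : Set A) = ⊤ := by
  classical
  have htop := UniFilt.adjoin_prims_eq_top (p := p) hp (powConv_char hp hdim hU) hU
  have key : ∀ t : Finset A, (∀ x ∈ t, Diag.IsPrim (k := k) x) →
      ∃ z : A, Diag.IsPrim (k := k) z ∧ ∀ x ∈ t, x ∈ Algebra.adjoin k ({z} : Set A) := by
    intro t
    induction t using Finset.induction_on with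
    | empty => intro _; exact ⟨0, (PrimGen.prims k A).zero_mem, by simp⟩
    | insert x t _ ih =>
      intro h
      obtain ⟨z, hz, hzt⟩ := ih fun y hy => h y (Finset.mem_insert_of_mem hy)
      have hx := h x (Finset.mem_insert_self x t)
      obtain ⟨N, a, b, hne, heq⟩ := exists_relation hp hdim hz hx
      obtain ⟨w, hw, hzw, hxw⟩ := exists_common_aux hp (N + N) N N le_rfl z x hz hx a b hne heq
      refine ⟨w, hw, fun y hy => ?_⟩
      rcases Finset.mem_insert.1 hy with rfl | hy
      · exact hxw
      · exact Algebra.adjoin_le (Set.singleton_subset_iff.2 hzw) (hzt y hy)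
  obtain ⟨s, hs⟩ := Algebra.FiniteType.out (R := k) (A := A)
  have h : ∀ a : A, ∃ t : Finset A, (↑t ⊆ (PrimGen.prims k A : Set A)) ∧ a ∈ Algebra.adjoin k (t : Set A) := by
    intro a
    have ha : a ∈ Algebra.adjoin k (PrimGen.prims k A : Set A) := by rw [htop]; trivial
    induction ha using Algebra.adjoin_induction with
    | mem x hx => exact ⟨{x}, by simpa using hx, Algebra.subset_adjoin (by simp)⟩
    | algebraMap c => exact ⟨∅, by simp, Subalgebra.algebraMap_mem _ c⟩
    | add x y _ _ hx hy =>
      obtain ⟨t, ht, hxt⟩ := hx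
      obtain ⟨t', ht', hyt⟩ := hy
      exact ⟨t ∪ t', by simp [Set.union_subset_iff, ht, ht'],
        add_mem (Algebra.adjoin_mono (by simp) hxt) (Algebra.adjoin_mono (by simp) hyt)⟩
    | mul x y _ _ hx hy =>
      obtain ⟨t, ht, hxt⟩ := hx
      obtain ⟨t', ht', hyt⟩ := hy
      exact ⟨t ∪ t', by simp [Set.union_subset_iff, ht, ht'],
        mul_mem (Algebra.adjoin_mono (by simp) hxt) (Algebra.adjoin_mono (by simp) hyt)⟩
  choose t ht hat using h
  obtain ⟨z, hz, hzt⟩ := key (s.biUnion t) fun x hx => by
    obtain ⟨a, -, hxa⟩ := Finset.mem_biUnion.1 hx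
    exact ht a hxa
  refine ⟨z, hz, ?_⟩
  rw [eq_top_iff, ← hs, Algebra.adjoin_le_iff]
  intro a ha
  refine Algebra.adjoin_le (fun x hx => ?_) (hat a)
  exact hzt x (Finset.mem_biUnion.2 ⟨a, ha, hx⟩)

/-- connected curves are additive or multiplicative groups -/
theorem classification [IsReduced A] (hdim : ringKrullDim A = 1) :
    Nonempty (A ≃ₐc[k] MonoidAlgebra k (Multiplicative ℤ)) ∨ Nonempty (A ≃ₐc[k] SymmetricAlgebra k k) := by
  by_cases hU : HopfRep.IsUnipotent k A
  · refine Or.inr ?_
    obtain ⟨p, hp⟩ := CharP.exists k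
    rcases CharP.char_is_prime_or_zero k p with hpp | rfl
    · obtain ⟨z, hz, hgen⟩ := exists_generator_char hpp hdim hU
      exact nonempty_equiv_Ga hz hgen hdim
    · haveI : CharZero k := CharP.charP_to_charZero k
      obtain ⟨n, x, hx, hgen, hprim⟩ := PrimGen.exists_generators hU
      have hn : n ≤ 1 := by
        by_contra h
        exact not_algebraicIndependent (k := k) hdim (x ∘ Fin.castLE (by omega : 2 ≤ n))
          (hx.comp _ (Fin.castLE_injective _))
      rcases Nat.lt_or_ge n 1 with h0 | h1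
      · obtain rfl : n = 0 := by omega
        refine nonempty_equiv_Ga (z := 0) (PrimGen.prims k A).zero_mem ?_ hdim
        rw [eq_top_iff, ← hgen, Algebra.adjoin_le_iff]
        rintro _ ⟨i, rfl⟩
        exact i.elim0
      · obtain rfl : n = 1 := by omega
        refine nonempty_equiv_Ga (hprim 0) ?_ hdim
        rw [← hgen]
        congr 1
        ext a
        constructor
        · intro ha; exact ⟨0, ha.symm⟩
        · rintro ⟨i, rfl⟩; rw [Fin.eq_zero i]; rfl
  · refine Or.inl (nonempty_equiv_Gm ?_ hdim)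
    unfold HopfRep.IsUnipotent at hU
    push Not at hU
    obtain ⟨V, _, _, _, _, _, hV⟩ := hU
    obtain ⟨v, g, hv, hg, hcv⟩ := Diag.exists_eigen_of_split (k := k) (A := A) (V := V)
      (Diag.hasSplitActions_of_isAlgClosed V)
    refine isDiagonalizable_of_groupLike hdim.le hg fun h1 => hv ?_
    have : v ∈ HopfRep.fixedPts k A V := by
      show HopfRep.Comod.coact (k := k) (A := A) v = v ⊗ₜ[k] (1 : A)
      rw [hcv, h1]
    rw [hV] at this
    exact (Submodule.mem_bot k).1 this

end Groth.Agent.Comod33.DimOneClass
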