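import Groth.Agent.E4O.DimField
import Groth.Agent.Comod33.DimOne
import Groth.Prelude.Def_SGA3b
import Mathlib.RingTheory.Jacobson.Ring
import Mathlib.RingTheory.Bialgebra.Convolution

/-!
Power endomorphisms and algebraic relations in dimension one.
-/

universe u

open TensorProduct WithConv

noncomputable section

namespace Groth.Agent.Comod33.DimOneClass

variable {k A : Type u} [Field k] [CommRing A]

/-- two functions on a curve are algebraically dependent -/
theorem not_algebraicIndependent [Algebra k A] [Algebra.FiniteType k A] [IsDomain A]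
    (hdim : ringKrullDim A = 1) (x : Fin 2 → A) : ¬ AlgebraicIndependent k x := by
  intro h
  have h1 := h.lift_cardinalMk_le_trdeg
  rw [E4O.ringKrullDim_eq_trdeg k A] at hdim
  have h2 : Cardinal.toNat (Algebra.trdeg k A) = 1 := by exact_mod_cast hdim
  have hlt : Algebra.trdeg k A < Cardinal.aleph0 :=
    (Cardinal.toNat_pos.1 (by omega : 0 < Cardinal.toNat (Algebra.trdeg k A))).2
  rw [← Cardinal.cast_toNat_of_lt_aleph0 hlt, h2] at h1
  simp at h1

variable [IsAlgClosed k]

/-- algebraic elements of a domain are constant -/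
theorem mem_bot_of_aeval_eq_zero [Algebra k A] [IsDomain A] {x : A} {P : Polynomial k} (hP : P ≠ 0)
    (hx : Polynomial.aeval x P = 0) : ∃ c : k, algebraMap k A c = x := by
  have hint : IsIntegral k x := (isAlgebraic_iff_isIntegral).1 ⟨P, hP, hx⟩
  haveI : Algebra.IsIntegral k (Algebra.adjoin k ({x} : Set A)) :=
    Algebra.IsIntegral.adjoin fun y hy => (Set.mem_singleton_iff.1 hy) ▸ hint
  obtain ⟨c, hc⟩ := (IsAlgClosed.algebraMap_bijective_of_isIntegral
    (k := k) (K := Algebra.adjoin k ({x} : Set A))).2 ⟨x, Algebra.self_mem_adjoin_singleton k x⟩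
  exact ⟨c, congrArg Subtype.val hc⟩

/-- a nonconstant endomorphism of a curve is dominant -/
theorem injective_of_nonconst [Algebra k A] [Algebra.FiniteType k A] [IsDomain A]
    (hdim : ringKrullDim A ≤ 1) (φ : A →ₐ[k] A) {a : A} (ha : ∀ c : k, φ a ≠ algebraMap k A c) :
    Function.Injective φ := by
  rw [injective_iff_map_eq_zero]
  by_contra hne
  push Not at hne
  obtain ⟨b, hb, hb0⟩ := hne
  haveI : IsNoetherianRing A := Algebra.FiniteType.isNoetherianRing k A
  haveI : Ring.KrullDimLE 1 A := (Ring.krullDimLE_iff).2 (by exact_mod_cast hdim)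
  haveI : (⊥ : Ideal A).IsPrime := Ideal.isPrime_bot
  haveI : (RingHom.ker φ).IsPrime := RingHom.ker_isPrime φ
  haveI : (RingHom.ker φ).IsMaximal := Ring.krullDimLE_one_iff_of_isPrime_bot.1 inferInstance _
    (fun e => hb0 ((Submodule.mem_bot A).1 (e ▸ (RingHom.mem_ker.2 hb)))) inferInstance
  letI : Field (A ⧸ RingHom.ker φ) := Ideal.Quotient.field _
  haveI : Algebra.FiniteType k (A ⧸ RingHom.ker φ) :=
    Algebra.FiniteType.of_surjective (Ideal.Quotient.mkₐ k (RingHom.ker φ)) Ideal.Quotient.mk_surjective
  haveI : Module.Finite k (A ⧸ RingHom.ker φ) := finite_of_finite_type_of_isJacobsonRing k _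
  obtain ⟨c, hc⟩ := (IsAlgClosed.algebraMap_bijective_of_isIntegral (k := k) (K := A ⧸ RingHom.ker φ)).2
    (Ideal.Quotient.mk _ a)
  refine ha c ?_
  have h : a - algebraMap k A c ∈ RingHom.ker φ := Ideal.Quotient.eq.1 hc.symm
  rw [RingHom.mem_ker, map_sub, AlgHom.commutes, sub_eq_zero] at h
  exact h

variable [HopfAlgebra k A]

section Pow

variable [Coalgebra.IsCocomm k A] (n : ℕ)

omit [IsAlgClosed k] in
theorem comp_powConv {B : Type u} [CommRing B] [Algebra k B] (f : A →ₐ[k] B) :
    toConv (f.comp (SGA3b.powConv k A n)) = toConv f ^ n := by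
  induction n with
  | zero =>
    refine WithConv.ofConv_injective (AlgHom.ext fun a => ?_)
    simp [SGA3b.powConv, AlgHom.convOne_def]
  | succ n ih =>
    rw [pow_succ, ← ih]
    apply WithConv.ext
    show f.comp ((toConv (AlgHom.id k A)) ^ (n + 1)).ofConv = _
    rw [pow_succ, AlgHom.comp_convMul_distrib]
    rfl

omit [IsAlgClosed k] in
theorem comul_eq_mul : toConv (Bialgebra.comulAlgHom k A) =
    toConv (Algebra.TensorProduct.includeLeft : A →ₐ[k] A ⊗[k] A) *
      toConv (Algebra.TensorProduct.includeRight : A →ₐ[k] A ⊗[k] A) := by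
  refine WithConv.ofConv_injective (AlgHom.ext fun a => ?_)
  simp only [AlgHom.convMul_apply, WithConv.ofConv_toConv, Bialgebra.comulAlgHom_apply]
  generalize CoalgebraStruct.comul (R := k) a = z
  induction z with
  | zero => simp
  | add p q hp hq => simp only [map_add, ← hp, ← hq]
  | tmul p q => simp

omit [IsAlgClosed k] in
theorem counitAlgHom_powConv : (Bialgebra.counitAlgHom k A).comp (SGA3b.powConv k A n) = Bialgebra.counitAlgHom k A := by
  apply WithConv.toConv_injective
  have h1 : toConv (Bialgebra.counitAlgHom k A) = (1 : WithConv (A →ₐ[k] k)) := by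
    refine WithConv.ofConv_injective (AlgHom.ext fun a => ?_)
    simp [AlgHom.convOne_def]
  rw [comp_powConv, h1, one_pow]

omit [IsAlgClosed k] in
theorem map_comp_comul : (Algebra.TensorProduct.map (SGA3b.powConv k A n) (SGA3b.powConv k A n)).comp
      (Bialgebra.comulAlgHom k A) = (Bialgebra.comulAlgHom k A).comp (SGA3b.powConv k A n) := by
  apply WithConv.toConv_injective
  rw [comp_powConv, comul_eq_mul, mul_pow, ← comp_powConv, ← comp_powConv]
  refine WithConv.ofConv_injective (AlgHom.ext fun a => ?_)
  simp only [AlgHom.convMul_apply, WithConv.ofConv_toConv, AlgHom.comp_apply, Bialgebra.comulAlgHom_apply]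
  generalize CoalgebraStruct.comul (R := k) a = z
  induction z with
  | zero => simp
  | add p q hp hq => simp only [map_add, hp, hq]
  | tmul p q => simp

/-- the power endomorphism of a commutative group -/
def powHom : A →ₐc[k] A :=
  BialgHom.ofAlgHom (SGA3b.powConv k A n) (counitAlgHom_powConv n) (map_comp_comul n)

omit [IsAlgClosed k] in
theorem powHom_apply (a : A) : powHom (k := k) n a = SGA3b.powConv k A n a := rfl

omit [IsAlgClosed k] in
theorem powConv_groupLike {g : A} (hg : IsGroupLikeElem k g) : SGA3b.powConv k A n g = g ^ n := by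
  induction n with
  | zero => simp [SGA3b.powConv, AlgHom.convOne_def, hg.counit_eq_one]
  | succ n ih =>
    show ((toConv (AlgHom.id k A)) ^ (n + 1)).ofConv g = _
    rw [pow_succ, AlgHom.convMul_apply, hg.comul_eq_tmul_self]
    simp only [Algebra.TensorProduct.map_tmul, pow_succ]
    exact congrArg₂ (· * ·) ih rfl

end Pow

end Groth.Agent.Comod33.DimOneClass
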