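import Groth.Agent.Hopf35.Basic
import Groth.Agent.Comod33.Act
import Groth.Prelude.Def_HopfRep
import Groth.Prelude.Def_Hoch
import Groth.Prelude.Def_ComodTens
import Groth.Prelude.Def_ComodDual

/-!
Dual comodules and conjugation of maps over a commutative ring.
-/

universe u v w

open TensorProduct

noncomputable section

namespace Groth.Agent.Comod33.DualRing

open Finset Groth.Agent.Hopf35

variable {k : Type u} [CommRing k] {A : Type v} [CommRing A] [HopfAlgebra k A]

/-- multiply the two algebra components -/
def mulR (W : Type w) [AddCommGroup W] [Module k W] : (W ⊗[k] A) ⊗[k] A →ₗ[k] W ⊗[k] A :=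
  (LinearMap.mul' k A).lTensor W ∘ₗ (TensorProduct.assoc k W A A).toLinearMap

@[simp] theorem mulR_tmul {W : Type w} [AddCommGroup W] [Module k W] (w : W) (a b : A) :
    mulR (k := k) W ((w ⊗ₜ[k] a) ⊗ₜ[k] b) = w ⊗ₜ[k] (a * b) := by
  simp [mulR]

variable {V W : Type w} [AddCommGroup V] [Module k V] [HopfRep.Comod k A V]
  [AddCommGroup W] [Module k W] [HopfRep.Comod k A W]

open HopfRep in
/-- `v ↦ Σ φ(v₀)₀ ⊗ φ(v₀)₁ S(v₁)` -/
def conjFun (φ : V →ₗ[k] W) : V →ₗ[k] W ⊗[k] A :=
  mulR W ∘ₗ TensorProduct.map (Comod.coact (k := k) (A := A) ∘ₗ φ)
    (HopfAlgebraStruct.antipode (R := k) (A := A)) ∘ₗ Comod.coact (k := k) (A := A)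

open HopfRep in
theorem isComodHom_of_conjFun {φ : V →ₗ[k] W}
    (h : ∀ v, conjFun (A := A) φ v = φ v ⊗ₜ[k] (1 : A)) : Hoch.IsComodHom A φ := by
  ext v
  simp only [LinearMap.comp_apply]
  let ν := LinearMap.mul' k A ∘ₗ (HopfAlgebraStruct.antipode (R := k) (A := A)).rTensor A
  let G : V ⊗[k] (A ⊗[k] A) →ₗ[k] W ⊗[k] A :=
    mulR W ∘ₗ TensorProduct.map (Comod.coact (k := k) (A := A) ∘ₗ φ) ν
  have h2 : mulR W ((conjFun (A := A) φ).rTensor A (Comod.coact (k := k) (A := A) v)) =
      G (TensorProduct.assoc k V A A
        ((Comod.coact (k := k) (A := A)).rTensor A (Comod.coact (k := k) (A := A) v))) := by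
    generalize Comod.coact (k := k) (A := A) v = t
    induction t with
    | zero => simp
    | add x y hx hy => simp only [map_add, hx, hy]
    | tmul n b =>
      simp only [LinearMap.rTensor_tmul, conjFun, LinearMap.comp_apply]
      generalize Comod.coact (k := k) (A := A) n = s
      induction s with
      | zero => simp
      | add x y hx hy => simp only [map_add, add_tmul, hx, hy]
      | tmul m a =>
        simp only [G, ν, assoc_tmul, map_tmul, LinearMap.comp_apply, LinearMap.rTensor_tmul,
          LinearMap.mul'_apply]
        generalize Comod.coact (k := k) (A := A) (φ m) = r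
        induction r with
        | zero => simp
        | add x y hx hy => simp only [map_add, add_tmul, hx, hy]
        | tmul p q => simp [mul_assoc]
  have h3 : mulR W ((conjFun (A := A) φ).rTensor A (Comod.coact (k := k) (A := A) v)) =
      φ.rTensor A (Comod.coact (k := k) (A := A) v) := by
    generalize Comod.coact (k := k) (A := A) v = t
    induction t with
    | zero => simp
    | add x y hx hy => simp only [map_add, hx, hy]
    | tmul n b => simp [h]
  rw [← h3, h2, Comod33.coassoc_apply]
  have h4 : ∀ t : V ⊗[k] A, G ((CoalgebraStruct.comul (R := k) (A := A)).lTensor V t) =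
      Comod.coact (k := k) (A := A) (φ (TensorProduct.rid k V
        ((CoalgebraStruct.counit (R := k) (A := A)).lTensor V t))) := by
    intro t
    induction t with
    | zero => simp
    | add x y hx hy => simp only [map_add, hx, hy]
    | tmul n a =>
      simp only [G, ν, LinearMap.lTensor_tmul, LinearMap.comp_apply, map_tmul,
        HopfAlgebra.mul_antipode_rTensor_comul_apply, rid_tmul, map_smul]
      generalize Comod.coact (k := k) (A := A) (φ n) = r
      induction r with
      | zero => simp
      | add x y hx hy => simp only [map_add, add_tmul, smul_add, hx, hy]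
      | tmul p q => simp [Algebra.algebraMap_eq_smul_one, smul_tmul']
  rw [h4, Comod33.counit_apply]
  simp

theorem exists_isDual {V : Type w} [AddCommGroup V] [Module k V] [Module.Finite k V]
    [Module.Projective k V] (c : HopfRep.Comod k A V) :
    ∃ d : HopfRep.Comod k A (Module.Dual k V), ComodTens.Comod.IsDual c d := by
  let Θ : Module.Dual k V ⊗[k] A ≃ₗ[k] (V →ₗ[k] A) := LinearEquiv.ofBijective _ dualTensorHom_bijective
  let J : Module.Dual k V →ₗ[k] (V →ₗ[k] A) :=
    { toFun := fun f => ComodTens.dualCoactFun c f
      map_add' := ComodTens.dualCoactFun_add c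
      map_smul' := ComodTens.dualCoactFun_smul c }
  let L := Θ.symm.toLinearMap ∘ₗ J
  have hL : ∀ f, dualTensorHom k V A (L f) = ComodTens.dualCoactFun c f := fun f => Θ.apply_symm_apply (J f)
  refine ⟨{ coact := L, coassoc := ?_, counit_comp := ?_ }, hL⟩
  · refine LinearMap.ext fun f => ?_
    let Θ3 := dualTensorHom k V (A ⊗[k] A)
    apply (dualTensorHom_bijective (R := k) (M := V) (N := A ⊗[k] A)).1
    simp only [LinearMap.coe_comp, LinearEquiv.coe_coe, Function.comp_apply]
    have e1 : ∀ t : Module.Dual k V ⊗[k] A, dualTensorHom k V (A ⊗[k] A) ((CoalgebraStruct.comul (R := k) (A := A)).lTensor _ t) =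
        CoalgebraStruct.comul (R := k) (A := A) ∘ₗ dualTensorHom k V A t := by
      intro t
      induction t using TensorProduct.induction_on with
      | zero => simp
      | add x y hx hy => simp only [map_add, LinearMap.comp_add, hx, hy]
      | tmul φ a => ext m; simp
    have e2 : ∀ t : Module.Dual k V ⊗[k] A, ∀ v, dualTensorHom k V (A ⊗[k] A) (TensorProduct.assoc k _ A A (L.rTensor A t)) v =
        TensorProduct.comm k A A (TensorProduct.map (dualTensorHom k V A t) (HopfAlgebra.antipode k) (c.coact v)) := by
      intro t v
      induction t using TensorProduct.induction_on with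
      | zero => simp
      | add x y hx hy => simp only [map_add, LinearMap.add_apply, TensorProduct.map_add_left, hx, hy]
      | tmul φ a =>
        have e3 : ∀ s : Module.Dual k V ⊗[k] A, dualTensorHom k V (A ⊗[k] A) (TensorProduct.assoc k _ A A (s ⊗ₜ a)) v = (dualTensorHom k V A s v) ⊗ₜ a := by
          intro s
          induction s using TensorProduct.induction_on with
          | zero => simp
          | add x y hx hy => simp only [map_add, LinearMap.add_apply, add_tmul, hx, hy]
          | tmul ψ b => simp [smul_tmul']
        rw [LinearMap.rTensor_tmul, e3, hL, ComodTens.dualCoactFun_apply]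
        generalize c.coact v = s
        induction s using TensorProduct.induction_on with
        | zero => simp
        | add x y hx hy => simp only [map_add, add_tmul, hx, hy]
        | tmul n b => simp [tmul_smul, smul_tmul']
    rw [e1, hL]
    ext v
    rw [e2, hL]
    have hc := LinearMap.congr_fun c.coassoc v
    simp only [LinearMap.coe_comp, LinearEquiv.coe_coe, Function.comp_apply] at hc ⊢
    let G : A ⊗[k] A →ₗ[k] A ⊗[k] A :=
      (TensorProduct.comm k A A).toLinearMap ∘ₗ TensorProduct.map (HopfAlgebra.antipode k) (HopfAlgebra.antipode k)
    have e4 : ∀ t : V ⊗[k] A, TensorProduct.comm k A A (TensorProduct.map (ComodTens.dualCoactFun c f) (HopfAlgebra.antipode k) t) =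
        TensorProduct.lid k (A ⊗[k] A) (TensorProduct.map f G (TensorProduct.assoc k V A A (c.coact.rTensor A t))) := by
      intro t
      induction t using TensorProduct.induction_on with
      | zero => simp
      | add x y hx hy => simp only [map_add, hx, hy]
      | tmul n b =>
        simp only [LinearMap.rTensor_tmul, TensorProduct.map_tmul, ComodTens.dualCoactFun_apply]
        generalize c.coact n = s
        induction s using TensorProduct.induction_on with
        | zero => simp
        | add x y hx hy => simp only [map_add, add_tmul, tmul_add, hx, hy]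
        | tmul p q => simp [G, tmul_smul, smul_tmul']
    rw [e4, hc, ComodTens.dualCoactFun_apply]
    generalize c.coact v = t
    induction t using TensorProduct.induction_on with
    | zero => simp
    | add x y hx hy => simp only [map_add, hx, hy]
    | tmul n b => simp [G, comul_antipode]
  · refine LinearMap.ext fun f => ?_
    apply (TensorProduct.rid k (Module.Dual k V)).injective
    simp only [LinearMap.coe_comp, Function.comp_apply, LinearMap.flip_apply, TensorProduct.mk_apply, TensorProduct.rid_tmul, one_smul]
    ext v
    have e : ∀ t : Module.Dual k V ⊗[k] A, TensorProduct.rid k _ ((CoalgebraStruct.counit (R := k) (A := A)).lTensor _ t) v =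
        CoalgebraStruct.counit (R := k) (dualTensorHom k V A t v) := by
      intro t
      induction t using TensorProduct.induction_on with
      | zero => simp
      | add x y hx hy => simp only [map_add, LinearMap.add_apply, hx, hy]
      | tmul φ a => simp [mul_comm]
    rw [e, hL, ComodTens.dualCoactFun_apply]
    have hc := congrArg (fun t => TensorProduct.lid k k (f.rTensor k t)) (LinearMap.congr_fun c.counit_comp v)
    simp only [LinearMap.coe_comp, Function.comp_apply, LinearMap.flip_apply, TensorProduct.mk_apply] at hc
    simp at hc
    rw [← hc]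
    generalize c.coact v = t
    induction t using TensorProduct.induction_on with
    | zero => simp
    | add x y hx hy => simp only [map_add, hx, hy]
    | tmul n b => simp

end Groth.Agent.Comod33.DualRing
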