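import Mathlib.RingTheory.Nakayama
import Mathlib.RingTheory.Flat.Basic
import Mathlib.RingTheory.Flat.Tensor
import Mathlib.LinearAlgebra.Basis.VectorSpace
import Mathlib.LinearAlgebra.TensorProduct.Quotient
import Mathlib.RingTheory.TensorProduct.Free
import Mathlib.LinearAlgebra.Matrix.ToLin
import Mathlib.LinearAlgebra.Dimension.Constructions
import Mathlib.RingTheory.Ideal.Over
import Mathlib.LinearAlgebra.Matrix.Determinant.Basic
import Mathlib.LinearAlgebra.Matrix.Adjugate

/-!
A finite module which becomes free over an injective extension with lying over is flat.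
-/

universe u v w

open TensorProduct

noncomputable section

namespace Groth.Agent.Comod33.FlatCrit

variable {A : Type u} [CommRing A] {B : Type v} [CommRing B] [Algebra A B]
variable {M : Type w} [AddCommGroup M] [Module A M]

theorem finrank_fiber {n : ℕ} (e : B ⊗[A] M ≃ₗ[B] (Fin n → B)) (p : Ideal A) [p.IsMaximal]
    (q : Ideal B) [q.IsMaximal] [q.LiesOver p] :
    Module.finrank (A ⧸ p) ((A ⧸ p) ⊗[A] M) = n := by
  letI : Field (A ⧸ p) := Ideal.Quotient.field p
  letI : Field (B ⧸ q) := Ideal.Quotient.field q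
  have : Nontrivial B := (Ideal.Quotient.mk q).domain_nontrivial
  haveI : Module.Free (A ⧸ p) ((A ⧸ p) ⊗[A] M) := Module.Free.of_divisionRing (A ⧸ p) _
  rw [← Module.finrank_baseChange (R := B ⧸ q) (S := A ⧸ p) (M' := (A ⧸ p) ⊗[A] M),
    (AlgebraTensorModule.cancelBaseChange A (A ⧸ p) (B ⧸ q) (B ⧸ q) M).finrank_eq,
    (AlgebraTensorModule.cancelBaseChange A B (B ⧸ q) (B ⧸ q) M).symm.finrank_eq,
    (LinearEquiv.baseChange B (B ⧸ q) _ _ e).finrank_eq, Module.finrank_baseChange]
  simp

theorem flat_of_baseChange_free [Module.Finite A M] {n : ℕ} (e : B ⊗[A] M ≃ₗ[B] (Fin n → B))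
    (hinj : Function.Injective (algebraMap A B))
    (hsurj : ∀ p : Ideal A, p.IsMaximal → ∃ q : Ideal B, q.IsPrime ∧ q.comap (algebraMap A B) = p) :
    Module.Flat A M := by
  classical
  rw [Module.Flat.iff_rTensor_injective]
  intro I hI
  rw [injective_iff_map_eq_zero]
  intro x hx
  by_contra hx0
  obtain ⟨p, hp, hle⟩ := Ideal.exists_le_maximal (Submodule.annihilator (Submodule.span A {x}))
    (by rw [Ne, Submodule.annihilator_eq_top_iff, Submodule.span_singleton_eq_bot]; exact hx0)
  obtain ⟨q₀, hq₀, hq₀p⟩ := hsurj p hp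
  obtain ⟨q, hq, hq₀q⟩ := Ideal.exists_le_maximal q₀ hq₀.ne_top
  haveI : q.LiesOver p := ⟨hp.eq_of_le (Ideal.comap_ne_top _ hq.ne_top)
    (hq₀p ▸ Ideal.comap_mono hq₀q)⟩
  letI : Field (A ⧸ p) := Ideal.Quotient.field p
  let b := Module.finBasisOfFinrankEq (A ⧸ p) ((A ⧸ p) ⊗[A] M) (finrank_fiber e p q)
  choose m hm using fun i => TensorProduct.mk_surjective A M (A ⧸ p) Ideal.Quotient.mk_surjective (b i)
  let f : (Fin n → A) →ₗ[A] M := Fintype.linearCombination A m
  -- the cokernel is killed by some `s ∉ p`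
  obtain ⟨s, hs, hsM⟩ : ∃ s : A, s ∉ p ∧ ∀ y : M, s • y ∈ LinearMap.range f := by
    have hle' : (⊤ : Submodule A (M ⧸ LinearMap.range f)) ≤ p • ⊤ := by
      rintro z -
      obtain ⟨y, rfl⟩ := (LinearMap.range f).mkQ_surjective z
      obtain ⟨c, hc⟩ : ∃ c : Fin n → A, (1 : A ⧸ p) ⊗ₜ[A] (y - f c) = 0 := by
        have h := b.sum_repr ((1 : A ⧸ p) ⊗ₜ[A] y)
        choose c hc using fun i => Ideal.Quotient.mk_surjective (b.repr ((1 : A ⧸ p) ⊗ₜ[A] y) i)
        refine ⟨c, ?_⟩
        rw [tmul_sub, Fintype.linearCombination_apply, tmul_sum, sub_eq_zero]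
        conv_lhs => rw [← h]
        refine Finset.sum_congr rfl fun i _ => ?_
        rw [← hc i, ← Ideal.Quotient.algebraMap_eq, algebraMap_smul, tmul_smul, ← hm i]
        rfl
      have h2 : y - f c ∈ p • (⊤ : Submodule A M) := by
        have := congrArg (TensorProduct.quotTensorEquivQuotSMul M p) hc
        rw [← map_one (Ideal.Quotient.mk p), TensorProduct.quotTensorEquivQuotSMul_mk_tmul, one_smul,
          map_zero, Submodule.Quotient.mk_eq_zero] at this
        exact this
      have h3 := Submodule.mem_map_of_mem (f := (LinearMap.range f).mkQ) h2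
      rw [Submodule.map_smul'', Submodule.map_top, Submodule.range_mkQ, map_sub,
        show (LinearMap.range f).mkQ (f c) = 0 from
          (Submodule.Quotient.mk_eq_zero _).2 (LinearMap.mem_range_self f c), sub_zero] at h3
      exact h3
    obtain ⟨r, hr1, hr⟩ := Submodule.exists_sub_one_mem_and_smul_eq_zero_of_fg_of_le_smul p ⊤
      Module.Finite.fg_top hle'
    refine ⟨r, fun h => hp.ne_top ((Ideal.eq_top_iff_one p).2 ?_), fun y => ?_⟩
    · simpa using p.sub_mem h hr1
    · have := hr ((LinearMap.range f).mkQ y) trivial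
      rwa [← map_smul, Submodule.mkQ_apply, Submodule.Quotient.mk_eq_zero] at this
  -- the kernel is killed by a power of `s`
  have hker : ∀ y, f y = 0 → s ^ n • y = 0 := by
    intro y hy
    let v : Fin n → (Fin n → B) := fun i => e ((1 : B) ⊗ₜ[A] m i)
    have hrange : ∀ j, ∃ c : Fin n → B, ∑ i, c i • v i = algebraMap A B s • Pi.single j (1 : B) := by
      intro j
      have key : ∀ t : B ⊗[A] M, ∃ c : Fin n → B, ∑ i, c i • v i = e (s • t) := by
        intro t
        induction t with
        | zero => exact ⟨0, by simp⟩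
        | add t t' ht ht' =>
          obtain ⟨c, hc⟩ := ht; obtain ⟨c', hc'⟩ := ht'
          exact ⟨c + c', by simp [add_smul, Finset.sum_add_distrib, hc, hc']⟩
        | tmul β y =>
          obtain ⟨c, hc⟩ := hsM y
          refine ⟨fun i => c i • β, ?_⟩
          rw [← tmul_smul, ← hc, Fintype.linearCombination_apply, tmul_sum, map_sum]
          refine Finset.sum_congr rfl fun i _ => ?_
          rw [show v i = e ((1 : B) ⊗ₜ[A] m i) from rfl, ← map_smul, smul_tmul', tmul_smul,
            smul_tmul', smul_eq_mul, mul_one]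
      obtain ⟨c, hc⟩ := key (e.symm (Pi.single j 1))
      refine ⟨c, hc.trans ?_⟩
      rw [← algebraMap_smul B s (e.symm _), map_smul, e.apply_symm_apply]
    choose c hc using hrange
    let V : Matrix (Fin n) (Fin n) B := Matrix.of v
    let G : Matrix (Fin n) (Fin n) B := Matrix.of c
    have hGV : G * V = algebraMap A B s • (1 : Matrix (Fin n) (Fin n) B) := by
      ext j l
      have := congrFun (hc j) l
      simpa [Matrix.mul_apply, G, V, Pi.single_apply, Matrix.one_apply, eq_comm] using this
    have hyV : Matrix.vecMul (fun i => algebraMap A B (y i)) V = 0 := by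
      have h0 : e ((1 : B) ⊗ₜ[A] f y) = 0 := by rw [hy, tmul_zero, map_zero]
      rw [Fintype.linearCombination_apply, tmul_sum, map_sum] at h0
      ext l
      refine Eq.trans ?_ (congrFun h0 l)
      rw [Finset.sum_apply]
      simp only [Matrix.vecMul, dotProduct, V, v, Matrix.of_apply]
      refine Finset.sum_congr rfl fun i _ => ?_
      rw [tmul_smul, ← algebraMap_smul B (y i) ((1 : B) ⊗ₜ[A] m i), map_smul]
      rfl
    have hdet := congrArg Matrix.det hGV
    rw [Matrix.det_mul, Matrix.det_smul, Matrix.det_one, mul_one, Fintype.card_fin] at hdet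
    have h1 : V.det • (fun i => algebraMap A B (y i)) = 0 := by
      have := congrArg (fun z => Matrix.vecMul z (Matrix.adjugate V)) hyV
      simpa [Matrix.vecMul_vecMul, Matrix.mul_adjugate, Matrix.vecMul_smul] using this
    funext i
    refine hinj ?_
    have := congrArg (fun z => G.det * z i) h1
    simp only [Pi.smul_apply, Pi.zero_apply, smul_eq_mul, mul_zero, ← mul_assoc, hdet] at this
    simpa using this
  -- finish
  have hex : ∀ z : I ⊗[A] M, ∃ w, f.lTensor I w = s • z := by
    intro z
    induction z with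
    | zero => exact ⟨0, by simp⟩
    | add z z' hz hz' =>
      obtain ⟨w, hw⟩ := hz; obtain ⟨w', hw'⟩ := hz'
      exact ⟨w + w', by rw [map_add, hw, hw', smul_add]⟩
    | tmul i y =>
      obtain ⟨c, hc⟩ := hsM y
      exact ⟨i ⊗ₜ c, by rw [LinearMap.lTensor_tmul, hc, tmul_smul]⟩
  obtain ⟨w, hw⟩ := hex x
  let μ : ∀ (N : Type _) [AddCommGroup N] [Module A N], I ⊗[A] N →ₗ[A] N :=
    fun N _ _ => TensorProduct.lid A N ∘ₗ (Submodule.subtype I).rTensor N
  have hμ : ∀ z, f (μ (Fin n → A) z) = (TensorProduct.lid A M) ((Submodule.subtype I).rTensor M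
      (f.lTensor I z)) := by
    intro z
    induction z with
    | zero => simp
    | add z z' hz hz' => simp only [map_add, hz, hz']
    | tmul i y => simp [μ]
  have hw0 : f (μ (Fin n → A) w) = 0 := by
    rw [hμ, hw]
    simp [hx]
  have hw1 : s ^ n • w = 0 := by
    have hflat : Function.Injective (μ (Fin n → A)) :=
      (TensorProduct.lid A (Fin n → A)).injective.comp
        (Module.Flat.rTensor_preserves_injective_linearMap _ (Submodule.injective_subtype I))
    exact hflat (by rw [map_smul, hker _ hw0, map_zero])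
  have hx1 : (s ^ n * s) • x = 0 := by rw [mul_smul, ← hw, ← map_smul, hw1, map_zero]
  have : s ^ n * s ∈ p := hle (by rw [Submodule.mem_annihilator_span_singleton]; exact hx1)
  rcases hp.isPrime.mem_or_mem this with h | h
  · exact hs (hp.isPrime.mem_of_pow_mem n h)
  · exact hs h

end Groth.Agent.Comod33.FlatCrit
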