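import Groth.Agent.Comod33.Act
import Mathlib.RingTheory.TensorProduct.Basic
import Mathlib.RingTheory.HopfAlgebra.TensorProduct
import Mathlib.LinearAlgebra.TensorProduct.RightExactness
import Mathlib.RingTheory.Bialgebra.Hom

/-!
Hopf modules along a bialgebra map `A → B`: `B ⊗[A] M` is `B ⊗[k] M / A⁺M`.
-/

universe u v w x

open TensorProduct

noncomputable section

namespace Groth.Agent.Comod33.HopfFlat

section Base

variable {k : Type u} [Field k] {A : Type v} [CommRing A] [Bialgebra k A]
variable {B : Type w} [CommRing B] [Bialgebra k B] [Algebra A B] [IsScalarTower k A B]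
variable {M : Type x} [AddCommGroup M] [Module k M] [Module A M] [IsScalarTower k A M]
variable [HopfRep.Comod k B M]

variable (k A B M) in
/-- `A ⊗ A` acting on `M ⊗ B` -/
def act₂ : A ⊗[k] A →ₗ[k] M ⊗[k] B →ₗ[k] M ⊗[k] B :=
  TensorProduct.lift
    ((TensorProduct.mapBilinear (RingHom.id k) M B M B).compl₁₂ (Algebra.lsmul k k M).toLinearMap
      (Algebra.lsmul k k B).toLinearMap)

omit [HopfRep.Comod k B M] in
theorem act₂_tmul (a b : A) (m : M) (y : B) :
    act₂ k A B M (a ⊗ₜ b) (m ⊗ₜ y) = (a • m) ⊗ₜ[k] (b • y) := by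
  simp [act₂]

variable (k A B M) in
/-- compatibility of the module and comodule structures -/
def Compat : Prop :=
  ∀ (a : A) (m : M), HopfRep.Comod.coact (k := k) (A := B) (a • m) =
    act₂ k A B M (CoalgebraStruct.comul (R := k) a) (HopfRep.Comod.coact (k := k) (A := B) m)

variable (k A) in
/-- augmentation ideal -/
abbrev augI : Ideal A := RingHom.ker (Bialgebra.counitAlgHom k A)

variable (k A M) in
/-- `M / A⁺ M` -/
abbrev Mbar := M ⧸ ((augI k A • ⊤ : Submodule A M).restrictScalars k)

omit [HopfRep.Comod k B M] in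
theorem mk_smul (a : A) (m : M) :
    (Submodule.Quotient.mk (a • m) : Mbar k A M) =
      CoalgebraStruct.counit (R := k) a • Submodule.Quotient.mk m := by
  rw [← Submodule.Quotient.mk_smul, Submodule.Quotient.eq, Submodule.restrictScalars_mem,
    ← IsScalarTower.algebraMap_smul A (CoalgebraStruct.counit (R := k) a) m, ← sub_smul]
  exact Submodule.smul_mem_smul (by simp [RingHom.mem_ker]) trivial

variable (k A B M) in
/-- `m ⊗ b ↦ b ⊗ [m]` -/
def flipBar : M ⊗[k] B →ₗ[k] B ⊗[k] Mbar k A M :=
  (TensorProduct.comm k _ _).toLinearMap ∘ₗ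
    ((augI k A • ⊤ : Submodule A M).restrictScalars k).mkQ.rTensor B

theorem flipBar_act₂ (z : A ⊗[k] A) (w : M ⊗[k] B) :
    flipBar k A B M (act₂ k A B M z w) =
      TensorProduct.lid k A ((CoalgebraStruct.counit (R := k) (A := A)).rTensor A z) •
        flipBar k A B M w := by
  induction z with
  | zero => simp
  | add p q hp hq => simp only [map_add, LinearMap.add_apply, add_smul, hp, hq]
  | tmul a b =>
    induction w with
    | zero => simp
    | add p q hp hq => simp only [map_add, smul_add, hp, hq]
    | tmul m y => simp [act₂_tmul, flipBar, mk_smul, smul_tmul', ← smul_tmul]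

end Base

section Inv

variable {k : Type u} [Field k] {A : Type v} [CommRing A] [Bialgebra k A]
variable {B : Type w} [CommRing B] [HopfAlgebra k B] [Algebra A B] [IsScalarTower k A B]
variable {M : Type x} [AddCommGroup M] [Module k M] [Module A M] [IsScalarTower k A M]
variable [HopfRep.Comod k B M]

variable (hc : Compat k A B M)
include hc

/-- `m ↦ Σ m₁ ⊗ [m₀]`, semilinear -/
def alpha₀ : M →ₗ[A] B ⊗[k] Mbar k A M where
  toFun m := flipBar k A B M (HopfRep.Comod.coact (k := k) (A := B) m)
  map_add' x y := by simp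
  map_smul' a m := by
    rw [hc, flipBar_act₂, Coalgebra.rTensor_counit_comul]
    simp

/-- the comparison map -/
def alpha : B ⊗[A] M →ₗ[B] B ⊗[k] Mbar k A M := LinearMap.liftBaseChange B (alpha₀ hc)

omit hc

variable (k A B M) in
/-- `m ⊗ b ↦ S b ⊗ m` -/
def flipS : M ⊗[k] B →ₗ[k] B ⊗[A] M :=
  TensorProduct.lift
    (LinearMap.mk₂ k (fun m b => HopfAlgebraStruct.antipode (R := k) b ⊗ₜ[A] m)
      (fun m m' b => tmul_add _ m m')
      (fun c m b => by
        show _ ⊗ₜ[A] (c • m) = c • (_ ⊗ₜ[A] m)
        rw [tmul_smul])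
      (fun m b b' => by simp only [map_add, add_tmul])
      (fun c m b => by simp only [map_smul, smul_tmul']))

omit [HopfRep.Comod k B M] in
theorem flipS_tmul (m : M) (b : B) :
    flipS k A B M (m ⊗ₜ b) = HopfAlgebraStruct.antipode (R := k) b ⊗ₜ[A] m := rfl

omit [HopfRep.Comod k B M] in
/-- the map `a₁ ⊗ a₂ ↦ a₁ S a₂` intertwines `flipS` -/
theorem flipS_act₂ (z : A ⊗[k] A) (w : M ⊗[k] B) :
    flipS k A B M (act₂ k A B M z w) =
      LinearMap.mul' k B ((HopfAlgebraStruct.antipode (R := k) (A := B)).lTensor B
        (TensorProduct.map (IsScalarTower.toAlgHom k A B).toLinearMap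
          (IsScalarTower.toAlgHom k A B).toLinearMap z)) • flipS k A B M w := by
  induction z with
  | zero => simp
  | add p q hp hq => simp only [map_add, LinearMap.add_apply, add_smul, hp, hq]
  | tmul a b =>
    induction w with
    | zero => simp
    | add p q hp hq => simp only [map_add, smul_add, hp, hq]
    | tmul m y =>
      rw [act₂_tmul, flipS_tmul, flipS_tmul, tmul_smul, smul_tmul', smul_tmul']
      congr 1
      simp only [TensorProduct.map_tmul, LinearMap.lTensor_tmul, LinearMap.mul'_apply,
        AlgHom.toLinearMap_apply, IsScalarTower.coe_toAlgHom', Algebra.smul_def,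
        HopfAlgebra.antipode_mul, Algebra.algebraMap_self, RingHom.id_apply]
      ring

variable (hmap : ∀ a : A, CoalgebraStruct.comul (R := k) (algebraMap A B a) =
  TensorProduct.map (IsScalarTower.toAlgHom k A B).toLinearMap
    (IsScalarTower.toAlgHom k A B).toLinearMap (CoalgebraStruct.comul (R := k) a))
variable (hcou : ∀ a : A, CoalgebraStruct.counit (R := k) (algebraMap A B a) =
  CoalgebraStruct.counit (R := k) a)
include hc hmap hcou

theorem coactFlip_mem (m : M) (hm : m ∈ (augI k A • ⊤ : Submodule A M)) :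
    flipS k A B M (HopfRep.Comod.coact (k := k) (A := B) m) = 0 := by
  refine Submodule.smul_induction_on hm (fun a ha n _ => ?_) (fun x y hx hy => by simp [hx, hy])
  rw [hc, flipS_act₂, ← hmap, HopfAlgebra.mul_antipode_lTensor_comul_apply, hcou]
  simp [RingHom.mem_ker.1 ha, show CoalgebraStruct.counit (R := k) a = 0 from ha]

/-- the inverse map on the second factor -/
def beta₀ : Mbar k A M →ₗ[k] B ⊗[A] M :=
  Submodule.liftQ _ (flipS k A B M ∘ₗ HopfRep.Comod.coact (k := k) (A := B)) fun m hm =>
    coactFlip_mem hc hmap hcou m hm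

/-- the inverse map -/
def beta : B ⊗[k] Mbar k A M →ₗ[B] B ⊗[A] M := LinearMap.liftBaseChange B (beta₀ hc hmap hcou)

theorem alpha_beta₀ (q : Mbar k A M) : alpha hc (beta₀ hc hmap hcou q) = (1 : B) ⊗ₜ[k] q := by
  obtain ⟨m, rfl⟩ := Submodule.Quotient.mk_surjective _ q
  let S := HopfAlgebraStruct.antipode (R := k) (A := B)
  let Φ : M ⊗[k] (B ⊗[k] B) →ₗ[k] B ⊗[k] Mbar k A M :=
    (TensorProduct.comm k _ _).toLinearMap ∘ₗ TensorProduct.map
      ((augI k A • ⊤ : Submodule A M).restrictScalars k).mkQ (LinearMap.mul' k B ∘ₗ S.lTensor B)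
  have h : ∀ w : M ⊗[k] B, alpha hc (flipS k A B M w) =
      Φ (TensorProduct.assoc k M B B ((HopfRep.Comod.coact (k := k) (A := B)).rTensor B w)) := by
    intro w
    induction w with
    | zero => simp
    | add x y hx hy => simp only [map_add, hx, hy]
    | tmul n b =>
      rw [flipS_tmul, alpha, LinearMap.liftBaseChange_tmul, LinearMap.rTensor_tmul]
      show _ • flipBar k A B M _ = _
      generalize HopfRep.Comod.coact (k := k) (A := B) n = z
      induction z with
      | zero => simp
      | add x y hx hy => simp only [map_add, smul_add, add_tmul, hx, hy]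
      | tmul n' b' => simp [Φ, S, flipBar, smul_tmul', mul_comm]
  refine (h _).trans ?_
  rw [coassoc_apply]
  have h2 : ∀ w : M ⊗[k] B, Φ ((CoalgebraStruct.comul (R := k) (A := B)).lTensor M w) =
      (1 : B) ⊗ₜ[k] Submodule.Quotient.mk (TensorProduct.rid k M
        ((CoalgebraStruct.counit (R := k) (A := B)).lTensor M w)) := by
    intro w
    induction w with
    | zero => simp
    | add x y hx hy => simp only [map_add, Submodule.Quotient.mk_add, tmul_add, hx, hy]
    | tmul n b =>
      simp only [LinearMap.lTensor_tmul, Φ, LinearMap.comp_apply, TensorProduct.map_tmul, S,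
        LinearEquiv.coe_coe, TensorProduct.comm_tmul, Submodule.mkQ_apply, rid_tmul,
        HopfAlgebra.mul_antipode_lTensor_comul_apply]
      rw [Algebra.algebraMap_eq_smul_one, Submodule.Quotient.mk_smul, tmul_smul, smul_tmul']
  rw [h2, counit_apply]
  simp

theorem beta_alpha₀ (m : M) : beta hc hmap hcou (alpha₀ hc m) = (1 : B) ⊗ₜ[A] m := by
  let S := HopfAlgebraStruct.antipode (R := k) (A := B)
  let Ψ : M ⊗[k] (B ⊗[k] B) →ₗ[k] B ⊗[A] M :=
    TensorProduct.lift (LinearMap.mk₂ k (fun n z => LinearMap.mul' k B (S.rTensor B z) ⊗ₜ[A] n)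
      (fun n n' z => tmul_add _ n n')
      (fun c n z => by
        show _ ⊗ₜ[A] (c • n) = c • (_ ⊗ₜ[A] n)
        rw [tmul_smul])
      (fun n z z' => by simp only [map_add, add_tmul])
      (fun c n z => by simp only [map_smul, smul_tmul']))
  have h : ∀ w : M ⊗[k] B, beta hc hmap hcou (flipBar k A B M w) =
      Ψ (TensorProduct.assoc k M B B ((HopfRep.Comod.coact (k := k) (A := B)).rTensor B w)) := by
    intro w
    induction w with
    | zero => simp
    | add x y hx hy => simp only [map_add, hx, hy]
    | tmul n b =>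
      rw [LinearMap.rTensor_tmul, flipBar, LinearMap.comp_apply, LinearMap.rTensor_tmul,
        LinearEquiv.coe_coe, TensorProduct.comm_tmul, beta, LinearMap.liftBaseChange_tmul,
        beta₀, Submodule.mkQ_apply, Submodule.liftQ_apply, LinearMap.comp_apply]
      generalize HopfRep.Comod.coact (k := k) (A := B) n = z
      induction z with
      | zero => simp
      | add x y hx hy => simp only [map_add, smul_add, add_tmul, hx, hy]
      | tmul n' b' => simp [Ψ, S, flipS_tmul, smul_tmul', mul_comm]
  refine (h _).trans ?_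
  rw [coassoc_apply]
  have h2 : ∀ w : M ⊗[k] B, Ψ ((CoalgebraStruct.comul (R := k) (A := B)).lTensor M w) =
      (1 : B) ⊗ₜ[A] (TensorProduct.rid k M
        ((CoalgebraStruct.counit (R := k) (A := B)).lTensor M w)) := by
    intro w
    induction w with
    | zero => simp
    | add x y hx hy => simp only [map_add, tmul_add, hx, hy]
    | tmul n b =>
      simp only [LinearMap.lTensor_tmul, Ψ, TensorProduct.lift.tmul, LinearMap.mk₂_apply, S,
        rid_tmul, HopfAlgebra.mul_antipode_rTensor_comul_apply]
      rw [Algebra.algebraMap_eq_smul_one, ← smul_tmul', tmul_smul]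
  rw [h2, counit_apply]
  simp

/-- the Galois isomorphism -/
def galois : B ⊗[A] M ≃ₗ[B] B ⊗[k] Mbar k A M :=
  LinearEquiv.ofLinear (alpha hc) (beta hc hmap hcou)
    (LinearMap.ext fun x => by
      induction x with
      | zero => simp
      | add x y hx hy => simp only [map_add, hx, hy]
      | tmul b q =>
        rw [LinearMap.comp_apply, beta, LinearMap.liftBaseChange_tmul, map_smul,
          alpha_beta₀ hc hmap hcou, LinearMap.id_apply, smul_tmul', smul_eq_mul, mul_one])
    (LinearMap.ext fun x => by
      induction x with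
      | zero => simp
      | add x y hx hy => simp only [map_add, hx, hy]
      | tmul b m =>
        rw [LinearMap.comp_apply, alpha, LinearMap.liftBaseChange_tmul, map_smul,
          beta_alpha₀ hc hmap hcou, LinearMap.id_apply, smul_tmul', smul_eq_mul, mul_one])

end Inv

end Groth.Agent.Comod33.HopfFlat
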