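import Groth.Agent.Comod33.Galois
import Groth.Agent.Comod33.FlatCriterion
import Groth.Agent.Comod33.Finite
import Groth.Prelude.Def_ComodSub

/-!
A Hopf algebra is flat along an injective bialgebra map whose spectrum map hits all closed points.
-/

universe u v w x

open TensorProduct

noncomputable section

namespace Groth.Agent.Comod33.HopfFlat

variable {k : Type u} [Field k] {A : Type v} [CommRing A] [Bialgebra k A]
variable {B : Type w} [CommRing B] [HopfAlgebra k B] [Algebra A B] [IsScalarTower k A B]

variable (hmap : ∀ a : A, CoalgebraStruct.comul (R := k) (algebraMap A B a) =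
  TensorProduct.map (IsScalarTower.toAlgHom k A B).toLinearMap
    (IsScalarTower.toAlgHom k A B).toLinearMap (CoalgebraStruct.comul (R := k) a))
include hmap

theorem rTensor_act₂ (M : Submodule A B) (a : A)
    (w : M ⊗[k] B) :
    ((M.subtype.restrictScalars k).rTensor B (act₂ k A B M (CoalgebraStruct.comul (R := k) a) w)) =
      CoalgebraStruct.comul (R := k) (algebraMap A B a) * (M.subtype.restrictScalars k).rTensor B w := by
  rw [hmap]
  generalize CoalgebraStruct.comul (R := k) a = z
  induction z with
  | zero => simp
  | add p q hp hq => simp only [map_add, LinearMap.add_apply, add_mul, hp, hq]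
  | tmul p q =>
    induction w with
    | zero => simp
    | add r t hr ht => simp only [map_add, mul_add, hr, ht]
    | tmul m y =>
      rw [act₂_tmul]
      simp [Algebra.smul_def]

theorem exists_flat_submodule (hcou : ∀ a : A, CoalgebraStruct.counit (R := k) (algebraMap A B a) =
      CoalgebraStruct.counit (R := k) a) (hinj : Function.Injective (algebraMap A B))
    (hsurj : ∀ p : Ideal A, p.IsMaximal → ∃ q : Ideal B, q.IsPrime ∧ q.comap (algebraMap A B) = p)
    (s : Finset B) : ∃ M : Submodule A B, Module.Flat A M ∧ ∀ b ∈ s, b ∈ M := by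
  classical
  let U : Submodule k B := ⨆ b : s, gen (k := k) (A := B) (b : B)
  haveI : ∀ b : s, Module.Finite k (gen (k := k) (A := B) (b : B)) := fun b => finite_gen (b : B)
  haveI : Module.Finite k U := Submodule.finite_iSup _
  have hU : HopfRep.IsSubcomod (k := k) (A := B) U := isSubcomod_iSup _ fun b => isSubcomod_gen _
  let M : Submodule A B := Submodule.span A (U : Set B)
  let Mk : Submodule k B := M.restrictScalars k
  have hUM : U ≤ Mk := fun x hx => Submodule.subset_span hx
  have hM : HopfRep.IsSubcomod (k := k) (A := B) Mk := by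
    intro x hx
    induction (hx : x ∈ M) using Submodule.span_induction with
    | mem y hy =>
      obtain ⟨z, hz⟩ := hU y hy
      refine ⟨(Submodule.inclusion hUM).rTensor B z, ?_⟩
      rw [← LinearMap.comp_apply, ← LinearMap.rTensor_comp]
      exact hz
    | zero => rw [map_zero]; exact zero_mem _
    | add a b ha hb iha ihb => rw [map_add]; exact add_mem iha ihb
    | smul a y hy ihy =>
      obtain ⟨z, hz⟩ := ihy
      refine ⟨act₂ k A B M (CoalgebraStruct.comul (R := k) a) z, ?_⟩
      refine (rTensor_act₂ hmap M a z).trans ?_
      refine (congrArg (CoalgebraStruct.comul (R := k) (algebraMap A B a) * ·) hz).trans ?_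
      show _ * CoalgebraStruct.comul (R := k) y = CoalgebraStruct.comul (R := k) (a • y)
      rw [Algebra.smul_def, Bialgebra.comul_mul]
  letI : HopfRep.Comod k B M := ComodSub.Comod.restr inferInstance Mk hM
  have hval : ∀ m : M, (M.subtype.restrictScalars k).rTensor B (HopfRep.Comod.coact (k := k) (A := B) m) =
      CoalgebraStruct.comul (R := k) (m : B) := fun m =>
    (LinearMap.congr_fun (ComodSub.isComodHom_subtype (inferInstance : HopfRep.Comod k B B) Mk hM) m).symm
  have hc : Compat k A B M := by
    intro a m
    apply Module.Flat.rTensor_preserves_injective_linearMap (M := B) (M.subtype.restrictScalars k) Subtype.val_injective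
    rw [hval, rTensor_act₂ hmap M a, hval]
    simp [Algebra.smul_def, Bialgebra.comul_mul]
  obtain ⟨t, ht⟩ : U.FG := Module.Finite.iff_fg.1 inferInstance
  haveI : Module.Finite A M := Module.Finite.iff_fg.2 ⟨t, le_antisymm
    (Submodule.span_mono fun x hx => ht ▸ Submodule.subset_span hx)
    (Submodule.span_le.2 fun x hx => Submodule.span_subset_span k A _ (ht.symm ▸ hx))⟩
  haveI : Module.Finite k (Mbar k A M) := by
    obtain ⟨g, hg⟩ := Module.Finite.fg_top (R := A) (M := M)
    refine ⟨⟨g.image (Submodule.mkQ _), ?_⟩⟩
    rw [eq_top_iff, Finset.coe_image]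
    rintro q -
    obtain ⟨m, rfl⟩ := Submodule.Quotient.mk_surjective _ q
    have hm : m ∈ Submodule.span A (g : Set M) := hg ▸ Submodule.mem_top
    induction hm using Submodule.span_induction with
    | mem y hy => exact Submodule.subset_span ⟨y, hy, rfl⟩
    | zero => simp
    | add a b _ _ ha hb => exact add_mem ha hb
    | smul a y _ hy => rw [mk_smul]; exact Submodule.smul_mem _ _ hy
  refine ⟨M, FlatCrit.flat_of_baseChange_free ((galois hc hmap hcou).trans
    ((LinearEquiv.baseChange k B _ _ (Module.finBasis k (Mbar k A M)).equivFun).trans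
      (TensorProduct.piScalarRight k B B _))) hinj hsurj, fun b hb => ?_⟩
  exact Submodule.subset_span ((le_iSup (fun b : s => gen (k := k) (A := B) (b : B)) ⟨b, hb⟩) (mem_gen b))

theorem flat_of_surj (hcou : ∀ a : A, CoalgebraStruct.counit (R := k) (algebraMap A B a) =
      CoalgebraStruct.counit (R := k) a) (hinj : Function.Injective (algebraMap A B))
    (hsurj : ∀ p : Ideal A, p.IsMaximal → ∃ q : Ideal B, q.IsPrime ∧ q.comap (algebraMap A B) = p) :
    Module.Flat A B := by
  classical
  rw [Module.Flat.iff_rTensor_injective]
  intro I hI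
  rw [injective_iff_map_eq_zero]
  intro x hx
  obtain ⟨S, hS⟩ := TensorProduct.exists_finset x
  obtain ⟨M, hflat, hmem⟩ := exists_flat_submodule hmap hcou hinj hsurj (S.image Prod.snd)
  let y : I ⊗[A] M := ∑ i ∈ S.attach, i.1.1 ⊗ₜ[A] ⟨i.1.2, hmem _ (Finset.mem_image_of_mem _ i.2)⟩
  have hy : M.subtype.lTensor I y = x := by
    rw [hS, map_sum, ← Finset.sum_attach S]
    rfl
  have h1 : M.subtype.lTensor A ((Submodule.subtype I).rTensor M y) = 0 := by
    rw [← LinearMap.comp_apply, LinearMap.lTensor_comp_rTensor, ← LinearMap.rTensor_comp_lTensor,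
      LinearMap.comp_apply, hy, hx]
  have h2 : (Submodule.subtype I).rTensor M y = 0 := by
    apply (TensorProduct.lid A M).injective
    rw [map_zero]
    apply Subtype.val_injective
    have h3 := congrArg (TensorProduct.lid A B) h1
    rw [map_zero] at h3
    refine Eq.trans ?_ h3
    generalize (Submodule.subtype I).rTensor M y = z
    induction z with
    | zero => simp
    | add p q hp hq => simp only [map_add, Submodule.coe_add, hp, hq]
    | tmul p q => simp
  rw [← hy, Module.Flat.rTensor_preserves_injective_linearMap (M := M) _ (Submodule.injective_subtype I)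
    (h2.trans (map_zero _).symm), map_zero]

end Groth.Agent.Comod33.HopfFlat
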