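import Groth.Agent.Comod33.HopfFlat
import Groth.Prelude.Def_ComodTens
import Mathlib.RingTheory.Flat.EquationalCriterion
import Mathlib.RingTheory.FiniteType

/-!
A finitely generated Hopf algebra retracts linearly onto each Hopf subalgebra of finite type.
-/

universe u v w x

open TensorProduct

noncomputable section

namespace Groth.Agent.Comod33.HopfFlat

variable {k : Type u} [Field k] {A : Type v} [CommRing A] [Bialgebra k A]
variable {B : Type w} [CommRing B] [HopfAlgebra k B] [Algebra A B] [IsScalarTower k A B]
variable {X : Type x} [AddCommGroup X] [Module k X] [Module A X] [IsScalarTower k A X]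
variable [HopfRep.Comod k B X]

omit [HopfRep.Comod k B X] in
theorem rTensor_subtype_act₂ (M : Submodule A X) (z : A ⊗[k] A) (w : M ⊗[k] B) :
    (M.subtype.restrictScalars k).rTensor B (act₂ k A B M z w) =
      act₂ k A B X z ((M.subtype.restrictScalars k).rTensor B w) := by
  induction z with
  | zero => simp
  | add p q hp hq => simp only [map_add, LinearMap.add_apply, hp, hq]
  | tmul p q =>
    induction w with
    | zero => simp
    | add r t hr ht => simp only [map_add, hr, ht]
    | tmul m y => simp [act₂_tmul]

theorem isSubcomod_span (hc : Compat k A B X) {U : Submodule k X}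
    (hU : HopfRep.IsSubcomod (k := k) (A := B) U) :
    HopfRep.IsSubcomod (k := k) (A := B) ((Submodule.span A (U : Set X)).restrictScalars k) := by
  set M := Submodule.span A (U : Set X)
  have hUM : U ≤ M.restrictScalars k := fun x hx => Submodule.subset_span hx
  intro x hx
  induction (hx : x ∈ M) using Submodule.span_induction with
  | mem y hy =>
    obtain ⟨z, hz⟩ := hU y hy
    refine ⟨(Submodule.inclusion hUM).rTensor B z, ?_⟩
    rw [← LinearMap.comp_apply, ← LinearMap.rTensor_comp]
    exact hz
  | zero => rw [map_zero]; exact zero_mem _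
  | add a b ha hb iha ihb => rw [map_add]; exact add_mem iha ihb
  | smul a y hy ihy =>
    obtain ⟨z, hz⟩ := ihy
    refine ⟨act₂ k A B M (CoalgebraStruct.comul (R := k) a) z, ?_⟩
    refine (rTensor_subtype_act₂ M _ z).trans ?_
    rw [hc]
    exact congrArg _ hz

variable (hmap : ∀ a : A, CoalgebraStruct.comul (R := k) (algebraMap A B a) =
  TensorProduct.map (IsScalarTower.toAlgHom k A B).toLinearMap
    (IsScalarTower.toAlgHom k A B).toLinearMap (CoalgebraStruct.comul (R := k) a))
variable (hcou : ∀ a : A, CoalgebraStruct.counit (R := k) (algebraMap A B a) =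
  CoalgebraStruct.counit (R := k) a)
include hmap

theorem compat_self : Compat k A B B := by
  intro a m
  show CoalgebraStruct.comul (R := k) (a • m) = _
  rw [Algebra.smul_def, Bialgebra.comul_mul, hmap]
  show _ = act₂ k A B B _ (CoalgebraStruct.comul (R := k) m)
  generalize CoalgebraStruct.comul (R := k) m = w
  generalize CoalgebraStruct.comul (R := k) a = z
  induction z with
  | zero => simp
  | add p q hp hq => simp only [map_add, LinearMap.add_apply, add_mul, hp, hq]
  | tmul p q =>
    induction w with
    | zero => simp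
    | add r t hr ht => simp only [map_add, mul_add, hr, ht]
    | tmul m y => simp [act₂_tmul, Algebra.smul_def]

include hcou

/-- finite sub Hopf modules are projective -/
theorem projective_span [IsNoetherianRing A] (hinj : Function.Injective (algebraMap A B))
    (hsurj : ∀ p : Ideal A, p.IsMaximal → ∃ q : Ideal B, q.IsPrime ∧ q.comap (algebraMap A B) = p)
    (hc : Compat k A B X) {U : Submodule k X} [Module.Finite k U]
    (hU : HopfRep.IsSubcomod (k := k) (A := B) U) :
    Module.Projective A (Submodule.span A (U : Set X)) := by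
  classical
  set M := Submodule.span A (U : Set X)
  have hM := isSubcomod_span hc hU
  letI : HopfRep.Comod k B M := ComodSub.Comod.restr inferInstance (M.restrictScalars k) hM
  have hval : ∀ m : M, (M.subtype.restrictScalars k).rTensor B (HopfRep.Comod.coact (k := k) (A := B) m) =
      HopfRep.Comod.coact (k := k) (A := B) (m : X) := fun m =>
    (LinearMap.congr_fun (ComodSub.isComodHom_subtype (inferInstance : HopfRep.Comod k B X) _ hM) m).symm
  have hc' : Compat k A B M := by
    intro a m
    apply Module.Flat.rTensor_preserves_injective_linearMap (M := B) (M.subtype.restrictScalars k) Subtype.val_injective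
    rw [hval, rTensor_subtype_act₂ M, hval]
    exact hc a m
  obtain ⟨t, ht⟩ : U.FG := Module.Finite.iff_fg.1 inferInstance
  haveI : Module.Finite A M := Module.Finite.iff_fg.2 ⟨t, le_antisymm
    (Submodule.span_mono fun x hx => ht ▸ Submodule.subset_span hx)
    (Submodule.span_le.2 fun x hx => Submodule.span_subset_span k A _ (ht.symm ▸ hx))⟩
  haveI : Module.Finite k (Mbar k A M) := by
    obtain ⟨g, hg⟩ := Module.Finite.fg_top (R := A) (M := M)
    refine ⟨⟨g.image (Submodule.mkQ _), ?_⟩⟩
    rw [eq_top_iff, Finset.coe_image]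
    rintro q -
    obtain ⟨m, rfl⟩ := Submodule.Quotient.mk_surjective _ q
    have hm : m ∈ Submodule.span A (g : Set M) := hg ▸ Submodule.mem_top
    induction hm using Submodule.span_induction with
    | mem y hy => exact Submodule.subset_span ⟨y, hy, rfl⟩
    | zero => simp
    | add a b _ _ ha hb => exact add_mem ha hb
    | smul a y _ hy => rw [mk_smul]; exact Submodule.smul_mem _ _ hy
  haveI : Module.Flat A M := FlatCrit.flat_of_baseChange_free ((galois hc' hmap hcou).trans
    ((LinearEquiv.baseChange k B _ _ (Module.finBasis k (Mbar k A M)).equivFun).trans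
      (TensorProduct.piScalarRight k B B _))) hinj hsurj
  haveI : Module.FinitePresentation A M := Module.finitePresentation_of_finite A M
  exact Module.Flat.projective_of_finitePresentation

/-- extend a retraction over a finite sub Hopf module -/
theorem exists_extension [IsNoetherianRing A] (hinj : Function.Injective (algebraMap A B))
    (hsurj : ∀ p : Ideal A, p.IsMaximal → ∃ q : Ideal B, q.IsPrime ∧ q.comap (algebraMap A B) = p)
    {N : Submodule A B} (hN : HopfRep.IsSubcomod (k := k) (A := B) (N.restrictScalars k))
    (r : N →ₗ[A] A) {U : Submodule k B} [Module.Finite k U] (hU : HopfRep.IsSubcomod (k := k) (A := B) U) :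
    ∃ r' : ↥(N ⊔ Submodule.span A (U : Set B)) →ₗ[A] A,
      r' ∘ₗ Submodule.inclusion le_sup_left = r := by
  let e : (B ⧸ N.restrictScalars k) ≃ₗ[k] B ⧸ N := Submodule.Quotient.restrictScalarsEquiv k N
  let c1 : HopfRep.Comod k B (B ⧸ N.restrictScalars k) := ComodSub.Comod.quot inferInstance _ hN
  letI : HopfRep.Comod k B (B ⧸ N) := ComodTens.Comod.ofEquiv e c1
  let q : B →ₗ[k] B ⧸ N := N.mkQ.restrictScalars k
  have hq : Hoch.IsComodHom B q := by
    refine LinearMap.ext fun b => ?_
    have h3 : c1.coact ((N.restrictScalars k).mkQ b) =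
        (N.restrictScalars k).mkQ.rTensor B (CoalgebraStruct.comul (R := k) b) :=
      LinearMap.congr_fun (ComodSub.isComodHom_mkQ inferInstance _ hN) b
    refine (ComodTens.ofEquiv_coact_apply e c1 ((N.restrictScalars k).mkQ b)).trans ?_
    rw [h3, ← LinearMap.rTensor_comp_apply]
    rfl
  have hc : Compat k A B (B ⧸ N) := by
    intro a y
    obtain ⟨b, rfl⟩ := N.mkQ_surjective y
    have hq' : ∀ c : B, HopfRep.Comod.coact (k := k) (A := B) (N.mkQ c) =
        q.rTensor B (CoalgebraStruct.comul (R := k) c) := fun c => LinearMap.congr_fun hq c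
    rw [← map_smul, hq', hq']
    refine (congrArg _ (compat_self hmap a b)).trans ?_
    show q.rTensor B (act₂ k A B B _ (CoalgebraStruct.comul (R := k) b)) = _
    generalize CoalgebraStruct.comul (R := k) b = w
    generalize CoalgebraStruct.comul (R := k) a = z
    induction z with
    | zero => simp
    | add p p' hp hp' => simp only [map_add, LinearMap.add_apply, hp, hp']
    | tmul p p' =>
      induction w with
      | zero => simp
      | add s t hs ht => simp only [map_add, hs, ht]
      | tmul m y => simp [act₂_tmul, q]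
  have hU' := isSubcomod_map hU hq
  have := projective_span hmap hcou hinj hsurj hc hU'
  set P := Submodule.span A ((U.map q : Submodule k (B ⧸ N)) : Set (B ⧸ N))
  set M := N ⊔ Submodule.span A (U : Set B)
  have hMP : M.map N.mkQ = P := by
    rw [Submodule.map_sup, Submodule.map_span, Submodule.mkQ_map_self, bot_sup_eq]
    rfl
  let π : M →ₗ[A] P := (N.mkQ.domRestrict M).codRestrict P fun m => hMP ▸ Submodule.mem_map_of_mem m.2
  have hπ : Function.Surjective π := by
    intro p
    obtain ⟨m, hm, hmp⟩ := Submodule.mem_map.1 (hMP.ge p.2)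
    exact ⟨⟨m, hm⟩, Subtype.ext hmp⟩
  obtain ⟨s, hs⟩ := Module.projective_lifting_property π LinearMap.id hπ
  let d : M →ₗ[A] N := ((M.subtype ∘ₗ (LinearMap.id - s ∘ₗ π))).codRestrict N fun m => by
    have h := congrArg Subtype.val (LinearMap.congr_fun hs (π m))
    exact (Submodule.Quotient.mk_eq_zero N).1 (by
      show N.mkQ ((m : B) - (s (π m) : B)) = 0
      rw [map_sub, sub_eq_zero]
      exact h.symm)
  refine ⟨r ∘ₗ d, LinearMap.ext fun n => ?_⟩
  show r (d (Submodule.inclusion le_sup_left n)) = r n
  congr 1
  refine Subtype.ext ?_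
  have h0 : π (Submodule.inclusion le_sup_left n) = 0 :=
    Subtype.ext ((Submodule.Quotient.mk_eq_zero N).2 n.2)
  show ((n : B) - (s (π (Submodule.inclusion le_sup_left n)) : B)) = n
  rw [h0, map_zero]
  simp

theorem exists_retraction [IsNoetherianRing A] [Algebra.FiniteType k B]
    (hinj : Function.Injective (algebraMap A B))
    (hsurj : ∀ p : Ideal A, p.IsMaximal → ∃ q : Ideal B, q.IsPrime ∧ q.comap (algebraMap A B) = p) :
    ∃ r : B →ₗ[A] A, ∀ a : A, r (algebraMap A B a) = a := by
  classical
  obtain ⟨n, f, hf⟩ := Algebra.FiniteType.iff_quotient_mvPolynomial''.1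
    (inferInstance : Algebra.FiniteType k B)
  obtain ⟨enum, henum⟩ := exists_surjective_nat (Fin n →₀ ℕ)
  let xs : ℕ → B := fun i => f (MvPolynomial.monomial (enum i) 1)
  let N₀ : Submodule A B := LinearMap.range (Algebra.linearMap A B)
  have hN₀ : HopfRep.IsSubcomod (k := k) (A := B) (N₀.restrictScalars k) := by
    rintro _ ⟨a, rfl⟩
    refine ⟨TensorProduct.map ((Algebra.linearMap A B).rangeRestrict.restrictScalars k)
      (IsScalarTower.toAlgHom k A B).toLinearMap (CoalgebraStruct.comul (R := k) a), ?_⟩
    show (N₀.subtype.restrictScalars k).rTensor B _ = CoalgebraStruct.comul (R := k) (algebraMap A B a)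
    rw [hmap]
    generalize CoalgebraStruct.comul (R := k) a = z
    induction z with
    | zero => simp
    | add p q hp hq => simp only [map_add, hp, hq]
    | tmul p q => rfl
  let e₀ : A ≃ₗ[A] N₀ := LinearEquiv.ofInjective _ hinj
  let T := Σ' (N : Submodule A B), PSigma fun _ : HopfRep.IsSubcomod (k := k) (A := B) (N.restrictScalars k) => N →ₗ[A] A
  have step : ∀ (t : T) (i : ℕ), ∃ t' : T, ∃ h : t.1 ≤ t'.1, xs i ∈ t'.1 ∧
      t'.2.2 ∘ₗ Submodule.inclusion h = t.2.2 := by
    rintro ⟨N, hN, r⟩ i
    haveI := finite_gen (k := k) (A := B) (xs i)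
    obtain ⟨r', hr'⟩ := exists_extension hmap hcou hinj hsurj hN r (isSubcomod_gen (xs i))
    refine ⟨⟨_, ?_, r'⟩, le_sup_left, Submodule.mem_sup_right (Submodule.subset_span (mem_gen _)), hr'⟩
    have := isSubcomod_sup hN (isSubcomod_span (compat_self hmap) (isSubcomod_gen (k := k) (A := B) (xs i)))
    rwa [← Submodule.restrictScalars_sup] at this
  choose next hle hmem hext using step
  let seq : ℕ → T := fun i => Nat.rec ⟨N₀, hN₀, e₀.symm.toLinearMap⟩ (fun i t => next t i) i
  have hmono : Monotone fun i => (seq i).1 := monotone_nat_of_le_succ fun i => hle (seq i) i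
  have hcompat : ∀ i j (h : i ≤ j) (x : (seq i).1), (seq j).2.2 ⟨x.1, hmono h x.2⟩ = (seq i).2.2 x := by
    intro i j h
    induction j, h using Nat.le_induction with
    | base => intro x; rfl
    | succ j hj ih =>
      intro x
      refine Eq.trans ?_ (ih x)
      exact LinearMap.congr_fun (hext (seq j) j) ⟨x.1, hmono hj x.2⟩
  have hall : ∀ b : B, ∃ i, b ∈ (seq i).1 := by
    intro b
    have htop : (⊤ : Submodule k B) ≤ (⨆ i, (seq i).1).restrictScalars k := by
      rintro y -
      obtain ⟨p, rfl⟩ := hf y
      induction p using MvPolynomial.induction_on' with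
      | monomial d c =>
        obtain ⟨i, rfl⟩ := henum d
        have : f (MvPolynomial.monomial (enum i) c) = c • xs i := by
          rw [show xs i = f (MvPolynomial.monomial (enum i) 1) from rfl, ← map_smul, MvPolynomial.smul_monomial, smul_eq_mul, mul_one]
        rw [this]
        exact Submodule.smul_mem _ c (Submodule.mem_iSup_of_mem (i + 1) (hmem (seq i) i))
      | add p q hp hq => rw [map_add]; exact add_mem hp hq
    exact (Submodule.mem_iSup_of_directed _ hmono.directed_le).1 (htop (Submodule.mem_top (x := b)))
  choose idx hidx using hall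
  let r : B → A := fun b => (seq (idx b)).2.2 ⟨b, hidx b⟩
  have hr : ∀ b i (h : b ∈ (seq i).1), r b = (seq i).2.2 ⟨b, h⟩ := fun b i h =>
    (hcompat _ _ (le_max_left (idx b) i) ⟨b, hidx b⟩).symm.trans
      (hcompat i _ (le_max_right (idx b) i) ⟨b, h⟩)
  refine ⟨{ toFun := r, map_add' := fun x y => ?_, map_smul' := fun a x => ?_ }, fun a => ?_⟩
  · have hx := hmono (le_max_left (idx x) (idx y)) (hidx x)
    have hy := hmono (le_max_right (idx x) (idx y)) (hidx y)
    rw [hr _ _ (add_mem hx hy), hr _ _ hx, hr _ _ hy, ← map_add]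
    rfl
  · rw [hr _ _ (Submodule.smul_mem _ a (hidx x))]
    exact map_smul (seq (idx x)).2.2 a ⟨x, hidx x⟩
  · show r (algebraMap A B a) = a
    refine (hr _ 0 ⟨a, rfl⟩).trans ?_
    exact e₀.symm_apply_apply a

end Groth.Agent.Comod33.HopfFlat
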