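import Mathlib.LinearAlgebra.JordanChevalley
import Mathlib.LinearAlgebra.Prod
import Mathlib.FieldTheory.Perfect

/-!
Functoriality of the multiplicative Jordan decomposition.
-/

universe u v w

open Polynomial

namespace Groth.Agent.Comod33

variable {k : Type u} [Field k] [PerfectField k] {V : Type v} {W : Type w}
  [AddCommGroup V] [Module k V] [FiniteDimensional k V] [AddCommGroup W] [Module k W] [FiniteDimensional k W]

theorem aeval_intertwine {α : Module.End k V} {β : Module.End k W} {φ : V →ₗ[k] W}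
    (hφ : φ ∘ₗ α = β ∘ₗ φ) (p : k[X]) (v : V) : φ (aeval α p v) = aeval β p (φ v) := by
  induction p using Polynomial.induction_on generalizing v with
  | C a => simp
  | add p q hp hq => simp [map_add, hp, hq]
  | monomial n a h =>
    have e : C a * X ^ (n + 1) = C a * X ^ n * X := by ring
    simp only [e, map_mul, aeval_X, Module.End.mul_apply] at h ⊢
    rw [h]
    exact congrArg _ (congrArg _ (LinearMap.congr_fun hφ v))

theorem jordan_mul_to_add {α αs αu : Module.End k V}
    (hαu : IsNilpotent (αu - 1)) (hc : Commute αs αu) (he : αs * αu = α) :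
    IsNilpotent (αs * (αu - 1)) ∧ Commute (αs * (αu - 1)) αs ∧ αs * (αu - 1) + αs = α := by
  have h1 : Commute αs (αu - 1) := hc.sub_right (Commute.one_right _)
  exact ⟨h1.isNilpotent_mul_left hαu, ((Commute.refl αs).mul_left h1.symm),
    by rw [mul_sub, mul_one, sub_add_cancel, he]⟩

theorem semisimplePart_intertwine {α αs αu : Module.End k V} {β βs βu : Module.End k W}
    (hαs : αs.IsSemisimple) (hαu : IsNilpotent (αu - 1)) (hαc : Commute αs αu) (hαe : αs * αu = α)
    (hβs : βs.IsSemisimple) (hβu : IsNilpotent (βu - 1)) (hβc : Commute βs βu) (hβe : βs * βu = β)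
    {φ : V →ₗ[k] W} (hφ : φ ∘ₗ α = β ∘ₗ φ) : φ ∘ₗ αs = βs ∘ₗ φ := by
  let T : Module.End k (V × W) := LinearMap.prodMapAlgHom k V W (α, β)
  obtain ⟨n, hn, s, hs, hnn, hss, hTe⟩ := T.exists_isNilpotent_isSemisimple
  rw [Algebra.adjoin_singleton_eq_range_aeval] at hn hs
  obtain ⟨q, rfl⟩ := hn
  obtain ⟨p, rfl⟩ := hs
  have hpair : ∀ r : k[X], aeval T r = LinearMap.prodMapAlgHom k V W (aeval α r, aeval β r) := fun r => by
    rw [show T = LinearMap.prodMapAlgHom k V W (α, β) from rfl, aeval_algHom_apply, aeval_prod_apply]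
  have hinj : Function.Injective (LinearMap.prodMapAlgHom k V W) := by
    rintro ⟨a, b⟩ ⟨a', b'⟩ h
    refine Prod.ext ?_ ?_
    · ext v; exact congrArg Prod.fst (LinearMap.congr_fun h (v, 0))
    · ext w; exact congrArg Prod.snd (LinearMap.congr_fun h (0, w))
  have hn' : IsNilpotent (aeval α q) ∧ IsNilpotent (aeval β q) := by
    obtain ⟨m, hm⟩ := hnn
    change (aeval T q) ^ m = 0 at hm
    rw [hpair, ← map_pow, ← map_zero (LinearMap.prodMapAlgHom k V W)] at hm
    exact ⟨⟨m, congrArg Prod.fst (hinj hm)⟩, ⟨m, congrArg Prod.snd (hinj hm)⟩⟩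
  have hsq : Squarefree (minpoly k (aeval T p)) := Module.End.IsSemisimple.minpoly_squarefree hss
  have hz : aeval (aeval α p) (minpoly k (aeval T p)) = 0 ∧
      aeval (aeval β p) (minpoly k (aeval T p)) = 0 := by
    have h0 := minpoly.aeval k (aeval T p)
    generalize minpoly k (aeval T p) = r at h0 ⊢
    rw [hpair, aeval_algHom_apply, aeval_prod_apply, ← map_zero (LinearMap.prodMapAlgHom k V W)] at h0
    exact ⟨congrArg Prod.fst (hinj h0), congrArg Prod.snd (hinj h0)⟩
  have hsum : aeval α q + aeval α p = α ∧ aeval β q + aeval β p = β := by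
    change T = aeval T q + aeval T p at hTe
    rw [hpair, hpair, ← map_add] at hTe
    exact ⟨(congrArg Prod.fst (hinj hTe)).symm, (congrArg Prod.snd (hinj hTe)).symm⟩
  have hcomm : ∀ {M : Type _} [AddCommGroup M] [Module k M] (γ : Module.End k M),
      Commute (aeval γ q) (aeval γ p) := fun γ => by
    rw [Commute, SemiconjBy, ← map_mul, ← map_mul, mul_comm]
  obtain ⟨a1, a2, a3⟩ := jordan_mul_to_add hαu hαc hαe
  obtain ⟨b1, b2, b3⟩ := jordan_mul_to_add hβu hβc hβe
  have eα := (Module.End.isNilpotent_isSemisimple_unique hn'.1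
    (Module.End.isSemisimple_of_squarefree_aeval_eq_zero hsq hz.1) a1 hαs (hcomm α) a2
    (hsum.1.trans a3.symm)).2
  have eβ := (Module.End.isNilpotent_isSemisimple_unique hn'.2
    (Module.End.isSemisimple_of_squarefree_aeval_eq_zero hsq hz.2) b1 hβs (by
      rw [Commute, SemiconjBy, ← map_mul, ← map_mul, mul_comm]) b2
    (hsum.2.trans b3.symm)).2
  rw [← eα, ← eβ]
  exact LinearMap.ext fun v => aeval_intertwine hφ p v

end Groth.Agent.Comod33
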