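import Groth.Agent.Comod33.Structure
import Groth.Agent.Comod33.Compl

/-!
Lattice transport between submodules over the convolution algebra and over the base field.
-/

universe u v w x

noncomputable section

namespace Groth.Agent.Comod33

variable {k : Type u} [Field k] {R : Type v} [Ring R] [SMul k R] {M : Type w} [AddCommGroup M]
  [Module k M] [Module R M] [IsScalarTower k R M]

theorem disjoint_restrictScalars {p q : Submodule R M} (h : Disjoint p q) :
    Disjoint (p.restrictScalars k) (q.restrictScalars k) := by
  rw [Submodule.disjoint_def] at h ⊢
  exact h

theorem isCompl_restrictScalars {p q : Submodule R M} (h : IsCompl p q) :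
    IsCompl (p.restrictScalars k) (q.restrictScalars k) := by
  refine ⟨disjoint_restrictScalars h.disjoint, codisjoint_iff.2 ?_⟩
  rw [← Submodule.restrictScalars_sup, h.sup_eq_top, Submodule.restrictScalars_top]

theorem iSupIndep_restrictScalars {ι : Sort x} {p : ι → Submodule R M} (h : iSupIndep p) :
    iSupIndep fun i => (p i).restrictScalars k := by
  intro i
  simpa only [← Submodule.restrictScalars_iSup] using disjoint_restrictScalars (h i)

theorem iSup_restrictScalars {ι : Sort x} (p : ι → Submodule R M) :
    (⨆ i, (p i).restrictScalars k) = (⨆ i, p i).restrictScalars k :=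
  (Submodule.restrictScalars_iSup k p).symm

end Groth.Agent.Comod33
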