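import Mathlib.RingTheory.HopfAlgebra.Basic
import Mathlib.RingTheory.Bialgebra.TensorProduct
import Mathlib.RingTheory.HopfAlgebra.Convolution
import Mathlib.RingTheory.Flat.Basic
import Mathlib.RingTheory.Flat.Stability
import Mathlib.RingTheory.Flat.TorsionFree
import Mathlib.RingTheory.Noetherian.Basic
import Mathlib.LinearAlgebra.Matrix.Adjugate
import Mathlib.LinearAlgebra.Dimension.Constructions
import Mathlib.LinearAlgebra.FreeModule.PID

/-!
Flat subgroups of flat affine groups as stabilisers of lines.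
-/

universe u v w

open TensorProduct Matrix

noncomputable section

namespace Groth.Agent.Comod33.LineStab

variable {R : Type u} [CommRing R]

/-- coefficients along an independent family are unique after a flat base change -/
theorem eq_zero_of_sum_tmul {N : Type v} [AddCommGroup N] [Module R N] {P : Type w} [AddCommGroup P]
    [Module R P] [Module.Flat R P] {ι : Type} [Fintype ι] {f : ι → N} (hf : LinearIndependent R f)
    {p : ι → P} (h : ∑ i, f i ⊗ₜ[R] p i = 0) : p = 0 := by
  classical
  let T : (ι → R) →ₗ[R] N := Fintype.linearCombination R f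
  have hT : Function.Injective T := hf.fintypeLinearCombination_injective
  have h1 : T.rTensor P (∑ i, Pi.single (M := fun _ => R) i 1 ⊗ₜ[R] p i) = 0 := by
    simpa [T, map_sum, Fintype.linearCombination_apply_single] using h
  have h2 := (Module.Flat.rTensor_preserves_injective_linearMap (M := P) T hT) (h1.trans (map_zero _).symm)
  funext i
  have := congrArg (fun z => TensorProduct.lid R P
    ((LinearMap.proj (R := R) (φ := fun _ : ι => R) i).rTensor P z)) h2
  simpa [Pi.single_apply, ite_smul] using this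

variable {A : Type v} [CommRing A] [HopfAlgebra R A]

/-- a finite set of functions lies in a finitely generated stable submodule -/
theorem exists_finite_stable [IsNoetherianRing R] [Module.Flat R A] (s : Finset A) :
    ∃ M : Submodule R A, M.FG ∧ (s : Set A) ⊆ M ∧
      ∀ x ∈ M, CoalgebraStruct.comul (R := R) x ∈ LinearMap.range (M.subtype.rTensor A) := by
  classical
  choose S hS using fun x : A => TensorProduct.exists_finset (CoalgebraStruct.comul (R := R) x)
  let E : Submodule R A := Submodule.span R (s.biUnion fun x => (S x).image Prod.fst : Set A)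
  let T : A →ₗ[R] (A ⧸ E) ⊗[R] A := E.mkQ.rTensor A ∘ₗ CoalgebraStruct.comul
  have hE : E.FG := Submodule.fg_span (Finset.finite_toSet _)
  have hex : Function.Exact (E.subtype.rTensor A) (E.mkQ.rTensor A) :=
    rTensor_exact A (LinearMap.exact_subtype_mkQ E) E.mkQ_surjective
  have hle : LinearMap.ker T ≤ E := by
    intro y hy
    obtain ⟨z, hz⟩ := (hex _).1 hy
    have h := congrArg (fun t => TensorProduct.rid R A ((CoalgebraStruct.counit (R := R) (A := A)).lTensor A t)) hz
    simp only [Coalgebra.lTensor_counit_comul, TensorProduct.rid_tmul, one_smul] at h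
    rw [← h]
    clear h hz hy
    induction z with
    | zero => simp
    | add p q hp hq => simp only [map_add]; exact add_mem hp hq
    | tmul p q => simpa using E.smul_mem _ p.2
  refine ⟨LinearMap.ker T, ?_, ?_, ?_⟩
  · haveI : Module.Finite R E := Module.Finite.iff_fg.2 hE
    exact Submodule.FG.of_le hE hle
  · intro x hx
    refine (hex _).2 (?_ : _ ∈ LinearMap.range (E.subtype.rTensor A))
    rw [hS x]
    refine sum_mem fun i hi => ?_
    exact ⟨⟨i.1, Submodule.subset_span (Finset.mem_coe.2 (Finset.mem_biUnion.2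
      ⟨x, hx, Finset.mem_image_of_mem _ hi⟩))⟩ ⊗ₜ[R] i.2, rfl⟩
  · intro y hy
    refine (Module.Flat.rTensor_exact A (LinearMap.exact_subtype_ker_map T) _).1 ?_
    have h0 : E.mkQ.rTensor A (CoalgebraStruct.comul (R := R) y) = 0 := hy
    have e : ∀ z : A ⊗[R] A, T.rTensor A z =
        (TensorProduct.assoc R (A ⧸ E) A A).symm
          (E.mkQ.rTensor (A ⊗[R] A) (TensorProduct.assoc R A A A ((CoalgebraStruct.comul (R := R)).rTensor A z))) := by
      intro z
      induction z with
      | zero => simp
      | add p q hp hq => simp only [map_add, hp, hq]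
      | tmul p q =>
        simp only [T, LinearMap.rTensor_tmul, LinearMap.comp_apply]
        generalize CoalgebraStruct.comul (R := R) p = t
        induction t with
        | zero => simp
        | add a b ha hb => simp only [map_add, add_tmul, ha, hb]
        | tmul a b => simp
    rw [e, Coalgebra.coassoc_apply]
    have e2 : ∀ z : A ⊗[R] A, E.mkQ.rTensor (A ⊗[R] A) ((CoalgebraStruct.comul (R := R)).lTensor A z) =
        (CoalgebraStruct.comul (R := R)).lTensor (A ⧸ E) (E.mkQ.rTensor A z) := by
      intro z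
      induction z with
      | zero => simp
      | add p q hp hq => simp only [map_add, hp, hq]
      | tmul p q => simp
    rw [e2, h0, map_zero, map_zero]

/-- matrix representations, in matrix form -/
structure IsRep (R : Type u) [CommRing R] [Bialgebra R A] {ι : Type w} [Fintype ι] [DecidableEq ι]
    (C : Matrix ι ι A) : Prop where
  comul : C.map (Bialgebra.comulAlgHom R A) = C.map (Algebra.TensorProduct.includeLeft : A →ₐ[R] A ⊗[R] A) *
    C.map (Algebra.TensorProduct.includeRight : A →ₐ[R] A ⊗[R] A)
  counit : C.map (Bialgebra.counitAlgHom R A) = 1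

section Rep

variable {ι : Type w} [Fintype ι] [DecidableEq ι] {C : Matrix ι ι A}

theorem isRep_iff : IsRep R C ↔
    (∀ i j, CoalgebraStruct.comul (R := R) (C i j) = ∑ l, C i l ⊗ₜ[R] C l j) ∧
    ∀ i j, CoalgebraStruct.counit (R := R) (C i j) = if i = j then 1 else 0 := by
  constructor
  · rintro ⟨h1, h2⟩
    refine ⟨fun i j => ?_, fun i j => ?_⟩
    · simpa [Matrix.mul_apply, Algebra.TensorProduct.tmul_mul_tmul] using congrFun (congrFun h1 i) j
    · simpa [Matrix.one_apply] using congrFun (congrFun h2 i) j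
  · rintro ⟨h1, h2⟩
    refine ⟨?_, ?_⟩
    · ext i j
      simp [Matrix.mul_apply, Algebra.TensorProduct.tmul_mul_tmul, h1]
    · ext i j
      simp [Matrix.one_apply, h2]

theorem IsRep.conj (hC : IsRep R C) {P Q : Matrix ι ι R} (hPQ : P * Q = 1) (hQP : Q * P = 1) :
    IsRep R (Q.map (algebraMap R A) * C * P.map (algebraMap R A)) := by
  have e : ∀ {B : Type v} [CommRing B] [Algebra R B] (f : A →ₐ[R] B) (N : Matrix ι ι R),
      (N.map (algebraMap R A)).map f = N.map (algebraMap R B) := by
    intro B _ _ f N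
    ext i j
    simp
  have hd : ∀ {B : Type v} [CommRing B] [Algebra R B] (f : A →ₐ[R] B),
      (Q.map (algebraMap R A) * C * P.map (algebraMap R A)).map f =
        Q.map (algebraMap R B) * C.map f * P.map (algebraMap R B) := by
    intro B _ _ f
    rw [Matrix.map_mul, Matrix.map_mul, e, e]
  refine ⟨?_, ?_⟩
  · rw [hd, hd, hd, hC.comul]
    have h1 : P.map (algebraMap R (A ⊗[R] A)) * Q.map (algebraMap R (A ⊗[R] A)) = 1 := by
      rw [← Matrix.map_mul, hPQ, Matrix.map_one _ (map_zero _) (map_one _)]
    simp only [mul_assoc]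
    rw [← mul_assoc (P.map (algebraMap R (A ⊗[R] A))), h1, one_mul]
  · have e' : ∀ N : Matrix ι ι R, (N.map (algebraMap R A)).map (Bialgebra.counitAlgHom R A) = N := by
      intro N
      ext i j
      simp
    rw [Matrix.map_mul, Matrix.map_mul, e', e', hC.counit, mul_one, hQP]

theorem IsRep.fromBlocks {κ : Type w} [Fintype κ] [DecidableEq κ] {D : Matrix κ κ A} (hC : IsRep R C)
    (hD : IsRep R D) : IsRep R (Matrix.fromBlocks C 0 0 D) := by
  refine ⟨?_, ?_⟩
  · simp [Matrix.fromBlocks_map, Matrix.fromBlocks_multiply, hC.comul, hD.comul]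
  · simp [Matrix.fromBlocks_map, hC.counit, hD.counit, Matrix.fromBlocks_one]

theorem IsRep.submatrix {κ : Type*} [Fintype κ] [DecidableEq κ] (hC : IsRep R C) (e : κ ≃ ι) :
    IsRep R (C.submatrix e e) := by
  refine ⟨?_, ?_⟩
  · rw [← Matrix.submatrix_map, ← Matrix.submatrix_map, ← Matrix.submatrix_map, Matrix.submatrix_mul_equiv, hC.comul]
  · rw [← Matrix.submatrix_map, hC.counit, Matrix.submatrix_one_equiv]

theorem IsRep.antipode_mul (hC : IsRep R C) : C.map (HopfAlgebra.antipodeAlgHom R A) * C = 1 := by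
  let f : A ⊗[R] A →ₐ[R] A :=
    Algebra.TensorProduct.lift (HopfAlgebra.antipodeAlgHom R A) (AlgHom.id R A) fun _ _ => .all _ _
  have hf : ∀ a, f (CoalgebraStruct.comul (R := R) a) = algebraMap R A (CoalgebraStruct.counit (R := R) a) := by
    intro a
    rw [← HopfAlgebra.mul_antipode_rTensor_comul_apply a]
    generalize CoalgebraStruct.comul (R := R) a = z
    induction z with
    | zero => simp
    | add p q hp hq => simp only [map_add, hp, hq]
    | tmul p q => simp [f]
  have hfl : f.comp (Algebra.TensorProduct.includeLeft : A →ₐ[R] A ⊗[R] A) = HopfAlgebra.antipodeAlgHom R A :=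
    AlgHom.ext fun a => by simp [f]
  have h := congrArg (fun N : Matrix ι ι (A ⊗[R] A) => N.map f) hC.comul
  simp only [Matrix.map_mul, Matrix.map_map] at h
  ext i j
  have h' := congrFun (congrFun h i) j
  have h2 : CoalgebraStruct.counit (R := R) (C i j) = if i = j then 1 else 0 := (isRep_iff.1 hC).2 i j
  simp only [Matrix.map_apply, Function.comp_apply, Bialgebra.comulAlgHom_apply, hf, h2, Matrix.mul_apply,
    ← AlgHom.comp_apply f, hfl, apply_ite (algebraMap R A), map_one, map_zero] at h'
  simp only [Matrix.one_apply, Matrix.mul_apply, Matrix.map_apply]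
  rw [h']
  refine Finset.sum_congr rfl fun l _ => ?_
  simp [f]

end Rep

section Family

variable [Module.Flat R A] {ι : Type} [Fintype ι] [DecidableEq ι]

/-- the matrix of a stable independent family -/
theorem isRep_of_family {b : ι → A} (hb : LinearIndependent R b) {C : Matrix ι ι A}
    (hΔ : ∀ j, CoalgebraStruct.comul (R := R) (b j) = ∑ i, b i ⊗ₜ[R] C i j) : IsRep R C := by
  refine isRep_iff.2 ⟨fun i j => ?_, fun i j => ?_⟩
  · have h := Coalgebra.coassoc_apply (R := R) (b j)
    rw [hΔ] at h
    simp only [map_sum, LinearMap.rTensor_tmul, LinearMap.lTensor_tmul, hΔ, sum_tmul, TensorProduct.assoc_tmul] at h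
    rw [Finset.sum_comm] at h
    simp only [← tmul_sum] at h
    have h2 : ∑ m, b m ⊗ₜ[R] (CoalgebraStruct.comul (R := R) (C m j) - ∑ l, C m l ⊗ₜ[R] C l j) = 0 := by
      simp only [tmul_sub, Finset.sum_sub_distrib, h, sub_self]
    exact sub_eq_zero.1 (congrFun (eq_zero_of_sum_tmul hb h2) i)
  · have h := congrArg (fun t => TensorProduct.rid R A ((CoalgebraStruct.counit (R := R) (A := A)).lTensor A t)) (hΔ j)
    simp only [Coalgebra.lTensor_counit_comul, TensorProduct.rid_tmul, one_smul, map_sum, LinearMap.lTensor_tmul] at h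
    have h2 : ∑ m, (CoalgebraStruct.counit (R := R) (C m j) - if m = j then 1 else 0) • b m = 0 := by
      simp [sub_smul, Finset.sum_sub_distrib, ← h, ite_smul]
    exact sub_eq_zero.1 (Fintype.linearIndependent_iff.1 hb _ h2 i)

omit [DecidableEq ι] in
/-- the family lies in the span of the coefficients -/
theorem family_eq {b : ι → A} {C : Matrix ι ι A}
    (hΔ : ∀ j, CoalgebraStruct.comul (R := R) (b j) = ∑ i, b i ⊗ₜ[R] C i j) (j : ι) :
    b j = ∑ i, CoalgebraStruct.counit (R := R) (b i) • C i j := by
  have h := congrArg (fun t => TensorProduct.lid R A ((CoalgebraStruct.counit (R := R) (A := A)).rTensor A t)) (hΔ j)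
  simpa only [Coalgebra.rTensor_counit_comul, TensorProduct.lid_tmul, one_smul, map_sum, LinearMap.rTensor_tmul] using h

end Family

section Wedge

variable {d : ℕ} {κ : Type} [Fintype κ] [DecidableEq κ]

variable (R d κ) in
/-- coordinates of the wedge of the first block -/
def wedgeVec (I : Fin d → Fin d ⊕ κ) : R :=
  (Matrix.of fun l m : Fin d => if I l = Sum.inl m then (1 : R) else 0).det

theorem wedgeVec_inl : wedgeVec R d κ Sum.inl = 1 := by
  rw [wedgeVec, ← Matrix.det_one (n := Fin d) (R := R)]
  congr 1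
  ext l m
  simp [Matrix.one_apply]

/-- the tensor power -/
def powMat (C : Matrix (Fin d ⊕ κ) (Fin d ⊕ κ) A) : Matrix (Fin d → Fin d ⊕ κ) (Fin d → Fin d ⊕ κ) A :=
  Matrix.of fun I J => ∏ l, C (I l) (J l)

theorem isRep_powMat {C : Matrix (Fin d ⊕ κ) (Fin d ⊕ κ) A} (hC : IsRep R C) : IsRep R (powMat C) := by
  refine ⟨?_, ?_⟩
  · ext I J
    simp only [powMat, Matrix.map_apply, Matrix.of_apply, map_prod, Matrix.mul_apply]
    have h : ∀ l, Bialgebra.comulAlgHom R A (C (I l) (J l)) = ∑ x,
        (Algebra.TensorProduct.includeLeft : A →ₐ[R] A ⊗[R] A) (C (I l) x) *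
          (Algebra.TensorProduct.includeRight : A →ₐ[R] A ⊗[R] A) (C x (J l)) := fun l => by
      simpa [Matrix.mul_apply] using congrFun (congrFun hC.comul (I l)) (J l)
    simp only [h, Fintype.prod_sum, Finset.prod_mul_distrib]
  · ext I J
    have h : ∀ l, Bialgebra.counitAlgHom R A (C (I l) (J l)) = if I l = J l then 1 else 0 := fun l => by
      simpa [Matrix.one_apply] using congrFun (congrFun hC.counit (I l)) (J l)
    simp [powMat, -Bialgebra.counitAlgHom_apply, h, Matrix.one_apply, Finset.prod_ite_zero, funext_iff]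

omit [HopfAlgebra R A] in
theorem powMat_mulVec [Algebra R A] (C : Matrix (Fin d ⊕ κ) (Fin d ⊕ κ) A) (I : Fin d → Fin d ⊕ κ) :
    (powMat C *ᵥ fun J => algebraMap R A (wedgeVec R d κ J)) I =
      (Matrix.of fun l m : Fin d => C (I l) (Sum.inl m)).det := by
  classical
  simp only [Matrix.mulVec, dotProduct, wedgeVec, Matrix.det_apply', map_sum, map_mul, map_intCast,
    map_prod, Finset.mul_sum, powMat, Matrix.of_apply]
  rw [Finset.sum_comm]
  refine Finset.sum_congr rfl fun σ _ => ?_
  have h : ∀ J : Fin d → Fin d ⊕ κ,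
      (∏ i, algebraMap R A (if J (σ i) = Sum.inl i then 1 else 0)) =
        ∏ l, algebraMap R A (if J l = Sum.inl (σ.symm l) then 1 else 0) := fun J =>
    Fintype.prod_equiv σ _ _ fun i => by simp
  simp only [h, mul_left_comm _ ((Equiv.Perm.sign σ : ℤ) : A), ← Finset.prod_mul_distrib,
    ← Finset.mul_sum]
  congr 1
  rw [← Fintype.prod_sum (fun l x => C (I l) x *
    algebraMap R A (if x = Sum.inl (σ.symm l) then 1 else 0))]
  rw [Fintype.prod_equiv σ (fun i => C (I (σ i)) (Sum.inl i))
    (fun l => C (I l) (Sum.inl (σ.symm l))) fun i => by simp]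
  refine Finset.prod_congr rfl fun l _ => ?_
  simp only [apply_ite (algebraMap R A), map_one, map_zero, mul_ite, mul_one, mul_zero]
  rw [Finset.sum_ite_eq' Finset.univ, if_pos (Finset.mem_univ _)]

/-- the ideal of the stabiliser of the line -/
def lineIdeal (R : Type u) [CommRing R] [Algebra R A] (C : Matrix (Fin d ⊕ κ) (Fin d ⊕ κ) A) : Ideal A :=
  Ideal.span (Set.range fun I : Fin d → Fin d ⊕ κ =>
    (Matrix.of fun l m : Fin d => C (I l) (Sum.inl m)).det -
      algebraMap R A (wedgeVec R d κ I) * (Matrix.of fun l m : Fin d => C (Sum.inl l) (Sum.inl m)).det)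

theorem mem_lineIdeal {C : Matrix (Fin d ⊕ κ) (Fin d ⊕ κ) A} (hC : IsRep R C) (i : κ) (j : Fin d) :
    C (Sum.inr i) (Sum.inl j) ∈ lineIdeal R C := by
  classical
  let g : A →+* A ⧸ lineIdeal R C := Ideal.Quotient.mk _
  let vA : (Fin d → Fin d ⊕ κ) → A := fun J => algebraMap R A (wedgeVec R d κ J)
  let x : (Fin d → Fin d ⊕ κ) → A := powMat C *ᵥ vA
  have hx : ∀ I, x I = (Matrix.of fun l m : Fin d => C (I l) (Sum.inl m)).det := powMat_mulVec C
  have hrel : ∀ I, g (x I) = g (vA I) * g (x Sum.inl) := by
    intro I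
    rw [← map_mul, Ideal.Quotient.mk_eq_mk_iff_sub_mem, hx, hx]
    exact Ideal.subset_span ⟨I, rfl⟩
  have hunit : IsUnit (g (x Sum.inl)) := by
    have h : ((powMat C).map (HopfAlgebra.antipodeAlgHom R A) *ᵥ x) Sum.inl = vA Sum.inl := by
      rw [show x = powMat C *ᵥ vA from rfl, Matrix.mulVec_mulVec, (isRep_powMat hC).antipode_mul, Matrix.one_mulVec]
    have h' := congrArg g h
    simp only [Matrix.mulVec, dotProduct, map_sum, map_mul] at h'
    rw [Finset.sum_congr rfl fun J _ => (congrArg (fun t => g _ * t) (hrel J)).trans (mul_assoc _ _ _).symm,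
      ← Finset.sum_mul, show g (vA Sum.inl) = 1 by simp [vA, wedgeVec_inl]] at h'
    exact IsUnit.of_mul_eq_one_right _ h'
  have h0 : g (C (Sum.inr i) (Sum.inl j)) = 0 := by
    let P : Matrix (Fin d) (Fin d) (A ⧸ lineIdeal R C) := Matrix.of fun l m => g (C (Sum.inl l) (Sum.inl m))
    let r : Fin d → A ⧸ lineIdeal R C := fun m => g (C (Sum.inr i) (Sum.inl m))
    have hP : P.det = g (x Sum.inl) := by
      rw [hx, RingHom.map_det]
      rfl
    have h0 : ∀ l₀, (P.updateRow l₀ r).det = 0 := by
      intro l₀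
      have e := hrel (Function.update Sum.inl l₀ (Sum.inr i))
      have hw : wedgeVec R d κ (Function.update Sum.inl l₀ (Sum.inr i)) = 0 :=
        Matrix.det_eq_zero_of_row_eq_zero l₀ fun m => by simp
      simp only [vA, hw, map_zero, zero_mul] at e
      rw [hx, RingHom.map_det] at e
      rw [← e]
      congr 1
      ext l m
      by_cases hl : l = l₀
      · subst hl; simp [r]
      · simp [P, hl]
    have hc : Matrix.cramer Pᵀ r = 0 := by
      funext l₀
      rw [Matrix.cramer_apply, Matrix.updateCol_transpose, Matrix.det_transpose, h0, Pi.zero_apply]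
    have := Matrix.mulVec_cramer Pᵀ r
    rw [hc, Matrix.mulVec_zero, Matrix.det_transpose, hP] at this
    have := congrFun this j
    simp only [Pi.zero_apply, Pi.smul_apply, smul_eq_mul] at this
    exact hunit.mul_right_eq_zero.1 this.symm
  exact Ideal.Quotient.eq_zero_iff_mem.1 h0

omit [HopfAlgebra R A] in
theorem lineIdeal_le [Algebra R A] {C : Matrix (Fin d ⊕ κ) (Fin d ⊕ κ) A} {K : Ideal A}
    (h : ∀ i j, C (Sum.inr i) (Sum.inl j) ∈ K) : lineIdeal R C ≤ K := by
  refine Ideal.span_le.2 ?_
  rintro _ ⟨I, rfl⟩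
  refine Ideal.Quotient.eq.1 ?_
  rw [map_mul, RingHom.map_det, RingHom.map_det, wedgeVec, RingHom.map_det, RingHom.map_det, ← Matrix.det_mul]
  congr 1
  ext l m
  simp only [RingHom.mapMatrix_apply, Matrix.map_apply, Matrix.of_apply, Matrix.mul_apply]
  rcases hI : I l with i | i
  · simp [apply_ite (algebraMap R A), apply_ite (Ideal.Quotient.mk K), ite_mul]
  · simp [Ideal.Quotient.eq_zero_iff_mem.2 (h i m)]

end Wedge

end Groth.Agent.Comod33.LineStab
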