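import Groth.Agent.Comod33.LineStab
import Mathlib.RingTheory.FiniteType
import Mathlib.RingTheory.Adjoin.Basic

/-!
A flat subgroup is the stabiliser of a line in a faithful representation.
-/

universe u v

open TensorProduct Matrix

noncomputable section

namespace Groth.Agent.Comod33.LineStab

variable {R : Type u} [CommRing R] [IsDomain R] [IsPrincipalIdealRing R]
  {A : Type v} [CommRing A] [HopfAlgebra R A] [Module.Flat R A] [Algebra.FiniteType R A]
  {B : Type v} [CommRing B] [HopfAlgebra R B] [Module.Flat R B]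

theorem exists_adapted (π : A →ₐc[R] B) :
    ∃ (d e : ℕ) (f : Fin d ⊕ Fin e → A) (C : Matrix (Fin d ⊕ Fin e) (Fin d ⊕ Fin e) A),
      IsRep R C ∧ (∀ j, f j = ∑ i, CoalgebraStruct.counit (R := R) (f i) • C i j) ∧
      (∀ j, π (f (Sum.inl j)) = 0) ∧ (∀ i j, π (C (Sum.inr i) (Sum.inl j)) = 0) ∧
      Algebra.adjoin R (Set.range f) = ⊤ ∧
      RingHom.ker π ≤ Ideal.span (Set.range fun j => f (Sum.inl j)) := by
  classical
  haveI : IsNoetherianRing A := Algebra.FiniteType.isNoetherianRing R A
  obtain ⟨s, hs⟩ := Algebra.FiniteType.out (R := R) (A := A)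
  obtain ⟨sK, hsK⟩ := IsNoetherian.noetherian (RingHom.ker π)
  obtain ⟨M, hMfg, hsM, hM⟩ := exists_finite_stable (R := R) (s ∪ sK)
  haveI : Module.Finite R M := Module.Finite.iff_fg.2 hMfg
  let T : M →ₗ[R] B := (π : A →ₐ[R] B).toLinearMap ∘ₗ M.subtype
  let W : Submodule R M := LinearMap.ker T
  let T' : M ⧸ W →ₗ[R] B := W.liftQ T le_rfl
  have hT' : Function.Injective T' := LinearMap.ker_eq_bot.1 (Submodule.ker_liftQ_eq_bot _ _ _ le_rfl)
  haveI : Module.IsTorsionFree R A := inferInstance
  haveI : Module.IsTorsionFree R M := inferInstance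
  haveI : Module.IsTorsionFree R W := inferInstance
  haveI : IsNoetherian R M := isNoetherian_of_isNoetherianRing_of_finite R M
  haveI : Module.IsTorsionFree R (M ⧸ W) := hT'.moduleIsTorsionFree T' fun r x => map_smul T' r x
  haveI : Module.Finite R W := Module.Finite.iff_fg.2 (IsNoetherian.noetherian W)
  haveI : Module.Free R W := Module.free_of_finite_type_torsion_free' (R := R) (M := W)
  haveI : Module.Free R (M ⧸ W) := Module.free_of_finite_type_torsion_free'
  let bW := Module.finBasis R W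
  let bQ := Module.finBasis R (M ⧸ W)
  let b := bW.sumQuot bQ
  let f := fun i => (b i : A)
  have hf : LinearIndependent R f := b.linearIndependent.map' M.subtype (Submodule.ker_subtype M)
  choose Z hZ using fun j => hM (f j) (b j).2
  let C : Matrix _ _ A := Matrix.of fun i j => TensorProduct.equivFinsuppOfBasisLeft b (Z j) i
  have hΔ : ∀ j, CoalgebraStruct.comul (R := R) (f j) = ∑ i, f i ⊗ₜ[R] C i j := by
    intro j
    rw [← hZ j]
    conv_lhs => rw [← (TensorProduct.equivFinsuppOfBasisLeft b).symm_apply_apply (Z j)]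
    rw [TensorProduct.equivFinsuppOfBasisLeft_symm_apply, Finsupp.sum_fintype _ _ fun i => tmul_zero _ _, map_sum]
    rfl
  have hfW : ∀ j, π (f (Sum.inl j)) = 0 := by
    intro j
    show T (b (Sum.inl j)) = 0
    rw [Module.Basis.sumQuot_inl]
    exact (bW j).2
  have hli : LinearIndependent R fun i => π (f (Sum.inr i)) := by
    have : (fun i => π (f (Sum.inr i))) = T' ∘ bQ := by
      funext i
      rw [Function.comp_apply, ← Module.Basis.sumQuot_inr bW bQ i]
      rfl
    rw [this]
    exact bQ.linearIndependent.map' T' (LinearMap.ker_eq_bot.2 hT')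
  refine ⟨_, _, f, C, isRep_of_family hf hΔ, family_eq hΔ, hfW, fun i j => ?_, ?_, ?_⟩
  · have h := congrArg (TensorProduct.map (π : A →ₐ[R] B).toLinearMap (π : A →ₐ[R] B).toLinearMap) (hΔ (Sum.inl j))
    have h0 : TensorProduct.map (π : A →ₐ[R] B).toLinearMap (π : A →ₐ[R] B).toLinearMap
        (CoalgebraStruct.comul (R := R) (f (Sum.inl j))) = 0 := by
      refine (CoalgHomClass.map_comp_comul_apply π (f (Sum.inl j))).trans ?_
      rw [hfW, map_zero]
    rw [h0, map_sum] at h
    simp only [TensorProduct.map_tmul, AlgHom.toLinearMap_apply, BialgHom.coe_toAlgHom, Fintype.sum_sum_type,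
      hfW, zero_tmul, Finset.sum_const_zero, zero_add] at h
    exact congrFun (eq_zero_of_sum_tmul hli h.symm) i
  · refine top_unique (hs ▸ Algebra.adjoin_le fun x hx => ?_)
    have hxM : x ∈ M := hsM (Finset.mem_coe.2 (Finset.mem_union_left _ hx))
    have : x = ∑ i, b.repr ⟨x, hxM⟩ i • f i := by
      have := congrArg (fun m : M => (m : A)) (b.sum_repr ⟨x, hxM⟩)
      simp only [Submodule.coe_sum, Submodule.coe_smul] at this
      exact this.symm
    rw [SetLike.mem_coe, this]
    exact sum_mem fun i _ => Subalgebra.smul_mem _ (Algebra.subset_adjoin (Set.mem_range_self i)) _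
  · rw [← hsK]
    refine Ideal.span_le.2 fun x hx => ?_
    have hxM : x ∈ M := hsM (Finset.mem_coe.2 (Finset.mem_union_right _ hx))
    have hxW : (⟨x, hxM⟩ : M) ∈ W := show π x = 0 from RingHom.mem_ker.1 (hsK.le (Submodule.subset_span hx))
    have := congrArg (fun w : W => ((w : M) : A)) (bW.sum_repr ⟨⟨x, hxM⟩, hxW⟩)
    simp only [Submodule.coe_sum, Submodule.coe_smul] at this
    rw [SetLike.mem_coe, ← this]
    refine sum_mem fun j _ => ?_
    rw [← Module.Basis.sumQuot_inl bW bQ j, Algebra.smul_def]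
    exact Ideal.mul_mem_left _ _ (Ideal.subset_span ⟨j, rfl⟩)

/-- a flat subgroup is the stabiliser of a line in a faithful representation -/
theorem exists_lineStabiliser (π : A →ₐc[R] B) :
    ∃ (D : ℕ) (hD : 0 < D) (a : Matrix (Fin D) (Fin D) A),
      (∀ i j, CoalgebraStruct.comul (R := R) (a i j) = ∑ l, a i l ⊗ₜ[R] a l j) ∧
      (∀ i j, CoalgebraStruct.counit (R := R) (a i j) = if i = j then 1 else 0) ∧
      (∃ u : A, u * a.det = 1 ∧
        Algebra.adjoin R (Set.range (fun p : Fin D × Fin D => a p.1 p.2) ∪ {u}) = ⊤) ∧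
      RingHom.ker π = Ideal.span (Set.range (fun i : {i : Fin D // i ≠ ⟨0, hD⟩} => a i.1 ⟨0, hD⟩)) := by
  classical
  obtain ⟨d, e, f, C, hC, hfam, hfW, hH, hadj, hK⟩ := exists_adapted π
  let v : (Fin d → Fin d ⊕ Fin e) → R := wedgeVec R d (Fin e)
  let N : Matrix (Fin d → Fin d ⊕ Fin e) (Fin d → Fin d ⊕ Fin e) R :=
    Matrix.of fun I J => if J = Sum.inl then (if I = Sum.inl then 0 else v I) else 0
  have hN : N * N = 0 := by
    ext I J
    refine Finset.sum_eq_zero fun K _ => ?_
    by_cases hK' : K = Sum.inl <;> simp [N, hK']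
  have hPQ : (1 + N) * (1 - N) = 1 := by
    rw [mul_sub, mul_one, add_mul, one_mul, hN, add_zero, add_sub_cancel_right]
  have hQP : (1 - N) * (1 + N) = 1 := by
    rw [mul_add, mul_one, sub_mul, one_mul, hN, sub_zero, sub_add_cancel]
  let C₁ := (1 - N).map (algebraMap R A) * powMat C * (1 + N).map (algebraMap R A)
  have hC₁ : IsRep R C₁ := (isRep_powMat hC).conj hPQ hQP
  let x : (Fin d → Fin d ⊕ Fin e) → A := fun I => (Matrix.of fun l m : Fin d => C (I l) (Sum.inl m)).det
  have hcol : ∀ I, I ≠ Sum.inl → C₁ I Sum.inl = x I - algebraMap R A (v I) * x Sum.inl := by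
    intro I hI
    have h2 : ∀ J, (powMat C * (1 + N).map (algebraMap R A)) J Sum.inl = x J := by
      intro J
      refine Eq.trans ?_ (powMat_mulVec (R := R) C J)
      refine Finset.sum_congr rfl fun L _ => congrArg (powMat C J L * ·) ?_
      by_cases hL : L = Sum.inl
      · simp [N, hL, wedgeVec_inl]
      · simp [N, Matrix.one_apply, hL, v]
    show ((1 - N).map (algebraMap R A) * powMat C * (1 + N).map (algebraMap R A)) I Sum.inl = _
    rw [Matrix.mul_assoc, Matrix.mul_apply]
    simp only [h2, Matrix.map_apply, Matrix.sub_apply, map_sub, sub_mul, Finset.sum_sub_distrib, Matrix.one_apply,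
      apply_ite (algebraMap R A), map_one, map_zero, ite_mul, one_mul, zero_mul]
    simp [N, hI, apply_ite (algebraMap R A), ite_mul]
  let a₀ := Matrix.fromBlocks C₁ 0 0 C
  let o : (Fin d → Fin d ⊕ Fin e) ⊕ (Fin d ⊕ Fin e) := Sum.inl Sum.inl
  have hD : 0 < Fintype.card ((Fin d → Fin d ⊕ Fin e) ⊕ (Fin d ⊕ Fin e)) := Fintype.card_pos_iff.2 ⟨o⟩
  let e₀ := (Fintype.equivFin ((Fin d → Fin d ⊕ Fin e) ⊕ (Fin d ⊕ Fin e))).symm
  let e' := e₀.trans (Equiv.swap (e₀ ⟨0, hD⟩) o)
  have he' : e' ⟨0, hD⟩ = o := by simp [e']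
  let a := a₀.submatrix e' e'
  have ha : IsRep R a := (hC₁.fromBlocks hC).submatrix e'
  refine ⟨_, hD, a, (isRep_iff.1 ha).1, (isRep_iff.1 ha).2, ⟨(a.map (HopfAlgebra.antipodeAlgHom R A)).det, ?_, ?_⟩, ?_⟩
  · rw [← Matrix.det_mul, ha.antipode_mul, Matrix.det_one]
  · refine top_unique (hadj ▸ Algebra.adjoin_le ?_)
    rintro _ ⟨j, rfl⟩
    rw [SetLike.mem_coe, hfam j]
    refine sum_mem fun i _ => Subalgebra.smul_mem _ (Algebra.subset_adjoin (Set.mem_union_left _ (Set.mem_range.2 ⟨(e'.symm (Sum.inr i), e'.symm (Sum.inr j)), ?_⟩))) _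
    simp [a, a₀]
  · have hline : RingHom.ker π = lineIdeal R C := by
      refine le_antisymm (hK.trans (Ideal.span_le.2 ?_)) (lineIdeal_le fun i j => hH i j)
      rintro _ ⟨j, rfl⟩
      simp only [SetLike.mem_coe]
      rw [hfam, Fintype.sum_sum_type]
      refine add_mem (sum_mem fun i _ => ?_) (sum_mem fun i _ => ?_)
      · rw [← CoalgHomClass.counit_comp_apply π, hfW, map_zero, zero_smul]
        exact zero_mem _
      · rw [Algebra.smul_def]
        exact Ideal.mul_mem_left _ _ (mem_lineIdeal hC i j)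
    rw [hline]
    refine le_antisymm (Ideal.span_le.2 ?_) (Ideal.span_le.2 ?_)
    · rintro _ ⟨I, rfl⟩
      by_cases hI : I = Sum.inl
      · subst hI
        simp [wedgeVec_inl]
      · have hne : e'.symm (Sum.inl I) ≠ ⟨0, hD⟩ := fun h => hI (by
          have := congrArg e' h
          rw [Equiv.apply_symm_apply, he'] at this
          exact Sum.inl_injective this)
        refine Ideal.subset_span ⟨⟨_, hne⟩, ?_⟩
        simp only [a, Matrix.submatrix_apply, Equiv.apply_symm_apply, he', o, a₀, Matrix.fromBlocks_apply₁₁]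
        exact hcol I hI
    · rintro _ ⟨⟨i, hi⟩, rfl⟩
      simp only [a, Matrix.submatrix_apply, he', o]
      have hi' : e' i ≠ o := fun h => hi (e'.injective (h.trans he'.symm))
      rcases hI : e' i with I | I
      · rw [hI] at hi'
        simp only [a₀, Matrix.fromBlocks_apply₁₁]
        rw [hcol I fun h => hi' (by rw [h])]
        exact Ideal.subset_span ⟨I, rfl⟩
      · simp [a₀]

end Groth.Agent.Comod33.LineStab
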