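import Groth.Agent.Comod33.Jordan
import Mathlib.RingTheory.TensorProduct.Maps
import Mathlib.LinearAlgebra.Semisimple
import Mathlib.RingTheory.Nilpotent.Basic
import Mathlib.LinearAlgebra.FiniteDimensional.Lemmas
import Mathlib.RingTheory.Finiteness.Basic
import Mathlib.RingTheory.TensorProduct.Finite

/-!
The semisimple part of a locally finite automorphism.
-/

universe u v w

open TensorProduct

noncomputable section

namespace Groth.Agent.Comod33

variable {k : Type u} [Field k] {V : Type v} {W : Type w}
  [AddCommGroup V] [Module k V] [AddCommGroup W] [Module k W]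

/-- `s` is the semisimple factor of a multiplicative Jordan decomposition of `α` -/
def IsMulSS (α s : Module.End k V) : Prop :=
  s.IsSemisimple ∧ ∃ u : Module.End k V, IsNilpotent (u - 1) ∧ Commute s u ∧ s * u = α

theorem exists_isMulSS [PerfectField k] [FiniteDimensional k V] {α : Module.End k V} (hα : IsUnit α) :
    ∃ s : Module.End k V, IsUnit s ∧ IsMulSS α s := by
  obtain ⟨n, hn, s, hs, hnn, hss, he⟩ := α.exists_isNilpotent_isSemisimple
  have hc : Commute n s := by
    rw [Algebra.adjoin_singleton_eq_range_aeval] at hn hs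
    obtain ⟨p, rfl⟩ := hn
    obtain ⟨q, rfl⟩ := hs
    show Polynomial.aeval α p * Polynomial.aeval α q = Polynomial.aeval α q * Polynomial.aeval α p
    rw [← map_mul, ← map_mul, mul_comm]
  have hsu : IsUnit s := by
    have h1 := hnn.neg.isUnit_add_left_of_commute hα (by
      rw [he]; exact ((Commute.refl n).add_right hc).neg_left)
    rwa [he, add_neg_cancel_comm] at h1
  obtain ⟨t, rfl⟩ := hsu
  have hnt : Commute (↑t⁻¹ : Module.End k V) n := hc.symm.units_inv_left
  refine ⟨t, t.isUnit, hss, ↑t⁻¹ * n + 1, ?_, ?_, ?_⟩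
  · rw [add_sub_cancel_right]
    exact hnt.isNilpotent_mul_left hnn
  · exact (((Commute.refl (t : Module.End k V)).units_inv_right).mul_right hc.symm).add_right
      (Commute.one_right _)
  · rw [mul_add, mul_one, Units.mul_inv_cancel_left, he]

theorem IsMulSS.intertwine [PerfectField k] [FiniteDimensional k V] [FiniteDimensional k W]
    {α s : Module.End k V} {β t : Module.End k W} (hs : IsMulSS α s) (ht : IsMulSS β t)
    {φ : V →ₗ[k] W} (hφ : ∀ x, φ (α x) = β (φ x)) (x : V) : φ (s x) = t (φ x) := by
  obtain ⟨h1, u, h2, h3, h4⟩ := hs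
  obtain ⟨g1, w, g2, g3, g4⟩ := ht
  exact LinearMap.congr_fun
    (semisimplePart_intertwine h1 h2 h3 h4 g1 g2 g3 g4 (LinearMap.ext hφ)) x

theorem IsMulSS.eq [PerfectField k] [FiniteDimensional k V] {α s t : Module.End k V}
    (hs : IsMulSS α s) (ht : IsMulSS α t) : s = t :=
  LinearMap.ext fun x => hs.intertwine ht (φ := LinearMap.id) (fun _ => rfl) x

theorem isSemisimple_of_algHom_apply {B : Type w} [Ring B] [Algebra k B] [FiniteDimensional k V]
    (f : B →ₐ[k] Module.End k V) {P : Polynomial k} (hP : Squarefree P) {b : B}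
    (hb : Polynomial.aeval b P = 0) : (f b).IsSemisimple :=
  Module.End.isSemisimple_of_squarefree_aeval_eq_zero hP (by
    rw [Polynomial.aeval_algHom_apply, hb, map_zero])

theorem map_eq_rTensor_mul (a : Module.End k V) (b : Module.End k W) :
    TensorProduct.map a b = Module.End.rTensorAlgHom k V W a * Module.End.lTensorAlgHom k W V b := by
  ext x y; rfl

theorem commute_rTensor_lTensor (a : Module.End k V) (b : Module.End k W) :
    Commute (Module.End.rTensorAlgHom k V W a) (Module.End.lTensorAlgHom k W V b) := by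
  show Module.End.rTensorAlgHom k V W a * Module.End.lTensorAlgHom k W V b =
    Module.End.lTensorAlgHom k W V b * Module.End.rTensorAlgHom k V W a
  ext x y; rfl

theorem isNilpotent_mul_sub_one {E : Type*} [Ring E] {p q : E} (hc : Commute p q)
    (hp : IsNilpotent (p - 1)) (hq : IsNilpotent (q - 1)) : IsNilpotent (p * q - 1) := by
  have e : p * q - 1 = (p - 1) * q + (q - 1) := by rw [sub_mul, one_mul]; abel
  rw [e]
  exact ((hc.sub_left (Commute.one_left q)).mul_left (Commute.refl q) |>.sub_right
    (Commute.one_right _)).isNilpotent_add ((hc.sub_left (Commute.one_left q)).isNilpotent_mul_right hp) hq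

theorem isNilpotent_map_sub_one {u : Module.End k V} {w : Module.End k W}
    (hu : IsNilpotent (u - 1)) (hw : IsNilpotent (w - 1)) :
    IsNilpotent (TensorProduct.map u w - 1) := by
  rw [map_eq_rTensor_mul]
  refine isNilpotent_mul_sub_one (commute_rTensor_lTensor u w) ?_ ?_
  · have := hu.map (Module.End.rTensorAlgHom k V W)
    rwa [map_sub, map_one] at this
  · have := hw.map (Module.End.lTensorAlgHom k W V)
    rwa [map_sub, map_one] at this

theorem isSemisimple_map [PerfectField k] [FiniteDimensional k V] [FiniteDimensional k W]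
    {s : Module.End k V} {t : Module.End k W} (hs : s.IsSemisimple) (ht : t.IsSemisimple) :
    Module.End.IsSemisimple (TensorProduct.map s t) := by
  rw [map_eq_rTensor_mul]
  exact (isSemisimple_of_algHom_apply _ hs.minpoly_squarefree (minpoly.aeval k s)).mul_of_commute
    (commute_rTensor_lTensor s t)
    (isSemisimple_of_algHom_apply _ ht.minpoly_squarefree (minpoly.aeval k t))

theorem map_mul_map (a a' : Module.End k V) (b b' : Module.End k W) :
    (TensorProduct.map a b * TensorProduct.map a' b' : Module.End k (V ⊗[k] W)) =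
      TensorProduct.map (a * a') (b * b') :=
  (TensorProduct.map_comp a b a' b').symm

theorem IsMulSS.tensor [PerfectField k] [FiniteDimensional k V] [FiniteDimensional k W]
    {α s : Module.End k V} {β t : Module.End k W} (hs : IsMulSS α s) (ht : IsMulSS β t) :
    IsMulSS (TensorProduct.map α β) (TensorProduct.map s t) := by
  obtain ⟨h1, u, h2, h3, h4⟩ := hs
  obtain ⟨g1, w, g2, g3, g4⟩ := ht
  refine ⟨isSemisimple_map h1 g1, TensorProduct.map u w, isNilpotent_map_sub_one h2 g2, ?_, ?_⟩
  · show TensorProduct.map s t * TensorProduct.map u w = TensorProduct.map u w * TensorProduct.map s t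
    rw [map_mul_map, map_mul_map, h3.eq, g3.eq]
  · rw [map_mul_map, h4, g4]

section Local

variable [PerfectField k] (R : Module.End k V)

theorem isUnit_restrict (hR : Function.Injective R) {U : Submodule k V} [Module.Finite k U]
    (hU : ∀ x ∈ U, R x ∈ U) : IsUnit (R.restrict hU) := by
  have hi : Function.Injective (R.restrict hU) := fun x y h =>
    Subtype.ext (hR (congrArg Subtype.val h))
  exact (Module.End.isUnit_iff _).2 ⟨hi, LinearMap.injective_iff_surjective.1 hi⟩

variable (hR : Function.Injective R)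
  (hlf : ∀ a : V, ∃ U : Submodule k V, Module.Finite k U ∧ (∀ x ∈ U, R x ∈ U) ∧ a ∈ U)

include hR hlf in
/-- existence of the global semisimple part -/
theorem exists_semisimplePart : ∃ σ : Module.End k V, Function.Bijective σ ∧
    (∀ (U : Submodule k V) [Module.Finite k U] (hU : ∀ x ∈ U, R x ∈ U) (s : Module.End k U),
      IsMulSS (R.restrict hU) s → ∀ x : U, σ x = s x) := by
  choose U hUf hUR hUm using hlf
  haveI := hUf
  choose S hSu hS using fun a => exists_isMulSS (isUnit_restrict R hR (hUR a))
  have key : ∀ (a : V) (W : Submodule k V) [Module.Finite k W] (hW : ∀ x ∈ W, R x ∈ W)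
      (t : Module.End k W), IsMulSS (R.restrict hW) t → ∀ (hx : a ∈ W),
        (S a ⟨a, hUm a⟩ : V) = t ⟨a, hx⟩ := by
    intro a W _ hW t ht hx
    have hsup : ∀ x ∈ U a ⊔ W, R x ∈ U a ⊔ W := by
      intro x hx
      obtain ⟨p, hp, q, hq, rfl⟩ := Submodule.mem_sup.1 hx
      rw [map_add]
      exact Submodule.add_mem_sup (hUR a p hp) (hW q hq)
    obtain ⟨r, -, hr⟩ := exists_isMulSS (isUnit_restrict R hR hsup)
    have e1 := (hS a).intertwine hr (φ := Submodule.inclusion le_sup_left) (fun _ => rfl) ⟨a, hUm a⟩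
    have e2 := ht.intertwine hr (φ := Submodule.inclusion le_sup_right) (fun _ => rfl) ⟨a, hx⟩
    exact congrArg Subtype.val (e1.trans e2.symm)
  have hpair : ∀ a b : V, ∃ (W : Submodule k V) (_ : Module.Finite k W) (hW : ∀ x ∈ W, R x ∈ W)
      (t : Module.End k W), IsMulSS (R.restrict hW) t ∧ IsUnit t ∧ a ∈ W ∧ b ∈ W := by
    intro a b
    have hsup : ∀ x ∈ U a ⊔ U b, R x ∈ U a ⊔ U b := by
      intro x hx
      obtain ⟨p, hp, q, hq, rfl⟩ := Submodule.mem_sup.1 hx
      rw [map_add]
      exact Submodule.add_mem_sup (hUR a p hp) (hUR b q hq)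
    obtain ⟨r, hru, hr⟩ := exists_isMulSS (isUnit_restrict R hR hsup)
    exact ⟨_, inferInstance, hsup, r, hr, hru, Submodule.mem_sup_left (hUm a),
      Submodule.mem_sup_right (hUm b)⟩
  let σ : Module.End k V :=
    { toFun := fun a => (S a ⟨a, hUm a⟩ : V)
      map_add' := fun a b => by
        obtain ⟨W, _, hW, t, ht, -, ha, hb⟩ := hpair a b
        rw [key a W hW t ht ha, key b W hW t ht hb, key (a + b) W hW t ht (W.add_mem ha hb)]
        exact congrArg Subtype.val (map_add t ⟨a, ha⟩ ⟨b, hb⟩)
      map_smul' := fun c a => by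
        rw [key a _ (hUR a) _ (hS a) (hUm a),
          key (c • a) _ (hUR a) _ (hS a) ((U a).smul_mem c (hUm a))]
        exact congrArg Subtype.val (map_smul (S a) c ⟨a, hUm a⟩) }
  have hσ : ∀ (W : Submodule k V) [Module.Finite k W] (hW : ∀ x ∈ W, R x ∈ W)
      (t : Module.End k W), IsMulSS (R.restrict hW) t → ∀ x : W, σ x = t x :=
    fun W _ hW t ht x => key x W hW t ht x.2
  refine ⟨σ, ⟨?_, ?_⟩, hσ⟩
  · intro a b h
    obtain ⟨W, _, hW, t, ht, htu, ha, hb⟩ := hpair a b
    have e1 := hσ W hW t ht ⟨a, ha⟩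
    have e2 := hσ W hW t ht ⟨b, hb⟩
    have := ((Module.End.isUnit_iff t).1 htu).1 (Subtype.ext (e1.symm.trans (h.trans e2)))
    exact congrArg Subtype.val this
  · intro a
    obtain ⟨x, hx⟩ := ((Module.End.isUnit_iff _).1 (hSu a)).2 ⟨a, hUm a⟩
    exact ⟨x, (hσ _ (hUR a) _ (hS a) x).trans (congrArg Subtype.val hx)⟩

end Local

end Groth.Agent.Comod33
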