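import Groth.Agent.Comod33.CatQuot
import Groth.Agent.Comod33.QuotReductive
import Groth.Agent.S12922
import Groth.Prelude.Def_CoactBr
import Groth.Prelude.Def_RedSub
import Mathlib.AlgebraicGeometry.Sites.Fpqc

/-!
Quotients by linearly reductive subgroups are affine.
-/

universe u

open CategoryTheory MonoidalCategory CartesianMonoidalCategory AlgebraicGeometry TensorProduct Opposite

noncomputable section

namespace Groth.Agent.Comod33.QuotAff

open CoactBr MonObj

local instance (R : Type u) [CommRing R] : (algSpec (CommRingCat.of R)).Braided := braidedAlgSpec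

variable {k : Type u} [Field k] {AG AH : Type u} [CommRing AG] [HopfAlgebra k AG]
  [CommRing AH] [HopfAlgebra k AH] (ψ : AG →ₐc[k] AH)

/-- right translations as a coaction -/
@[reducible] def comod : HopfRep.Comod k AH AG :=
  push (ψ : AG →ₗc[k] AH) (inferInstance : HopfRep.Comod k AG AG)

/-- the coaction as a map of algebras -/
theorem coact_eq (a : AG) :
    (comod ψ).coact a = Algebra.TensorProduct.map (AlgHom.id k AG) (ψ : AG →ₐ[k] AH)
      (CoalgebraStruct.comul (R := k) a) := rfl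

theorem isCoactAlg : letI := comod ψ; GLin.IsCoactAlg k AH AG := by
  letI := comod ψ
  refine ⟨?_, fun f g => ?_⟩
  · show (comod ψ).coact 1 = 1
    rw [coact_eq, Bialgebra.comul_one, map_one]
  · show (comod ψ).coact (f * g) = (comod ψ).coact f * (comod ψ).coact g
    rw [coact_eq, coact_eq, coact_eq, Bialgebra.comul_mul, map_mul]

theorem exists_totalIntegral (hH : HopfRep.IsLinearlyReductive k AH) :
    letI := comod ψ
    ∃ α : AH →ₗ[k] AG, Hoch.IsComodHom AH α ∧ α 1 = 1 := by
  letI := comod ψ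
  obtain ⟨J, h1, hJ⟩ := Quot.exists_invariant_functional hH
  refine ⟨Algebra.linearMap k AG ∘ₗ J, LinearMap.ext fun a => ?_, by simp [h1]⟩
  show (comod ψ).coact (algebraMap k AG (J a)) =
    (Algebra.linearMap k AG ∘ₗ J).rTensor AH (CoalgebraStruct.comul (R := k) a)
  rw [coact_eq, Bialgebra.comul_algebraMap, AlgHom.commutes]
  have h2 : ∀ z : AH ⊗[k] AH, (Algebra.linearMap k AG ∘ₗ J).rTensor AH z =
      (1 : AG) ⊗ₜ[k] TensorProduct.lid k AH (J.rTensor AH z) := by
    intro z
    induction z with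
    | zero => simp
    | add p q hp hq => simp only [map_add, tmul_add, hp, hq]
    | tmul p q => simp [Algebra.algebraMap_eq_smul_one, TensorProduct.smul_tmul]
  rw [h2, hJ, tmul_smul, Algebra.algebraMap_eq_smul_one, Algebra.TensorProduct.one_def]

/-- the quotient map is invariant at the level of rings -/
theorem invariant {Q : Over (Spec (CommRingCat.of k))} (q : sp k AG ⟶ Q)
    (hq : RedSub.IsQuotient (pt (ψ : AG →ₐ[k] AH)) q) :
    letI := comod ψ
    letI := isCoactAlg ψ
    Spec.map (CommRingCat.ofHom (GLin.coactAlgHom k AH AG).toRingHom) ≫ q.left =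
      Spec.map (CommRingCat.ofHom
        (Algebra.TensorProduct.includeLeftRingHom : AG →+* AG ⊗[k] AH)) ≫ q.left := by
  letI := comod ψ
  letI := isCoactAlg ψ
  let x : AG →ₐ[k] AG ⊗[k] AH := Algebra.TensorProduct.includeLeft
  let g : AH →ₐ[k] AG ⊗[k] AH := Algebra.TensorProduct.includeRight
  have h := congrArg (fun f => lift (pt x) (pt g) ≫ f) hq.2.2.2.w
  simp only [lift_fst_assoc, lift_whiskerLeft_assoc, Category.assoc] at h
  rw [← pt_comp, ← Category.assoc, ← Hom.mul_def, pt_mul_pt] at h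
  have h' := congrArg CommaMorphism.left h
  have e : (Algebra.TensorProduct.lift x (g.comp (ψ : AG →ₐ[k] AH)) fun _ _ => .all _ _).comp
      (Bialgebra.comulAlgHom k AG) = GLin.coactAlgHom k AH AG := by
    refine AlgHom.ext fun a => ?_
    show Algebra.TensorProduct.lift x (g.comp (ψ : AG →ₐ[k] AH)) (fun _ _ => .all _ _) (CoalgebraStruct.comul (R := k) a) = (comod ψ).coact a
    rw [coact_eq]
    generalize CoalgebraStruct.comul (R := k) a = z
    induction z with
    | zero => simp
    | add p q hp hq => simp only [map_add, hp, hq]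
    | tmul p q => simp [x, g, Algebra.TensorProduct.tmul_mul_tmul]
  rw [e] at h'
  exact h'.symm

/-- the identification of the product with the affine product -/
theorem isIso_lift :
    IsIso (lift (pt (Algebra.TensorProduct.includeLeft : AG →ₐ[k] AG ⊗[k] AH))
      (pt (Algebra.TensorProduct.includeRight : AH →ₐ[k] AG ⊗[k] AH))) := by
  have h := lift_pt_pt (R := k) (Algebra.TensorProduct.includeLeft : AG →ₐ[k] AG ⊗[k] AH)
    (Algebra.TensorProduct.includeRight : AH →ₐ[k] AG ⊗[k] AH)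
  rw [show Algebra.TensorProduct.lift (Algebra.TensorProduct.includeLeft : AG →ₐ[k] AG ⊗[k] AH)
      (Algebra.TensorProduct.includeRight : AH →ₐ[k] AG ⊗[k] AH) (fun _ _ => .all _ _) = AlgHom.id k _ from
    Algebra.TensorProduct.ext' fun a b => by simp, pt_id] at h
  have e := (Iso.comp_hom_eq_id
    (Functor.Monoidal.μIso (algSpec (CommRingCat.of k)) (op (.of k AG)) (op (.of k AH)))).1 h
  exact e ▸ Iso.isIso_inv (Functor.Monoidal.μIso (algSpec (CommRingCat.of k)) (op (.of k AG)) (op (.of k AH)))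

/-- maps equalised by the two maps from the product are constant on the fibres -/
theorem comp_eq_of_comp_eq {Q : Over (Spec (CommRingCat.of k))} (q : sp k AG ⟶ Q)
    (hq : RedSub.IsQuotient (pt (ψ : AG →ₐ[k] AH)) q) {R : Over (Spec (CommRingCat.of k))} (F : sp k AG ⟶ R)
    (hF : pt (Algebra.TensorProduct.includeLeft : AG →ₐ[k] AG ⊗[k] AH) ≫ F =
      pt ((Algebra.TensorProduct.map (AlgHom.id k AG) (ψ : AG →ₐ[k] AH)).comp (Bialgebra.comulAlgHom k AG)) ≫ F)
    {Z : Scheme.{u}} (g₁ g₂ : Z ⟶ (sp k AG).left) (h : g₁ ≫ q.left = g₂ ≫ q.left) :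
    g₁ ≫ F.left = g₂ ≫ F.left := by
  let T : Over (Spec (CommRingCat.of k)) := Over.mk (g₁ ≫ (sp k AG).hom)
  have hw : g₂ ≫ (sp k AG).hom = g₁ ≫ (sp k AG).hom := by
    rw [← Over.w q, ← Category.assoc, ← h, Category.assoc]
  let a : T ⟶ sp k AG := Over.homMk g₁ rfl
  let b : T ⟶ sp k AG := Over.homMk g₂ hw
  have hab : a ≫ q = b ≫ q := Over.OverMorphism.ext h
  obtain ⟨l, hl1, hl2⟩ := hq.2.2.2.exists_lift a b hab
  let x : AG →ₐ[k] AG ⊗[k] AH := Algebra.TensorProduct.includeLeft
  let g : AH →ₐ[k] AG ⊗[k] AH := Algebra.TensorProduct.includeRight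
  haveI : IsIso (lift (pt x) (pt g)) := isIso_lift (k := k) (AG := AG) (AH := AH)
  have key : fst (sp k AG) (sp k AH) ≫ F =
      ((sp k AG ◁ pt (ψ : AG →ₐ[k] AH)) ≫ μ[sp k AG]) ≫ F := by
    rw [← cancel_epi (lift (pt x) (pt g))]
    simp only [lift_fst_assoc, lift_whiskerLeft_assoc, Category.assoc]
    rw [← pt_comp, ← Category.assoc, ← Hom.mul_def, pt_mul_pt]
    refine hF.trans (congrArg (fun φ => pt φ ≫ F) (AlgHom.ext fun a => ?_))
    show Algebra.TensorProduct.map _ _ (CoalgebraStruct.comul (R := k) a) =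
      Algebra.TensorProduct.lift x (g.comp (ψ : AG →ₐ[k] AH)) (fun _ _ => .all _ _) (CoalgebraStruct.comul (R := k) a)
    generalize CoalgebraStruct.comul (R := k) a = z
    induction z with
    | zero => simp
    | add p q hp hq => simp only [map_add, hp, hq]
    | tmul p q => simp [x, g, Algebra.TensorProduct.tmul_mul_tmul]
  have h2 : a ≫ F = b ≫ F := by
    rw [← hl1, ← hl2, Category.assoc, Category.assoc, key]
  exact congrArg CommaMorphism.left h2

/-- the quotient is the spectrum of the invariants -/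
theorem isAffine (hH : HopfRep.IsLinearlyReductive k AH)
    (Q : Over (Spec (CommRingCat.of k))) (q : sp k AG ⟶ Q)
    (hq : RedSub.IsQuotient (pt (ψ : AG →ₐ[k] AH)) q) : IsAffine Q.left := by
  letI := comod ψ
  letI := isCoactAlg ψ
  obtain ⟨α, hα, hα1⟩ := exists_totalIntegral ψ hH
  have hsurj := Groth.Agent.S12922.result k AH AG ⟨α, hα, hα1⟩
  let C := GLin.invariants k AH AG
  let f : Spec (CommRingCat.of AG) ⟶ Spec (CommRingCat.of C) :=
    Spec.map (CommRingCat.ofHom (algebraMap C AG))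
  have hf : Spec.map (CommRingCat.ofHom (GLin.coactAlgHom k AH AG).toRingHom) ≫ f =
      Spec.map (CommRingCat.ofHom
        (Algebra.TensorProduct.includeLeftRingHom : AG →+* AG ⊗[k] AH)) ≫ f := by
    rw [← Spec.map_comp, ← Spec.map_comp, ← CommRingCat.ofHom_comp, ← CommRingCat.ofHom_comp]
    congr 2
    exact RingHom.ext fun c => c.2
  obtain ⟨χ, hχ, -⟩ := CatQuot.existsUnique_desc hα hα1 hsurj q.left (invariant ψ q hq)
  obtain ⟨χ₀, -, huniq⟩ := CatQuot.existsUnique_desc hα hα1 hsurj f hf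
  haveI := hq.1
  haveI := hq.2.1
  haveI := hq.2.2.1
  haveI : EffectiveEpi q.left := inferInstance
  let q' : Spec (CommRingCat.of AG) ⟶ Q.left := q.left
  haveI : EffectiveEpi q' := ‹EffectiveEpi q.left›
  have hF : pt (Algebra.TensorProduct.includeLeft : AG →ₐ[k] AG ⊗[k] AH) ≫ pt C.val =
      pt ((Algebra.TensorProduct.map (AlgHom.id k AG) (ψ : AG →ₐ[k] AH)).comp (Bialgebra.comulAlgHom k AG)) ≫
        pt C.val := by
    rw [← pt_comp, ← pt_comp]
    congr 1
    exact AlgHom.ext fun c => c.2.symm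
  have hdesc : ∀ {Z : Scheme.{u}} (g₁ g₂ : Z ⟶ Spec (CommRingCat.of AG)), g₁ ≫ q' = g₂ ≫ q' → g₁ ≫ f = g₂ ≫ f :=
    fun g₁ g₂ h12 => comp_eq_of_comp_eq ψ q hq (pt C.val) hF g₁ g₂ h12
  let d : Q.left ⟶ Spec (CommRingCat.of C) := EffectiveEpi.desc q' f hdesc
  have hd : q' ≫ d = f := EffectiveEpi.fac q' f hdesc
  have hχ' : f ≫ χ = q' := hχ
  have h1 : χ ≫ d = 𝟙 _ := by
    have e1 : f ≫ χ ≫ d = f := by
      rw [← Category.assoc, hχ', hd]
    exact (huniq _ e1).trans (huniq _ (Category.comp_id f)).symm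
  have h2 : d ≫ χ = 𝟙 _ := by
    rw [← cancel_epi q', ← Category.assoc, hd, hχ', Category.comp_id]
  let e : Q.left ≅ Spec (CommRingCat.of C) := ⟨d, χ, h2, h1⟩
  exact @IsAffine.of_isIso _ _ e.hom (Iso.isIso_hom e) _

end Groth.Agent.Comod33.QuotAff
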