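import Groth.Agent.Comod33.QuotAffine
import Groth.Agent.Comod33.Criteria
import Groth.Agent.Comod33.Avg
import Groth.Prelude.Def_ComodTens
import Mathlib.RingTheory.Flat.FaithfullyFlat.Algebra
import Mathlib.RingTheory.Flat.Basic

/-!
Linear reductivity of subgroups with affine quotient.
-/

universe u

set_option maxHeartbeats 1000000
set_option synthInstance.maxHeartbeats 100000

open TensorProduct

noncomputable section

namespace Groth.Agent.Comod33.QuotAff

section Aux

variable {k : Type u} [Field k] {AG AH : Type u} [CommRing AG] [HopfAlgebra k AG]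
  [CommRing AH] [HopfAlgebra k AH] (ψ : AG →ₐc[k] AH)
variable {R : Type u} [CommRing R] [Algebra k R] [Algebra R AG] [IsScalarTower k R AG]

/-- tensoring with a flat module preserves equalisers -/
theorem exists_lTensor_eqLocus {R M N P : Type u} [CommRing R] [AddCommGroup M] [Module R M] [Module.Flat R M]
    [AddCommMonoid N] [AddCommMonoid P] [Module R N] [Module R P] (f g : N →ₗ[R] P) (z : M ⊗[R] N)
    (hz : f.lTensor M z = g.lTensor M z) :
    ∃ y, (LinearMap.eqLocus f g).subtype.lTensor M y = z := by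
  letI := Module.addCommMonoidToAddCommGroup R (M := N)
  letI := Module.addCommMonoidToAddCommGroup R (M := P)
  exact (Module.Flat.eqLocus_lTensor_eq R M f g).le hz

/-- right translations as a map of algebras -/
def rho : AG →ₐ[k] AG ⊗[k] AH :=
  (Algebra.TensorProduct.map (AlgHom.id k AG) (ψ : AG →ₐ[k] AH)).comp (Bialgebra.comulAlgHom k AG)

theorem rho_apply (a : AG) : rho ψ a = (comod ψ).coact a := rfl

/-- the translations generate -/
theorem includeRight_comp :
    WithConv.toConv ((Algebra.TensorProduct.includeRight : AH →ₐ[k] AG ⊗[k] AH).comp (ψ : AG →ₐ[k] AH)) =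
      WithConv.toConv ((Algebra.TensorProduct.includeLeft : AG →ₐ[k] AG ⊗[k] AH).comp
        (HopfAlgebra.antipodeAlgHom k AG)) * WithConv.toConv (rho ψ) := by
  have h : WithConv.toConv (rho ψ) = WithConv.toConv (Algebra.TensorProduct.includeLeft : AG →ₐ[k] AG ⊗[k] AH) *
      WithConv.toConv ((Algebra.TensorProduct.includeRight : AH →ₐ[k] AG ⊗[k] AH).comp (ψ : AG →ₐ[k] AH)) := by
    refine WithConv.ofConv_injective (AlgHom.ext fun a => ?_)
    simp only [AlgHom.convMul_apply, WithConv.ofConv_toConv, rho, AlgHom.comp_apply, Bialgebra.comulAlgHom_apply]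
    generalize CoalgebraStruct.comul (R := k) a = z
    induction z with
    | zero => simp
    | add p q hp hq => simp only [map_add, hp, hq]
    | tmul p q => simp
  have e : WithConv.toConv ((Algebra.TensorProduct.includeLeft : AG →ₐ[k] AG ⊗[k] AH).comp
      (HopfAlgebra.antipodeAlgHom k AG)) =
      (WithConv.toConv (Algebra.TensorProduct.includeLeft : AG →ₐ[k] AG ⊗[k] AH))⁻¹ := rfl
  rw [h, e]
  exact (inv_mul_cancel_left (G := WithConv (AG →ₐ[k] AG ⊗[k] AH)) _ _).symm

/-- maps agreeing on the first factor and on translations agree -/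
theorem algHom_ext (hψ : Function.Surjective ψ) {T : Type u} [CommRing T] [Algebra k T]
    (f g : AG ⊗[k] AH →ₐ[k] T) (h₁ : ∀ a, f (a ⊗ₜ[k] 1) = g (a ⊗ₜ[k] 1))
    (h₂ : ∀ b, f (rho ψ b) = g (rho ψ b)) : f = g := by
  refine Algebra.TensorProduct.ext' fun a c => ?_
  obtain ⟨b, rfl⟩ := hψ c
  have key : f ((1 : AG) ⊗ₜ[k] ψ b) = g ((1 : AG) ⊗ₜ[k] ψ b) := by
    have h := congrArg (fun F => F.ofConv b) (includeRight_comp ψ)
    simp only [AlgHom.convMul_apply, WithConv.ofConv_toConv] at h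
    rw [show (1 : AG) ⊗ₜ[k] ψ b = _ from h]
    generalize CoalgebraStruct.comul (R := k) b = z
    induction z with
    | zero => simp
    | add p q hp hq => simp only [map_add, hp, hq]
    | tmul p q => simp [h₁, h₂]
  rw [show a ⊗ₜ[k] ψ b = (a ⊗ₜ[k] 1) * ((1 : AG) ⊗ₜ[k] ψ b) by
    rw [Algebra.TensorProduct.tmul_mul_tmul, mul_one, one_mul], map_mul, map_mul, h₁, key]

variable (hinv : ∀ r : R, rho ψ (algebraMap R AG r) = algebraMap R AG r ⊗ₜ[k] (1 : AH))
  (γ : AG ⊗[k] AH →ₐ[k] AG ⊗[R] AG)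
  (hγ1 : ∀ a, γ (a ⊗ₜ[k] 1) = a ⊗ₜ[R] 1) (hγ2 : ∀ b, γ (rho ψ b) = 1 ⊗ₜ[R] b)

include hγ1 hγ2 in
/-- invariant functions come from the quotient -/
theorem mem_range_of_invariant [Module.FaithfullyFlat R AG] {c : AG} (hc : rho ψ c = c ⊗ₜ[k] (1 : AH)) :
    ∃ r : R, algebraMap R AG r = c := by
  have h : c ⊗ₜ[R] (1 : AG) = (1 : AG) ⊗ₜ[R] c := by rw [← hγ1, ← hγ2, hc]
  have h1 := congrArg (LinearMap.lTensor AG (LinearMap.range (Algebra.linearMap R AG)).mkQ) h
  simp only [LinearMap.lTensor_tmul, Submodule.mkQ_apply] at h1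
  rw [(Submodule.Quotient.mk_eq_zero (LinearMap.range (Algebra.linearMap R AG))).2
    (LinearMap.mem_range.2 ⟨1, map_one (algebraMap R AG)⟩), TensorProduct.tmul_zero] at h1
  have h2 := Module.FaithfullyFlat.tensorProduct_mk_injective (A := R) (B := AG)
    (AG ⧸ LinearMap.range (Algebra.linearMap R AG)) (a₁ := Submodule.Quotient.mk c) (a₂ := 0)
    (by simpa using h1.symm)
  obtain ⟨x, hx⟩ := (Submodule.Quotient.mk_eq_zero _).1 h2
  exact ⟨x, hx⟩

include hinv in
/-- the translation on the second factor -/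
theorem exists_rho₂ : ∃ ρ₂ : AG ⊗[R] AG →ₐ[k] (AG ⊗[R] AG) ⊗[k] AH,
    (∀ a, ρ₂ (a ⊗ₜ[R] 1) = (a ⊗ₜ[R] 1) ⊗ₜ[k] 1) ∧
    ∀ b, ρ₂ ((1 : AG) ⊗ₜ[R] b) = Algebra.TensorProduct.map
      ((Algebra.TensorProduct.includeRight : AG →ₐ[R] AG ⊗[R] AG).restrictScalars k) (AlgHom.id k AH) (rho ψ b) := by
  let g₀ := (Algebra.TensorProduct.map
    ((Algebra.TensorProduct.includeRight : AG →ₐ[R] AG ⊗[R] AG).restrictScalars k) (AlgHom.id k AH)).comp (rho ψ)
  let g : AG →ₐ[R] (AG ⊗[R] AG) ⊗[k] AH :=
    { g₀.toRingHom with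
      commutes' := fun r => by
        show g₀ (algebraMap R AG r) = algebraMap R (AG ⊗[R] AG) r ⊗ₜ[k] (1 : AH)
        simp only [g₀, AlgHom.comp_apply, hinv, Algebra.TensorProduct.map_tmul, AlgHom.restrictScalars_apply,
          AlgHom.commutes, AlgHom.id_apply] }
  let f : AG →ₐ[R] (AG ⊗[R] AG) ⊗[k] AH :=
    (Algebra.TensorProduct.includeLeft : AG ⊗[R] AG →ₐ[R] (AG ⊗[R] AG) ⊗[k] AH).comp
      Algebra.TensorProduct.includeLeft
  refine ⟨(Algebra.TensorProduct.lift f g fun _ _ => .all _ _).restrictScalars k, fun a => ?_, fun b => ?_⟩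
  · simp [f, g, Algebra.TensorProduct.lift_tmul]
  · simp only [AlgHom.restrictScalars_apply, Algebra.TensorProduct.lift_tmul, map_one, one_mul]
    rfl

/-- the Galois element of a function on the subgroup -/
def gam (γ : AG ⊗[k] AH →ₐ[k] AG ⊗[R] AG) : AH →ₗ[k] AG ⊗[R] AG :=
  γ.toLinearMap ∘ₗ (Algebra.TensorProduct.includeRight : AH →ₐ[k] AG ⊗[k] AH).toLinearMap

include hγ1 hγ2 in
/-- the Galois element is equivariant -/
theorem rho₂_gam (hψ : Function.Surjective ψ) (ρ₂ : AG ⊗[R] AG →ₐ[k] (AG ⊗[R] AG) ⊗[k] AH)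
    (hρ₂l : ∀ a, ρ₂ (a ⊗ₜ[R] 1) = (a ⊗ₜ[R] 1) ⊗ₜ[k] 1)
    (hρ₂r : ∀ b, ρ₂ ((1 : AG) ⊗ₜ[R] b) = Algebra.TensorProduct.map
      ((Algebra.TensorProduct.includeRight : AG →ₐ[R] AG ⊗[R] AG).restrictScalars k) (AlgHom.id k AH) (rho ψ b))
    (h : AH) : ρ₂ (gam γ h) = (gam γ).rTensor AH (CoalgebraStruct.comul (R := k) h) := by
  have hρ₂γ : ρ₂.comp γ = ((Algebra.TensorProduct.map γ (AlgHom.id k AH)).comp
      ((Algebra.TensorProduct.assoc k k k AG AH AH).symm.toAlgHom.comp
        (Algebra.TensorProduct.map (AlgHom.id k AG) (Bialgebra.comulAlgHom k AH)))) := by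
    refine algHom_ext ψ hψ _ _ (fun a => ?_) (fun b => ?_)
    · simp only [AlgHom.comp_apply, hγ1, hρ₂l, Algebra.TensorProduct.map_tmul, AlgHom.id_apply, map_one]
      rw [Algebra.TensorProduct.one_def]
      simp [hγ1]
    · simp only [AlgHom.comp_apply, hγ2, hρ₂r]
      have hco : (Algebra.TensorProduct.assoc k k k AG AH AH).symm.toAlgHom
          (Algebra.TensorProduct.map (AlgHom.id k AG) (Bialgebra.comulAlgHom k AH) (rho ψ b)) =
          (rho ψ).toLinearMap.rTensor AH (rho ψ b) := by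
        apply (Algebra.TensorProduct.assoc k k k AG AH AH).injective
        rw [show ∀ z, (Algebra.TensorProduct.assoc k k k AG AH AH).symm.toAlgHom z =
          (Algebra.TensorProduct.assoc k k k AG AH AH).symm z from fun z => rfl, AlgEquiv.apply_symm_apply]
        exact (LinearMap.congr_fun (comod ψ).coassoc b).symm
      rw [hco]
      generalize rho ψ b = z
      induction z with
      | zero => simp
      | add p q hp hq => simp only [map_add, hp, hq]
      | tmul p q => simp [hγ2]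
  refine (AlgHom.congr_fun hρ₂γ ((1 : AG) ⊗ₜ[k] h)).trans ?_
  simp only [AlgHom.comp_apply, Algebra.TensorProduct.map_tmul, AlgHom.id_apply, Bialgebra.comulAlgHom_apply]
  generalize CoalgebraStruct.comul (R := k) h = z
  induction z with
  | zero => simp
  | add p q hp hq => simp only [map_add, tmul_add, hp, hq]
  | tmul p q => simp [gam]

section Module

variable {X : Type u} [AddCommGroup X] [Module k X] (cX : HopfRep.Comod k AH X)

/-- the translation of functions with values in a representation -/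
def rhoM : AG ⊗[k] X →ₗ[k] (AG ⊗[k] X) ⊗[k] AH := (ComodTens.Comod.tensor (comod ψ) cX).coact

theorem rhoM_tmul (a : AG) (x : X) : rhoM ψ cX (a ⊗ₜ[k] x) =
    TensorProduct.map LinearMap.id (LinearMap.mul' k AH)
      (AlgebraTensorModule.tensorTensorTensorComm k k k k AG AH X AH (rho ψ a ⊗ₜ[k] cX.coact x)) :=
  ComodTens.tensor_coact_tmul _ _ a x

/-- the translation is linear over the base -/
def rhoMR : AG ⊗[k] X →ₗ[R] (AG ⊗[k] X) ⊗[k] AH where
  toFun := rhoM ψ cX
  map_add' := map_add _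
  map_smul' r z := by
    induction z with
    | zero => simp
    | add p q hp hq => simp only [smul_add, map_add, hp, hq]
    | tmul a x =>
      rw [smul_tmul', rhoM_tmul, rhoM_tmul, Algebra.smul_def, map_mul, hinv, RingHom.id_apply]
      generalize rho ψ a = s
      generalize cX.coact x = t
      induction s with
      | zero => simp
      | add p q hp hq => simp only [mul_add, add_tmul, map_add, smul_add, hp, hq]
      | tmul p q =>
        induction t with
        | zero => simp
        | add m n hm hn => simp only [tmul_add, map_add, smul_add, hm, hn]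
        | tmul m n => simp [Algebra.TensorProduct.tmul_mul_tmul, smul_tmul', Algebra.smul_def]

variable (R X AG AH) in
/-- the trivial translation -/
def oneMR : AG ⊗[k] X →ₗ[R] (AG ⊗[k] X) ⊗[k] AH where
  toFun z := z ⊗ₜ[k] 1
  map_add' p q := add_tmul p q 1
  map_smul' r z := (smul_tmul' r z (1 : AH)).symm

variable (R X AG AH) in
/-- reassociation -/
def Fmap : ((AG ⊗[R] AG) ⊗[k] X) ⊗[k] AH →ₗ[k] AG ⊗[R] ((AG ⊗[k] X) ⊗[k] AH) :=
  (AlgebraTensorModule.assoc k R R AG (AG ⊗[k] X) AH).toLinearMap.restrictScalars k ∘ₗ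
    ((AlgebraTensorModule.assoc k R R AG AG X).toLinearMap.restrictScalars k).rTensor AH

theorem oneMR_lTensor (z : AG ⊗[R] AG) (n : X) :
    (oneMR AG AH R X).lTensor AG (AlgebraTensorModule.assoc k R R AG AG X (z ⊗ₜ[k] n)) =
      Fmap AG AH R X ((z ⊗ₜ[k] n) ⊗ₜ[k] 1) := by
  induction z with
  | zero => simp
  | add p q hp hq => simp only [add_tmul, map_add, hp, hq]
  | tmul a b => rfl

variable (R X AG AH) in
/-- combine values -/
def Hmap : ((AG ⊗[R] AG) ⊗[k] AH) ⊗[k] (X ⊗[k] AH) →ₗ[k] AG ⊗[R] ((AG ⊗[k] X) ⊗[k] AH) :=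
  Fmap AG AH R X ∘ₗ TensorProduct.map LinearMap.id (LinearMap.mul' k AH) ∘ₗ
    (AlgebraTensorModule.tensorTensorTensorComm k k k k (AG ⊗[R] AG) AH X AH).toLinearMap

include hinv in
theorem rhoMR_lTensor (ρ₂ : AG ⊗[R] AG →ₐ[k] (AG ⊗[R] AG) ⊗[k] AH)
    (hρ₂l : ∀ a, ρ₂ (a ⊗ₜ[R] 1) = (a ⊗ₜ[R] 1) ⊗ₜ[k] 1)
    (hρ₂r : ∀ b, ρ₂ ((1 : AG) ⊗ₜ[R] b) = Algebra.TensorProduct.map
      ((Algebra.TensorProduct.includeRight : AG →ₐ[R] AG ⊗[R] AG).restrictScalars k) (AlgHom.id k AH) (rho ψ b))
    (z : AG ⊗[R] AG) (n : X) :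
    (rhoMR ψ hinv cX).lTensor AG (AlgebraTensorModule.assoc k R R AG AG X (z ⊗ₜ[k] n)) =
      Hmap AG AH R X (ρ₂ z ⊗ₜ[k] cX.coact n) := by
  induction z with
  | zero => simp
  | add p q hp hq => simp only [add_tmul, map_add, hp, hq]
  | tmul a b =>
    show a ⊗ₜ[R] rhoM ψ cX (b ⊗ₜ[k] n) = _
    rw [show a ⊗ₜ[R] b = (a ⊗ₜ[R] (1 : AG)) * ((1 : AG) ⊗ₜ[R] b) by
      rw [Algebra.TensorProduct.tmul_mul_tmul, mul_one, one_mul], map_mul, hρ₂l, hρ₂r, rhoM_tmul]
    generalize rho ψ b = s
    generalize cX.coact n = t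
    induction s with
    | zero => simp
    | add p q hp hq => simp only [map_add, mul_add, add_tmul, tmul_add, hp, hq]
    | tmul p q =>
      induction t with
      | zero => simp
      | add p' q' hp hq => simp only [map_add, tmul_add, hp, hq]
      | tmul m c => simp [Hmap, Fmap, Algebra.TensorProduct.tmul_mul_tmul]

variable (X) in
/-- insert a Galois element -/
def Phi : X ⊗[k] (AH ⊗[k] AH) →ₗ[k] AG ⊗[R] ((AG ⊗[k] X) ⊗[k] AH) :=
  Fmap AG AH R X ∘ₗ ((gam γ).rTensor X ∘ₗ (TensorProduct.comm k X AH).toLinearMap).rTensor AH ∘ₗ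
    (TensorProduct.assoc k X AH AH).symm.toLinearMap

variable (X) in
/-- the candidate invariant -/
def Wmap : X ⊗[k] AH →ₗ[k] AG ⊗[R] (AG ⊗[k] X) :=
  (AlgebraTensorModule.assoc k R R AG AG X).toLinearMap.restrictScalars k ∘ₗ (gam γ).rTensor X ∘ₗ
    (TensorProduct.comm k X AH).toLinearMap ∘ₗ (HopfAlgebraStruct.antipode (R := k) (A := AH)).lTensor X

include hinv hγ1 hγ2 in
theorem rhoMR_gam (hψ : Function.Surjective ψ) (h : AH) (n : X) :
    (rhoMR ψ hinv cX).lTensor AG (AlgebraTensorModule.assoc k R R AG AG X (gam γ h ⊗ₜ[k] n)) =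
      Phi γ X ((LinearMap.mulRight k (CoalgebraStruct.comul (R := k) h) ∘ₗ
        (Algebra.TensorProduct.includeRight : AH →ₐ[k] AH ⊗[k] AH).toLinearMap).lTensor X (cX.coact n)) := by
  obtain ⟨ρ₂, hρ₂l, hρ₂r⟩ := exists_rho₂ ψ hinv
  rw [rhoMR_lTensor ψ hinv cX ρ₂ hρ₂l hρ₂r, rho₂_gam ψ γ hγ1 hγ2 hψ ρ₂ hρ₂l hρ₂r]
  generalize CoalgebraStruct.comul (R := k) h = s
  generalize cX.coact n = t
  induction t with
  | zero => simp
  | add p q hp hq => simp only [map_add, tmul_add, hp, hq]
  | tmul m c =>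
    induction s with
    | zero => simp
    | add p q hp hq =>
      simp only [map_add, add_tmul, hp, hq, LinearMap.lTensor_tmul, LinearMap.comp_apply, LinearMap.mulRight_apply,
        mul_add, tmul_add]
    | tmul p q => simp [Hmap, Phi, Algebra.TensorProduct.tmul_mul_tmul, mul_comm c q]

include hinv hγ1 hγ2 in
theorem Wmap_fixed (hψ : Function.Surjective ψ) (x : X) :
    (rhoMR ψ hinv cX).lTensor AG (Wmap γ X (cX.coact x)) = (oneMR AG AH R X).lTensor AG (Wmap γ X (cX.coact x)) := by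
  letI := cX
  let S : AH →ₗ[k] AH := HopfAlgebraStruct.antipode (R := k)
  let Km : AH ⊗[k] AH →ₗ[k] AH ⊗[k] AH :=
    LinearMap.mul' k (AH ⊗[k] AH) ∘ₗ TensorProduct.map
      (Algebra.TensorProduct.includeRight : AH →ₐ[k] AH ⊗[k] AH).toLinearMap
      ((Bialgebra.comulAlgHom k AH).toLinearMap ∘ₗ S)
  have hKm : Km ∘ₗ CoalgebraStruct.comul = (TensorProduct.mk k AH AH).flip 1 ∘ₗ S :=
    LinearMap.ext fun b => Avg.comul_antipode_key b
  have hW1 : ∀ t : X ⊗[k] AH, (rhoMR ψ hinv cX).lTensor AG (Wmap γ X t) =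
      Phi γ X (Km.lTensor X (TensorProduct.assoc k X AH AH (cX.coact.rTensor AH t))) := by
    intro t
    induction t with
    | zero => simp
    | add p q hp hq => simp only [map_add, hp, hq]
    | tmul n c =>
      simp only [Wmap, LinearMap.comp_apply, LinearMap.lTensor_tmul, LinearEquiv.coe_coe, TensorProduct.comm_tmul,
        LinearMap.rTensor_tmul, LinearMap.restrictScalars_apply]
      rw [rhoMR_gam ψ hinv γ hγ1 hγ2 cX hψ]
      generalize cX.coact n = s
      induction s with
      | zero => simp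
      | add p q hp hq => simp only [map_add, add_tmul, hp, hq]
      | tmul m e => simp [Km, S]
  rw [hW1, coassoc_apply, ← LinearMap.comp_apply
    (Km.lTensor X), ← LinearMap.lTensor_comp, hKm]
  generalize cX.coact x = t
  induction t with
  | zero => simp
  | add p q hp hq => simp only [map_add, hp, hq]
  | tmul n c =>
    simp only [Wmap, LinearMap.comp_apply, LinearMap.lTensor_tmul, LinearEquiv.coe_coe, TensorProduct.comm_tmul,
      LinearMap.rTensor_tmul, LinearMap.restrictScalars_apply, LinearMap.flip_apply, TensorProduct.mk_apply]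
    rw [oneMR_lTensor]
    simp [Phi, S]

variable (R AG) in
/-- apply a functional -/
def piR (π : X →ₗ[k] k) : AG ⊗[k] X →ₗ[R] AG :=
  (AlgebraTensorModule.rid k R AG).toLinearMap ∘ₗ AlgebraTensorModule.map LinearMap.id π

theorem piR_tmul (π : X →ₗ[k] k) (a : AG) (x : X) : piR AG R π (a ⊗ₜ[k] x) = π x • a := by simp [piR]

include hγ1 in
theorem piR_Wmap (π : X →ₗ[k] k) (x : X) (hx : π x = 1)
    (hπcx : π.rTensor AH (cX.coact x) = π x ⊗ₜ[k] (1 : AH)) :
    (piR AG R π).lTensor AG (Wmap γ X (cX.coact x)) = (1 : AG) ⊗ₜ[R] (1 : AG) := by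
  have e : ∀ t : X ⊗[k] AH, (piR AG R π).lTensor AG (Wmap γ X t) = gam γ (HopfAlgebraStruct.antipode (R := k) (TensorProduct.lid k AH (π.rTensor AH t))) := by
    intro t
    induction t with
    | zero => simp
    | add p q hp hq => simp only [map_add, hp, hq]
    | tmul n c =>
      simp only [Wmap, LinearMap.comp_apply, LinearMap.lTensor_tmul, LinearEquiv.coe_coe, TensorProduct.comm_tmul,
        LinearMap.rTensor_tmul, LinearMap.restrictScalars_apply, TensorProduct.lid_tmul, map_smul]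
      generalize gam γ (HopfAlgebraStruct.antipode (R := k) c) = z
      induction z with
      | zero => simp
      | add p q hp hq => simp only [map_add, add_tmul, smul_add, hp, hq]
      | tmul a b =>
        show a ⊗ₜ[R] piR AG R π (b ⊗ₜ[k] n) = π n • (a ⊗ₜ[R] b)
        rw [piR_tmul, TensorProduct.tmul_smul]
  rw [e, hπcx, hx, TensorProduct.lid_tmul, one_smul]
  show γ ((1 : AG) ⊗ₜ[k] HopfAlgebraStruct.antipode (R := k) (1 : AH)) = _
  rw [HopfAlgebra.antipode_one, hγ1]

theorem rho_piR (π : X →ₗ[k] k) (hπcx : ∀ x, π.rTensor AH (cX.coact x) = π x ⊗ₜ[k] (1 : AH)) (z : AG ⊗[k] X) :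
    rho ψ (piR AG R π z) = ((piR AG R π).restrictScalars k).rTensor AH (rhoM ψ cX z) := by
  induction z with
  | zero => simp
  | add p q hp hq => simp only [map_add, hp, hq]
  | tmul a x =>
    rw [piR_tmul, rhoM_tmul, map_smul]
    have e : ∀ (s : AG ⊗[k] AH) (t : X ⊗[k] AH), ((piR AG R π).restrictScalars k).rTensor AH
        (TensorProduct.map LinearMap.id (LinearMap.mul' k AH)
          (AlgebraTensorModule.tensorTensorTensorComm k k k k AG AH X AH (s ⊗ₜ[k] t))) =
        s * ((1 : AG) ⊗ₜ[k] TensorProduct.lid k AH (π.rTensor AH t)) := by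
      intro s t
      induction s with
      | zero => simp
      | add p q hp hq => simp only [add_tmul, map_add, add_mul, hp, hq]
      | tmul p q =>
        induction t with
        | zero => simp
        | add m n hm hn => simp only [tmul_add, map_add, mul_add, hm, hn]
        | tmul m n => simp [piR_tmul, Algebra.TensorProduct.tmul_mul_tmul, TensorProduct.smul_tmul]
    rw [e, hπcx, TensorProduct.lid_tmul, tmul_smul, mul_smul_comm, ← Algebra.TensorProduct.one_def, mul_one]

/-- the equaliser of two translations after a flat base change -/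
theorem exists_eqLocus_lift [Module.Flat R AG]
    (f g : AG ⊗[k] X →ₗ[R] (AG ⊗[k] X) ⊗[k] AH) (z : AG ⊗[R] (AG ⊗[k] X))
    (hz : f.lTensor AG z = g.lTensor AG z) :
    ∃ y, (LinearMap.eqLocus f g).subtype.lTensor AG y = z :=
  exists_lTensor_eqLocus f g z hz

include hinv hγ1 hγ2 in
/-- some invariant function with values in the representation has value one -/
theorem exists_invariant [Module.Flat R AG]
    (hsurj : Function.Surjective (PrimeSpectrum.comap (algebraMap R AG)))
    (hψ : Function.Surjective ψ) (π : X →ₗ[k] k) (hπ : Function.Surjective π)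
    (hπcx : ∀ x, π.rTensor AH (cX.coact x) = π x ⊗ₜ[k] (1 : AH)) :
    ∃ u : AG ⊗[k] X, rhoM ψ cX u = u ⊗ₜ[k] (1 : AH) ∧ piR AG R π u = 1 := by
  haveI : Module.FaithfullyFlat R AG := Module.FaithfullyFlat.of_comap_surjective hsurj
  obtain ⟨x₀, hx₀⟩ := hπ 1
  have hfix := Wmap_fixed ψ hinv γ hγ1 hγ2 cX hψ x₀
  let K : Submodule R (AG ⊗[k] X) := LinearMap.eqLocus (rhoMR ψ hinv cX) (oneMR AG AH R X)
  obtain ⟨y, hy⟩ := exists_eqLocus_lift (rhoMR ψ hinv cX) (oneMR AG AH R X)
    (Wmap γ X (cX.coact x₀)) hfix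
  have hWπ := piR_Wmap γ hγ1 cX π x₀ hx₀ (hπcx x₀)
  let P : Ideal R := Submodule.comap (Algebra.linearMap R AG) (LinearMap.range (piR AG R π ∘ₗ K.subtype))
  have hmem : ∀ u ∈ K, piR AG R π u ∈ P.map (algebraMap R AG) := by
    intro u hu
    have hu' : rhoM ψ cX u = u ⊗ₜ[k] (1 : AH) := hu
    obtain ⟨r, hr⟩ := mem_range_of_invariant ψ γ hγ1 hγ2 (c := piR AG R π u) (by
      rw [rho_piR ψ cX π hπcx, hu']
      rfl)
    rw [← hr]
    exact Ideal.mem_map_of_mem _ ⟨⟨u, hu⟩, hr.symm⟩
  have hP : P = ⊤ := by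
    have h1 : Algebra.TensorProduct.lmul' R ((piR AG R π).lTensor AG (Wmap γ X (cX.coact x₀))) ∈ P.map (algebraMap R AG) := by
      rw [← hy]
      clear hy
      induction y with
      | zero => simp
      | add p q hp hq => simp only [map_add]; exact add_mem hp hq
      | tmul a u =>
        simp only [LinearMap.lTensor_tmul, Submodule.subtype_apply, Algebra.TensorProduct.lmul'_apply_tmul]
        exact Ideal.mul_mem_left _ _ (hmem u u.2)
    rw [hWπ, Algebra.TensorProduct.lmul'_apply_tmul, mul_one] at h1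
    by_contra hne
    obtain ⟨m, hm, hle⟩ := Ideal.exists_le_maximal P hne
    obtain ⟨q, hq⟩ := hsurj ⟨m, hm.isPrime⟩
    refine q.2.ne_top ((Ideal.eq_top_iff_one _).2 ?_)
    refine (Ideal.map_le_iff_le_comap.2 ?_) h1
    exact hle.trans (congrArg PrimeSpectrum.asIdeal hq).ge
  obtain ⟨⟨u, hu⟩, hu1⟩ : ∃ u : K, piR AG R π u = 1 := by
    obtain ⟨u, hu⟩ := (hP ▸ Submodule.mem_top : (1 : R) ∈ P)
    exact ⟨u, hu.trans (map_one (algebraMap R AG))⟩
  exact ⟨u, hu, hu1⟩

/-- averaging over the big group gives an invariant vector -/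
theorem exists_fixed (hG : HopfRep.IsLinearlyReductive k AG) (π : X →ₗ[k] k) (u : AG ⊗[k] X)
    (hu : rhoM ψ cX u = u ⊗ₜ[k] (1 : AH)) (hu1 : piR AG R π u = 1) :
    ∃ v : X, cX.coact v = v ⊗ₜ[k] (1 : AH) ∧ π v ≠ 0 := by
  obtain ⟨J, hJ1, hJ⟩ := Quot.exists_invariant_functional hG
  have hJH : ∀ a, TensorProduct.lid k AH (J.rTensor AH (rho ψ a)) = J a • (1 : AH) := by
    intro a
    rw [← map_one (ψ : AG →ₐ[k] AH), ← map_smul, ← hJ a]
    simp only [rho, AlgHom.comp_apply, Bialgebra.comulAlgHom_apply]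
    generalize CoalgebraStruct.comul (R := k) a = z
    induction z with
    | zero => simp
    | add p q hp hq => simp only [map_add, hp, hq]
    | tmul p q => simp
  let ev : AG ⊗[k] X →ₗ[k] X := (TensorProduct.lid k X).toLinearMap ∘ₗ J.rTensor X
  have hev : ∀ z, cX.coact (ev z) = ev.rTensor AH (rhoM ψ cX z) := by
    intro z
    induction z with
    | zero => simp
    | add p q hp hq => simp only [map_add, hp, hq]
    | tmul a x =>
      rw [rhoM_tmul, show ev (a ⊗ₜ[k] x) = J a • x by simp [ev], map_smul]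
      have e : ∀ (s : AG ⊗[k] AH) (t : X ⊗[k] AH), ev.rTensor AH
          (TensorProduct.map LinearMap.id (LinearMap.mul' k AH)
            (AlgebraTensorModule.tensorTensorTensorComm k k k k AG AH X AH (s ⊗ₜ[k] t))) =
          (LinearMap.mulLeft k (TensorProduct.lid k AH (J.rTensor AH s))).lTensor X t := by
        intro s t
        induction t with
        | zero => simp
        | add m n hm hn => simp only [tmul_add, map_add, hm, hn]
        | tmul m n =>
          induction s with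
          | zero => simp
          | add p q hp hq => simp only [add_tmul, map_add, LinearMap.lTensor_tmul, LinearMap.mulLeft_apply, add_mul,
              tmul_add, hp, hq]
          | tmul p q => simp [ev, TensorProduct.smul_tmul]
      rw [e, hJH]
      generalize cX.coact x = t
      induction t with
      | zero => simp
      | add m n hm hn => simp only [smul_add, map_add, hm, hn]
      | tmul m n => simp [TensorProduct.smul_tmul']
  refine ⟨ev u, ?_, ?_⟩
  · show cX.coact (ev u) = ev u ⊗ₜ[k] (1 : AH)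
    rw [hev, hu]
    rfl
  · have e : ∀ z : AG ⊗[k] X, π (ev z) = J (piR AG R π z) := by
      intro z
      induction z with
      | zero => simp
      | add p q hp hq => simp only [map_add, hp, hq]
      | tmul a x => simp [ev, piR_tmul, mul_comm]
    rw [e, hu1, hJ1]
    exact one_ne_zero

end Module

include hinv hγ1 hγ2 in
/-- the subgroup is linearly reductive -/
theorem isLinearlyReductive_of_galois [Module.Flat R AG]
    (hsurj : Function.Surjective (PrimeSpectrum.comap (algebraMap R AG)))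
    (hψ : Function.Surjective ψ) (hG : HopfRep.IsLinearlyReductive k AG) :
    HopfRep.IsLinearlyReductive k AH := by
  refine isLinearlyReductive_of_trivialQuotient fun X _ _ cX _ π hπ hπc => ?_
  obtain ⟨u, hu, hu1⟩ := exists_invariant ψ hinv γ hγ1 hγ2 cX hsurj hψ π hπ
    fun x => LinearMap.congr_fun hπc x
  exact exists_fixed ψ cX hG π u hu hu1

end Aux

end Groth.Agent.Comod33.QuotAff
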