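import Groth.Agent.Comod33.QuotObservable

/-!
A subgroup with affine quotient in a linearly reductive group is linearly reductive.
-/

universe u

open CategoryTheory MonoidalCategory CartesianMonoidalCategory AlgebraicGeometry TensorProduct Opposite

noncomputable section

namespace Groth.Agent.Comod33.QuotAff

open CoactBr MonObj

local instance (R : Type u) [CommRing R] : (algSpec (CommRingCat.of R)).Braided := braidedAlgSpec

variable {k : Type u} [Field k] {AG AH : Type u} [CommRing AG] [HopfAlgebra k AG]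
  [CommRing AH] [HopfAlgebra k AH] (ψ : AG →ₐc[k] AH)

theorem pt_injective {B K : Type u} [CommRing B] [Algebra k B] [CommRing K] [Algebra k K]
    {f g : B →ₐ[k] K} (h : pt f = pt g) : f = g := by
  have h' := congrArg CommaMorphism.left h
  have := Spec.map_injective h'
  exact AlgHom.ext fun b => congrArg (fun F : CommRingCat.of B ⟶ CommRingCat.of K => F.hom b) this

theorem exists_pt_eq {B K : Type u} [CommRing B] [Algebra k B] [CommRing K] [Algebra k K]
    (m : sp k K ⟶ sp k B) : ∃ f : B →ₐ[k] K, pt f = m := by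
  let F : CommRingCat.of B ⟶ CommRingCat.of K := Spec.preimage m.left
  have hF : Spec.map F = m.left := Spec.map_preimage _
  have hc : CommRingCat.ofHom (algebraMap k B) ≫ F = CommRingCat.ofHom (algebraMap k K) := by
    apply Spec.map_injective
    rw [Spec.map_comp, hF]
    exact Over.w m
  refine ⟨{ F.hom with commutes' := fun r => congrArg (fun G : CommRingCat.of k ⟶ CommRingCat.of K => G.hom r) hc }, ?_⟩
  exact Over.OverMorphism.ext hF

/-- the translation map as a point of the product -/
theorem pt_rho : pt (rho ψ) =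
    lift (pt (Algebra.TensorProduct.includeLeft : AG →ₐ[k] AG ⊗[k] AH))
      (pt (Algebra.TensorProduct.includeRight : AH →ₐ[k] AG ⊗[k] AH)) ≫
        (sp k AG ◁ pt (ψ : AG →ₐ[k] AH)) ≫ μ[sp k AG] := by
  rw [lift_whiskerLeft_assoc, ← pt_comp, ← Hom.mul_def, pt_mul_pt]
  refine congrArg pt (AlgHom.ext fun a => ?_)
  simp only [rho, AlgHom.comp_apply, Bialgebra.comulAlgHom_apply]
  generalize CoalgebraStruct.comul (R := k) a = z
  induction z with
  | zero => simp
  | add p q hp hq => simp only [map_add, hp, hq]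
  | tmul p q => simp [Algebra.TensorProduct.tmul_mul_tmul]

/-- a subgroup with affine quotient in a linearly reductive group is linearly reductive -/
theorem isLinearlyReductive (hG : HopfRep.IsLinearlyReductive k AG) (hψ : Function.Surjective ψ)
    (Q : Over (Spec (CommRingCat.of k))) (q : sp k AG ⟶ Q)
    (hq : RedSub.IsQuotient (pt (ψ : AG →ₐ[k] AH)) q) [IsAffine Q.left] :
    HopfRep.IsLinearlyReductive k AH := by
  let R : CommRingCat := Γ(Q.left, ⊤)
  let q' : Spec (CommRingCat.of AG) ⟶ Q.left := q.left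
  let Φ : R ⟶ CommRingCat.of AG := Spec.preimage (q' ≫ Q.left.isoSpec.hom)
  have hΦ : Spec.map Φ = q' ≫ Q.left.isoSpec.hom := Spec.map_preimage _
  let κ : CommRingCat.of k ⟶ R := Spec.preimage (Q.left.isoSpec.inv ≫ Q.hom)
  have hκ : Spec.map κ = Q.left.isoSpec.inv ≫ Q.hom := Spec.map_preimage _
  letI : Algebra R AG := Φ.hom.toAlgebra
  letI : Algebra k R := κ.hom.toAlgebra
  haveI : IsScalarTower k R AG := .of_algebraMap_eq' (by
    have : κ ≫ Φ = CommRingCat.ofHom (algebraMap k AG) := by
      apply Spec.map_injective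
      rw [Spec.map_comp, hΦ, hκ, Category.assoc, Iso.hom_inv_id_assoc]
      exact Over.w q
    exact (congrArg CommRingCat.Hom.hom this).symm)
  letI := comod ψ
  letI := isCoactAlg ψ
  have hinv : ∀ r : R, rho ψ (algebraMap R AG r) = algebraMap R AG r ⊗ₜ[k] (1 : AH) := by
    have h : Φ ≫ CommRingCat.ofHom (GLin.coactAlgHom k AH AG).toRingHom =
        Φ ≫ CommRingCat.ofHom (Algebra.TensorProduct.includeLeftRingHom : AG →+* AG ⊗[k] AH) := by
      apply Spec.map_injective
      rw [Spec.map_comp, Spec.map_comp, hΦ, ← Category.assoc, ← Category.assoc]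
      exact congrArg (fun f => f ≫ Q.left.isoSpec.hom) (invariant ψ q hq)
    exact fun r => congrArg (fun F : R ⟶ CommRingCat.of (AG ⊗[k] AH) => F.hom r) h
  haveI : Flat q' := hq.2.1
  haveI : Surjective q' := hq.1
  haveI : Module.Flat R AG := by
    have : Flat (Spec.map Φ) := by rw [hΦ]; infer_instance
    exact (HasRingHomProperty.Spec_iff (P := @Flat)).1 this
  have hsurj : Function.Surjective (PrimeSpectrum.comap (algebraMap R AG)) := by
    have : Surjective (Spec.map Φ) := by rw [hΦ]; infer_instance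
    exact this.surj
  let x : AG →ₐ[k] AG ⊗[R] AG := (Algebra.TensorProduct.includeLeft : AG →ₐ[R] AG ⊗[R] AG).restrictScalars k
  let y : AG →ₐ[k] AG ⊗[R] AG := (Algebra.TensorProduct.includeRight : AG →ₐ[R] AG ⊗[R] AG).restrictScalars k
  have hxy : pt x ≫ q = pt y ≫ q := by
    refine Over.OverMorphism.ext ?_
    show Spec.map (CommRingCat.ofHom x.toRingHom) ≫ q' = Spec.map (CommRingCat.ofHom y.toRingHom) ≫ q'
    rw [← cancel_mono Q.left.isoSpec.hom, Category.assoc, Category.assoc, ← hΦ, ← Spec.map_comp, ← Spec.map_comp]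
    refine congrArg Spec.map (CommRingCat.hom_ext (RingHom.ext fun r => ?_))
    show (Algebra.TensorProduct.includeLeft : AG →ₐ[R] AG ⊗[R] AG) (algebraMap R AG r) =
      (Algebra.TensorProduct.includeRight : AG →ₐ[R] AG ⊗[R] AG) (algebraMap R AG r)
    rw [AlgHom.commutes, AlgHom.commutes]
  obtain ⟨l, hl1, hl2⟩ := hq.2.2.2.exists_lift (pt x) (pt y) hxy
  let e := lift (pt (Algebra.TensorProduct.includeLeft : AG →ₐ[k] AG ⊗[k] AH))
    (pt (Algebra.TensorProduct.includeRight : AH →ₐ[k] AG ⊗[k] AH))
  haveI : IsIso e := isIso_lift (k := k) (AG := AG) (AH := AH)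
  obtain ⟨gm, hγ⟩ := exists_pt_eq (l ≫ inv e)
  have hgm1 : ∀ a, gm (a ⊗ₜ[k] 1) = a ⊗ₜ[R] 1 := by
    have h : gm.comp Algebra.TensorProduct.includeLeft = x := by
      apply pt_injective
      rw [pt_comp, hγ, Category.assoc, ← hl1]
      congr 1
      rw [IsIso.inv_comp_eq, lift_fst]
    exact fun a => AlgHom.congr_fun h a
  have hgm2 : ∀ b, gm (rho ψ b) = 1 ⊗ₜ[R] b := by
    have h : gm.comp (rho ψ) = y := by
      apply pt_injective
      rw [pt_comp, hγ, pt_rho, Category.assoc, ← hl2]
      congr 1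
      rw [IsIso.inv_comp_eq]
    exact fun b => AlgHom.congr_fun h b
  exact isLinearlyReductive_of_galois ψ hinv gm hgm1 hgm2 hsurj hψ hG

end Groth.Agent.Comod33.QuotAff
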