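import Groth.Agent.Comod33.MatrixRep
import Mathlib.RingTheory.HopfAlgebra.Quotient
import Mathlib.LinearAlgebra.Matrix.SchurComplement

/-!
The stabilizer ideal of a subspace of a comodule.
-/

universe u v w w'

open TensorProduct Matrix

noncomputable section

namespace Groth.Agent.Comod33.Mat

variable {k : Type u} [Field k] {A : Type v} [CommRing A]

theorem exists_adapted_basis {V : Type w} [AddCommGroup V] [Module k V] [Module.Finite k V]
    (W : Submodule k V) :
    ∃ (d e : ℕ) (b : Module.Basis (Fin d ⊕ Fin e) k V),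
      W = Submodule.span k (Set.range fun j => b (Sum.inl j)) := by
  obtain ⟨C, hC⟩ := Submodule.exists_isCompl W
  let bW := Module.finBasis k W
  let bC := Module.finBasis k C
  refine ⟨_, _, (bW.prod bC).map (Submodule.prodEquivOfIsCompl W C hC), ?_⟩
  have e : (fun j => ((bW.prod bC).map (Submodule.prodEquivOfIsCompl W C hC)) (Sum.inl j)) =
      W.subtype ∘ bW := by
    funext j
    simp
  rw [e, Set.range_comp, Submodule.span_image, bW.span_eq, Submodule.map_top, Submodule.range_subtype]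

section Bialg

variable [Bialgebra k A] {ι₁ ι₂ : Type w} [Fintype ι₁] [DecidableEq ι₁] [Fintype ι₂] [DecidableEq ι₂]

variable (k) in
/-- the ideal of the lower left block -/
def blockIdeal (c : ι₁ ⊕ ι₂ → ι₁ ⊕ ι₂ → A) : Ideal A :=
  Ideal.span (Set.range fun p : ι₂ × ι₁ => c (Sum.inr p.1) (Sum.inl p.2))

theorem blockIdeal_le_iff {c : ι₁ ⊕ ι₂ → ι₁ ⊕ ι₂ → A} {R : Type w'} [CommRing R] [Algebra k R]
    (g : A →ₐ[k] R) :
    (∀ a ∈ blockIdeal c, g a = 0) ↔ ∀ (i : ι₂) (j : ι₁), g (c (Sum.inr i) (Sum.inl j)) = 0 := by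
  constructor
  · exact fun h i j => h _ (Ideal.subset_span ⟨(i, j), rfl⟩)
  · intro h a ha
    have : blockIdeal c ≤ RingHom.ker g := Ideal.span_le.2 fun x ⟨p, hp⟩ => hp ▸ h p.1 p.2
    exact this ha

theorem isCoideal_blockIdeal {c : ι₁ ⊕ ι₂ → ι₁ ⊕ ι₂ → A} (hc : IsRep (k := k) c) :
    ((blockIdeal c).restrictScalars k).IsCoideal := by
  constructor
  · intro x hx
    exact (blockIdeal_le_iff (Bialgebra.counitAlgHom k A)).2
      (fun i j => by simp [hc.counit]) x hx
  · intro x hx
    let q := Ideal.Quotient.mkₐ k (blockIdeal c)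
    let Φ : A →ₐ[k] (A ⧸ blockIdeal c) ⊗[k] (A ⧸ blockIdeal c) :=
      (Algebra.TensorProduct.map q q).comp (Bialgebra.comulAlgHom k A)
    have h := (blockIdeal_le_iff Φ).2 (fun i j => by
      simp only [Φ, AlgHom.comp_apply, Bialgebra.comulAlgHom_apply, hc.comul, map_sum,
        Algebra.TensorProduct.map_tmul]
      refine Finset.sum_eq_zero fun l _ => ?_
      have h0 : ∀ (i : ι₂) (j : ι₁), q (c (Sum.inr i) (Sum.inl j)) = 0 := fun i j =>
        Ideal.Quotient.eq_zero_iff_mem.2 (Ideal.subset_span ⟨(i, j), rfl⟩)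
      rcases l with l | l <;> simp [h0]) x hx
    let e : (A ⧸ blockIdeal c) →ₗ[k] (A ⧸ (blockIdeal c).restrictScalars k) :=
      (Submodule.Quotient.restrictScalarsEquiv k (blockIdeal c)).symm.toLinearMap
    have key : TensorProduct.map ((blockIdeal c).restrictScalars k).mkQ
        ((blockIdeal c).restrictScalars k).mkQ (CoalgebraStruct.comul (R := k) x) =
        TensorProduct.map e e (Φ x) := by
      show _ = TensorProduct.map e e (Algebra.TensorProduct.map q q (CoalgebraStruct.comul (R := k) x))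
      generalize CoalgebraStruct.comul (R := k) x = t
      induction t with
      | zero => simp
      | add a b ha hb => simp only [map_add, ha, hb]
      | tmul a b => rfl
    rw [key, h, map_zero]

end Bialg

variable [HopfAlgebra k A] {ι₁ ι₂ : Type w} [Fintype ι₁] [DecidableEq ι₁] [Fintype ι₂] [DecidableEq ι₂]

theorem isHopfIdeal_blockIdeal {c : ι₁ ⊕ ι₂ → ι₁ ⊕ ι₂ → A} (hc : IsRep (k := k) c) :
    (blockIdeal c).IsHopfIdeal k := by
  haveI := isCoideal_blockIdeal hc
  refine ⟨fun x hx => ?_⟩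
  let q := Ideal.Quotient.mkₐ k (blockIdeal c)
  let q' : A →ₐ[k] A ⧸ blockIdeal c := q.comp (HopfAlgebra.antipodeAlgHom k A)
  have h0 : ∀ (i : ι₂) (j : ι₁), q (c (Sum.inr i) (Sum.inl j)) = 0 := fun i j =>
    Ideal.Quotient.eq_zero_iff_mem.2 (Ideal.subset_span ⟨(i, j), rfl⟩)
  have hinv : WithConv.toConv q' = (WithConv.toConv q)⁻¹ := rfl
  have e1 : ev q c * ev q' c = 1 := by
    rw [← ev_mul hc, hinv, mul_inv_cancel (WithConv.toConv q), ev_one hc]
  have hblock : ev q c = Matrix.fromBlocks (ev q c).toBlocks₁₁ (ev q c).toBlocks₁₂ 0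
      (ev q c).toBlocks₂₂ := by
    conv_lhs => rw [← Matrix.fromBlocks_toBlocks (ev q c)]
    congr 1
    ext i j
    exact h0 i j
  have e1' := e1
  rw [hblock, ← Matrix.fromBlocks_toBlocks (ev q' c), Matrix.fromBlocks_multiply,
    ← Matrix.fromBlocks_one, Matrix.fromBlocks_inj] at e1'
  obtain ⟨-, -, h21, h22⟩ := e1'
  rw [Matrix.zero_mul, zero_add] at h21 h22
  have hz : (ev q' c).toBlocks₂₁ = 0 := by
    have hl : (ev q' c).toBlocks₂₂ * (ev q c).toBlocks₂₂ = 1 := mul_eq_one_comm.1 h22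
    rw [← Matrix.one_mul (ev q' c).toBlocks₂₁, ← hl, Matrix.mul_assoc, h21, Matrix.mul_zero]
  have := (blockIdeal_le_iff q').2 (fun i j => congrFun (congrFun hz i) j) x hx
  exact Ideal.Quotient.eq_zero_iff_mem.1 this

/-- stabilizer of a subspace: a Hopf ideal representing it -/
theorem exists_stabilizer {V : Type w} [AddCommGroup V] [Module k V] [HopfRep.Comod k A V]
    {ι₁' ι₂' : Type} [Fintype ι₁'] [DecidableEq ι₁'] [Fintype ι₂'] [DecidableEq ι₂']
    (b : Module.Basis (ι₁' ⊕ ι₂') k V) {W : Submodule k V}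
    (hW : W = Submodule.span k (Set.range fun j => b (Sum.inl j))) :
    (blockIdeal (mc (A := A) b)).IsHopfIdeal k ∧
      ∀ (R : Type w') [CommRing R] [Algebra k R] (g : A →ₐ[k] R),
        (∀ a ∈ blockIdeal (mc (A := A) b), g a = 0) ↔
          ∀ w ∈ W, LinearMap.lTensor V g.toLinearMap (HopfRep.Comod.coact (k := k) (A := A) w) ∈
            LinearMap.range (W.subtype.rTensor R) :=
  ⟨isHopfIdeal_blockIdeal (isRep_mc b), fun R _ _ g =>
    (blockIdeal_le_iff g).trans (lTensor_mc_mem_iff b hW g).symm⟩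

end Groth.Agent.Comod33.Mat
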